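/-
Character theory bridge library (lead). Connects the Prelude's `Cfsg.IsCharacter`, `Cfsg.IsIrrCharacter`
to Mathlib's `Representation` API.
-/
import Mathlib
import Cfsg.Prelude.Def_Characters

set_option autoImplicit false

namespace Cfsg.Agent.CharLib

open Representation Module Polynomial
open scoped ComplexConjugate

universe u v

variable {G : Type u} [Group G]

/-- Transport a representation along a linear equivalence. -/
noncomputable def conjRep {V : Type*} {W : Type*} [AddCommGroup V] [Module ℂ V] [AddCommGroup W] [Module ℂ W]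
    (ρ : Representation ℂ G V) (e : V ≃ₗ[ℂ] W) : Representation ℂ G W where
  toFun g := e.toLinearMap ∘ₗ ρ g ∘ₗ e.symm.toLinearMap
  map_one' := by ext; simp
  map_mul' g h := by ext; simp

theorem conjRep_apply {V : Type*} {W : Type*} [AddCommGroup V] [Module ℂ V] [AddCommGroup W] [Module ℂ W]
    (ρ : Representation ℂ G V) (e : V ≃ₗ[ℂ] W) (g : G) (w : W) :
    conjRep ρ e g w = e (ρ g (e.symm w)) := rfl

/-- The transported representation is equivalent to the original. -/
noncomputable def conjRepEquiv {V : Type*} {W : Type*} [AddCommGroup V] [Module ℂ V] [AddCommGroup W] [Module ℂ W]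
    (ρ : Representation ℂ G V) (e : V ≃ₗ[ℂ] W) : Representation.Equiv ρ (conjRep ρ e) :=
  Representation.Equiv.mk e (by intro g; ext v; simp [conjRep_apply])

theorem conjRep_character {V : Type*} {W : Type*} [AddCommGroup V] [Module ℂ V] [AddCommGroup W] [Module ℂ W]
    (ρ : Representation ℂ G V) (e : V ≃ₗ[ℂ] W) :
    (conjRep ρ e).character = ρ.character :=
  (char_iso (conjRepEquiv ρ e)).symm

/-- Any finite-dimensional complex representation gives a character in the Prelude's sense. -/
theorem isCharacter_of_rep {V : Type v} [AddCommGroup V] [Module ℂ V] [FiniteDimensional ℂ V]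
    (ρ : Representation ℂ G V) : IsCharacter G ρ.character := by
  let e : V ≃ₗ[ℂ] (Fin (finrank ℂ V) → ℂ) := (Module.finBasis ℂ V).equivFun
  exact ⟨finrank ℂ V, conjRep ρ e, conjRep_character ρ e⟩


/-! ### Endomorphisms of finite order are diagonalizable -/

theorem isSemisimple_of_pow_eq_one {V : Type*} [AddCommGroup V] [Module ℂ V] [FiniteDimensional ℂ V]
    (f : End ℂ V) (m : ℕ) (hm : 0 < m) (hf : f ^ m = 1) : f.IsSemisimple := by
  apply Module.End.isSemisimple_of_squarefree_aeval_eq_zero (p := X ^ m - C (1:ℂ))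
  · apply Separable.squarefree
    apply separable_X_pow_sub_C
    · exact_mod_cast hm.ne'
    · exact one_ne_zero
  · simp [hf]

theorem exists_eigenbasis_of_pow_eq_one {V : Type*} [AddCommGroup V] [Module ℂ V] [FiniteDimensional ℂ V]
    (f : End ℂ V) (m : ℕ) (hm : 0 < m) (hf : f ^ m = 1) :
    ∃ (ι : Type) (_ : Fintype ι) (b : Basis ι ℂ V) (μ : ι → ℂ),
      (∀ i, μ i ^ m = 1) ∧ ∀ i, f (b i) = μ i • b i := by
  have hss := isSemisimple_of_pow_eq_one f m hm hf
  have hint := DirectSum.isInternal_submodule_of_iSupIndep_of_iSup_eq_top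
    (Module.End.eigenspaces_iSupIndep f) hss.iSup_eigenspace_eq_top
  let b := hint.collectedBasis (fun μ => Module.finBasis ℂ (f.eigenspace μ))
  have : Fintype (Σ μ : ℂ, Fin (finrank ℂ (f.eigenspace μ))) := FiniteDimensional.fintypeBasisIndex b
  refine ⟨_, inferInstance, b, fun a => a.1, ?_, ?_⟩
  · intro a
    have hmem : (b a : V) ∈ f.eigenspace a.1 := hint.collectedBasis_mem _ a
    have h1 : f (b a) = a.1 • b a := Module.End.mem_eigenspace_iff.mp hmem
    have h2 : ∀ k : ℕ, (f ^ k) (b a) = a.1 ^ k • b a := by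
      intro k
      induction k with
      | zero => simp
      | succ k ih => rw [pow_succ, Module.End.mul_apply, h1, map_smul, ih, smul_smul, pow_succ, mul_comm]
    have h3 := h2 m
    rw [hf, Module.End.one_apply] at h3
    have hne : b a ≠ 0 := b.ne_zero a
    have : (a.1 ^ m - 1) • b a = 0 := by rw [sub_smul, one_smul, ← h3, sub_self]
    rcases smul_eq_zero.mp this with h | h
    · exact sub_eq_zero.mp h
    · exact absurd h hne
  · intro a
    exact Module.End.mem_eigenspace_iff.mp (hint.collectedBasis_mem _ a)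

theorem rep_pow_orderOf {V : Type*} [AddCommGroup V] [Module ℂ V]
    (ρ : Representation ℂ G V) (g : G) : (ρ g) ^ (orderOf g) = 1 := by
  rw [← map_pow, pow_orderOf_eq_one, map_one]

/-- Eigenbasis for `ρ g` (`G` finite): eigenvalues are roots of unity of norm one; `ρ g⁻¹` is diagonal in the same
basis with inverse eigenvalues. -/
theorem exists_eigenbasis [Finite G] {V : Type*} [AddCommGroup V] [Module ℂ V] [FiniteDimensional ℂ V]
    (ρ : Representation ℂ G V) (g : G) :
    ∃ (ι : Type) (_ : Fintype ι) (b : Basis ι ℂ V) (μ : ι → ℂ), (∀ i, μ i ^ orderOf g = 1) ∧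
      (∀ i, ρ g (b i) = μ i • b i) ∧ (∀ i, ρ g⁻¹ (b i) = (μ i)⁻¹ • b i) ∧ (∀ i, ‖μ i‖ = 1) := by
  obtain ⟨ι, hι, b, μ, h1, h2⟩ :=
    exists_eigenbasis_of_pow_eq_one (ρ g) (orderOf g) (orderOf_pos g) (rep_pow_orderOf ρ g)
  refine ⟨ι, hι, b, μ, h1, h2, ?_, ?_⟩
  · intro i
    have hμ : μ i ≠ 0 := by
      intro h0
      have := h1 i
      rw [h0, zero_pow (orderOf_pos g).ne'] at this
      exact zero_ne_one this
    have : ρ g⁻¹ (ρ g (b i)) = b i := by
      rw [← Module.End.mul_apply, ← map_mul, inv_mul_cancel, map_one, Module.End.one_apply]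
    rw [h2 i, map_smul] at this
    calc ρ g⁻¹ (b i) = (μ i)⁻¹ • (μ i • ρ g⁻¹ (b i)) := by
          rw [smul_smul, inv_mul_cancel₀ hμ, one_smul]
      _ = (μ i)⁻¹ • b i := by rw [this]
  · intro i
    exact Complex.norm_eq_one_of_pow_eq_one (h1 i) (orderOf_pos g).ne'

/-- The trace of an endomorphism diagonal in the basis `b` with diagonal entries `μ`. -/
theorem trace_eq_sum_of_eigenbasis {V : Type*} [AddCommGroup V] [Module ℂ V]
    {ι : Type*} [Fintype ι] (b : Basis ι ℂ V) (f : End ℂ V) (μ : ι → ℂ) (h : ∀ i, f (b i) = μ i • b i) :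
    LinearMap.trace ℂ V f = ∑ i, μ i := by
  classical
  rw [LinearMap.trace_eq_matrix_trace ℂ b f, Matrix.trace]
  apply Finset.sum_congr rfl
  intro i _
  simp [LinearMap.toMatrix_apply, h i]


/-! ### Character values -/

theorem char_inv [Finite G] {V : Type*} [AddCommGroup V] [Module ℂ V] [FiniteDimensional ℂ V]
    (ρ : Representation ℂ G V) (g : G) : ρ.character g⁻¹ = conj (ρ.character g) := by
  obtain ⟨ι, hι, b, μ, h1, h2, h3, h4⟩ := exists_eigenbasis ρ g
  unfold Representation.character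
  rw [trace_eq_sum_of_eigenbasis b (ρ g) μ h2, trace_eq_sum_of_eigenbasis b (ρ g⁻¹) _ h3, map_sum]
  apply Finset.sum_congr rfl
  intro i _
  exact Complex.inv_eq_conj (h4 i)

theorem norm_char_le [Finite G] {V : Type*} [AddCommGroup V] [Module ℂ V] [FiniteDimensional ℂ V]
    (ρ : Representation ℂ G V) (g : G) : ‖ρ.character g‖ ≤ (finrank ℂ V : ℝ) := by
  obtain ⟨ι, hι, b, μ, h1, h2, h3, h4⟩ := exists_eigenbasis ρ g
  unfold Representation.character
  rw [trace_eq_sum_of_eigenbasis b (ρ g) μ h2, Module.finrank_eq_card_basis b]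
  calc ‖∑ i, μ i‖ ≤ ∑ i, ‖μ i‖ := norm_sum_le _ _
    _ = ∑ _i : ι, (1:ℝ) := by simp [h4]
    _ = (Fintype.card ι : ℝ) := by simp

theorem isIntegral_char [Finite G] {V : Type*} [AddCommGroup V] [Module ℂ V] [FiniteDimensional ℂ V]
    (ρ : Representation ℂ G V) (g : G) : IsIntegral ℤ (ρ.character g) := by
  obtain ⟨ι, hι, b, μ, h1, h2, h3, h4⟩ := exists_eigenbasis ρ g
  unfold Representation.character
  rw [trace_eq_sum_of_eigenbasis b (ρ g) μ h2]
  apply IsIntegral.sum
  intro i _
  exact IsIntegral.of_pow (orderOf_pos g) (by rw [h1 i]; exact isIntegral_one)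


/-- unit complex number with real part one is one -/
theorem eq_one_of_norm_eq_one_of_re_eq_one {z : ℂ} (h1 : ‖z‖ = 1) (h2 : z.re = 1) : z = 1 := by
  have h3 : z.re ^ 2 + z.im ^ 2 = 1 := by
    have := Complex.sq_norm z
    rw [h1, Complex.normSq_apply] at this
    nlinarith [this]
  have h4 : z.im = 0 := by
    rw [h2] at h3
    nlinarith [sq_nonneg z.im]
  exact Complex.ext (by simp [h2]) (by simp [h4])

/-- If unit complex numbers sum to something of full norm, they are all equal. -/
theorem all_eq_of_norm_sum_eq_card {ι : Type*} [Fintype ι] (μ : ι → ℂ) (h1 : ∀ i, ‖μ i‖ = 1)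
    (h2 : ‖∑ i, μ i‖ = Fintype.card ι) : ∃ ω : ℂ, ‖ω‖ = 1 ∧ ∀ i, μ i = ω := by
  rcases isEmpty_or_nonempty ι with he | hne
  · exact ⟨1, by simp, fun i => (he.false i).elim⟩
  set S := ∑ i, μ i with hS
  have hcard : (0:ℝ) < Fintype.card ι := by exact_mod_cast Fintype.card_pos
  have hSne : S ≠ 0 := by
    intro h0; rw [h0, norm_zero] at h2; linarith
  have hSn : ‖S‖ ≠ 0 := by rwa [norm_ne_zero_iff]
  set u : ℂ := conj S / ‖S‖ with hu
  have hun : ‖u‖ = 1 := by
    rw [hu, norm_div, Complex.norm_conj, Complex.norm_real, norm_norm, div_self hSn]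
  have huS : u * S = ‖S‖ := by
    rw [hu, div_mul_eq_mul_div, Complex.conj_mul', div_eq_iff (by exact_mod_cast hSn)]
    ring
  have hsum : ∑ i, (u * μ i).re = Fintype.card ι := by
    rw [← Complex.re_sum, ← Finset.mul_sum, ← hS, huS, Complex.ofReal_re, h2]
  have hle : ∀ i, (u * μ i).re ≤ 1 := fun i => by
    calc (u * μ i).re ≤ ‖u * μ i‖ := Complex.re_le_norm _
      _ = 1 := by rw [norm_mul, hun, h1 i, one_mul]
  have heq : ∀ i, (u * μ i).re = 1 := by
    by_contra hcon
    push Not at hcon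
    obtain ⟨j, hj⟩ := hcon
    have hlt : (u * μ j).re < 1 := lt_of_le_of_ne (hle j) hj
    have : ∑ i, (u * μ i).re < ∑ _i : ι, (1:ℝ) :=
      Finset.sum_lt_sum (fun i _ => hle i) ⟨j, Finset.mem_univ j, hlt⟩
    rw [Finset.sum_const, Finset.card_univ, nsmul_eq_mul, mul_one, hsum] at this
    exact lt_irrefl _ this
  have hune : u ≠ 0 := by
    intro h0; rw [h0, norm_zero] at hun; exact zero_ne_one hun
  refine ⟨u⁻¹, by rw [norm_inv, hun, inv_one], fun i => ?_⟩
  have : u * μ i = 1 := eq_one_of_norm_eq_one_of_re_eq_one (by rw [norm_mul, hun, h1 i, one_mul]) (heq i)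
  exact eq_inv_of_mul_eq_one_right this


end Cfsg.Agent.CharLib
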