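/-
Character theory bridge library (lead), part 2: inner products, orthonormality of irreducible characters,
linear independence, finiteness of `IrrCharacter G`.
-/
import Mathlib
import Cfsg.Prelude.Def_Characters
import Cfsg.Agent.Lib.Lead.CharBasic

set_option autoImplicit false

namespace Cfsg.Agent.CharLib

open Representation Module
open scoped ComplexConjugate

universe u v

variable {G : Type u} [Group G]

/-! ### `classInner` is sesquilinear -/

section inner
variable [Fintype G]

theorem classInner_add_left (φ₁ φ₂ ψ : G → ℂ) :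
    classInner (φ₁ + φ₂) ψ = classInner φ₁ ψ + classInner φ₂ ψ := by
  simp only [classInner, Pi.add_apply, add_mul, Finset.sum_add_distrib, mul_add]

theorem classInner_smul_left (c : ℂ) (φ ψ : G → ℂ) :
    classInner (c • φ) ψ = c * classInner φ ψ := by
  simp only [classInner, Pi.smul_apply, smul_eq_mul, Finset.mul_sum]
  apply Finset.sum_congr rfl; intro g _; ring

theorem classInner_zero_left (ψ : G → ℂ) : classInner (0 : G → ℂ) ψ = 0 := by
  simp [classInner]

theorem classInner_sum_left {ι : Type*} (s : Finset ι) (φ : ι → G → ℂ) (ψ : G → ℂ) :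
    classInner (∑ i ∈ s, φ i) ψ = ∑ i ∈ s, classInner (φ i) ψ := by
  classical
  induction s using Finset.induction_on with
  | empty => simp [classInner_zero_left]
  | insert a s ha ih => rw [Finset.sum_insert ha, Finset.sum_insert ha, classInner_add_left, ih]

theorem classInner_sub_left (φ₁ φ₂ ψ : G → ℂ) :
    classInner (φ₁ - φ₂) ψ = classInner φ₁ ψ - classInner φ₂ ψ := by
  simp only [classInner, Pi.sub_apply, sub_mul, Finset.sum_sub_distrib, mul_sub]

theorem classInner_add_right (φ ψ₁ ψ₂ : G → ℂ) :
    classInner φ (ψ₁ + ψ₂) = classInner φ ψ₁ + classInner φ ψ₂ := by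
  simp only [classInner, Pi.add_apply, map_add, mul_add, Finset.sum_add_distrib]

theorem classInner_smul_right (c : ℂ) (φ ψ : G → ℂ) :
    classInner φ (c • ψ) = conj c * classInner φ ψ := by
  simp only [classInner, Pi.smul_apply, smul_eq_mul, map_mul, Finset.mul_sum]
  apply Finset.sum_congr rfl; intro g _; ring

theorem classInner_zero_right (φ : G → ℂ) : classInner φ (0 : G → ℂ) = 0 := by
  simp [classInner]

theorem classInner_sum_right {ι : Type*} (s : Finset ι) (φ : G → ℂ) (ψ : ι → G → ℂ) :
    classInner φ (∑ i ∈ s, ψ i) = ∑ i ∈ s, classInner φ (ψ i) := by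
  classical
  induction s using Finset.induction_on with
  | empty => simp [classInner_zero_right]
  | insert a s ha ih => rw [Finset.sum_insert ha, Finset.sum_insert ha, classInner_add_right, ih]

theorem classInner_conj_symm (φ ψ : G → ℂ) : conj (classInner φ ψ) = classInner ψ φ := by
  simp only [classInner, map_mul, map_inv₀, map_natCast, map_sum, Complex.conj_conj]
  congr 1
  apply Finset.sum_congr rfl; intro g _; ring

theorem card_ne_zero_complex : (Nat.card G : ℂ) ≠ 0 := by
  have : Nat.card G ≠ 0 := Nat.card_pos.ne'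
  exact_mod_cast this

/-- `⟨φ, φ⟩` is a nonnegative real, zero only for `φ = 0`. -/
theorem classInner_self_eq_zero {φ : G → ℂ} (h : classInner φ φ = 0) : φ = 0 := by
  simp only [classInner, mul_eq_zero, inv_eq_zero, card_ne_zero_complex, false_or] at h
  have h2 : ∑ g : G, ((Complex.normSq (φ g) : ℝ) : ℂ) = 0 := by
    rw [← h]; apply Finset.sum_congr rfl; intro g _; rw [Complex.mul_conj]
  have h3 : ∑ g : G, Complex.normSq (φ g) = 0 := by exact_mod_cast h2
  funext g
  have := (Finset.sum_eq_zero_iff_of_nonneg (fun g _ => Complex.normSq_nonneg (φ g))).mp h3 g (Finset.mem_univ g)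
  exact Complex.normSq_eq_zero.mp this

end inner

theorem card_ne_zero_complex_of_finite [Finite G] : (Nat.card G : ℂ) ≠ 0 := by
  have : Nat.card G ≠ 0 := Nat.card_pos.ne'
  exact_mod_cast this

/-! ### Irreducible characters -/

theorem IsIrrCharacter.isCharacter {χ : G → ℂ} (h : IsIrrCharacter G χ) : IsCharacter G χ := by
  obtain ⟨n, ρ, _, hρ⟩ := h
  exact ⟨n, ρ, hρ⟩

theorem IsCharacter.isClassFunction {χ : G → ℂ} (h : IsCharacter G χ) : IsClassFunction G χ := by
  obtain ⟨n, ρ, rfl⟩ := h
  intro g k
  exact char_conj ρ g k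

theorem IsCharacter.apply_inv [Finite G] {χ : G → ℂ} (h : IsCharacter G χ) (g : G) :
    χ g⁻¹ = conj (χ g) := by
  obtain ⟨n, ρ, rfl⟩ := h
  exact char_inv ρ g

/-- The degree of an irreducible character is a positive natural number. -/
theorem IsIrrCharacter.apply_one_pos {χ : G → ℂ} (h : IsIrrCharacter G χ) :
    ∃ n : ℕ, 0 < n ∧ χ 1 = n := by
  obtain ⟨n, ρ, hirr, rfl⟩ := h
  refine ⟨n, ?_, by simp⟩
  by_contra hn
  have hn0 : n = 0 := by omega
  subst hn0
  -- the lattice of subrepresentations of a zero space is trivial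
  have : Nontrivial (Subrepresentation ρ) := hirr.toNontrivial
  obtain ⟨a, b, hab⟩ := this
  apply hab
  apply Subrepresentation.toSubmodule_injective
  apply SetLike.ext
  intro x
  have hx : x = 0 := Subsingleton.elim _ _
  rw [hx]
  exact ⟨fun _ => b.toSubmodule.zero_mem, fun _ => a.toSubmodule.zero_mem⟩

theorem IsCharacter.apply_one {χ : G → ℂ} (h : IsCharacter G χ) : ∃ n : ℕ, χ 1 = n := by
  obtain ⟨n, ρ, rfl⟩ := h
  exact ⟨n, by simp⟩

/-- Orthonormality of the irreducible characters with respect to `classInner`. -/
theorem classInner_irr [Fintype G] {χ ψ : G → ℂ} (hχ : IsIrrCharacter G χ) (hψ : IsIrrCharacter G ψ) :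
    classInner χ ψ = if χ = ψ then 1 else 0 := by
  classical
  obtain ⟨n, ρ, hρirr, rfl⟩ := hχ
  obtain ⟨m, σ, hσirr, rfl⟩ := hψ
  have : Invertible (Nat.card G : ℂ) := invertibleOfNonzero card_ne_zero_complex
  have key := char_orthonormal ρ σ
  have hinner : classInner ρ.character σ.character =
      (Nat.card G : ℂ)⁻¹ * ∑ g : G, ρ.character g * σ.character g⁻¹ := by
    simp only [classInner]
    congr 1
    apply Finset.sum_congr rfl; intro g _
    rw [char_inv σ g]
  rw [hinner]
  have key' : (Nat.card G : ℂ)⁻¹ * ∑ g : G, ρ.character g * σ.character g⁻¹ =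
      if Nonempty (Equiv σ ρ) then 1 else 0 := by
    convert key using 2
  rw [key']
  by_cases heq : ρ.character = σ.character
  · rw [if_pos heq]
    by_cases hne : Nonempty (Equiv σ ρ)
    · rw [if_pos hne]
    · exfalso
      rw [if_neg hne] at key'
      -- then ⟨χ, χ⟩ = 0, so χ = 0, contradiction with χ 1 = n > 0
      have h0 : classInner ρ.character ρ.character = 0 := by
        have := hinner
        rw [key'] at this
        rw [← heq] at this
        exact this
      have hz := classInner_self_eq_zero h0
      obtain ⟨k, hk, hk1⟩ := IsIrrCharacter.apply_one_pos ⟨n, ρ, hρirr, rfl⟩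
      have hk0 : (k : ℂ) = 0 := by rw [← hk1, hz]; rfl
      have : k = 0 := by exact_mod_cast hk0
      omega
  · rw [if_neg heq]
    by_cases hne : Nonempty (Equiv σ ρ)
    · exfalso
      obtain ⟨φ⟩ := hne
      exact heq (char_iso φ).symm
    · rw [if_neg hne]

theorem classInner_irr' [Fintype G] (χ ψ : IrrCharacter G) :
    classInner (χ : G → ℂ) (ψ : G → ℂ) = if χ = ψ then 1 else 0 := by
  rw [classInner_irr χ.2 ψ.2]
  simp only [Subtype.ext_iff]

/-- The irreducible characters are linearly independent. -/
theorem linearIndependent_irr [Finite G] :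
    LinearIndependent ℂ (fun χ : IrrCharacter G => (χ : G → ℂ)) := by
  classical
  have := Fintype.ofFinite G
  rw [linearIndependent_iff']
  intro s c hc ψ hψ
  have := congrArg (fun f => classInner f (ψ : G → ℂ)) hc
  simp only [classInner_sum_left, classInner_smul_left, classInner_zero_left, classInner_irr'] at this
  rw [Finset.sum_eq_single ψ] at this
  · simpa using this
  · intro b _ hb; simp [hb]
  · intro h; exact absurd hψ h

instance finite_irrCharacter [Finite G] : Finite (IrrCharacter G) :=
  (linearIndependent_irr (G := G)).finite_of_isNoetherian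

end Cfsg.Agent.CharLib
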