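/-
Character theory bridge library (lead), part 3: induction on representations via Maschke, decomposition of
characters into irreducible characters.
-/
import Mathlib
import Cfsg.Prelude.Def_Characters
import Cfsg.Agent.Lib.Lead.CharBasic
import Cfsg.Agent.Lib.Lead.CharOrtho

set_option autoImplicit false

namespace Cfsg.Agent.CharLib

open Representation Module
open scoped ComplexConjugate

universe u v

variable {G : Type u} [Group G]

/-! ### Complementary subrepresentations -/

theorem subrep_isCompl_toSubmodule {V : Type v} [AddCommGroup V] [Module ℂ V] {ρ : Representation ℂ G V}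
    {W W' : Subrepresentation ρ} (h : IsCompl W W') : IsCompl W.toSubmodule W'.toSubmodule := by
  constructor
  · rw [disjoint_iff]
    have := h.inf_eq_bot
    exact congrArg Subrepresentation.toSubmodule this
  · rw [codisjoint_iff]
    have := h.sup_eq_top
    exact congrArg Subrepresentation.toSubmodule this

/-- The character of a representation is the sum of the characters of two complementary subrepresentations. -/
theorem character_eq_add_of_isCompl {V : Type v} [AddCommGroup V] [Module ℂ V] [FiniteDimensional ℂ V]
    {ρ : Representation ℂ G V} {W W' : Subrepresentation ρ} (h : IsCompl W W') :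
    ρ.character = W.toRepresentation.character + W'.toRepresentation.character := by
  funext g
  have hc := subrep_isCompl_toSubmodule h
  let N : Bool → Submodule ℂ V := fun b => cond b W.toSubmodule W'.toSubmodule
  have hint : DirectSum.IsInternal N := by
    rw [DirectSum.isInternal_submodule_iff_isCompl N (i := true) (j := false) (by decide)
      (by ext b; cases b <;> simp)]
    exact hc
  have hf : ∀ b, Set.MapsTo (ρ g) (N b) (N b) := by
    intro b
    cases b
    · exact fun v hv => W'.apply_mem_toSubmodule g hv
    · exact fun v hv => W.apply_mem_toSubmodule g hv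
  have := LinearMap.trace_eq_sum_trace_restrict hint hf
  simp only [Fintype.sum_bool] at this
  simp only [Representation.character, Pi.add_apply]
  rw [this]
  rfl

/-! ### Induction principle -/

/-- Induction principle for finite-dimensional complex representations of a finite group: to prove `P ρ` for all
`ρ` it suffices to treat zero spaces, irreducible representations, and direct sums of two complementary
subrepresentations. -/
theorem rep_induction [Finite G]
    (P : ∀ (V : Type v) [AddCommGroup V] [Module ℂ V] [FiniteDimensional ℂ V], Representation ℂ G V → Prop)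
    (h0 : ∀ (V : Type v) [AddCommGroup V] [Module ℂ V] [FiniteDimensional ℂ V] (ρ : Representation ℂ G V),
      Subsingleton V → P V ρ)
    (hirr : ∀ (V : Type v) [AddCommGroup V] [Module ℂ V] [FiniteDimensional ℂ V] (ρ : Representation ℂ G V),
      ρ.IsIrreducible → P V ρ)
    (hsum : ∀ (V : Type v) [AddCommGroup V] [Module ℂ V] [FiniteDimensional ℂ V] (ρ : Representation ℂ G V)
      (W W' : Subrepresentation ρ), IsCompl W W' → P W.toSubmodule W.toRepresentation →
      P W'.toSubmodule W'.toRepresentation → P V ρ)
    (V : Type v) [AddCommGroup V] [Module ℂ V] [FiniteDimensional ℂ V] (ρ : Representation ℂ G V) : P V ρ := by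
  have hcardne : NeZero (Nat.card G : ℂ) := ⟨card_ne_zero_complex_of_finite⟩
  suffices H : ∀ (n : ℕ) (V : Type v) [AddCommGroup V] [Module ℂ V] [FiniteDimensional ℂ V]
      (ρ : Representation ℂ G V), finrank ℂ V = n → P V ρ from H _ V ρ rfl
  intro n
  induction n using Nat.strong_induction_on with
  | _ n ih =>
    intro V _ _ _ ρ hn
    rcases subsingleton_or_nontrivial V with hV | hV
    · exact h0 V ρ hV
    by_cases hsimple : ρ.IsIrreducible
    · exact hirr V ρ hsimple
    -- there is a proper nonzero subrepresentation
    have hnt : Nontrivial (Subrepresentation ρ) := by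
      refine ⟨⊥, ⊤, ?_⟩
      intro hbt
      have : (⊥ : Submodule ℂ V) = ⊤ := congrArg Subrepresentation.toSubmodule hbt
      exact bot_ne_top this
    have hex : ∃ W : Subrepresentation ρ, W ≠ ⊥ ∧ W ≠ ⊤ := by
      by_contra hcon
      push Not at hcon
      apply hsimple
      exact ⟨fun a => by
        by_cases ha : a = ⊥
        · exact Or.inl ha
        · exact Or.inr (hcon a ha)⟩
    obtain ⟨W, hWbot, hWtop⟩ := hex
    obtain ⟨W', hW'⟩ := exists_isCompl W
    have hc := subrep_isCompl_toSubmodule hW'
    have hdim := Submodule.finrank_add_eq_of_isCompl hc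
    have hW'bot : W' ≠ ⊥ := by
      intro h
      rw [h] at hW'
      exact hWtop (by simpa using hW'.sup_eq_top)
    have hpos : 0 < finrank ℂ W.toSubmodule := by
      rw [Module.finrank_pos_iff, Submodule.nontrivial_iff_ne_bot]
      intro h
      exact hWbot (Subrepresentation.toSubmodule_injective h)
    have hpos' : 0 < finrank ℂ W'.toSubmodule := by
      rw [Module.finrank_pos_iff, Submodule.nontrivial_iff_ne_bot]
      intro h
      exact hW'bot (Subrepresentation.toSubmodule_injective h)
    exact hsum V ρ W W' hW'
      (ih (finrank ℂ W.toSubmodule) (by omega) W.toSubmodule W.toRepresentation rfl)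
      (ih (finrank ℂ W'.toSubmodule) (by omega) W'.toSubmodule W'.toRepresentation rfl)


/-! ### Closure properties of characters -/

theorem isCharacter_zero : IsCharacter G (0 : G → ℂ) := by
  refine ⟨0, 1, ?_⟩
  funext g
  simp only [Representation.character, Pi.zero_apply]
  have : (1 : Representation ℂ G (Fin 0 → ℂ)) g = 0 := Subsingleton.elim _ _
  rw [this, map_zero]

theorem character_prod {V W : Type*} [AddCommGroup V] [Module ℂ V] [FiniteDimensional ℂ V]
    [AddCommGroup W] [Module ℂ W] [FiniteDimensional ℂ W]
    (ρ : Representation ℂ G V) (σ : Representation ℂ G W) :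
    (ρ.prod σ).character = ρ.character + σ.character := by
  funext g
  simp only [Representation.character, Pi.add_apply]
  have : (ρ.prod σ) g = (ρ g).prodMap (σ g) := rfl
  rw [this]
  exact LinearMap.trace_prodMap' (ρ g) (σ g)

theorem IsCharacter.add {χ ψ : G → ℂ} (hχ : IsCharacter G χ) (hψ : IsCharacter G ψ) :
    IsCharacter G (χ + ψ) := by
  obtain ⟨n, ρ, rfl⟩ := hχ
  obtain ⟨m, σ, rfl⟩ := hψ
  rw [← character_prod]
  exact isCharacter_of_rep _

theorem IsCharacter.nsmul {χ : G → ℂ} (hχ : IsCharacter G χ) (n : ℕ) : IsCharacter G (n • χ) := by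
  induction n with
  | zero => rw [zero_smul]; exact isCharacter_zero
  | succ n ih => rw [succ_nsmul]; exact IsCharacter.add ih hχ

theorem IsCharacter.sum {ι : Type*} (s : Finset ι) {χ : ι → G → ℂ} (h : ∀ i ∈ s, IsCharacter G (χ i)) :
    IsCharacter G (∑ i ∈ s, χ i) := by
  classical
  induction s using Finset.induction_on with
  | empty => simpa using isCharacter_zero
  | insert a s ha ih =>
    rw [Finset.sum_insert ha]
    exact IsCharacter.add (h a (Finset.mem_insert_self a s)) (ih (fun i hi => h i (Finset.mem_insert_of_mem hi)))

theorem IsCharacter.mul {χ ψ : G → ℂ} (hχ : IsCharacter G χ) (hψ : IsCharacter G ψ) :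
    IsCharacter G (χ * ψ) := by
  obtain ⟨n, ρ, rfl⟩ := hχ
  obtain ⟨m, σ, rfl⟩ := hψ
  rw [← char_tensor]
  exact isCharacter_of_rep _

theorem isCharacter_one : IsCharacter G (1 : G → ℂ) := by
  have := isCharacter_of_rep (Representation.trivial ℂ G ℂ)
  convert this using 1
  funext g
  simp [Representation.character, Representation.trivial]

/-- The complex conjugate of a character of a finite group is a character (dual representation). -/
theorem IsCharacter.conj [Finite G] {χ : G → ℂ} (hχ : IsCharacter G χ) :
    IsCharacter G (fun g => conj (χ g)) := by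
  obtain ⟨n, ρ, rfl⟩ := hχ
  have := isCharacter_of_rep ρ.dual
  convert this using 1
  funext g
  rw [char_dual, char_inv]

/-- Restriction of a character along a group homomorphism is a character. -/
theorem IsCharacter.comp_hom {H : Type*} [Group H] {χ : G → ℂ} (hχ : IsCharacter G χ) (f : H →* G) :
    IsCharacter H (χ ∘ f) := by
  obtain ⟨n, ρ, rfl⟩ := hχ
  exact ⟨n, ρ.comp f, rfl⟩

theorem IsCharacter.restrict {χ : G → ℂ} (hχ : IsCharacter G χ) (H : Subgroup G) :
    IsCharacter H (fun h : H => χ h) :=
  IsCharacter.comp_hom hχ H.subtype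

/-! ### Irreducibility is invariant under equivalence -/

theorem isIrreducible_conjRep {V : Type*} {W : Type*} [AddCommGroup V] [Module ℂ V] [AddCommGroup W] [Module ℂ W]
    (ρ : Representation ℂ G V) (e : V ≃ₗ[ℂ] W) (h : ρ.IsIrreducible) : (conjRep ρ e).IsIrreducible := by
  -- pull back subrepresentations along `e`
  let pull : Subrepresentation (conjRep ρ e) → Subrepresentation ρ := fun W' =>
    ⟨W'.toSubmodule.comap e.toLinearMap, by
      intro g v hv
      simp only [Submodule.mem_comap, LinearEquiv.coe_coe] at hv ⊢
      have := W'.apply_mem_toSubmodule g hv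
      simpa [conjRep_apply] using this⟩
  have hpull_inj : Function.Injective pull := by
    intro A B hAB
    apply Subrepresentation.toSubmodule_injective
    have h1 : (pull A).toSubmodule = (pull B).toSubmodule := congrArg _ hAB
    have h2 : A.toSubmodule.comap e.toLinearMap = B.toSubmodule.comap e.toLinearMap := h1
    exact Submodule.comap_injective_of_surjective e.surjective h2
  have hbot : pull ⊥ = ⊥ := by
    apply Subrepresentation.toSubmodule_injective
    show (⊥ : Submodule ℂ W).comap e.toLinearMap = ⊥
    rw [Submodule.comap_bot]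
    exact LinearMap.ker_eq_bot.mpr e.injective
  have htop : pull ⊤ = ⊤ := by
    apply Subrepresentation.toSubmodule_injective
    show (⊤ : Submodule ℂ W).comap e.toLinearMap = ⊤
    exact Submodule.comap_top _
  have hnt : Nontrivial (Subrepresentation ρ) := h.toNontrivial
  refine { exists_pair_ne := ⟨⊥, ⊤, ?_⟩, eq_bot_or_eq_top := ?_ }
  · intro hbt
    have : (⊥ : Subrepresentation ρ) = ⊤ := by rw [← hbot, ← htop, hbt]
    exact bot_ne_top this
  · intro A
    rcases h.eq_bot_or_eq_top (pull A) with h1 | h1
    · left; apply hpull_inj; rw [h1, hbot]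
    · right; apply hpull_inj; rw [h1, htop]

/-- The character of an irreducible representation on any finite-dimensional space is an irreducible character
in the Prelude's sense. -/
theorem isIrrCharacter_of_rep {V : Type v} [AddCommGroup V] [Module ℂ V] [FiniteDimensional ℂ V]
    (ρ : Representation ℂ G V) (h : ρ.IsIrreducible) : IsIrrCharacter G ρ.character := by
  let e : V ≃ₗ[ℂ] (Fin (finrank ℂ V) → ℂ) := (Module.finBasis ℂ V).equivFun
  exact ⟨finrank ℂ V, conjRep ρ e, isIrreducible_conjRep ρ e h, conjRep_character ρ e⟩

/-! ### Decomposition into irreducible characters -/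

/-- A (noncanonical) `Fintype` structure on the irreducible characters of a finite group. Use with `letI`. -/
@[instance_reducible]
noncomputable def fintypeIrr (G : Type u) [Group G] [Finite G] : Fintype (IrrCharacter G) := Fintype.ofFinite _

/-- Every character of a finite group is a combination of irreducible characters with natural coefficients. -/
theorem exists_decomp_of_rep [Finite G] {V : Type v} [AddCommGroup V] [Module ℂ V] [FiniteDimensional ℂ V]
    (ρ : Representation ℂ G V) :
    ∃ m : IrrCharacter G → ℕ, ρ.character = ∑ᶠ χ : IrrCharacter G, m χ • (χ : G → ℂ) := by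
  let _ := fintypeIrr G
  classical
  refine rep_induction (G := G)
    (fun V _ _ _ ρ => ∃ m : IrrCharacter G → ℕ, ρ.character = ∑ᶠ χ : IrrCharacter G, m χ • (χ : G → ℂ))
    ?_ ?_ ?_ V ρ
  · intro V _ _ _ ρ hV
    refine ⟨fun _ => 0, ?_⟩
    funext g
    simp only [zero_smul, finsum_zero, Pi.zero_apply, Representation.character]
    have : ρ g = 0 := Subsingleton.elim _ _
    rw [this, map_zero]
  · intro V _ _ _ ρ hirr
    let χ₀ : IrrCharacter G := ⟨ρ.character, isIrrCharacter_of_rep ρ hirr⟩
    refine ⟨fun χ => if χ = χ₀ then 1 else 0, ?_⟩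
    rw [finsum_eq_sum_of_fintype, Finset.sum_eq_single χ₀]
    · simp [χ₀]
    · intro b _ hb; simp [hb]
    · intro h; exact absurd (Finset.mem_univ _) h
  · intro V _ _ _ ρ W W' hc ⟨m, hm⟩ ⟨m', hm'⟩
    refine ⟨m + m', ?_⟩
    rw [character_eq_add_of_isCompl hc, hm, hm', finsum_eq_sum_of_fintype, finsum_eq_sum_of_fintype,
      finsum_eq_sum_of_fintype, ← Finset.sum_add_distrib]
    apply Finset.sum_congr rfl
    intro χ _
    rw [Pi.add_apply, add_smul]

theorem IsCharacter.exists_decomp [Finite G] {χ : G → ℂ} (hχ : IsCharacter G χ) :
    ∃ m : IrrCharacter G → ℕ, χ = ∑ᶠ ψ : IrrCharacter G, m ψ • (ψ : G → ℂ) := by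
  obtain ⟨n, ρ, rfl⟩ := hχ
  exact exists_decomp_of_rep ρ

end Cfsg.Agent.CharLib
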