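/-
Character theory bridge library (lead), part 4: completeness. A class function orthogonal to all irreducible
characters vanishes; class functions are combinations of irreducible characters.
-/
import Mathlib
import Cfsg.Prelude.Def_Characters
import Cfsg.Agent.Lib.Lead.CharBasic
import Cfsg.Agent.Lib.Lead.CharOrtho
import Cfsg.Agent.Lib.Lead.CharDecomp

set_option autoImplicit false

namespace Cfsg.Agent.CharLib

open Representation Module
open scoped ComplexConjugate

universe u v

variable {G : Type u} [Group G]

section opT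
variable [Fintype G]

/-- The operator `∑ g, f g • ρ g`. -/
noncomputable def opT {V : Type*} [AddCommGroup V] [Module ℂ V] (f : G → ℂ) (ρ : Representation ℂ G V) :
    V →ₗ[ℂ] V := ∑ g : G, f g • ρ g

theorem opT_apply {V : Type*} [AddCommGroup V] [Module ℂ V] (f : G → ℂ) (ρ : Representation ℂ G V) (v : V) :
    opT f ρ v = ∑ g : G, f g • ρ g v := by
  simp [opT, LinearMap.sum_apply]

theorem trace_opT {V : Type*} [AddCommGroup V] [Module ℂ V] (f : G → ℂ) (ρ : Representation ℂ G V) :
    LinearMap.trace ℂ V (opT f ρ) = ∑ g : G, f g * ρ.character g := by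
  simp [opT, map_sum, Representation.character]

/-- For a class function `f`, the operator `opT f ρ` commutes with the action. -/
theorem opT_comm {V : Type*} [AddCommGroup V] [Module ℂ V] {f : G → ℂ} (hf : IsClassFunction G f)
    (ρ : Representation ℂ G V) (h : G) : ρ h ∘ₗ opT f ρ = opT f ρ ∘ₗ ρ h := by
  ext v
  simp only [LinearMap.comp_apply, opT_apply, map_sum, map_smul]
  -- reindex by conjugation g ↦ h * g * h⁻¹
  rw [← Equiv.sum_comp (MulAut.conj h).toEquiv (fun g => f g • ρ g (ρ h v))]
  apply Finset.sum_congr rfl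
  intro g _
  simp only [MulEquiv.toEquiv_eq_coe, MulEquiv.coe_toEquiv, MulAut.conj_apply]
  rw [hf g h]
  congr 1
  rw [← Module.End.mul_apply, ← Module.End.mul_apply, ← map_mul, ← map_mul]
  congr 2
  group

/-- On an irreducible representation, `opT f ρ` vanishes if `∑ g, f g * χ g = 0`. -/
theorem opT_eq_zero_of_irreducible {V : Type*} [AddCommGroup V] [Module ℂ V] [FiniteDimensional ℂ V]
    {f : G → ℂ} (hf : IsClassFunction G f) (ρ : Representation ℂ G V) [hirr : ρ.IsIrreducible]
    (h0 : ∑ g : G, f g * ρ.character g = 0) : opT f ρ = 0 := by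
  let T : IntertwiningMap ρ ρ := ⟨opT f ρ, fun g => (opT_comm hf ρ g).symm⟩
  obtain ⟨c, hc⟩ := (IsIrreducible.algebraMap_intertwiningMap_bijective_of_isAlgClosed (ρ := ρ)).2 T
  have hT : opT f ρ = c • LinearMap.id := by
    have h1 : opT f ρ = T.toLinearMap := rfl
    rw [h1, ← hc, IntertwiningMap.algebraMap_apply]
    ext v
    simp [IntertwiningMap.toLinearMap_smul]
  have htr := trace_opT f ρ
  rw [h0, hT, map_smul, LinearMap.trace_id, smul_eq_mul] at htr
  have hV : Nontrivial V := by
    by_contra hnt
    rw [not_nontrivial_iff_subsingleton] at hnt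
    have : Nontrivial (Subrepresentation ρ) := hirr.toNontrivial
    obtain ⟨a, b, hab⟩ := this
    apply hab
    apply Subrepresentation.toSubmodule_injective
    exact Subsingleton.elim _ _
  have hdim : (finrank ℂ V : ℂ) ≠ 0 := by
    have : 0 < finrank ℂ V := Module.finrank_pos
    exact_mod_cast this.ne'
  have hc0 : c = 0 := by
    rcases mul_eq_zero.mp htr with h | h
    · exact h
    · exact absurd h hdim
  rw [hT, hc0, zero_smul]

/-- If a class function `f` satisfies `∑ g, f g * χ g = 0` for every irreducible character `χ`, then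
`opT f ρ = 0` for every finite-dimensional representation `ρ`. -/
theorem opT_eq_zero {f : G → ℂ} (hf : IsClassFunction G f)
    (h0 : ∀ χ : IrrCharacter G, ∑ g : G, f g * (χ : G → ℂ) g = 0)
    {V : Type v} [AddCommGroup V] [Module ℂ V] [FiniteDimensional ℂ V] (ρ : Representation ℂ G V) :
    opT f ρ = 0 := by
  refine rep_induction (G := G) (fun V _ _ _ ρ => opT f ρ = 0) ?_ ?_ ?_ V ρ
  · intro V _ _ _ ρ hV
    exact Subsingleton.elim _ _
  · intro V _ _ _ ρ hirr
    exact opT_eq_zero_of_irreducible hf ρ (h0 ⟨ρ.character, isIrrCharacter_of_rep ρ hirr⟩)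
  · intro V _ _ _ ρ W W' hc hW hW'
    have hcs := subrep_isCompl_toSubmodule hc
    ext v
    obtain ⟨w, w', rfl⟩ : ∃ (w : W.toSubmodule) (w' : W'.toSubmodule), (w : V) + w' = v := by
      have : v ∈ W.toSubmodule ⊔ W'.toSubmodule := by rw [hcs.sup_eq_top]; trivial
      obtain ⟨a, ha, b, hb, rfl⟩ := Submodule.mem_sup.mp this
      exact ⟨⟨a, ha⟩, ⟨b, hb⟩, rfl⟩
    have h1 : opT f ρ (w : V) = ((opT f W.toRepresentation w : W.toSubmodule) : V) := by
      simp only [opT_apply, Submodule.coe_sum, Submodule.coe_smul]
      rfl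
    have h2 : opT f ρ (w' : V) = ((opT f W'.toRepresentation w' : W'.toSubmodule) : V) := by
      simp only [opT_apply, Submodule.coe_sum, Submodule.coe_smul]
      rfl
    rw [map_add, h1, h2, hW, hW']
    simp

/-- A class function `f` with `∑ g, f g * χ g = 0` for all irreducible characters `χ` is zero. -/
theorem eq_zero_of_sum_mul_irr_eq_zero {f : G → ℂ} (hf : IsClassFunction G f)
    (h0 : ∀ χ : IrrCharacter G, ∑ g : G, f g * (χ : G → ℂ) g = 0) : f = 0 := by
  classical
  have hT := opT_eq_zero hf h0 (Representation.leftRegular ℂ G)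
  have h1 := congrArg (fun T => T (MonoidAlgebra.single (1 : G) (1 : ℂ))) hT
  simp only [opT_apply, ofMulAction_single, smul_eq_mul, mul_one, LinearMap.zero_apply] at h1
  funext x
  have h2 := congrArg (fun y => y.coeff x) h1
  simp only [MonoidAlgebra.coeff_sum, MonoidAlgebra.coeff_smul, MonoidAlgebra.coeff_single,
    Finsupp.coe_finsetSum, Finsupp.coe_smul, Finset.sum_apply, Pi.smul_apply,
    Finsupp.single_apply, smul_eq_mul, mul_ite, mul_one, mul_zero, Finset.sum_ite_eq',
    Finset.mem_univ, if_true] at h2
  simpa using h2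

/-- A class function orthogonal to all irreducible characters is zero. -/
theorem eq_zero_of_classInner_irr_eq_zero {f : G → ℂ} (hf : IsClassFunction G f)
    (h0 : ∀ χ : IrrCharacter G, classInner f (χ : G → ℂ) = 0) : f = 0 := by
  have hf' : IsClassFunction G (fun g => conj (f g)) := fun g h => by simp only; rw [hf g h]
  have h1 : ∀ χ : IrrCharacter G, ∑ g : G, conj (f g) * (χ : G → ℂ) g = 0 := by
    intro χ
    have := h0 χ
    simp only [classInner, mul_eq_zero, inv_eq_zero, card_ne_zero_complex, false_or] at this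
    have h2 := congrArg conj this
    simpa [map_sum] using h2
  have := eq_zero_of_sum_mul_irr_eq_zero hf' h1
  funext g
  have h3 := congrFun this g
  simpa using h3

end opT

end Cfsg.Agent.CharLib
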