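/-
Character theory bridge library (lead), part 5: expansion of class functions, number of irreducible characters,
column orthogonality, regular character.
-/
import Mathlib
import Cfsg.Prelude.Def_Characters
import Cfsg.Agent.Lib.Lead.CharBasic
import Cfsg.Agent.Lib.Lead.CharOrtho
import Cfsg.Agent.Lib.Lead.CharDecomp
import Cfsg.Agent.Lib.Lead.CharComplete

set_option autoImplicit false

namespace Cfsg.Agent.CharLib

open Representation Module
open scoped ComplexConjugate

universe u v

variable {G : Type u} [Group G]

/-! ### Class functions form a submodule -/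

theorem IsClassFunction.add {f g : G → ℂ} (hf : IsClassFunction G f) (hg : IsClassFunction G g) :
    IsClassFunction G (f + g) := fun x y => by simp only [Pi.add_apply]; rw [hf x y, hg x y]

theorem IsClassFunction.smul {f : G → ℂ} (c : ℂ) (hf : IsClassFunction G f) :
    IsClassFunction G (c • f) := fun x y => by simp only [Pi.smul_apply]; rw [hf x y]

theorem IsClassFunction.sub {f g : G → ℂ} (hf : IsClassFunction G f) (hg : IsClassFunction G g) :
    IsClassFunction G (f - g) := fun x y => by simp only [Pi.sub_apply]; rw [hf x y, hg x y]

theorem isClassFunction_zero : IsClassFunction G (0 : G → ℂ) := fun _ _ => rfl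

theorem IsClassFunction.sum {ι : Type*} (s : Finset ι) {f : ι → G → ℂ} (h : ∀ i ∈ s, IsClassFunction G (f i)) :
    IsClassFunction G (∑ i ∈ s, f i) := by
  intro x y
  simp only [Finset.sum_apply]
  exact Finset.sum_congr rfl (fun i hi => h i hi x y)

theorem IsClassFunction.of_isConj {f : G → ℂ} (hf : IsClassFunction G f) {x y : G} (h : IsConj x y) :
    f x = f y := by
  obtain ⟨c, hc⟩ := isConj_iff.mp h
  rw [← hc, hf x c]

/-- The expansion of a class function in terms of irreducible characters (Fintype-sum form). -/
theorem classFunction_eq_sum [Fintype G] [Fintype (IrrCharacter G)] {ψ : G → ℂ} (hψ : IsClassFunction G ψ) :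
    ψ = ∑ χ : IrrCharacter G, classInner ψ (χ : G → ℂ) • (χ : G → ℂ) := by
  classical
  have hd : IsClassFunction G (ψ - ∑ χ : IrrCharacter G, classInner ψ (χ : G → ℂ) • (χ : G → ℂ)) := by
    apply IsClassFunction.sub hψ
    apply IsClassFunction.sum
    intro χ _
    exact IsClassFunction.smul _ (IsCharacter.isClassFunction (IsIrrCharacter.isCharacter χ.2))
  have h0 := eq_zero_of_classInner_irr_eq_zero hd (fun φ => by
    rw [classInner_sub_left, classInner_sum_left]
    simp only [classInner_smul_left, classInner_irr']
    rw [Finset.sum_eq_single φ]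
    · simp
    · intro b _ hb; simp [hb]
    · intro h; exact absurd (Finset.mem_univ _) h)
  exact sub_eq_zero.mp h0

/-- The expansion of a class function in terms of irreducible characters (finsum form, as in S0152). -/
theorem classFunction_eq_finsum [Fintype G] {ψ : G → ℂ} (hψ : IsClassFunction G ψ) :
    ψ = ∑ᶠ χ : IrrCharacter G, classInner ψ (χ : G → ℂ) • (χ : G → ℂ) := by
  let _ := fintypeIrr G
  rw [finsum_eq_sum_of_fintype]
  exact classFunction_eq_sum hψ

/-! ### Number of irreducible characters -/

/-- The linear map sending a function on conjugacy classes to the corresponding class function. -/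
noncomputable def classFunLift (G : Type u) [Group G] : (ConjClasses G → ℂ) →ₗ[ℂ] (G → ℂ) where
  toFun F := fun g => F (ConjClasses.mk g)
  map_add' _ _ := rfl
  map_smul' _ _ := rfl

theorem classFunLift_injective : Function.Injective (classFunLift G) := by
  intro F F' h
  funext c
  induction c using Quotient.inductionOn with
  | _ g => exact congrFun h g

theorem mem_range_classFunLift_iff {f : G → ℂ} :
    f ∈ LinearMap.range (classFunLift G) ↔ IsClassFunction G f := by
  constructor
  · rintro ⟨F, rfl⟩ g h
    show F (ConjClasses.mk (h * g * h⁻¹)) = F (ConjClasses.mk g)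
    congr 1
    rw [ConjClasses.mk_eq_mk_iff_isConj]
    exact (isConj_iff.mpr ⟨h, rfl⟩).symm
  · intro hf
    refine ⟨fun c => Quotient.liftOn c f (fun a b hab => IsClassFunction.of_isConj hf hab), ?_⟩
    funext g
    rfl

/-- The number of irreducible characters equals the number of conjugacy classes. -/
theorem card_irrCharacter [Finite G] : Nat.card (IrrCharacter G) = Nat.card (ConjClasses G) := by
  classical
  let _ := Fintype.ofFinite G
  let _ := fintypeIrr G
  have hspan : Submodule.span ℂ (Set.range (fun χ : IrrCharacter G => (χ : G → ℂ))) =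
      LinearMap.range (classFunLift G) := by
    apply le_antisymm
    · rw [Submodule.span_le]
      rintro _ ⟨χ, rfl⟩
      exact mem_range_classFunLift_iff.mpr (IsCharacter.isClassFunction (IsIrrCharacter.isCharacter χ.2))
    · intro f hf
      rw [mem_range_classFunLift_iff] at hf
      rw [classFunction_eq_sum hf]
      apply Submodule.sum_mem
      intro χ _
      apply Submodule.smul_mem
      exact Submodule.subset_span ⟨χ, rfl⟩
  have h1 := finrank_span_eq_card (linearIndependent_irr (G := G))
  rw [hspan, LinearMap.finrank_range_of_inj classFunLift_injective, Module.finrank_pi,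
    Fintype.card_eq_nat_card, Fintype.card_eq_nat_card] at h1
  exact h1.symm


/-! ### Column orthogonality -/

open MulAction in
/-- the number of conjugates of `h` times the order of the centralizer equals the group order -/
theorem card_conj_mul_card_centralizer {G : Type*} [Group G] [Finite G] (h : G) :
    Nat.card {x : G // IsConj x h} * Nat.card (Subgroup.centralizer ({h} : Set G)) = Nat.card G := by
  have h1 : Nat.card {x : G // IsConj x h} = (stabilizer (ConjAct G) h).index := by
    rw [MulAction.index_stabilizer, ← Nat.card_coe_set_eq]
    apply Nat.card_congr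
    exact Equiv.subtypeEquivRight (fun x => ConjAct.mem_orbit_conjAct.symm)
  have h2 : Nat.card (Subgroup.centralizer ({h} : Set G)) = Nat.card (stabilizer (ConjAct G) h) := by
    apply Nat.card_congr
    refine Equiv.subtypeEquiv (ConjAct.toConjAct (G := G)).toEquiv (fun x => ?_)
    rw [Subgroup.mem_centralizer_iff, MulAction.mem_stabilizer_iff]
    simp only [Set.mem_singleton_iff, forall_eq, MulEquiv.toEquiv_eq_coe, MulEquiv.coe_toEquiv,
      ConjAct.toConjAct_smul]
    constructor
    · intro hx; rw [← hx]; group
    · intro hx
      calc h * x = (x * h * x⁻¹) * x := by rw [hx]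
        _ = x * h := by group
  rw [h1, h2, mul_comm, Subgroup.card_mul_index]
  exact Nat.card_congr (ConjAct.toConjAct (G := G)).toEquiv.symm

/-- The indicator function of the conjugacy class of `h`. -/
noncomputable def classIndicator (h : G) : G → ℂ := by
  classical
  exact fun x => if IsConj x h then 1 else 0

theorem classIndicator_isClassFunction (h : G) : IsClassFunction G (classIndicator h) := by
  classical
  intro g k
  simp only [classIndicator]
  have : IsConj (k * g * k⁻¹) h ↔ IsConj g h := by
    have hc : IsConj g (k * g * k⁻¹) := isConj_iff.mpr ⟨k, rfl⟩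
    exact ⟨fun h1 => hc.trans h1, fun h1 => hc.symm.trans h1⟩
  simp only [this]

/-- inner product of the class indicator of `h` with a class function -/
theorem classInner_classIndicator [Fintype G] (h : G) {f : G → ℂ} (hf : IsClassFunction G f) :
    classInner (classIndicator h) f =
      (Nat.card G : ℂ)⁻¹ * (Nat.card {x : G // IsConj x h} : ℂ) * conj (f h) := by
  classical
  simp only [classInner, classIndicator, ite_mul, one_mul, zero_mul]
  rw [mul_assoc]
  congr 1
  rw [← Finset.sum_filter]
  have : ∀ x ∈ Finset.univ.filter (fun x : G => IsConj x h), conj (f x) = conj (f h) := by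
    intro x hx
    rw [Finset.mem_filter] at hx
    rw [IsClassFunction.of_isConj hf hx.2]
  rw [Finset.sum_congr rfl this, Finset.sum_const, nsmul_eq_mul]
  congr 2
  rw [Nat.card_eq_fintype_card, Fintype.card_subtype]

/-- Second orthogonality relation (Fintype-sum form): `∑ χ, χ g * conj (χ h)` is `|C_G(h)|` if `g` and `h` are
conjugate and `0` otherwise. -/
theorem sum_irr_mul_conj [Fintype G] [Fintype (IrrCharacter G)] (g h : G) :
    ∑ χ : IrrCharacter G, (χ : G → ℂ) g * conj ((χ : G → ℂ) h) =
      classIndicator h g * (Nat.card (Subgroup.centralizer ({h} : Set G)) : ℂ) := by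
  classical
  have hexp := congrFun (classFunction_eq_sum (classIndicator_isClassFunction h)) g
  simp only [Finset.sum_apply, Pi.smul_apply, smul_eq_mul] at hexp
  have hinner : ∀ χ : IrrCharacter G, classInner (classIndicator h) (χ : G → ℂ) =
      (Nat.card G : ℂ)⁻¹ * (Nat.card {x : G // IsConj x h} : ℂ) * conj ((χ : G → ℂ) h) := fun χ =>
    classInner_classIndicator h (IsCharacter.isClassFunction (IsIrrCharacter.isCharacter χ.2))
  simp only [hinner] at hexp
  have hcc : (Nat.card {x : G // IsConj x h} : ℂ) * (Nat.card (Subgroup.centralizer ({h} : Set G)) : ℂ) =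
      (Nat.card G : ℂ) := by exact_mod_cast card_conj_mul_card_centralizer h
  have hG : (Nat.card G : ℂ) ≠ 0 := card_ne_zero_complex
  have hN : (Nat.card {x : G // IsConj x h} : ℂ) ≠ 0 := by
    intro h0; rw [h0, zero_mul] at hcc; exact hG hcc.symm
  rw [hexp, Finset.sum_mul]
  apply Finset.sum_congr rfl
  intro χ _
  have : (Nat.card (Subgroup.centralizer ({h} : Set G)) : ℂ) =
      (Nat.card G : ℂ) / (Nat.card {x : G // IsConj x h} : ℂ) := by
    rw [eq_div_iff hN, mul_comm]; exact hcc
  rw [this]
  field_simp


/-! ### The regular character -/

/-- The character of the regular representation. -/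
theorem leftRegular_character [Fintype G] [DecidableEq G] (g : G) :
    (Representation.leftRegular ℂ G).character g = if g = 1 then (Nat.card G : ℂ) else 0 := by
  unfold Representation.character
  rw [LinearMap.trace_eq_matrix_trace ℂ (MonoidAlgebra.basis G ℂ), Matrix.trace]
  have : ∀ x : G, (LinearMap.toMatrix (MonoidAlgebra.basis G ℂ) (MonoidAlgebra.basis G ℂ)
      (Representation.leftRegular ℂ G g)).diag x = if g = 1 then 1 else 0 := by
    intro x
    simp only [Matrix.diag_apply, LinearMap.toMatrix_apply, MonoidAlgebra.basis_apply,
      ofMulAction_single, smul_eq_mul]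
    show ((MonoidAlgebra.single (g * x) (1:ℂ)).coeff) x = _
    rw [MonoidAlgebra.coeff_single, Finsupp.single_apply]
    simp
  rw [Finset.sum_congr rfl (fun x _ => this x)]
  split_ifs with h
  · simp [Nat.card_eq_fintype_card]
  · simp

theorem IsCharacter.conj_apply_one {χ : G → ℂ} (hχ : IsCharacter G χ) : conj (χ 1) = χ 1 := by
  obtain ⟨n, hn⟩ := IsCharacter.apply_one hχ
  rw [hn, Complex.conj_natCast]

/-- inner product of the regular character with a character is the degree -/
theorem classInner_leftRegular [Fintype G] {χ : G → ℂ} (hχ : IsCharacter G χ) :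
    classInner (Representation.leftRegular ℂ G).character χ = χ 1 := by
  classical
  simp only [classInner, leftRegular_character, ite_mul, zero_mul]
  rw [Finset.sum_ite_eq' Finset.univ (1 : G), if_pos (Finset.mem_univ _), ← mul_assoc,
    inv_mul_cancel₀ card_ne_zero_complex, one_mul, IsCharacter.conj_apply_one hχ]

/-- The regular character is `∑ χ(1) χ` (as in S0156). -/
theorem leftRegular_character_eq_finsum [Fintype G] :
    (Representation.leftRegular ℂ G).character =
      ∑ᶠ χ : IrrCharacter G, (χ : G → ℂ) 1 • (χ : G → ℂ) := by
  have h1 := classFunction_eq_finsum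
    (IsCharacter.isClassFunction (isCharacter_of_rep (Representation.leftRegular ℂ G)))
  conv_lhs => rw [h1]
  congr 1
  funext χ
  rw [classInner_leftRegular (IsIrrCharacter.isCharacter χ.2)]

/-- The sum of the squares of the degrees of the irreducible characters is the group order (S0134). -/
theorem finsum_irr_apply_one_sq [Finite G] :
    ∑ᶠ χ : IrrCharacter G, (χ : G → ℂ) 1 ^ 2 = (Nat.card G : ℂ) := by
  classical
  let _ := Fintype.ofFinite G
  let _ := fintypeIrr G
  have h := congrFun (leftRegular_character_eq_finsum (G := G)) 1
  rw [leftRegular_character, if_pos rfl, finsum_eq_sum_of_fintype] at h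
  rw [finsum_eq_sum_of_fintype, h, Finset.sum_apply]
  apply Finset.sum_congr rfl
  intro χ _
  simp [pow_two]


end Cfsg.Agent.CharLib
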