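/-
Character theory bridge library (lead), part 6: representations with equal characters are equivalent;
inner products of characters are natural numbers; dim Hom = inner product.
-/
import Mathlib
import Cfsg.Prelude.Def_Characters
import Cfsg.Agent.Lib.Lead.CharMain

set_option autoImplicit false
open Representation Module
open scoped ComplexConjugate
namespace Cfsg.Agent.CharLib
universe u v w
variable {G : Type u} [Group G]

/-- The inner product of two characters is a natural number. -/
theorem IsCharacter.classInner_nat [Fintype G] {χ ψ : G → ℂ} (hχ : IsCharacter G χ) (hψ : IsCharacter G ψ) :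
    ∃ n : ℕ, classInner χ ψ = n := by
  classical
  let _ := fintypeIrr G
  obtain ⟨m, hm⟩ := IsCharacter.exists_decomp hχ
  obtain ⟨m', hm'⟩ := IsCharacter.exists_decomp hψ
  rw [finsum_eq_sum_of_fintype] at hm hm'
  refine ⟨∑ φ : IrrCharacter G, m φ * m' φ, ?_⟩
  rw [hm, hm', classInner_sum_left]
  push_cast
  apply Finset.sum_congr rfl
  intro φ _
  rw [classInner_sum_right, Finset.sum_eq_single φ]
  · rw [← Nat.cast_smul_eq_nsmul ℂ, ← Nat.cast_smul_eq_nsmul ℂ, classInner_smul_left, classInner_smul_right,
      classInner_irr']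
    simp
  · intro b _ hb
    rw [← Nat.cast_smul_eq_nsmul ℂ, ← Nat.cast_smul_eq_nsmul ℂ, classInner_smul_left, classInner_smul_right,
      classInner_irr']
    simp [Ne.symm hb]
  · intro h; exact absurd (Finset.mem_univ _) h

/-- `dim Hom_G(ρ, σ) = ⟨χ_σ, χ_ρ⟩`. -/
theorem finrank_intertwiningMap [Fintype G] {V : Type v} {W : Type w} [AddCommGroup V] [Module ℂ V]
    [FiniteDimensional ℂ V] [AddCommGroup W] [Module ℂ W] [FiniteDimensional ℂ W]
    (ρ : Representation ℂ G V) (σ : Representation ℂ G W) :
    (finrank ℂ (IntertwiningMap ρ σ) : ℂ) = classInner σ.character ρ.character := by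
  have : Invertible (Nat.card G : ℂ) := invertibleOfNonzero card_ne_zero_complex
  rw [← card_inv_mul_sum_char_mul_char_eq_finrank ρ σ]
  simp only [classInner]
  congr 1
  apply Finset.sum_congr rfl
  intro g _
  rw [char_inv ρ g]

end Cfsg.Agent.CharLib

namespace Cfsg.Agent.CharLib
universe u v w
variable {G : Type u} [Group G]

/-- If `χ_σ = χ_ρ + ψ` with `ψ` a character, then `ρ` embeds into `σ`. -/
theorem exists_injective_intertwiningMap [Fintype G]
    {V : Type v} [AddCommGroup V] [Module ℂ V] [FiniteDimensional ℂ V] (ρ : Representation ℂ G V) :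
    ∀ (W : Type w) [AddCommGroup W] [Module ℂ W] [FiniteDimensional ℂ W] (σ : Representation ℂ G W)
      (ψ : G → ℂ), IsCharacter G ψ → σ.character = ρ.character + ψ →
      ∃ f : IntertwiningMap ρ σ, Function.Injective f := by
  refine rep_induction (G := G) (fun V _ _ _ ρ =>
    ∀ (W : Type w) [AddCommGroup W] [Module ℂ W] [FiniteDimensional ℂ W] (σ : Representation ℂ G W)
      (ψ : G → ℂ), IsCharacter G ψ → σ.character = ρ.character + ψ →
      ∃ f : IntertwiningMap ρ σ, Function.Injective f) ?_ ?_ ?_ V ρ
  · intro V _ _ _ ρ hV W _ _ _ σ ψ _ _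
    exact ⟨0, fun a b _ => Subsingleton.elim a b⟩
  · intro V _ _ _ ρ hirr W _ _ _ σ ψ hψ hσ
    have hρc : IsIrrCharacter G ρ.character := isIrrCharacter_of_rep ρ hirr
    obtain ⟨n, hn⟩ := IsCharacter.classInner_nat hψ (IsIrrCharacter.isCharacter hρc)
    have hdim : (finrank ℂ (IntertwiningMap ρ σ) : ℂ) = 1 + n := by
      rw [finrank_intertwiningMap, hσ, classInner_add_left, classInner_irr hρc hρc, if_pos rfl, hn]
    have hne : finrank ℂ (IntertwiningMap ρ σ) ≠ 0 := by
      intro h0
      rw [h0] at hdim
      have : (0 : ℕ) = 1 + n := by exact_mod_cast hdim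
      omega
    have hex : ∃ f : IntertwiningMap ρ σ, f ≠ 0 := by
      by_contra hcon
      push Not at hcon
      have : Subsingleton (IntertwiningMap ρ σ) := ⟨fun a b => by rw [hcon a, hcon b]⟩
      exact hne (Module.finrank_zero_of_subsingleton)
    obtain ⟨f, hf⟩ := hex
    exact ⟨f, (IsIrreducible.injective_or_eq_zero f).resolve_right hf⟩
  · intro V _ _ _ ρ A A' hc hA hA' W _ _ _ σ ψ hψ hσ
    have hcs := subrep_isCompl_toSubmodule hc
    have hρ := character_eq_add_of_isCompl hc
    -- embed A
    obtain ⟨f, hf⟩ := hA W σ (A'.toRepresentation.character + ψ)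
      (IsCharacter.add (isCharacter_of_rep _) hψ) (by rw [hσ, hρ, add_assoc])
    -- B = range f, with complement B'
    let B : Subrepresentation σ := f.range
    obtain ⟨B', hB'⟩ := exists_isCompl B
    have hcs' := subrep_isCompl_toSubmodule hB'
    have hσ' := character_eq_add_of_isCompl hB'
    -- A ≅ B
    let fB : IntertwiningMap A.toRepresentation B.toRepresentation :=
      ⟨LinearMap.codRestrict B.toSubmodule f.toLinearMap (fun a => ⟨a, rfl⟩), by
        intro g; ext a
        exact IntertwiningMap.isIntertwining _ _ f g a⟩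
    have hfB : Function.Bijective fB := by
      constructor
      · intro a b hab
        apply hf
        exact congrArg Subtype.val hab
      · rintro ⟨w, a, rfl⟩
        exact ⟨a, rfl⟩
    have hAB : A.toRepresentation.character = B.toRepresentation.character :=
      char_iso (IntertwiningMap.ofBijective fB hfB)
    -- character of B'
    have hB'c : B'.toRepresentation.character = A'.toRepresentation.character + ψ := by
      have h1 : B.toRepresentation.character + B'.toRepresentation.character =
          A.toRepresentation.character + (A'.toRepresentation.character + ψ) := by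
        rw [← hσ', hσ, hρ, add_assoc]
      rw [hAB] at h1
      exact add_left_cancel h1
    obtain ⟨f', hf'⟩ := hA' B'.toSubmodule B'.toRepresentation ψ hψ hB'c
    -- assemble
    let e := Submodule.prodEquivOfIsCompl A.toSubmodule A'.toSubmodule hcs
    let F0 : V →ₗ[ℂ] W :=
      (LinearMap.coprod f.toLinearMap (B'.toSubmodule.subtype ∘ₗ f'.toLinearMap)) ∘ₗ e.symm.toLinearMap
    have hF0 : ∀ (a : A.toSubmodule) (a' : A'.toSubmodule), F0 ((a : V) + a') = f a + (f' a' : W) := by
      intro a a'
      have : e.symm ((a : V) + a') = (a, a') := by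
        rw [LinearEquiv.symm_apply_eq]; rfl
      simp [F0, this]
    have hdecomp : ∀ v : V, ∃ (a : A.toSubmodule) (a' : A'.toSubmodule), (a : V) + a' = v := by
      intro v
      have : v ∈ A.toSubmodule ⊔ A'.toSubmodule := by rw [hcs.sup_eq_top]; trivial
      obtain ⟨a, ha, b, hb, rfl⟩ := Submodule.mem_sup.mp this
      exact ⟨⟨a, ha⟩, ⟨b, hb⟩, rfl⟩
    refine ⟨⟨F0, ?_⟩, ?_⟩
    · intro g
      ext v
      obtain ⟨a, a', rfl⟩ := hdecomp v
      have h1 : ρ g ((a : V) + a') = ((A.toRepresentation g a : A.toSubmodule) : V) +
          ((A'.toRepresentation g a' : A'.toSubmodule) : V) := by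
        rw [map_add]; rfl
      simp only [LinearMap.comp_apply]
      rw [h1, hF0, hF0, map_add]
      congr 1
      · exact IntertwiningMap.isIntertwining _ _ f g a
      · have := IntertwiningMap.isIntertwining _ _ f' g a'
        have h2 := congrArg Subtype.val this
        exact h2
    · intro v v' hvv'
      obtain ⟨a, a', rfl⟩ := hdecomp v
      obtain ⟨b, b', rfl⟩ := hdecomp v'
      have h1 : F0 ((a : V) + a') = F0 ((b : V) + b') := hvv'
      rw [hF0, hF0] at h1
      -- f a - f b ∈ B, f' b' - f' a' ∈ B'
      have h2 : f a - f b = (f' b' : W) - (f' a' : W) := by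
        have := h1
        rw [← sub_eq_zero] at this ⊢
        rw [← this]; abel
      have h3 : f a - f b ∈ B.toSubmodule ⊓ B'.toSubmodule := by
        refine ⟨⟨a - b, by simp⟩, ?_⟩
        rw [h2]
        exact B'.toSubmodule.sub_mem (f' b').2 (f' a').2
      rw [hcs'.inf_eq_bot, Submodule.mem_bot] at h3
      have h4 : a = b := hf (sub_eq_zero.mp h3)
      have h5 : (f' b' : W) - (f' a' : W) = 0 := by rw [← h2, h3]
      have h6 : f' b' = f' a' := Subtype.ext (sub_eq_zero.mp h5)
      have h7 : b' = a' := hf' h6
      rw [h4, h7]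

/-- Two finite-dimensional complex representations of a finite group with the same character are equivalent. -/
theorem nonempty_equiv_of_character_eq [Finite G]
    {V : Type v} [AddCommGroup V] [Module ℂ V] [FiniteDimensional ℂ V]
    {W : Type w} [AddCommGroup W] [Module ℂ W] [FiniteDimensional ℂ W]
    (ρ : Representation ℂ G V) (σ : Representation ℂ G W) (h : ρ.character = σ.character) :
    Nonempty (ρ.Equiv σ) := by
  let _ := Fintype.ofFinite G
  obtain ⟨f, hf⟩ := exists_injective_intertwiningMap ρ W σ 0 isCharacter_zero (by rw [h, add_zero])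
  have hdim : finrank ℂ V = finrank ℂ W := by
    have h1 := congrFun h 1
    rw [char_one, char_one] at h1
    exact_mod_cast h1
  have hbij : Function.Bijective f := by
    refine ⟨hf, ?_⟩
    have : Function.Injective f.toLinearMap := hf
    exact (LinearMap.injective_iff_surjective_of_finrank_eq_finrank hdim).mp this
  exact ⟨IntertwiningMap.ofBijective f hbij⟩

end Cfsg.Agent.CharLib
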