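/-
Character theory bridge library (lead), part 7: induced functions, Frobenius reciprocity, induced characters.
-/
import Mathlib
import Cfsg.Prelude.Def_Characters
import Cfsg.Agent.Lib.Lead.CharEquiv

set_option autoImplicit false
open Representation Module
open scoped ComplexConjugate
namespace Cfsg.Agent.CharLib
universe u v w
variable {G : Type u} [Group G]

theorem extendByZero_apply_coe (H : Subgroup G) (θ : H → ℂ) (h : H) : extendByZero H θ (h : G) = θ h := by
  unfold extendByZero
  exact Subtype.val_injective.extend_apply θ 0 h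

theorem extendByZero_apply_of_not_mem (H : Subgroup G) (θ : H → ℂ) {g : G} (hg : g ∉ H) :
    extendByZero H θ g = 0 := by
  unfold extendByZero
  rw [Function.extend_apply']
  · rfl
  · rintro ⟨h, rfl⟩
    exact hg h.2

/-- Sum over `G` of an extension by zero is the sum over `H`. -/
theorem sum_extendByZero_mul [Fintype G] (H : Subgroup G) [Fintype H] (θ : H → ℂ) (c : G → ℂ) :
    ∑ y : G, extendByZero H θ y * c y = ∑ h : H, θ h * c h := by
  classical
  rw [← Finset.sum_subset (Finset.subset_univ (Finset.univ.filter (fun y : G => y ∈ H)))]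
  · rw [Finset.sum_subtype (Finset.univ.filter (fun y : G => y ∈ H)) (p := fun y => y ∈ H) (by simp)]
    apply Finset.sum_congr rfl
    intro h _
    rw [extendByZero_apply_coe]
  · intro y _ hy
    simp only [Finset.mem_filter, Finset.mem_univ, true_and] at hy
    rw [extendByZero_apply_of_not_mem H θ hy, zero_mul]

/-- The induced function is a class function. -/
theorem indFun_isClassFunction [Fintype G] (H : Subgroup G) (θ : H → ℂ) : IsClassFunction G (indFun H θ) := by
  intro g k
  simp only [indFun]
  congr 1
  rw [← Equiv.sum_comp (Equiv.mulLeft k) (fun x => extendByZero H θ (x⁻¹ * (k * g * k⁻¹) * x))]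
  apply Finset.sum_congr rfl
  intro x _
  simp only [Equiv.coe_mulLeft]
  congr 1
  group

/-- Frobenius reciprocity for functions. -/
theorem frobenius_reciprocity [Fintype G] (H : Subgroup G) [Fintype H] (θ : H → ℂ) {χ : G → ℂ}
    (hχ : IsClassFunction G χ) : classInner (indFun H θ) χ = classInner θ (fun h : H => χ h) := by
  simp only [classInner, indFun]
  have h1 : ∑ g : G, ((Nat.card H : ℂ)⁻¹ * ∑ x : G, extendByZero H θ (x⁻¹ * g * x)) * conj (χ g) =
      (Nat.card H : ℂ)⁻¹ * ∑ x : G, ∑ g : G, extendByZero H θ (x⁻¹ * g * x) * conj (χ g) := by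
    rw [Finset.sum_comm, Finset.mul_sum]
    apply Finset.sum_congr rfl
    intro g _
    rw [mul_assoc, Finset.sum_mul]
  have h2 : ∀ x : G, ∑ g : G, extendByZero H θ (x⁻¹ * g * x) * conj (χ g) =
      ∑ y : G, extendByZero H θ y * conj (χ y) := by
    intro x
    rw [← Equiv.sum_comp (MulAut.conj x).toEquiv (fun g => extendByZero H θ (x⁻¹ * g * x) * conj (χ g))]
    apply Finset.sum_congr rfl
    intro y _
    simp only [MulEquiv.toEquiv_eq_coe, MulEquiv.coe_toEquiv, MulAut.conj_apply]
    rw [hχ y x]
    congr 2
    group
  rw [h1, Finset.sum_congr rfl (fun x _ => h2 x), Finset.sum_const, Finset.card_univ, nsmul_eq_mul,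
    sum_extendByZero_mul]
  have hG : (Nat.card G : ℂ) ≠ 0 := card_ne_zero_complex
  rw [Nat.card_eq_fintype_card (α := G)] at hG ⊢
  field_simp

end Cfsg.Agent.CharLib

namespace Cfsg.Agent.CharLib
universe u
variable {G : Type u} [Group G]

/-- A class function whose inner products with all irreducible characters are natural numbers is a character. -/
theorem isCharacter_of_classInner_nat [Fintype G] {f : G → ℂ} (hf : IsClassFunction G f)
    (h : ∀ χ : IrrCharacter G, ∃ n : ℕ, classInner f (χ : G → ℂ) = n) : IsCharacter G f := by
  classical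
  let _ := fintypeIrr G
  choose n hn using h
  rw [classFunction_eq_sum hf]
  apply IsCharacter.sum
  intro χ _
  rw [hn χ, Nat.cast_smul_eq_nsmul]
  exact IsCharacter.nsmul (IsIrrCharacter.isCharacter χ.2) _

/-- The function induced from a character of a subgroup is a character (S0148). -/
theorem IsCharacter.indFun [Fintype G] (H : Subgroup G) {θ : H → ℂ} (hθ : IsCharacter H θ) :
    IsCharacter G (Cfsg.indFun H θ) := by
  classical
  let _ : Fintype H := Fintype.ofFinite H
  apply isCharacter_of_classInner_nat (indFun_isClassFunction H θ)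
  intro χ
  have hχ := IsIrrCharacter.isCharacter χ.2
  rw [frobenius_reciprocity H θ (IsCharacter.isClassFunction hχ)]
  exact IsCharacter.classInner_nat hθ (IsCharacter.restrict hχ H)

end Cfsg.Agent.CharLib
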