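/-
Character theory bridge library (lead), part 8: Burnside's vanishing lemma, classes of prime power size,
and the p^a q^b theorem.
-/
import Mathlib
import Cfsg.Prelude.Def_Characters
import Cfsg.Agent.Lib.Lead.CharInd
import Cfsg.Agent.Lib.Helper24.CentralChar

set_option autoImplicit false

namespace Cfsg.Agent.CharLib

open Representation Module Polynomial
open scoped ComplexConjugate

universe u v


/-- product of complex numbers of norm ≤ 1 has norm ≤ 1 -/
theorem norm_multiset_prod_le_one (s : Multiset ℂ) (h : ∀ z ∈ s, ‖z‖ ≤ 1) : ‖s.prod‖ ≤ 1 := by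
  induction s using Multiset.induction_on with
  | empty => simp
  | cons a s ih =>
    rw [Multiset.prod_cons, norm_mul]
    have h1 := h a (Multiset.mem_cons_self a s)
    have h2 := ih (fun z hz => h z (Multiset.mem_cons_of_mem hz))
    calc ‖a‖ * ‖s.prod‖ ≤ 1 * 1 := mul_le_mul h1 h2 (norm_nonneg _) zero_le_one
      _ = 1 := one_mul 1

/-- An algebraic integer all of whose conjugates (complex roots of its minimal polynomial over ℚ) have
norm at most one, and which itself has norm less than one, is zero. -/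
theorem eq_zero_of_conjugates_norm_le_one {α : ℂ} (hα : IsIntegral ℤ α)
    (hroots : ∀ β ∈ (minpoly ℚ α).rootSet ℂ, ‖β‖ ≤ 1) (hlt : ‖α‖ < 1) : α = 0 := by
  have hαQ : IsIntegral ℚ α := hα.tower_top
  set P := minpoly ℚ α with hP
  have hPZ : P = (minpoly ℤ α).map (algebraMap ℤ ℚ) := minpoly.isIntegrallyClosed_eq_field_fractions' ℚ hα
  set PC := P.map (algebraMap ℚ ℂ) with hPC
  have hmonic : PC.Monic := (minpoly.monic hαQ).map _
  have hsplits : PC.Splits := IsAlgClosed.splits _
  have hc0 := hsplits.coeff_zero_eq_prod_roots_of_monic hmonic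
  -- α is a root
  have hαroot : α ∈ PC.roots := by
    rw [mem_roots hmonic.ne_zero, IsRoot.def, hPC, eval_map_algebraMap]
    exact minpoly.aeval ℚ α
  have hrootsle : ∀ z ∈ PC.roots, ‖z‖ ≤ 1 := by
    intro z hz
    apply hroots
    rw [mem_rootSet_of_ne (minpoly.ne_zero hαQ)]
    rw [mem_roots hmonic.ne_zero, IsRoot.def, hPC, eval_map_algebraMap] at hz
    exact hz
  -- norm of product of roots < 1
  have hprodlt : ‖PC.roots.prod‖ < 1 := by
    rw [← Multiset.cons_erase hαroot, Multiset.prod_cons, norm_mul]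
    have h2 : ‖(PC.roots.erase α).prod‖ ≤ 1 :=
      norm_multiset_prod_le_one _ (fun z hz => hrootsle z (Multiset.mem_of_mem_erase hz))
    calc ‖α‖ * ‖(PC.roots.erase α).prod‖ ≤ ‖α‖ * 1 := mul_le_mul_of_nonneg_left h2 (norm_nonneg _)
      _ < 1 := by rw [mul_one]; exact hlt
  -- the constant coefficient is an integer of norm < 1, hence 0
  have hcoeff : PC.coeff 0 = (((minpoly ℤ α).coeff 0 : ℤ) : ℂ) := by
    rw [hPC, hPZ, Polynomial.map_map, coeff_map]
    simp
  have hnorm : ‖PC.coeff 0‖ < 1 := by
    rw [hc0, norm_mul, norm_pow, norm_neg, norm_one, one_pow, one_mul]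
    exact hprodlt
  rw [hcoeff] at hnorm
  have hz : (minpoly ℤ α).coeff 0 = 0 := by
    have : |(((minpoly ℤ α).coeff 0 : ℤ) : ℝ)| < 1 := by
      rwa [Complex.norm_intCast] at hnorm
    have h3 : |(minpoly ℤ α).coeff 0| < 1 := by exact_mod_cast this
    exact Int.abs_lt_one_iff.mp h3
  have hQ0 : P.coeff 0 = 0 := by
    rw [hPZ, coeff_map, hz, map_zero]
  exact (minpoly.coeff_zero_eq_zero hαQ).mp hQ0



/-- All conjugates of an average of roots of unity have norm at most one. -/
theorem conjugates_avg_roots_of_unity_norm_le {ι : Type*} [Fintype ι] (μ : ι → ℂ) (m : ℕ) (hm : 0 < m)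
    (hμ : ∀ i, μ i ^ m = 1) :
    ∀ β ∈ (minpoly ℚ ((∑ i, μ i) / (Fintype.card ι : ℂ))).rootSet ℂ, ‖β‖ ≤ 1 := by
  intro β hβ
  let K := algebraicClosure ℚ ℂ
  have hKalg : Algebra.IsAlgebraic ℚ K := algebraicClosure.isAlgebraic ℚ ℂ
  have hμalg : ∀ i, μ i ∈ K := by
    intro i
    rw [mem_algebraicClosure_iff']
    exact IsIntegral.of_pow hm (by rw [hμ i]; exact isIntegral_one)
  let μK : ι → K := fun i => ⟨μ i, hμalg i⟩
  let αK : K := (∑ i, μK i) / (Fintype.card ι : K)
  have hαK : (αK : ℂ) = (∑ i, μ i) / (Fintype.card ι : ℂ) := by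
    simp [αK, μK]
  have hminpoly : minpoly ℚ αK = minpoly ℚ ((∑ i, μ i) / (Fintype.card ι : ℂ)) := by
    rw [← hαK]
    exact (minpoly.algebraMap_eq (algebraMap K ℂ).injective αK).symm
  rw [← hminpoly, ← Algebra.IsAlgebraic.range_eval_eq_rootSet_minpoly ℂ αK] at hβ
  obtain ⟨ψ, rfl⟩ := hβ
  have hψμ : ∀ i, ‖ψ (μK i)‖ = 1 := by
    intro i
    apply Complex.norm_eq_one_of_pow_eq_one _ hm.ne'
    rw [← map_pow]
    have : μK i ^ m = 1 := by
      apply Subtype.ext
      simp [μK, hμ i]
    rw [this, map_one]
  show ‖ψ αK‖ ≤ 1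
  simp only [αK, map_div₀, map_sum, map_natCast, norm_div, Complex.norm_natCast]
  rcases Nat.eq_zero_or_pos (Fintype.card ι) with h0 | hpos
  · simp [h0]
  · rw [div_le_one (by exact_mod_cast hpos)]
    calc ‖∑ i, ψ (μK i)‖ ≤ ∑ i, ‖ψ (μK i)‖ := norm_sum_le _ _
      _ = Fintype.card ι := by simp [hψμ]


variable {G : Type u} [Group G]

/-- Burnside's lemma: if `χ(1)` is coprime to the class size of `g`, then `χ(g) = 0` or `|χ(g)| = χ(1)`. -/
theorem char_eq_zero_or_norm_eq_of_coprime [Finite G] {V : Type v} [AddCommGroup V] [Module ℂ V]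
    [FiniteDimensional ℂ V] (ρ : Representation ℂ G V) [ρ.IsIrreducible] (g : G)
    (hcop : Nat.Coprime (finrank ℂ V) (Subgroup.centralizer ({g} : Set G)).index) :
    ρ.character g = 0 ∨ ‖ρ.character g‖ = (finrank ℂ V : ℝ) := by
  obtain ⟨ι, hι, b, μ, h1, h2, h3, h4⟩ := exists_eigenbasis ρ g
  have hχ : ρ.character g = ∑ i, μ i := by
    unfold Representation.character
    exact trace_eq_sum_of_eigenbasis b (ρ g) μ h2
  have hn : finrank ℂ V = Fintype.card ι := Module.finrank_eq_card_basis b
  have hnpos : 0 < finrank ℂ V := Cfsg.Agent.Lib.Helper24.finrank_pos_of_isIrreducible ρ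
  have hnC : (finrank ℂ V : ℂ) ≠ 0 := by exact_mod_cast hnpos.ne'
  set α : ℂ := (∑ i, μ i) / (Fintype.card ι : ℂ) with hα
  -- α is an algebraic integer
  have hint1 : IsIntegral ℤ (ρ.character g) := isIntegral_char ρ g
  have hint2 := Cfsg.Agent.Lib.Helper24.isIntegral_index_mul_char_div ρ g
  obtain ⟨u, v, huv⟩ := (Nat.isCoprime_iff_coprime.mpr hcop)
  have hαint : IsIntegral ℤ α := by
    have : α = (u : ℂ) * ρ.character g + (v : ℂ) *
        (((Subgroup.centralizer ({g} : Set G)).index : ℂ) * ρ.character g / (finrank ℂ V : ℂ)) := by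
      have huvC : (u : ℂ) * (finrank ℂ V : ℂ) + (v : ℂ) * ((Subgroup.centralizer ({g} : Set G)).index : ℂ) = 1 := by
        exact_mod_cast huv
      rw [hα, ← hχ, ← hn]
      field_simp
      linear_combination (-(ρ.character g)) * huvC
    rw [this]
    exact ((isIntegral_algebraMap (R := ℤ) (x := u)).mul hint1).add
      ((isIntegral_algebraMap (R := ℤ) (x := v)).mul hint2)
  have hroots := conjugates_avg_roots_of_unity_norm_le μ (orderOf g) (orderOf_pos g) h1
  have hαle : ‖α‖ ≤ 1 := by
    have := norm_char_le ρ g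
    rw [hα, ← hχ, ← hn, norm_div, Complex.norm_natCast, div_le_one (by exact_mod_cast hnpos)]
    exact this
  rcases lt_or_eq_of_le hαle with hlt | heq
  · left
    have h0 := eq_zero_of_conjugates_norm_le_one hαint hroots hlt
    rw [hα, ← hχ, ← hn, div_eq_zero_iff] at h0
    exact h0.resolve_right hnC
  · right
    rw [hα, ← hχ, ← hn, norm_div, Complex.norm_natCast, div_eq_one_iff_eq (by exact_mod_cast hnpos.ne')] at heq
    exact heq


/-- If `|χ(g)| = χ(1)` then `ρ g` is a scalar. -/
theorem exists_scalar_of_norm_char_eq [Finite G] {V : Type v} [AddCommGroup V] [Module ℂ V]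
    [FiniteDimensional ℂ V] (ρ : Representation ℂ G V) (g : G)
    (h : ‖ρ.character g‖ = (finrank ℂ V : ℝ)) : ∃ ω : ℂ, ρ g = ω • (LinearMap.id : V →ₗ[ℂ] V) := by
  obtain ⟨ι, hι, b, μ, h1, h2, h3, h4⟩ := exists_eigenbasis ρ g
  unfold Representation.character at h
  rw [trace_eq_sum_of_eigenbasis b (ρ g) μ h2, Module.finrank_eq_card_basis b] at h
  obtain ⟨ω, _, hω⟩ := all_eq_of_norm_sum_eq_card μ h4 h
  refine ⟨ω, ?_⟩
  apply b.ext
  intro i
  rw [h2 i, hω i]
  rfl


/-- A one-dimensional representation is irreducible. -/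
theorem isIrreducible_of_finrank_eq_one {V : Type v} [AddCommGroup V] [Module ℂ V] [FiniteDimensional ℂ V]
    (ρ : Representation ℂ G V) (h : finrank ℂ V = 1) : ρ.IsIrreducible := by
  have hV : Nontrivial V := (Module.finrank_pos_iff (R := ℂ) (M := V)).mp (by rw [h]; exact one_pos)
  refine { exists_pair_ne := ⟨⊥, ⊤, ?_⟩, eq_bot_or_eq_top := ?_ }
  · intro hbt
    have : (⊥ : Submodule ℂ V) = ⊤ := congrArg Subrepresentation.toSubmodule hbt
    exact bot_ne_top this
  · intro W
    have hle : finrank ℂ W.toSubmodule ≤ 1 := h ▸ Submodule.finrank_le _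
    rcases Nat.le_one_iff_eq_zero_or_eq_one.mp hle with h0 | h1
    · left
      apply Subrepresentation.toSubmodule_injective
      exact Submodule.finrank_eq_zero.mp h0
    · right
      apply Subrepresentation.toSubmodule_injective
      exact Submodule.eq_top_of_finrank_eq (h1.trans h.symm)

/-- The trivial character is irreducible. -/
theorem isIrrCharacter_one : IsIrrCharacter G (1 : G → ℂ) := by
  have h1 : (Representation.trivial ℂ G ℂ).IsIrreducible :=
    isIrreducible_of_finrank_eq_one _ (Module.finrank_self ℂ)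
  have := isIrrCharacter_of_rep (Representation.trivial ℂ G ℂ) h1
  convert this using 1
  funext g
  simp [Representation.character, Representation.trivial]

/-- An irreducible representation on which every group element acts trivially is one-dimensional. -/
theorem finrank_eq_one_of_forall_eq_one {V : Type v} [AddCommGroup V] [Module ℂ V] [FiniteDimensional ℂ V]
    (ρ : Representation ℂ G V) [hirr : ρ.IsIrreducible] (h : ∀ g, ρ g = 1) : finrank ℂ V = 1 := by
  have hV : Nontrivial V := Cfsg.Agent.Lib.Helper24.nontrivial_of_isIrreducible ρ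
  obtain ⟨v, hv⟩ := exists_ne (0 : V)
  let W : Subrepresentation ρ := ⟨Submodule.span ℂ {v}, by
    intro g w hw
    rw [h g]
    exact hw⟩
  have hW : W = ⊤ := by
    rcases hirr.eq_bot_or_eq_top W with h1 | h1
    · exfalso
      have : v ∈ W.toSubmodule := Submodule.mem_span_singleton_self v
      rw [h1] at this
      exact hv ((Submodule.mem_bot ℂ).mp this)
    · exact h1
  have hspan : Submodule.span ℂ {v} = ⊤ := congrArg Subrepresentation.toSubmodule hW
  have := finrank_span_singleton (K := ℂ) hv
  rw [hspan, finrank_top] at this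
  exact this



/-- `1/p` is not an algebraic integer for a prime `p`. -/
theorem not_isIntegral_one_div_prime {p : ℕ} (hp : p.Prime) : ¬ IsIntegral ℤ ((1 : ℂ) / (p : ℂ)) := by
  intro h
  have hq : ((1 : ℂ) / (p : ℂ)) = (((1 : ℚ) / (p : ℚ) : ℚ) : ℂ) := by push_cast; rfl
  rw [hq] at h
  have h2 : IsIntegral ℤ ((1 : ℚ) / (p : ℚ)) :=
    (isIntegral_algebraMap_iff (algebraMap ℚ ℂ).injective (R := ℤ) (x := ((1 : ℚ) / (p : ℚ)))).mp h
  obtain ⟨k, hk⟩ := IsIntegrallyClosed.isIntegral_iff.mp h2
  have hne : (p : ℚ) ≠ 0 := by exact_mod_cast hp.ne_zero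
  have h3 : (k : ℚ) * (p : ℚ) = 1 := by
    have : (algebraMap ℤ ℚ) k = (k : ℚ) := rfl
    rw [this] at hk
    rw [hk]; field_simp
  have h4 : k * (p : ℤ) = 1 := by exact_mod_cast h3
  have h5 : (p : ℤ) ∣ 1 := ⟨k, by rw [← h4]; ring⟩
  have h6 : p ∣ 1 := by exact_mod_cast h5
  exact hp.one_lt.ne' (Nat.dvd_one.mp h6)

/-- Burnside: a finite simple group with a nontrivial conjugacy class of prime power size has prime order. -/
theorem prime_card_of_class_prime_pow [Finite G] [IsSimpleGroup G] (p k : ℕ) (hp : p.Prime) (g : G) (hg : g ≠ 1)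
    (hclass : (Subgroup.centralizer ({g} : Set G)).index = p ^ k) : (Nat.card G).Prime := by
  classical
  by_cases hcent : g ∈ Subgroup.center G
  · have hZ : Subgroup.center G = ⊤ :=
      ((inferInstance : (Subgroup.center G).Normal).eq_bot_or_eq_top).resolve_left (by
        intro h; rw [h] at hcent; exact hg (Subgroup.mem_bot.mp hcent))
    have hcomm : ∀ a b : G, a * b = b * a := fun a b => by
      have : a ∈ Subgroup.center G := by rw [hZ]; trivial
      exact (Subgroup.mem_center_iff.mp this b).symm
    let _ : CommGroup G := { (inferInstance : Group G) with mul_comm := hcomm }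
    exact IsSimpleGroup.prime_card
  · exfalso
    let _ := Fintype.ofFinite G
    let _ := fintypeIrr G
    let χ₀ : IrrCharacter G := ⟨1, isIrrCharacter_one⟩
    have claim : ∀ χ : IrrCharacter G, χ ≠ χ₀ →
        ∃ γ : ℂ, IsIntegral ℤ γ ∧ (χ : G → ℂ) g * (χ : G → ℂ) 1 = (p : ℂ) * γ := by
      intro χ hχ
      obtain ⟨n, ρ, hirr, hρ⟩ := χ.2
      have hχ1 : (χ : G → ℂ) 1 = n := by rw [← hρ]; simp
      have hfr : finrank ℂ (Fin n → ℂ) = n := by simp
      by_cases hpn : p ∣ n
      · obtain ⟨m, rfl⟩ := hpn
        refine ⟨(χ : G → ℂ) g * m, ?_, ?_⟩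
        · rw [← hρ]
          exact (isIntegral_char ρ g).mul (isIntegral_algebraMap (R := ℤ) (x := (m : ℤ)))
        · rw [hχ1]; push_cast; ring
      · have hcop : Nat.Coprime (finrank ℂ (Fin n → ℂ)) (Subgroup.centralizer ({g} : Set G)).index := by
          rw [hfr, hclass]
          exact ((hp.coprime_iff_not_dvd.mpr hpn).symm).pow_right k
        rcases char_eq_zero_or_norm_eq_of_coprime ρ g hcop with h0 | hnorm
        · refine ⟨0, isIntegral_zero, ?_⟩
          rw [← hρ, h0]; simp
        · exfalso
          obtain ⟨ω, hω⟩ := exists_scalar_of_norm_char_eq ρ g hnorm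
          have hker : (ρ : G →* (Module.End ℂ (Fin n → ℂ))).ker = ⊥ ∨ (ρ : G →* _).ker = ⊤ :=
            (MonoidHom.normal_ker _).eq_bot_or_eq_top
          rcases hker with hbot | htop
          · apply hcent
            rw [Subgroup.mem_center_iff]
            intro h
            have h1 : ρ (h * g) = ρ (g * h) := by
              rw [map_mul, map_mul, hω]
              ext v
              simp
            have h2 : h * g * (g * h)⁻¹ ∈ (ρ : G →* _).ker := by
              rw [MonoidHom.mem_ker, map_mul, h1, ← map_mul, mul_inv_cancel, map_one]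
            rw [hbot, Subgroup.mem_bot] at h2
            exact mul_inv_eq_one.mp h2
          · apply hχ
            have hall : ∀ x, ρ x = 1 := by
              intro x
              have : x ∈ (ρ : G →* _).ker := by rw [htop]; trivial
              exact MonoidHom.mem_ker.mp this
            have hn1 : n = 1 := by
              have := finrank_eq_one_of_forall_eq_one ρ hall
              rw [hfr] at this; exact this
            apply Subtype.ext
            show (χ : G → ℂ) = 1
            rw [← hρ]
            funext x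
            simp only [Representation.character, hall x, Pi.one_apply]
            rw [show (1 : Module.End ℂ (Fin n → ℂ)) = LinearMap.id from rfl, LinearMap.trace_id, hfr, hn1]
            simp
    choose! γ hγint hγ using claim
    -- second orthogonality for the columns of g and 1
    have horth := sum_irr_mul_conj g (1 : G)
    have hci : classIndicator (1 : G) g = 0 := by
      simp only [classIndicator]
      rw [if_neg]
      rw [isConj_one_left]
      exact hg
    rw [hci, zero_mul] at horth
    have hconj : ∀ χ : IrrCharacter G, conj ((χ : G → ℂ) 1) = (χ : G → ℂ) 1 := fun χ =>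
      IsCharacter.conj_apply_one (IsIrrCharacter.isCharacter χ.2)
    simp only [hconj] at horth
    rw [← Finset.add_sum_erase Finset.univ _ (Finset.mem_univ χ₀)] at horth
    have h1 : (χ₀ : G → ℂ) g * (χ₀ : G → ℂ) 1 = 1 := by simp [χ₀]
    have h2 : ∑ χ ∈ Finset.univ.erase χ₀, (χ : G → ℂ) g * (χ : G → ℂ) 1 =
        (p : ℂ) * ∑ χ ∈ Finset.univ.erase χ₀, γ χ := by
      rw [Finset.mul_sum]
      apply Finset.sum_congr rfl
      intro χ hχ
      exact hγ χ (Finset.ne_of_mem_erase hχ)
    rw [h1, h2] at horth
    have hΓ : IsIntegral ℤ (∑ χ ∈ Finset.univ.erase χ₀, γ χ) :=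
      IsIntegral.sum _ (fun χ hχ => hγint χ (Finset.ne_of_mem_erase hχ))
    have hpC : (p : ℂ) ≠ 0 := by exact_mod_cast hp.ne_zero
    have h3 : (1 : ℂ) / (p : ℂ) = -(∑ χ ∈ Finset.univ.erase χ₀, γ χ) := by
      field_simp
      linear_combination horth
    exact not_isIntegral_one_div_prime hp (h3 ▸ hΓ.neg)


end Cfsg.Agent.CharLib

namespace Cfsg.Agent.CharLib
universe u


/-- A group of prime power order is solvable. -/
theorem isSolvable_of_card_prime_pow {G : Type u} [Group G] [Finite G] {p n : ℕ} (hp : p.Prime)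
    (h : Nat.card G = p ^ n) : Group.IsSolvable G := by
  have := Fact.mk hp
  have : IsPGroup p G := IsPGroup.of_card h
  have := this.isNilpotent
  infer_instance

/-- Burnside's `p^a q^b` theorem, assuming Burnside's prime-power-class theorem as a hypothesis `B`. -/
theorem isSolvable_of_card_pq_aux
    (B : ∀ (G : Type u) [Group G] [Finite G] [IsSimpleGroup G] (p k : ℕ), p.Prime → ∀ g : G, g ≠ 1 →
      (Subgroup.centralizer ({g} : Set G)).index = p ^ k → (Nat.card G).Prime)
    (p q : ℕ) (hp : p.Prime) (hq : q.Prime) :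
    ∀ (n : ℕ) (G : Type u) [Group G] [Finite G], Nat.card G = n → (∃ a b, n = p ^ a * q ^ b) →
      Group.IsSolvable G := by
  intro n
  induction n using Nat.strong_induction_on with
  | _ n ih =>
    intro G _ _ hn ⟨a, b, hab⟩
    -- non-simple case
    by_cases hN : ∃ N : Subgroup G, N.Normal ∧ N ≠ ⊥ ∧ N ≠ ⊤
    · obtain ⟨N, hNn, hNbot, hNtop⟩ := hN
      have hcardN : Nat.card N ∣ n := hn ▸ N.card_subgroup_dvd_card
      have hcardQ : Nat.card (G ⧸ N) ∣ n := hn ▸ N.card_quotient_dvd_card
      have hdiv : ∀ d : ℕ, d ∣ n → ∃ a' b', d = p ^ a' * q ^ b' := by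
        intro d hd
        rw [hab] at hd
        obtain ⟨d1, d2, h1, h2, rfl⟩ := (Nat.dvd_mul).mp hd
        obtain ⟨a', _, rfl⟩ := (Nat.dvd_prime_pow hp).mp h1
        obtain ⟨b', _, rfl⟩ := (Nat.dvd_prime_pow hq).mp h2
        exact ⟨a', b', rfl⟩
      have hNlt : Nat.card N < n := by
        rw [← hn]
        apply lt_of_le_of_ne (Nat.le_of_dvd Nat.card_pos N.card_subgroup_dvd_card)
        intro heq
        exact hNtop ((Subgroup.card_eq_iff_eq_top N).mp heq)
      have hQlt : Nat.card (G ⧸ N) < n := by
        rw [← hn, ← N.card_mul_index, Subgroup.index_eq_card]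
        have h1 : 1 < Nat.card N := by
          rw [Subgroup.one_lt_card_iff_ne_bot]; exact hNbot
        have h2 : 0 < Nat.card (G ⧸ N) := Nat.card_pos
        nlinarith
      have : Group.IsSolvable N := ih _ hNlt N rfl (hdiv _ hcardN)
      have : Group.IsSolvable (G ⧸ N) := ih _ hQlt (G ⧸ N) rfl (hdiv _ hcardQ)
      exact Group.isSolvable_of_ker_le_range N.subtype (QuotientGroup.mk' N) (by simp)
    · -- G has no proper nontrivial normal subgroup
      push Not at hN
      rcases subsingleton_or_nontrivial G with hsub | hnt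
      · infer_instance
      have : IsSimpleGroup G := ⟨fun N hNn => by
        by_cases h : N = ⊥
        · exact Or.inl h
        · exact Or.inr (hN N hNn h)⟩
      -- if b = 0 then p-group
      rcases Nat.eq_zero_or_pos b with hb0 | hbpos
      · exact isSolvable_of_card_prime_pow hp (n := a) (by rw [hn, hab, hb0]; simp)
      -- subgroup Q of order q^b
      have := Fact.mk hq
      obtain ⟨Q, hQ⟩ := Sylow.exists_subgroup_card_pow_prime q (n := b) (by
        rw [hn, hab]; exact Dvd.intro_left _ rfl)
      have hQp : IsPGroup q Q := IsPGroup.of_card hQ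
      have : Nontrivial Q := by
        rw [← Finite.one_lt_card_iff_nontrivial, hQ]
        exact Nat.one_lt_pow hbpos.ne' hq.one_lt
      have : Nontrivial (Subgroup.center Q) := hQp.center_nontrivial
      obtain ⟨z, hz⟩ := exists_ne (1 : Subgroup.center Q)
      have hg1 : ((z : Q) : G) ≠ 1 := by
        intro h
        apply hz
        apply Subtype.ext; apply Subtype.ext
        exact h
      have hQle : Q ≤ Subgroup.centralizer ({((z : Q) : G)} : Set G) := by
        intro x hx
        rw [Subgroup.mem_centralizer_iff]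
        intro y hy
        rw [Set.mem_singleton_iff] at hy
        subst hy
        have := Subgroup.mem_center_iff.mp z.2 ⟨x, hx⟩
        exact (congrArg Subtype.val this).symm
      have hidx : Q.index = p ^ a := by
        have := Q.card_mul_index
        rw [hQ, hn, hab, mul_comm] at this
        exact Nat.eq_of_mul_eq_mul_right (pow_pos hq.pos b) this
      have hdvd : (Subgroup.centralizer ({((z : Q) : G)} : Set G)).index ∣ p ^ a :=
        hidx ▸ Subgroup.index_dvd_of_le hQle
      obtain ⟨k, _, hk⟩ := (Nat.dvd_prime_pow hp).mp hdvd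
      have hprime := B G p k hp _ hg1 hk
      have := Fact.mk hprime
      have hcyc : IsCyclic G := isCyclic_of_prime_card rfl
      have hcomm : IsMulCommutative G := IsCyclic.isMulCommutative
      exact Group.isSolvable_of_comm (isMulCommutative_iff.mp hcomm)


/-- **Burnside's `p^a q^b` theorem.** -/
theorem isSolvable_of_card_pq {G : Type u} [Group G] [Finite G] (p q a b : ℕ) (hp : p.Prime) (hq : q.Prime)
    (hcard : Nat.card G = p ^ a * q ^ b) : Group.IsSolvable G :=
  isSolvable_of_card_pq_aux (fun G _ _ _ p k hp g hg h => prime_card_of_class_prime_pow p k hp g hg h)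
    p q hp hq _ G rfl ⟨a, b, hcard⟩

end Cfsg.Agent.CharLib
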