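import Mathlib
import Cfsg.Agent.Lib.Lead.CharBurnside
/-! Counting solutions of the commutator equation via characters (Frobenius formula). -/
set_option autoImplicit false
open Representation Module
open scoped ComplexConjugate
namespace Cfsg.Agent.CharLib
universe u v
variable {G : Type u} [Group G]

/-- `∑ a, χ(a y a⁻¹ x) = |G| χ(y) χ(x) / χ(1)` for an irreducible character. -/
theorem sum_char_conj_mul [Fintype G] {V : Type v} [AddCommGroup V] [Module ℂ V] [FiniteDimensional ℂ V]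
    (ρ : Representation ℂ G V) [ρ.IsIrreducible] (y x : G) :
    ∑ a : G, ρ.character (a * y * a⁻¹ * x) =
      (Nat.card G : ℂ) * ρ.character y * ρ.character x / (finrank ℂ V : ℂ) := by
  let T : Module.End ℂ V := ∑ a : G, ρ (a * y * a⁻¹)
  have hT : ∀ h : G, T ∘ₗ ρ h = ρ h ∘ₗ T := by
    intro h
    simp only [T]
    rw [← Module.End.mul_eq_comp, ← Module.End.mul_eq_comp, Finset.sum_mul, Finset.mul_sum]
    rw [← Equiv.sum_comp (Equiv.mulLeft h) (fun a => ρ (a * y * a⁻¹) * ρ h)]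
    apply Finset.sum_congr rfl
    intro a _
    simp only [Equiv.coe_mulLeft]
    rw [← map_mul, ← map_mul]
    congr 1
    group
  obtain ⟨c, hc⟩ := Cfsg.Agent.Lib.Helper24.exists_eq_smul_one_of_comm ρ T hT
  have hpos := Cfsg.Agent.Lib.Helper24.finrank_pos_of_isIrreducible ρ
  have hn : (finrank ℂ V : ℂ) ≠ 0 := by exact_mod_cast hpos.ne'
  have htr : LinearMap.trace ℂ V T = (Nat.card G : ℂ) * ρ.character y := by
    simp only [T, map_sum]
    have : ∀ a : G, LinearMap.trace ℂ V (ρ (a * y * a⁻¹)) = ρ.character y := fun a => char_conj ρ y a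
    rw [Finset.sum_congr rfl (fun a _ => this a), Finset.sum_const, Finset.card_univ, nsmul_eq_mul,
      Nat.card_eq_fintype_card]
  have hc' : c = (Nat.card G : ℂ) * ρ.character y / (finrank ℂ V : ℂ) := by
    rw [hc, map_smul, LinearMap.trace_one, smul_eq_mul] at htr
    rw [← htr]; field_simp
  have h1 : ∑ a : G, ρ.character (a * y * a⁻¹ * x) = LinearMap.trace ℂ V (T * ρ x) := by
    simp only [T, Finset.sum_mul, map_sum, Representation.character]
    apply Finset.sum_congr rfl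
    intro a _
    rw [← map_mul]
  rw [h1, hc, smul_mul_assoc, one_mul, map_smul, smul_eq_mul, hc']
  simp only [Representation.character]
  ring

/-- `∑ b, χ(b⁻¹) χ(b h) = |G| χ(h) / χ(1)` for an irreducible character. -/
theorem sum_char_inv_mul_char [Fintype G] {V : Type v} [AddCommGroup V] [Module ℂ V] [FiniteDimensional ℂ V]
    (ρ : Representation ℂ G V) [hirr : ρ.IsIrreducible] (h : G) :
    ∑ b : G, ρ.character b⁻¹ * ρ.character (b * h) =
      (Nat.card G : ℂ) * ρ.character h / (finrank ℂ V : ℂ) := by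
  have hcf : ∀ g k : G, (fun b => ρ.character b⁻¹) (k * g * k⁻¹) = (fun b => ρ.character b⁻¹) g := by
    intro g k
    simp only
    have : (k * g * k⁻¹)⁻¹ = k * g⁻¹ * k⁻¹ := by group
    rw [this, char_conj]
  have h1 := Cfsg.Agent.Lib.Helper24.coeffSum_eq_omega_smul ρ (fun b => ρ.character b⁻¹) hcf
  have hpos := Cfsg.Agent.Lib.Helper24.finrank_pos_of_isIrreducible ρ
  have hn : (finrank ℂ V : ℂ) ≠ 0 := by exact_mod_cast hpos.ne'
  have hω : Cfsg.Agent.Lib.Helper24.omega ρ (fun b => ρ.character b⁻¹) =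
      (Nat.card G : ℂ) / (finrank ℂ V : ℂ) := by
    unfold Cfsg.Agent.Lib.Helper24.omega
    congr 1
    have hirrc : IsIrrCharacter G ρ.character := isIrrCharacter_of_rep ρ hirr
    have := classInner_irr hirrc hirrc
    rw [if_pos rfl] at this
    simp only [classInner] at this
    have hG : (Nat.card G : ℂ) ≠ 0 := card_ne_zero_complex
    have h2 : ∑ g : G, ρ.character g * conj (ρ.character g) = (Nat.card G : ℂ) := by
      field_simp at this
      linear_combination this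
    rw [← h2]
    apply Finset.sum_congr rfl
    intro g _
    show ρ.character g⁻¹ * ρ.character g = _
    rw [char_inv, mul_comm]
  have h3 : ∑ b : G, ρ.character b⁻¹ * ρ.character (b * h) =
      LinearMap.trace ℂ V (Cfsg.Agent.Lib.Helper24.coeffSum ρ (fun b => ρ.character b⁻¹) * ρ h) := by
    unfold Cfsg.Agent.Lib.Helper24.coeffSum
    simp only [Finset.sum_mul, map_sum, smul_mul_assoc, map_smul, smul_eq_mul]
    apply Finset.sum_congr rfl
    intro b _
    rw [← map_mul]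
    rfl
  rw [h3, h1, hω, smul_mul_assoc, one_mul, map_smul, smul_eq_mul]
  simp only [Representation.character]
  ring


/-- The delta function at the identity in terms of irreducible characters. -/
theorem delta_one_eq_sum_irr [Fintype G] [Fintype (IrrCharacter G)] (x : G) [Decidable (x = 1)] :
    (if x = 1 then (1 : ℂ) else 0) =
      (Nat.card G : ℂ)⁻¹ * ∑ χ : IrrCharacter G, (χ : G → ℂ) 1 * (χ : G → ℂ) x := by
  classical
  have h := congrFun (leftRegular_character_eq_finsum (G := G)) x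
  rw [leftRegular_character, finsum_eq_sum_of_fintype, Finset.sum_apply] at h
  simp only [Pi.smul_apply, smul_eq_mul] at h
  rw [← h]
  have hG : (Nat.card G : ℂ) ≠ 0 := card_ne_zero_complex
  split_ifs with hx
  · rw [inv_mul_cancel₀ hG]
  · rw [mul_zero]

/-- The number of pairs `(a, b)` with `a b a⁻¹ b⁻¹ = g` is `|G| ∑ χ, conj (χ g) / χ 1`. -/
theorem card_commutator_pairs [Fintype G] [Fintype (IrrCharacter G)] (g : G) :
    (Nat.card {p : G × G // p.1 * p.2 * p.1⁻¹ * p.2⁻¹ = g} : ℂ) =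
      (Nat.card G : ℂ) * ∑ χ : IrrCharacter G, conj ((χ : G → ℂ) g) / (χ : G → ℂ) 1 := by
  classical
  have hG : (Nat.card G : ℂ) ≠ 0 := card_ne_zero_complex
  have h1 : (Nat.card {p : G × G // p.1 * p.2 * p.1⁻¹ * p.2⁻¹ = g} : ℂ) =
      ∑ b : G, ∑ a : G, (if a * b * a⁻¹ * b⁻¹ * g⁻¹ = 1 then (1 : ℂ) else 0) := by
    rw [Nat.card_eq_fintype_card, Fintype.card_subtype, Finset.card_filter]
    push_cast
    rw [Fintype.sum_prod_type, Finset.sum_comm]
    apply Finset.sum_congr rfl; intro b _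
    apply Finset.sum_congr rfl; intro a _
    have : a * b * a⁻¹ * b⁻¹ = g ↔ a * b * a⁻¹ * b⁻¹ * g⁻¹ = 1 := by
      rw [mul_inv_eq_one]
    simp only [this]
  rw [h1]
  simp only [delta_one_eq_sum_irr]
  simp only [← Finset.mul_sum]
  rw [Finset.sum_congr rfl (fun b _ => Finset.sum_comm)]
  rw [Finset.sum_comm]
  -- now: |G|⁻¹ * ∑ χ, ∑ b, ∑ a, χ 1 * χ (a b a⁻¹ b⁻¹ g⁻¹)
  have key : ∀ χ : IrrCharacter G, ∑ b : G, ∑ a : G, (χ : G → ℂ) 1 * (χ : G → ℂ) (a * b * a⁻¹ * b⁻¹ * g⁻¹) =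
      (Nat.card G : ℂ) * ((Nat.card G : ℂ) * (conj ((χ : G → ℂ) g) / (χ : G → ℂ) 1)) := by
    intro χ
    obtain ⟨n, ρ, hirr, hρ⟩ := χ.2
    have hfr : finrank ℂ (Fin n → ℂ) = n := by simp
    have hχ1 : (χ : G → ℂ) 1 = n := by rw [← hρ]; simp
    have hnpos : 0 < n := by
      have := Cfsg.Agent.Lib.Helper24.finrank_pos_of_isIrreducible ρ
      rwa [hfr] at this
    have hn : (n : ℂ) ≠ 0 := by exact_mod_cast hnpos.ne'
    have ha : ∀ b : G, ∑ a : G, (χ : G → ℂ) 1 * (χ : G → ℂ) (a * b * a⁻¹ * b⁻¹ * g⁻¹) =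
        (Nat.card G : ℂ) * ((χ : G → ℂ) b * (χ : G → ℂ) (b⁻¹ * g⁻¹)) := by
      intro b
      rw [← Finset.mul_sum, hχ1, ← hρ]
      have := sum_char_conj_mul ρ b (b⁻¹ * g⁻¹)
      have h2 : ∀ a : G, a * b * a⁻¹ * b⁻¹ * g⁻¹ = a * b * a⁻¹ * (b⁻¹ * g⁻¹) := fun a => by group
      simp only [h2]
      rw [this, hfr]
      field_simp
    rw [Finset.sum_congr rfl (fun b _ => ha b), ← Finset.mul_sum]
    congr 1
    rw [← Equiv.sum_comp (Equiv.inv G) (fun b => (χ : G → ℂ) b * (χ : G → ℂ) (b⁻¹ * g⁻¹))]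
    simp only [Equiv.inv_apply, inv_inv]
    rw [← hρ, sum_char_inv_mul_char ρ g⁻¹, hfr, char_inv, hρ, hχ1]
    field_simp
  rw [Finset.sum_congr rfl (fun χ _ => key χ), ← Finset.mul_sum, ← Finset.mul_sum, ← mul_assoc,
    inv_mul_cancel₀ hG, one_mul]

/-- `g` is a commutator iff `∑ χ(g)/χ(1) ≠ 0` (S0167). -/
theorem isCommutator_iff_finsum_ne_zero [Finite G] (g : G) :
    (∃ a b : G, g = a * b * a⁻¹ * b⁻¹) ↔
      ∑ᶠ χ : IrrCharacter G, (χ : G → ℂ) g / (χ : G → ℂ) 1 ≠ 0 := by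
  classical
  let _ := Fintype.ofFinite G
  let _ := fintypeIrr G
  have hG : (Nat.card G : ℂ) ≠ 0 := card_ne_zero_complex
  have hcount := card_commutator_pairs g
  have hconj : ∑ χ : IrrCharacter G, conj ((χ : G → ℂ) g) / (χ : G → ℂ) 1 =
      conj (∑ χ : IrrCharacter G, (χ : G → ℂ) g / (χ : G → ℂ) 1) := by
    rw [map_sum]
    apply Finset.sum_congr rfl
    intro χ _
    rw [map_div₀, IsCharacter.conj_apply_one (IsIrrCharacter.isCharacter χ.2)]
  rw [finsum_eq_sum_of_fintype]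
  constructor
  · rintro ⟨a, b, hab⟩ h0
    rw [hconj, h0, map_zero, mul_zero] at hcount
    have : Nat.card {p : G × G // p.1 * p.2 * p.1⁻¹ * p.2⁻¹ = g} = 0 := by exact_mod_cast hcount
    have hne : Nonempty {p : G × G // p.1 * p.2 * p.1⁻¹ * p.2⁻¹ = g} := ⟨⟨(a, b), hab.symm⟩⟩
    exact (Nat.card_pos (α := {p : G × G // p.1 * p.2 * p.1⁻¹ * p.2⁻¹ = g})).ne' this
  · intro hne
    have hne' : (Nat.card {p : G × G // p.1 * p.2 * p.1⁻¹ * p.2⁻¹ = g} : ℂ) ≠ 0 := by
      rw [hcount, hconj]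
      exact mul_ne_zero hG ((map_ne_zero _).mpr hne)
    have : Nat.card {p : G × G // p.1 * p.2 * p.1⁻¹ * p.2⁻¹ = g} ≠ 0 := by exact_mod_cast hne'
    obtain ⟨⟨⟨a, b⟩, hab⟩⟩ := (Nat.card_pos_iff.mp (Nat.pos_of_ne_zero this)).1
    exact ⟨a, b, hab.symm⟩


/-- The number of pairs `(a, b)` with `a b a⁻¹ b⁻¹ = g` is `|G| ∑ χ, χ g / χ 1` (S4856). -/
theorem card_commutator_pairs' [Finite G] (g : G) :
    (Nat.card {p : G × G // p.1 * p.2 * p.1⁻¹ * p.2⁻¹ = g} : ℂ) =
      (Nat.card G : ℂ) * ∑ᶠ χ : IrrCharacter G, (χ : G → ℂ) g / (χ : G → ℂ) 1 := by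
  classical
  let _ := Fintype.ofFinite G
  let _ := fintypeIrr G
  have hcount := card_commutator_pairs g
  have hconj : ∑ χ : IrrCharacter G, conj ((χ : G → ℂ) g) / (χ : G → ℂ) 1 =
      conj (∑ χ : IrrCharacter G, (χ : G → ℂ) g / (χ : G → ℂ) 1) := by
    rw [map_sum]
    apply Finset.sum_congr rfl
    intro χ _
    rw [map_div₀, IsCharacter.conj_apply_one (IsIrrCharacter.isCharacter χ.2)]
  rw [finsum_eq_sum_of_fintype]
  have h2 := congrArg conj hcount
  rw [hconj, map_mul, Complex.conj_conj, Complex.conj_natCast, Complex.conj_natCast] at h2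
  exact h2

end Cfsg.Agent.CharLib
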