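/-
Character theory bridge library (lead), part 9: abelian groups and degrees, automorphisms acting on characters
(Brauer's permutation lemma).
-/
import Mathlib
import Cfsg.Prelude.Def_Characters
import Cfsg.Agent.Lib.Lead.CharMain

set_option autoImplicit false

namespace Cfsg.Agent.CharLib

open Representation Module
open scoped ComplexConjugate

universe u v

variable {G : Type u} [Group G]


theorem comm_iff_forall_irr_apply_one [Finite G] :
    (∀ a b : G, a * b = b * a) ↔ ∀ χ : IrrCharacter G, (χ : G → ℂ) 1 = 1 := by
  classical
  constructor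
  · intro hcomm χ
    obtain ⟨n, ρ, hirr, hρ⟩ := χ.2
    have : IsMulCommutative G := isMulCommutative_iff.mpr hcomm
    have h1 := IsIrreducible.finrank_eq_one_of_isMulCommutative ρ
    rw [← hρ, char_one, h1]; simp
  · intro h a b
    let _ := fintypeIrr G
    have h1 := finsum_irr_apply_one_sq (G := G)
    rw [finsum_eq_sum_of_fintype] at h1
    simp only [h, one_pow, Finset.sum_const, Finset.card_univ, nsmul_eq_mul, mul_one] at h1
    have h2 : Nat.card (IrrCharacter G) = Nat.card G := by
      rw [Nat.card_eq_fintype_card]; exact_mod_cast h1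
    rw [card_irrCharacter] at h2
    have hbij : Function.Bijective (ConjClasses.mk : G → ConjClasses G) := by
      rw [Nat.bijective_iff_surjective_and_card]
      exact ⟨ConjClasses.mk_surjective, h2.symm⟩
    have h3 : ConjClasses.mk (b * a * b⁻¹) = ConjClasses.mk a := by
      rw [ConjClasses.mk_eq_mk_iff_isConj]
      exact (isConj_iff.mpr ⟨b, rfl⟩).symm
    have h4 := hbij.1 h3
    calc a * b = (b * a * b⁻¹) * b := by rw [h4]
      _ = b * a := by group



/-- Composing an irreducible representation with a surjective homomorphism gives an irreducible representation. -/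
theorem isIrreducible_comp_of_surjective {H : Type*} [Group H] {V : Type v} [AddCommGroup V] [Module ℂ V]
    (ρ : Representation ℂ G V) (hirr : ρ.IsIrreducible) (f : H →* G) (hf : Function.Surjective f) :
    Representation.IsIrreducible (MonoidHom.comp ρ f : Representation ℂ H V) := by
  have hnt : Nontrivial (Subrepresentation ρ) := hirr.toNontrivial
  let push : Subrepresentation (MonoidHom.comp ρ f : Representation ℂ H V) → Subrepresentation ρ := fun W =>
    ⟨W.toSubmodule, by
      intro g v hv
      obtain ⟨h, rfl⟩ := hf g
      exact W.apply_mem_toSubmodule h hv⟩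
  have hpush_inj : Function.Injective push := by
    intro A B hAB
    apply Subrepresentation.toSubmodule_injective
    exact congrArg (fun W : Subrepresentation ρ => W.toSubmodule) hAB
  refine { exists_pair_ne := ⟨⊥, ⊤, ?_⟩, eq_bot_or_eq_top := ?_ }
  · intro hbt
    have h1 : (⊥ : Submodule ℂ V) = ⊤ := congrArg Subrepresentation.toSubmodule hbt
    have : (⊥ : Subrepresentation ρ) = ⊤ := Subrepresentation.toSubmodule_injective h1
    exact bot_ne_top this
  · intro A
    rcases hirr.eq_bot_or_eq_top (push A) with h1 | h1
    · left; apply hpush_inj; rw [h1]; rfl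
    · right; apply hpush_inj; rw [h1]; rfl

theorem IsIrrCharacter.comp_mulEquiv {H : Type*} [Group H] {χ : G → ℂ} (hχ : IsIrrCharacter G χ) (α : H ≃* G) :
    IsIrrCharacter H (χ ∘ α) := by
  obtain ⟨n, ρ, hirr, rfl⟩ := hχ
  exact ⟨n, (MonoidHom.comp ρ α.toMonoidHom : Representation ℂ H (Fin n → ℂ)),
    isIrreducible_comp_of_surjective ρ hirr α.toMonoidHom α.surjective, rfl⟩



/-- Brauer's permutation lemma for an automorphism: it fixes as many classes as irreducible characters. -/
theorem card_fixed_classes_eq_card_fixed_irr [Finite G] (α : G ≃* G) :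
    Nat.card {C : ConjClasses G // ConjClasses.map α.toMonoidHom C = C} =
      Nat.card {χ : IrrCharacter G // (χ : G → ℂ) ∘ α = (χ : G → ℂ)} := by
  classical
  let _ := Fintype.ofFinite G
  let _ := fintypeIrr G
  have hG : (Nat.card G : ℂ) ≠ 0 := card_ne_zero_complex
  -- (i)
  have h1 : ∑ χ : IrrCharacter G, classInner ((χ : G → ℂ) ∘ α) (χ : G → ℂ) =
      (Nat.card {χ : IrrCharacter G // (χ : G → ℂ) ∘ α = (χ : G → ℂ)} : ℂ) := by
    have : ∀ χ : IrrCharacter G, classInner ((χ : G → ℂ) ∘ α) (χ : G → ℂ) =
        if (χ : G → ℂ) ∘ α = (χ : G → ℂ) then 1 else 0 := fun χ =>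
      classInner_irr (IsIrrCharacter.comp_mulEquiv χ.2 α) χ.2
    simp only [this]
    rw [Finset.sum_ite, Finset.sum_const_zero, add_zero, Finset.sum_const, nsmul_eq_mul, mul_one,
      Nat.card_eq_fintype_card, Fintype.card_subtype]
  -- (ii)
  have h2 : ∑ χ : IrrCharacter G, classInner ((χ : G → ℂ) ∘ α) (χ : G → ℂ) =
      ∑ g : G, (Nat.card G : ℂ)⁻¹ *
        (classIndicator g (α g) * (Nat.card (Subgroup.centralizer ({g} : Set G)) : ℂ)) := by
    simp only [classInner, Function.comp_apply]
    rw [← Finset.mul_sum, Finset.sum_comm, ← Finset.mul_sum]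
    congr 1
    apply Finset.sum_congr rfl
    intro g _
    exact sum_irr_mul_conj (α g) g
  -- (iii)
  have h3 : ∑ g : G, (Nat.card G : ℂ)⁻¹ *
        (classIndicator g (α g) * (Nat.card (Subgroup.centralizer ({g} : Set G)) : ℂ)) =
      (Nat.card {C : ConjClasses G // ConjClasses.map α.toMonoidHom C = C} : ℂ) := by
    rw [← Finset.sum_fiberwise Finset.univ (ConjClasses.mk : G → ConjClasses G)]
    have hC : ∀ C : ConjClasses G,
        ∑ g ∈ Finset.univ.filter (fun g : G => ConjClasses.mk g = C), (Nat.card G : ℂ)⁻¹ *
          (classIndicator g (α g) * (Nat.card (Subgroup.centralizer ({g} : Set G)) : ℂ)) =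
        if ConjClasses.map α.toMonoidHom C = C then 1 else 0 := by
      intro C
      have hterm : ∀ g ∈ Finset.univ.filter (fun g : G => ConjClasses.mk g = C),
          (Nat.card G : ℂ)⁻¹ *
            (classIndicator g (α g) * (Nat.card (Subgroup.centralizer ({g} : Set G)) : ℂ)) =
          if ConjClasses.map α.toMonoidHom C = C then
            ((Finset.univ.filter (fun g : G => ConjClasses.mk g = C)).card : ℂ)⁻¹ else 0 := by
        intro g hg
        rw [Finset.mem_filter] at hg
        have hgC := hg.2
        have hfix : IsConj (α g) g ↔ ConjClasses.map α.toMonoidHom C = C := by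
          rw [← hgC, ← ConjClasses.mk_eq_mk_iff_isConj]
          rfl
        simp only [classIndicator]
        by_cases hf : ConjClasses.map α.toMonoidHom C = C
        · rw [if_pos hf, if_pos (hfix.mpr hf), one_mul]
          have hcard := card_conj_mul_card_centralizer g
          have hN : Nat.card {x : G // IsConj x g} =
              (Finset.univ.filter (fun g : G => ConjClasses.mk g = C)).card := by
            rw [Nat.card_eq_fintype_card, Fintype.card_subtype]
            congr 1
            ext x
            simp only [Finset.mem_filter, Finset.mem_univ, true_and]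
            rw [← hgC, ConjClasses.mk_eq_mk_iff_isConj]
          rw [hN] at hcard
          have hcardC : ((Finset.univ.filter (fun g : G => ConjClasses.mk g = C)).card : ℂ) *
              (Nat.card (Subgroup.centralizer ({g} : Set G)) : ℂ) = (Nat.card G : ℂ) := by
            exact_mod_cast hcard
          have hNne : ((Finset.univ.filter (fun g : G => ConjClasses.mk g = C)).card : ℂ) ≠ 0 := by
            intro h0; rw [h0, zero_mul] at hcardC; exact hG hcardC.symm
          rw [← hcardC]
          field_simp
        · rw [if_neg hf, if_neg (fun h => hf (hfix.mp h)), zero_mul, mul_zero]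
      rw [Finset.sum_congr rfl hterm]
      by_cases hf : ConjClasses.map α.toMonoidHom C = C
      · simp only [if_pos hf, Finset.sum_const, nsmul_eq_mul]
        have hne : (Finset.univ.filter (fun g : G => ConjClasses.mk g = C)).card ≠ 0 := by
          obtain ⟨g, rfl⟩ := ConjClasses.mk_surjective C
          exact Finset.card_ne_zero.mpr ⟨g, by simp⟩
        rw [mul_inv_cancel₀ (by exact_mod_cast hne)]
      · simp only [if_neg hf, Finset.sum_const_zero]
    rw [Finset.sum_congr rfl (fun C _ => hC C), Finset.sum_ite, Finset.sum_const_zero, add_zero,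
      Finset.sum_const, nsmul_eq_mul, mul_one, Nat.card_eq_fintype_card, Fintype.card_subtype]
  have := h1.symm.trans (h2.trans h3)
  exact_mod_cast this.symm


end Cfsg.Agent.CharLib
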