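import Mathlib
import Cfsg.Agent.Lib.Lead.CharCount
import Cfsg.Agent.Lib.Lead.CharMore
import Cfsg.Agent.Lib.Helper6.CharNorm
/-! Involution count, Brauer permutation lemma (general form), real characters and real classes. -/
set_option autoImplicit false
open Representation Module
open scoped ComplexConjugate
namespace Cfsg.Agent.CharLib
universe u v
variable {G : Type u} [Group G]


/-- The number of solutions of `s * s = 1` is `∑ χ, ν(χ) χ(1)` (S0159). -/
theorem card_sq_eq_one [Fintype G] :
    (Nat.card {s : G // s * s = 1} : ℂ) =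
      ∑ᶠ χ : IrrCharacter G, ((Nat.card G : ℂ)⁻¹ * ∑ s : G, (χ : G → ℂ) (s * s)) * (χ : G → ℂ) 1 := by
  classical
  let _ := fintypeIrr G
  rw [finsum_eq_sum_of_fintype]
  have h1 : (Nat.card {s : G // s * s = 1} : ℂ) = ∑ s : G, (if s * s = 1 then (1 : ℂ) else 0) := by
    rw [Nat.card_eq_fintype_card, Fintype.card_subtype, Finset.card_filter]
    push_cast
    rfl
  rw [h1]
  simp only [delta_one_eq_sum_irr]
  rw [← Finset.mul_sum, Finset.sum_comm]
  simp only [Finset.mul_sum, Finset.sum_mul]
  apply Finset.sum_congr rfl; intro χ _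
  apply Finset.sum_congr rfl; intro s _
  ring



/-- Brauer's permutation lemma for a general map `f : G → G` preserving conjugacy and
irreducible characters. -/
theorem card_fixed_classes_eq_card_fixed_irr' [Finite G] (f : G → G)
    (hf1 : ∀ χ : G → ℂ, IsIrrCharacter G χ → IsIrrCharacter G (χ ∘ f))
    (hf2 : ∀ g h : G, IsConj g h → IsConj (f g) (f h)) :
    Nat.card {C : ConjClasses G // ∀ g : G, ConjClasses.mk g = C → IsConj (f g) g} =
      Nat.card {χ : IrrCharacter G // (χ : G → ℂ) ∘ f = (χ : G → ℂ)} := by
  classical
  let _ := Fintype.ofFinite G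
  let _ := fintypeIrr G
  have hG : (Nat.card G : ℂ) ≠ 0 := card_ne_zero_complex
  -- (i)
  have h1 : ∑ χ : IrrCharacter G, classInner ((χ : G → ℂ) ∘ f) (χ : G → ℂ) =
      (Nat.card {χ : IrrCharacter G // (χ : G → ℂ) ∘ f = (χ : G → ℂ)} : ℂ) := by
    have : ∀ χ : IrrCharacter G, classInner ((χ : G → ℂ) ∘ f) (χ : G → ℂ) =
        if (χ : G → ℂ) ∘ f = (χ : G → ℂ) then 1 else 0 := fun χ =>
      classInner_irr (hf1 _ χ.2) χ.2
    simp only [this]
    rw [Finset.sum_ite, Finset.sum_const_zero, add_zero, Finset.sum_const, nsmul_eq_mul, mul_one,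
      Nat.card_eq_fintype_card, Fintype.card_subtype]
  -- (ii)
  have h2 : ∑ χ : IrrCharacter G, classInner ((χ : G → ℂ) ∘ f) (χ : G → ℂ) =
      ∑ g : G, (Nat.card G : ℂ)⁻¹ *
        (classIndicator g (f g) * (Nat.card (Subgroup.centralizer ({g} : Set G)) : ℂ)) := by
    simp only [classInner, Function.comp_apply]
    rw [← Finset.mul_sum, Finset.sum_comm, ← Finset.mul_sum]
    congr 1
    apply Finset.sum_congr rfl
    intro g _
    exact sum_irr_mul_conj (f g) g
  -- (iii)
  have h3 : ∑ g : G, (Nat.card G : ℂ)⁻¹ *
        (classIndicator g (f g) * (Nat.card (Subgroup.centralizer ({g} : Set G)) : ℂ)) =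
      (Nat.card {C : ConjClasses G // ∀ g : G, ConjClasses.mk g = C → IsConj (f g) g} : ℂ) := by
    rw [← Finset.sum_fiberwise Finset.univ (ConjClasses.mk : G → ConjClasses G)]
    have hC : ∀ C : ConjClasses G,
        ∑ g ∈ Finset.univ.filter (fun g : G => ConjClasses.mk g = C), (Nat.card G : ℂ)⁻¹ *
          (classIndicator g (f g) * (Nat.card (Subgroup.centralizer ({g} : Set G)) : ℂ)) =
        if (∀ g : G, ConjClasses.mk g = C → IsConj (f g) g) then 1 else 0 := by
      intro C
      have hterm : ∀ g ∈ Finset.univ.filter (fun g : G => ConjClasses.mk g = C),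
          (Nat.card G : ℂ)⁻¹ *
            (classIndicator g (f g) * (Nat.card (Subgroup.centralizer ({g} : Set G)) : ℂ)) =
          if (∀ g : G, ConjClasses.mk g = C → IsConj (f g) g) then
            ((Finset.univ.filter (fun g : G => ConjClasses.mk g = C)).card : ℂ)⁻¹ else 0 := by
        intro g hg
        rw [Finset.mem_filter] at hg
        have hgC := hg.2
        have hfix : IsConj (f g) g ↔ (∀ g : G, ConjClasses.mk g = C → IsConj (f g) g) := by
          constructor
          · intro h g' hg'
            have hgg' : IsConj g' g := by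
              rw [← ConjClasses.mk_eq_mk_iff_isConj, hg', hgC]
            exact ((hf2 g' g hgg').trans h).trans hgg'.symm
          · intro h
            exact h g hgC
        simp only [classIndicator]
        by_cases hf : (∀ g : G, ConjClasses.mk g = C → IsConj (f g) g)
        · rw [if_pos hf, if_pos (hfix.mpr hf), one_mul]
          have hcard := card_conj_mul_card_centralizer g
          have hN : Nat.card {x : G // IsConj x g} =
              (Finset.univ.filter (fun g : G => ConjClasses.mk g = C)).card := by
            rw [Nat.card_eq_fintype_card, Fintype.card_subtype]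
            congr 1
            ext x
            simp only [Finset.mem_filter, Finset.mem_univ, true_and]
            rw [← hgC, ConjClasses.mk_eq_mk_iff_isConj]
          rw [hN] at hcard
          have hcardC : ((Finset.univ.filter (fun g : G => ConjClasses.mk g = C)).card : ℂ) *
              (Nat.card (Subgroup.centralizer ({g} : Set G)) : ℂ) = (Nat.card G : ℂ) := by
            exact_mod_cast hcard
          have hNne : ((Finset.univ.filter (fun g : G => ConjClasses.mk g = C)).card : ℂ) ≠ 0 := by
            intro h0; rw [h0, zero_mul] at hcardC; exact hG hcardC.symm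
          rw [← hcardC]
          field_simp
        · rw [if_neg hf, if_neg (fun h => hf (hfix.mp h)), zero_mul, mul_zero]
      rw [Finset.sum_congr rfl hterm]
      by_cases hf : (∀ g : G, ConjClasses.mk g = C → IsConj (f g) g)
      · simp only [if_pos hf, Finset.sum_const, nsmul_eq_mul]
        have hne : (Finset.univ.filter (fun g : G => ConjClasses.mk g = C)).card ≠ 0 := by
          obtain ⟨g, rfl⟩ := ConjClasses.mk_surjective C
          exact Finset.card_ne_zero.mpr ⟨g, by simp⟩
        rw [mul_inv_cancel₀ (by exact_mod_cast hne)]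
      · simp only [if_neg hf, Finset.sum_const_zero]
    rw [Finset.sum_congr rfl (fun C _ => hC C), Finset.sum_ite, Finset.sum_const_zero, add_zero,
      Finset.sum_const, nsmul_eq_mul, mul_one, Nat.card_eq_fintype_card, Fintype.card_subtype]
  have := h1.symm.trans (h2.trans h3)
  exact_mod_cast this.symm

/-- The complex conjugate of an irreducible character is irreducible. -/
theorem IsIrrCharacter.conj' [Finite G] {χ : G → ℂ} (hχ : IsIrrCharacter G χ) :
    IsIrrCharacter G (fun g => conj (χ g)) := by
  classical
  let _ := Fintype.ofFinite G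
  have hc : IsCharacter G (fun g => conj (χ g)) := IsCharacter.conj (IsIrrCharacter.isCharacter hχ)
  apply Cfsg.Agent.Lib.Helper6.isIrrCharacter_of_classInner_self_eq_one hc
  have h1 := classInner_irr hχ hχ
  rw [if_pos rfl] at h1
  rw [← h1]
  simp only [classInner]
  congr 1
  apply Finset.sum_congr rfl
  intro g _
  rw [Complex.conj_conj, mul_comm]

/-- The number of real-valued irreducible characters equals the number of real classes (S0160). -/
theorem card_real_irr_eq_card_real_classes [Finite G] :
    Nat.card {χ : IrrCharacter G // ∀ g : G, ((χ : G → ℂ) g).im = 0} =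
      Nat.card {C : ConjClasses G // ∀ g : G, ConjClasses.mk g = C → IsConj g g⁻¹} := by
  classical
  have hinv : ∀ (χ : G → ℂ), IsIrrCharacter G χ → χ ∘ (fun g => g⁻¹) = fun g => conj (χ g) := by
    intro χ hχ
    funext g
    exact IsCharacter.apply_inv (IsIrrCharacter.isCharacter hχ) g
  have key := card_fixed_classes_eq_card_fixed_irr' (G := G) (fun g => g⁻¹)
    (fun χ hχ => by rw [hinv χ hχ]; exact IsIrrCharacter.conj' hχ)
    (fun g h hgh => by
      obtain ⟨c, hc⟩ := isConj_iff.mp hgh
      exact isConj_iff.mpr ⟨c, by rw [← hc]; group⟩)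
  have e1 : {χ : IrrCharacter G // ∀ g : G, ((χ : G → ℂ) g).im = 0} =
      {χ : IrrCharacter G // (χ : G → ℂ) ∘ (fun g => g⁻¹) = (χ : G → ℂ)} := by
    congr 1
    funext χ
    rw [hinv _ χ.2]
    apply propext
    constructor
    · intro h
      funext g
      exact Complex.conj_eq_iff_im.mpr (h g)
    · intro h g
      exact Complex.conj_eq_iff_im.mp (congrFun h g)
  have e2 : {C : ConjClasses G // ∀ g : G, ConjClasses.mk g = C → IsConj g g⁻¹} =
      {C : ConjClasses G // ∀ g : G, ConjClasses.mk g = C → IsConj ((fun g => g⁻¹) g) g} := by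
    congr 1
    funext C
    apply propext
    constructor
    · intro h g hg; exact (h g hg).symm
    · intro h g hg; exact (h g hg).symm
  rw [e1, e2, key]

end Cfsg.Agent.CharLib
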