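import Mathlib
import Cfsg.Agent.Lib.Lead.CharFS
/-! Galois action on character values (cyclotomic fields); Burnside's theorem on zeros; rational-valued characters. -/
set_option linter.style.haveILetI false
set_option autoImplicit false
open Representation Module
open scoped ComplexConjugate
namespace Cfsg.Agent.CharLib
universe u v w

section
variable (N : ℕ) [NeZero N] (K : Type w) [Field K] [Algebra ℚ K] [IsCyclotomicExtension {N} ℚ K]

theorem irreducible_cyclotomic_rat_lead : Irreducible (Polynomial.cyclotomic N ℚ) :=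
  Polynomial.cyclotomic.irreducible_rat (NeZero.pos N)

/-- The power `k` (as a natural number `< N`) by which a Galois automorphism of `ℚ(ζ_N)` acts on
`N`-th roots of unity. -/
noncomputable def galExp (σ : K ≃ₐ[ℚ] K) : ℕ :=
  ((IsCyclotomicExtension.autEquivPow K (irreducible_cyclotomic_rat_lead N) σ :
    (ZMod N)ˣ) : ZMod N).val

theorem galExp_coprime (σ : K ≃ₐ[ℚ] K) : (galExp N K σ).Coprime N := ZMod.val_coe_unit_coprime _

theorem galExp_spec (σ : K ≃ₐ[ℚ] K) :
    σ (IsCyclotomicExtension.zeta N ℚ K) = (IsCyclotomicExtension.zeta N ℚ K) ^ galExp N K σ := by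
  unfold galExp
  rw [IsCyclotomicExtension.autEquivPow_apply]
  exact (IsPrimitiveRoot.autToPow_spec ℚ (IsCyclotomicExtension.zeta_spec N ℚ K) σ).symm

/-- Every exponent coprime to `N` comes from a Galois automorphism. -/
theorem exists_gal_of_coprime (k : ℕ) (hk : k.Coprime N) :
    ∃ σ : K ≃ₐ[ℚ] K, galExp N K σ = k % N := by
  refine ⟨(IsCyclotomicExtension.autEquivPow K (irreducible_cyclotomic_rat_lead N)).symm
    (ZMod.unitOfCoprime k hk), ?_⟩
  unfold galExp
  rw [MulEquiv.apply_symm_apply, ZMod.coe_unitOfCoprime, ZMod.val_natCast]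

variable {G : Type u} [Group G] {V : Type v} [AddCommGroup V] [Module ℂ V] [FiniteDimensional ℂ V]

/-- Character values lie in the cyclotomic field, and the Galois group acts on them by powers. -/
theorem exists_cyclotomic_charVal (φ : K →+* ℂ) (ρ : Representation ℂ G V) (g : G)
    (hg : g ^ N = 1) :
    ∃ x : K, IsIntegral ℤ x ∧ φ x = ρ.character g ∧
      ∀ σ : K ≃ₐ[ℚ] K, φ (σ x) = ρ.character (g ^ galExp N K σ) := by
  classical
  set ζ := IsCyclotomicExtension.zeta N ℚ K with hζdef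
  have hζ : IsPrimitiveRoot ζ N := IsCyclotomicExtension.zeta_spec N ℚ K
  have hζc : IsPrimitiveRoot (φ ζ) N := hζ.map_of_injective φ.injective
  have hpow : (ρ g) ^ N = 1 := by rw [← map_pow, hg, map_one]
  obtain ⟨ι, hι, b, μ, hμ1, hμ2⟩ := exists_eigenbasis_of_pow_eq_one (ρ g) N (NeZero.pos N) hpow
  have hex : ∀ i, ∃ a, a < N ∧ (φ ζ) ^ a = μ i := fun i => hζc.eq_pow_of_pow_eq_one (hμ1 i)
  choose a ha1 ha2 using hex
  have hpowj : ∀ (j : ℕ) (i : ι), ((ρ g) ^ j) (b i) = (μ i ^ j) • b i := by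
    intro j
    induction j with
    | zero => intro i; simp
    | succ j ih =>
      intro i
      rw [pow_succ, Module.End.mul_apply, hμ2 i, map_smul, ih i, smul_smul, pow_succ, mul_comm]
  have hchar : ∀ j : ℕ, ρ.character (g ^ j) = ∑ i, μ i ^ j := by
    intro j
    unfold Representation.character
    rw [map_pow]
    exact trace_eq_sum_of_eigenbasis b ((ρ g) ^ j) (fun i => μ i ^ j) (hpowj j)
  refine ⟨∑ i, ζ ^ a i, ?_, ?_, ?_⟩
  · apply IsIntegral.sum
    intro i _
    exact (hζ.isIntegral (NeZero.pos N)).pow _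
  · rw [map_sum]
    have := hchar 1
    rw [pow_one] at this
    rw [this]
    apply Finset.sum_congr rfl
    intro i _
    rw [map_pow, ha2 i, pow_one]
  · intro σ
    rw [hchar, map_sum, map_sum]
    apply Finset.sum_congr rfl
    intro i _
    rw [map_pow, galExp_spec, map_pow, map_pow, ← pow_mul, mul_comm, pow_mul, ha2 i]

end

/-- A cyclotomic field of level `N` over `ℚ` together with a complex embedding. -/
theorem exists_cyclotomic_field (N : ℕ) [NeZero N] :
    ∃ (K : Type) (_ : Field K) (_ : Algebra ℚ K) (_ : IsCyclotomicExtension {N} ℚ K),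
      Nonempty (K →+* ℂ) := by
  refine ⟨CyclotomicField N ℚ, inferInstance, CyclotomicField.algebra N ℚ, inferInstance, ?_⟩
  let _ : Algebra ℚ (CyclotomicField N ℚ) := CyclotomicField.algebra N ℚ
  have hfin : Module.Finite ℚ (CyclotomicField N ℚ) :=
    IsCyclotomicExtension.finite {N} ℚ (CyclotomicField N ℚ)
  have : Algebra.IsAlgebraic ℚ (CyclotomicField N ℚ) := Algebra.IsAlgebraic.of_finite ℚ _
  exact ⟨(IsAlgClosed.lift (R := ℚ) (S := CyclotomicField N ℚ) (M := ℂ)).toRingHom⟩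

/-- AM–GM in the form: positive reals with product at least one have sum of squares at least
their number. -/
theorem card_le_sum_sq_of_one_le_prod {ι : Type*} [Fintype ι] (a : ι → ℝ) (hpos : ∀ i, 0 < a i)
    (hprod : 1 ≤ ∏ i, a i) : (Fintype.card ι : ℝ) ≤ ∑ i, a i ^ 2 := by
  have h1 : ∀ i, 2 * Real.log (a i) + 1 ≤ a i ^ 2 := by
    intro i
    have := Real.add_one_le_exp (2 * Real.log (a i))
    have h2 : Real.exp (2 * Real.log (a i)) = a i ^ 2 := by
      rw [two_mul, Real.exp_add, Real.exp_log (hpos i)]; ring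
    rw [h2] at this
    exact this
  have h2 : ∑ i, (2 * Real.log (a i) + 1) ≤ ∑ i, a i ^ 2 := Finset.sum_le_sum (fun i _ => h1 i)
  have h3 : ∑ i, (2 * Real.log (a i) + 1) = 2 * Real.log (∏ i, a i) + Fintype.card ι := by
    rw [Finset.sum_add_distrib, ← Finset.mul_sum, Real.log_prod (fun i _ => (hpos i).ne')]
    simp
  have h4 : 0 ≤ Real.log (∏ i, a i) := Real.log_nonneg hprod
  linarith

/-- For a nonzero algebraic integer `x` of a finite Galois extension `K/ℚ` and a complex embedding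
`φ`, the sum of `|φ(σ x)|²` over the Galois group is at least the order of the Galois group. -/
theorem card_gal_le_sum_norm_sq (K : Type w) [Field K] [Algebra ℚ K] [FiniteDimensional ℚ K]
    [IsGalois ℚ K] (φ : K →+* ℂ) (x : K) (hx : IsIntegral ℤ x) (hx0 : x ≠ 0) :
    (Fintype.card (K ≃ₐ[ℚ] K) : ℝ) ≤ ∑ σ : K ≃ₐ[ℚ] K, ‖φ (σ x)‖ ^ 2 := by
  apply card_le_sum_sq_of_one_le_prod
  · intro σ
    rw [norm_pos_iff]
    intro h
    have h1 : σ x = 0 := φ.injective (by rw [h, map_zero])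
    exact hx0 ((map_eq_zero_iff σ σ.injective).mp h1)
  · have hn := Algebra.norm_eq_prod_automorphisms ℚ x
    have hint : IsIntegral ℤ (Algebra.norm ℚ x) := Algebra.isIntegral_norm ℚ hx
    obtain ⟨m, hm⟩ := IsIntegrallyClosed.isIntegral_iff.mp hint
    have hn0 : Algebra.norm ℚ x ≠ 0 := Algebra.norm_ne_zero_iff.mpr hx0
    have hm0 : m ≠ 0 := by
      intro h
      rw [h] at hm
      simp at hm
      exact hn0 hm.symm
    have h1 : ∏ σ : K ≃ₐ[ℚ] K, φ (σ x) = (m : ℂ) := by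
      rw [← map_prod, ← hn, ← hm]
      simp
    rw [← norm_prod, h1]
    have : (1 : ℝ) ≤ |(m : ℝ)| := by
      have : (1 : ℤ) ≤ |m| := Int.one_le_abs hm0
      exact_mod_cast this
    simpa using this

variable {G : Type u} [Group G] {V : Type v} [AddCommGroup V] [Module ℂ V] [FiniteDimensional ℂ V]

/-- Burnside: an irreducible character of degree `> 1` vanishes somewhere (S0191). -/
theorem exists_character_eq_zero [Finite G] (ρ : Representation ℂ G V) [hirr : ρ.IsIrreducible]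
    (hdeg : 1 < finrank ℂ V) : ∃ g : G, ρ.character g = 0 := by
  classical
  by_contra hcon
  push Not at hcon
  let _ := Fintype.ofFinite G
  have hNpos : 0 < Nat.card G := Nat.card_pos
  haveI : NeZero (Nat.card G) := ⟨hNpos.ne'⟩
  obtain ⟨K, _, _, _, ⟨φ⟩⟩ := exists_cyclotomic_field (Nat.card G)
  haveI : FiniteDimensional ℚ K := IsCyclotomicExtension.finiteDimensional {Nat.card G} ℚ K
  haveI : IsGalois ℚ K := IsCyclotomicExtension.isGalois {Nat.card G} ℚ K
  have hx : ∀ g : G, ∃ x : K, IsIntegral ℤ x ∧ φ x = ρ.character g ∧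
      ∀ σ : K ≃ₐ[ℚ] K, φ (σ x) = ρ.character (g ^ galExp (Nat.card G) K σ) :=
    fun g => exists_cyclotomic_charVal (Nat.card G) K φ ρ g pow_card_eq_one'
  choose x hx1 hx2 hx3 using hx
  have hx0 : ∀ g, x g ≠ 0 := by
    intro g h
    have := hx2 g
    rw [h, map_zero] at this
    exact hcon g this.symm
  -- Claim A
  have hA : ∀ g : G, (Fintype.card (K ≃ₐ[ℚ] K) : ℝ) ≤ ∑ σ : K ≃ₐ[ℚ] K, ‖φ (σ (x g))‖ ^ 2 :=
    fun g => card_gal_le_sum_norm_sq K φ (x g) (hx1 g) (hx0 g)
  -- norm sum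
  have hnorm : ∑ g : G, ‖ρ.character g‖ ^ 2 = (Nat.card G : ℝ) := by
    have hirrc : IsIrrCharacter G ρ.character := isIrrCharacter_of_rep ρ hirr
    have := classInner_irr hirrc hirrc
    rw [if_pos rfl] at this
    simp only [classInner] at this
    have hG : (Nat.card G : ℂ) ≠ 0 := card_ne_zero_complex
    have h2 : ∑ g : G, ρ.character g * conj (ρ.character g) = (Nat.card G : ℂ) := by
      field_simp at this
      linear_combination this
    have h3 : ((∑ g : G, ‖ρ.character g‖ ^ 2 : ℝ) : ℂ) = ((Nat.card G : ℝ) : ℂ) := by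
      push_cast
      rw [← h2]
      apply Finset.sum_congr rfl
      intro g _
      rw [Complex.mul_conj, Complex.normSq_eq_norm_sq]
      push_cast
      rfl
    exact_mod_cast h3
  -- Claim B
  have hB : ∀ σ : K ≃ₐ[ℚ] K, ∑ g : G, ‖φ (σ (x g))‖ ^ 2 = (Nat.card G : ℝ) := by
    intro σ
    rw [← hnorm]
    have hcop : (Nat.card G).Coprime (galExp (Nat.card G) K σ) :=
      (galExp_coprime (Nat.card G) K σ).symm
    rw [← Equiv.sum_comp (powCoprime hcop) (fun g => ‖ρ.character g‖ ^ 2)]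
    apply Finset.sum_congr rfl
    intro g _
    rw [hx3 g σ]
    rfl
  -- the identity element
  have h1 : ∑ σ : K ≃ₐ[ℚ] K, ‖φ (σ (x 1))‖ ^ 2 =
      (Fintype.card (K ≃ₐ[ℚ] K) : ℝ) * (finrank ℂ V : ℝ) ^ 2 := by
    have : ∀ σ : K ≃ₐ[ℚ] K, ‖φ (σ (x 1))‖ ^ 2 = (finrank ℂ V : ℝ) ^ 2 := by
      intro σ
      rw [hx3 1 σ, one_pow, char_one]
      simp
    rw [Finset.sum_congr rfl (fun σ _ => this σ), Finset.sum_const, Finset.card_univ, nsmul_eq_mul]
  -- total
  have htot : ∑ g : G, ∑ σ : K ≃ₐ[ℚ] K, ‖φ (σ (x g))‖ ^ 2 =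
      (Fintype.card (K ≃ₐ[ℚ] K) : ℝ) * (Nat.card G : ℝ) := by
    rw [Finset.sum_comm, Finset.sum_congr rfl (fun σ _ => hB σ), Finset.sum_const, Finset.card_univ,
      nsmul_eq_mul]
  have hsplit : ∑ g : G, ∑ σ : K ≃ₐ[ℚ] K, ‖φ (σ (x g))‖ ^ 2 =
      ∑ σ : K ≃ₐ[ℚ] K, ‖φ (σ (x 1))‖ ^ 2 +
        ∑ g ∈ Finset.univ.erase (1 : G), ∑ σ : K ≃ₐ[ℚ] K, ‖φ (σ (x g))‖ ^ 2 :=
    (Finset.add_sum_erase Finset.univ _ (Finset.mem_univ (1 : G))).symm
  have hge : ((Nat.card G : ℝ) - 1) * (Fintype.card (K ≃ₐ[ℚ] K) : ℝ) ≤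
      ∑ g ∈ Finset.univ.erase (1 : G), ∑ σ : K ≃ₐ[ℚ] K, ‖φ (σ (x g))‖ ^ 2 := by
    have : ∑ g ∈ Finset.univ.erase (1 : G), (Fintype.card (K ≃ₐ[ℚ] K) : ℝ) ≤
        ∑ g ∈ Finset.univ.erase (1 : G), ∑ σ : K ≃ₐ[ℚ] K, ‖φ (σ (x g))‖ ^ 2 :=
      Finset.sum_le_sum (fun g _ => hA g)
    rw [Finset.sum_const, Finset.card_erase_of_mem (Finset.mem_univ _), Finset.card_univ,
      nsmul_eq_mul, ← Nat.card_eq_fintype_card] at this
    have hc : ((Nat.card G - 1 : ℕ) : ℝ) = (Nat.card G : ℝ) - 1 := by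
      rw [Nat.cast_sub hNpos]; simp
    rw [hc] at this
    exact this
  have hcardpos : (0 : ℝ) < (Fintype.card (K ≃ₐ[ℚ] K) : ℝ) := by
    have : 0 < Fintype.card (K ≃ₐ[ℚ] K) := Fintype.card_pos
    exact_mod_cast this
  have hd : (2 : ℝ) ≤ (finrank ℂ V : ℝ) := by exact_mod_cast hdeg
  have hd2 : (4 : ℝ) ≤ (finrank ℂ V : ℝ) ^ 2 := by nlinarith
  rw [htot, h1] at hsplit
  nlinarith

/-- Irreducible characters separate conjugacy classes. -/
theorem isConj_of_forall_irr_apply_eq [Finite G] (g h : G)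
    (H : ∀ χ : IrrCharacter G, (χ : G → ℂ) g = (χ : G → ℂ) h) : IsConj g h := by
  classical
  let _ := Fintype.ofFinite G
  let _ := fintypeIrr G
  have h1 := sum_irr_mul_conj g h
  have h2 := sum_irr_mul_conj h h
  simp only [H] at h1
  rw [h2] at h1
  have hC : (Nat.card (Subgroup.centralizer ({h} : Set G)) : ℂ) ≠ 0 := card_ne_zero_complex_of_finite
  have h3 := mul_right_cancel₀ hC h1
  simp only [classIndicator] at h3
  rw [if_pos (IsConj.refl h)] at h3
  by_contra hcon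
  rw [if_neg hcon] at h3
  exact one_ne_zero h3

/-- Galois action on character values: `χ(g^m)` for `m` coprime to `|G|` is a Galois conjugate of
`χ(g)`; in particular if `χ(g)` is rational then `χ(g^m) = χ(g)`. -/
theorem character_pow_eq_of_rat [Finite G] (ρ : Representation ℂ G V) (g : G) (q : ℚ)
    (hq : ρ.character g = (q : ℂ)) (m : ℕ) (hm : m.Coprime (Nat.card G)) :
    ρ.character (g ^ m) = ρ.character g := by
  have hNpos : 0 < Nat.card G := Nat.card_pos
  haveI : NeZero (Nat.card G) := ⟨hNpos.ne'⟩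
  obtain ⟨K, _, _, _, ⟨φ⟩⟩ := exists_cyclotomic_field (Nat.card G)
  obtain ⟨x, -, hx2, hx3⟩ := exists_cyclotomic_charVal (Nat.card G) K φ ρ g pow_card_eq_one'
  obtain ⟨σ, hσ⟩ := exists_gal_of_coprime (Nat.card G) K m hm
  have hxq : x = algebraMap ℚ K q := by
    apply φ.injective
    rw [hx2, hq]
    simp
  have h1 := hx3 σ
  rw [hσ, pow_mod_natCard, hxq, AlgEquiv.commutes, ← hxq, hx2] at h1
  exact h1.symm

/-- If `g` is conjugate to all its powers `g^m`, `m` coprime to `|G|`, then `χ(g)` is rational. -/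
theorem exists_rat_of_forall_isConj_pow [Finite G] (ρ : Representation ℂ G V) (g : G)
    (H : ∀ m : ℕ, m.Coprime (Nat.card G) → IsConj g (g ^ m)) : ∃ q : ℚ, ρ.character g = (q : ℂ) := by
  have hNpos : 0 < Nat.card G := Nat.card_pos
  haveI : NeZero (Nat.card G) := ⟨hNpos.ne'⟩
  obtain ⟨K, _, _, _, ⟨φ⟩⟩ := exists_cyclotomic_field (Nat.card G)
  haveI : FiniteDimensional ℚ K := IsCyclotomicExtension.finiteDimensional {Nat.card G} ℚ K
  haveI : IsGalois ℚ K := IsCyclotomicExtension.isGalois {Nat.card G} ℚ K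
  obtain ⟨x, -, hx2, hx3⟩ := exists_cyclotomic_charVal (Nat.card G) K φ ρ g pow_card_eq_one'
  have hfix : ∀ σ : K ≃ₐ[ℚ] K, σ x = x := by
    intro σ
    apply φ.injective
    rw [hx3 σ, hx2]
    have hc := H _ (galExp_coprime (Nat.card G) K σ)
    obtain ⟨c, hc⟩ := isConj_iff.mp hc
    rw [← hc, char_conj]
  obtain ⟨q, hq⟩ := (IsGalois.mem_range_algebraMap_iff_fixed x).mpr hfix
  refine ⟨q, ?_⟩
  rw [← hx2, ← hq]
  simp

/-- S0180. -/
theorem forall_irr_rat_iff_forall_isConj_pow [Finite G] :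
    (∀ χ : IrrCharacter G, ∀ g : G, ∃ q : ℚ, (χ : G → ℂ) g = (q : ℂ)) ↔
      ∀ m : ℕ, m.Coprime (Nat.card G) → ∀ g : G, IsConj g (g ^ m) := by
  constructor
  · intro H m hm g
    apply (isConj_of_forall_irr_apply_eq (g ^ m) g ?_).symm
    intro χ
    obtain ⟨n, ρ, hirr, hρ⟩ := χ.2
    obtain ⟨q, hq⟩ := H χ g
    rw [← hρ] at hq ⊢
    exact character_pow_eq_of_rat ρ g q hq m hm
  · intro H χ g
    obtain ⟨n, ρ, hirr, hρ⟩ := χ.2
    rw [← hρ]
    exact exists_rat_of_forall_isConj_pow ρ g (fun m hm => H m hm g)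

end Cfsg.Agent.CharLib
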