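import Mathlib
import Cfsg.Agent.Lib.Helper6.Osima
import Cfsg.Agent.Lib.Lead.CharBurnside
/-! Consequences of Osima's theorem (helper6): principal block and p'-degree characters (S4916). -/
open Cfsg Cfsg.Agent.Lib.Helper24 Cfsg.Agent.Lib.Helper6
open scoped ComplexConjugate
namespace Cfsg.Agent.CharLib
universe u

theorem charDegree_eq_of_apply_one {G : Type u} [Group G] {χ : G → ℂ} {d : ℕ} (h : χ 1 = d) :
    charDegree χ = d := by
  unfold charDegree
  rw [h]
  simp

/-- The trivial character as an element of `IrrCharacter G`. -/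
noncomputable def trivIrr (G : Type u) [Group G] : IrrCharacter G := ⟨1, isIrrCharacter_one⟩

theorem memLocalIdeal_natCast_of_dvd {M : Ideal AlgInt} {p : ℕ} (hM : IsPModular p M) {k : ℕ}
    (hk : p ∣ k) : MemLocalIdeal M (k : ℂ) := by
  have h1 := memLocalIdeal_of_mem (natCast_mem_of_dvd hM hk) (one_not_mem_of_isPModular hM)
  simpa using h1

theorem memLocalRing_inv_natCast_of_not_dvd {M : Ideal AlgInt} {p : ℕ} (hM : IsPModular p M) {k : ℕ}
    (hk : ¬ p ∣ k) : MemLocalRing M ((k : ℂ)⁻¹) := by
  refine ⟨1, (k : AlgInt), natCast_not_mem_of_not_dvd hM hk, ?_⟩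
  simp

/-- If `p ∣ |G|`, the sum of squares of degrees over a block lies in the local ideal. -/
theorem memLocalIdeal_sum_sq_block {G : Type u} [Group G] [Fintype G] [Fintype (IrrCharacter G)]
    {p : ℕ} {M : Ideal AlgInt} (hM : IsPModular p M) (hdiv : p ∣ Nat.card G) (χ₀ : IrrCharacter G)
    [DecidablePred (· ∈ blockOf M (χ₀ : G → ℂ))] :
    MemLocalIdeal M (∑ χ : IrrCharacter G, if χ ∈ blockOf M (χ₀ : G → ℂ) then
      (χ : G → ℂ) 1 * conj ((χ : G → ℂ) 1) else 0) := by
  haveI hp : M.IsPrime := isPrime_of_isPModular hM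
  have hos := memLocalRing_blockCoeff_blockOf (M := M) χ₀ (1 : G)
  rw [blockCoeff_eq_sum] at hos
  have hG0 : (Nat.card G : ℂ) ≠ 0 := Nat.cast_ne_zero.mpr Nat.card_pos.ne'
  have := memLocalIdeal_mul_right (memLocalIdeal_natCast_of_dvd hM hdiv) hos
  rwa [← mul_assoc, mul_inv_cancel₀ hG0, one_mul] at this

theorem principal_block_only_trivial_iff {G : Type u} [Group G] [Finite G] (p : ℕ) [Fact p.Prime]
    (M : Ideal AlgInt) (hM : IsPModular p M) :
    (∀ χ : IrrCharacter G, χ ∈ principalBlock M G → ¬ p ∣ charDegree (χ : G → ℂ) →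
      (χ : G → ℂ) = fun _ => (1 : ℂ)) ↔ ¬ p ∣ Nat.card G := by
  classical
  let _ := Fintype.ofFinite G
  let _ := fintypeIrr G
  haveI hp : M.IsPrime := isPrime_of_isPModular hM
  have hM1 := one_not_mem_of_isPModular hM
  have hB : principalBlock M G = blockOf M ((trivIrr G : IrrCharacter G) : G → ℂ) := rfl
  constructor
  · intro h hdiv
    have hS := memLocalIdeal_sum_sq_block hM hdiv (trivIrr G)
    rw [← Finset.add_sum_erase _ _ (Finset.mem_univ (trivIrr G))] at hS
    have h1mem : trivIrr G ∈ blockOf M ((trivIrr G : IrrCharacter G) : G → ℂ) := by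
      intro g
      rw [sub_self]
      exact memLocalIdeal_zero hM1
    rw [if_pos h1mem] at hS
    have h11 : ((trivIrr G : IrrCharacter G) : G → ℂ) 1 = 1 := rfl
    rw [h11, map_one, mul_one] at hS
    have hrest : MemLocalIdeal M (∑ χ ∈ Finset.univ.erase (trivIrr G),
        if χ ∈ blockOf M ((trivIrr G : IrrCharacter G) : G → ℂ) then
          (χ : G → ℂ) 1 * conj ((χ : G → ℂ) 1) else 0) := by
      apply sum_memLocalIdeal
      intro χ hχ
      rw [Finset.mem_erase] at hχ
      split_ifs with hmem
      · obtain ⟨d, hdpos, hd⟩ := IsIrrCharacter.apply_one_pos χ.2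
        have hpd : p ∣ d := by
          by_contra hnd
          apply hχ.1
          apply Subtype.ext
          have := h χ (hB ▸ hmem) (by rw [charDegree_eq_of_apply_one hd]; exact hnd)
          rw [this]; rfl
        rw [hd]
        have : ((d : ℂ) * conj (d : ℂ)) = ((d * d : ℕ) : ℂ) := by
          rw [Complex.conj_natCast]; push_cast; ring
        rw [this]
        exact memLocalIdeal_natCast_of_dvd hM (Dvd.dvd.mul_right hpd d)
      · exact memLocalIdeal_zero hM1
    have := memLocalIdeal_sub hS hrest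
    rw [add_sub_cancel_right] at this
    exact not_memLocalIdeal_one this
  · intro hnd χ hχ _
    by_contra hne
    have hχ' : ∀ g, MemLocalIdeal M (centralChar ((trivIrr G : IrrCharacter G) : G → ℂ) g -
        centralChar (χ : G → ℂ) g) := hχ
    have ha : IsClassFunction G (fun _ : G => ((Nat.card G : ℂ))⁻¹) := fun _ _ => rfl
    have key := memLocalIdeal_omegaFun_sub (M := M) (trivIrr G) χ hχ' ha
      (fun _ => memLocalRing_inv_natCast_of_not_dvd hM hnd)
    have hG0 : (Nat.card G : ℂ) ≠ 0 := Nat.cast_ne_zero.mpr Nat.card_pos.ne'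
    have h1 : omegaFun ((trivIrr G : IrrCharacter G) : G → ℂ) (fun _ : G => ((Nat.card G : ℂ))⁻¹) = 1 := by
      unfold omegaFun
      have h11 : ∀ g, ((trivIrr G : IrrCharacter G) : G → ℂ) g = 1 := fun _ => rfl
      simp only [h11, mul_one, div_one, Finset.sum_const, Finset.card_univ, nsmul_eq_mul]
      rw [← Nat.card_eq_fintype_card, mul_inv_cancel₀ hG0]
    have h2 : omegaFun (χ : G → ℂ) (fun _ : G => ((Nat.card G : ℂ))⁻¹) = 0 := by
      unfold omegaFun
      have hin := classInner_irr χ.2 (isIrrCharacter_one (G := G))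
      rw [if_neg (by
        intro e
        apply hne
        rw [e]; rfl)] at hin
      unfold classInner at hin
      have h3 : ∑ g : G, (χ : G → ℂ) g * conj ((1 : G → ℂ) g) = ∑ g : G, (χ : G → ℂ) g := by
        apply Finset.sum_congr rfl
        intro g _
        simp
      rw [h3] at hin
      rw [← Finset.mul_sum, hin, zero_div]
    rw [h1, h2, sub_zero] at key
    exact not_memLocalIdeal_one key

end Cfsg.Agent.CharLib
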