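import Mathlib
import Cfsg.Agent.Lib.Lead.CharOrtho
import Cfsg.Agent.Lib.Helper6.LinChar

/-!
lead: Brauer–Leonard (S4709 cluster), part 3: duality for a finite abelian group `A` with a
fixed-point-free automorphism `β`: orthogonality of linear characters, Fourier inversion, and
freeness of the dual action.
-/

set_option autoImplicit false

namespace Cfsg.Agent.CharLib

open Cfsg Cfsg.Agent.Lib.Helper24 Cfsg.Agent.Lib.Helper6
open scoped ComplexConjugate

universe u

section dual

variable {A : Type u} [Group A]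

/-- An automorphism `β` of `A` with `β ^ m = 1`, all of whose powers `β ^ k`, `0 < k < m`, are
fixed-point-free; `A` is commutative. -/
structure FreeAut (β : A ≃* A) (m : ℕ) : Prop where
  comm : ∀ a b : A, a * b = b * a
  pow_m : ∀ y : A, (β ^ m) y = y
  free : ∀ k : ℕ, 0 < k → k < m → ∀ y : A, (β ^ k) y = y → y = 1

/-- The dual action of a power of `β` on linear characters. -/
noncomputable def dualPow (β : A ≃* A) (k : ℕ) (ψ : A →* ℂˣ) : A →* ℂˣ :=
  ψ.comp ((β ^ k : A ≃* A) : A →* A)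

theorem dualPow_apply (β : A ≃* A) (k : ℕ) (ψ : A →* ℂˣ) (y : A) :
    dualPow β k ψ y = ψ ((β ^ k) y) := rfl

/-- Two linear characters are related when one is carried to the other by a power of `β`. -/
def DualRel (β : A ≃* A) (ψ ψ' : A →* ℂˣ) : Prop :=
  ∃ k : ℕ, dualPow β k ψ' = ψ

theorem pow_add_apply (β : A ≃* A) (j k : ℕ) (y : A) : (β ^ (j + k)) y = (β ^ j) ((β ^ k) y) := by
  rw [pow_add]; rfl

theorem FreeAut.pow_mod {β : A ≃* A} {m : ℕ} (h : FreeAut β m) (k : ℕ) (y : A) :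
    (β ^ k) y = (β ^ (k % m)) y := by
  have h1 : ∀ q : ℕ, ∀ z : A, (β ^ (m * q)) z = z := by
    intro q
    induction q with
    | zero => intro z; simp
    | succ q ih =>
      intro z
      rw [Nat.mul_succ, pow_add_apply, h.pow_m, ih]
  conv_lhs => rw [← Nat.mod_add_div k m]
  rw [pow_add_apply, h1]

theorem dualPow_mod {β : A ≃* A} {m : ℕ} (h : FreeAut β m) (k : ℕ) (ψ : A →* ℂˣ) :
    dualPow β k ψ = dualPow β (k % m) ψ := by
  apply MonoidHom.ext
  intro y
  rw [dualPow_apply, dualPow_apply, h.pow_mod]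

theorem dualPow_add (β : A ≃* A) (j k : ℕ) (ψ : A →* ℂˣ) :
    dualPow β (j + k) ψ = dualPow β k (dualPow β j ψ) := by
  apply MonoidHom.ext
  intro y
  rw [dualPow_apply, dualPow_apply, dualPow_apply, pow_add_apply]

theorem dualPow_one' (β : A ≃* A) (k : ℕ) : dualPow β k (1 : A →* ℂˣ) = 1 := by
  apply MonoidHom.ext
  intro y
  rfl

variable [Finite A]

/-- The dual action is free on non-trivial characters. -/
theorem FreeAut.dual_free {β : A ≃* A} {m : ℕ} (h : FreeAut β m) (ψ : A →* ℂˣ) (hψ : ψ ≠ 1)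
    (k : ℕ) (hk0 : 0 < k) (hkm : k < m) : dualPow β k ψ ≠ ψ := by
  intro heq
  apply hψ
  have hinj : Function.Injective (fun y : A => (β ^ k) y * y⁻¹) := by
    intro y y' hyy
    simp only at hyy
    have h1 : (β ^ k) (y'⁻¹ * y) = y'⁻¹ * y := by
      rw [map_mul, map_inv]
      have e1 : (β ^ k) y = (β ^ k) y' * y'⁻¹ * y := by
        rw [← hyy]; group
      rw [e1]; group
    have h2 := h.free k hk0 hkm _ h1
    calc y = y' * (y'⁻¹ * y) := by group
      _ = y' := by rw [h2, mul_one]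
  have hsurj : Function.Surjective (fun y : A => (β ^ k) y * y⁻¹) :=
    Finite.injective_iff_surjective.mp hinj
  apply MonoidHom.ext
  intro z
  obtain ⟨y, rfl⟩ := hsurj z
  have h3 : ψ ((β ^ k) y) = ψ y := by
    have := congrArg (fun f : A →* ℂˣ => f y) heq
    simpa [dualPow_apply] using this
  simp only [map_mul, map_inv, h3, mul_inv_cancel, MonoidHom.one_apply]

/-- For `ψ' ≠ 1` there is at most one `k < m` with `dualPow β k ψ' = ψ`. -/
theorem FreeAut.dual_unique {β : A ≃* A} {m : ℕ} (h : FreeAut β m) (ψ ψ' : A →* ℂˣ)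
    (hψ' : ψ' ≠ 1) (j k : ℕ) (hj : j < m) (hk : k < m) (hjψ : dualPow β j ψ' = ψ)
    (hkψ : dualPow β k ψ' = ψ) : j = k := by
  by_contra hne
  wlog hlt : j < k generalizing j k
  · exact this k j hk hj hkψ hjψ (Ne.symm hne) (lt_of_le_of_ne (not_lt.mp hlt) (Ne.symm hne))
  -- `dualPow (k - j) ψ = ψ`
  have hψ1 : ψ ≠ 1 := by
    intro h1
    apply hψ'
    rw [h1] at hjψ
    -- apply the inverse power
    have h2 : dualPow β (m - j) (dualPow β j ψ') = dualPow β (m - j) 1 := by rw [hjψ]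
    rw [← dualPow_add, dualPow_one', dualPow_mod h] at h2
    have : (j + (m - j)) % m = 0 := by
      have : j + (m - j) = m := by omega
      rw [this, Nat.mod_self]
    rw [this] at h2
    rw [← h2]
    apply MonoidHom.ext
    intro y
    rw [dualPow_apply]
    simp
  have h3 : dualPow β (k - j) ψ = ψ := by
    rw [← hjψ, ← dualPow_add]
    have : j + (k - j) = k := by omega
    rw [this, hkψ, hjψ]
  exact h.dual_free ψ hψ1 (k - j) (by omega) (by omega) h3

end dual

section ortho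

variable {A : Type u} [Group A] [Fintype A]

/-- Orthogonality of linear characters. -/
theorem sum_hom_mul_conj (ψ₁ ψ₂ : A →* ℂˣ) :
    ∑ y : A, ((ψ₁ y : ℂˣ) : ℂ) * conj ((ψ₂ y : ℂˣ) : ℂ) =
      if ψ₁ = ψ₂ then (Fintype.card A : ℂ) else 0 := by
  have h := classInner_irr (isIrrCharacter_of_hom ψ₁) (isIrrCharacter_of_hom ψ₂)
  unfold classInner at h
  have hA : (Nat.card A : ℂ) ≠ 0 := by
    exact_mod_cast (Nat.card_pos (α := A)).ne'
  have h2 : ∑ y : A, ((ψ₁ y : ℂˣ) : ℂ) * conj ((ψ₂ y : ℂˣ) : ℂ) =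
      (Nat.card A : ℂ) * (if (fun g => ((ψ₁ g : ℂˣ) : ℂ)) = (fun g => ((ψ₂ g : ℂˣ) : ℂ))
        then 1 else 0) := by
    rw [← h]
    field_simp
  rw [h2, Nat.card_eq_fintype_card]
  by_cases he : ψ₁ = ψ₂
  · rw [if_pos he, if_pos (by rw [he]), mul_one]
  · rw [if_neg he, if_neg, mul_zero]
    intro hf
    apply he
    apply MonoidHom.ext
    intro y
    apply Units.ext
    exact congrFun hf y

theorem sum_hom_eq (ψ : A →* ℂˣ) :
    ∑ y : A, ((ψ y : ℂˣ) : ℂ) = if ψ = 1 then (Fintype.card A : ℂ) else 0 := by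
  have := sum_hom_mul_conj ψ 1
  simpa using this

end ortho

end Cfsg.Agent.CharLib
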