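import Mathlib
import Cfsg.Agent.Lib.Lead.BrLeo3

/-!
lead: Brauer–Leonard (S4709 cluster), part 4: column orthogonality for the dual group, Fourier
inversion, and the Gram matrix of the coefficient vectors.
-/

set_option autoImplicit false

namespace Cfsg.Agent.CharLib

open Cfsg Cfsg.Agent.Lib.Helper24 Cfsg.Agent.Lib.Helper6
open scoped ComplexConjugate

universe u v

section fourier

variable {A : Type u} [Group A] [Fintype A]

theorem conj_hom_apply (ψ : A →* ℂˣ) (y : A) :
    conj ((ψ y : ℂˣ) : ℂ) = ((ψ y⁻¹ : ℂˣ) : ℂ) :=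
  (IsCharacter.apply_inv (isCharacter_of_hom ψ) y).symm

open Classical in
/-- Column orthogonality for the dual group of a finite abelian group. -/
theorem sum_dual_apply (hcomm : ∀ a b : A, a * b = b * a) [Fintype (A →* ℂˣ)] (y : A) :
    ∑ ψ : A →* ℂˣ, ((ψ y : ℂˣ) : ℂ) = if y = 1 then (Fintype.card A : ℂ) else 0 := by
  classical
  letI : CommGroup A := { (inferInstance : Group A) with mul_comm := hcomm }
  have hne : NeZero ((Monoid.exponent A : ℕ) : ℂ) :=
    ⟨by exact_mod_cast Monoid.exponent_ne_zero_of_finite⟩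
  by_cases hy : y = 1
  · rw [if_pos hy, hy]
    simp only [map_one, Units.val_one, Finset.sum_const, Finset.card_univ, nsmul_eq_mul, mul_one]
    have := CommGroup.card_monoidHom_of_hasEnoughRootsOfUnity A ℂ
    rw [Nat.card_eq_fintype_card, Nat.card_eq_fintype_card] at this
    exact_mod_cast this
  · rw [if_neg hy]
    obtain ⟨φ, hφ⟩ := CommGroup.exists_apply_ne_one_of_hasEnoughRootsOfUnity A ℂ hy
    have h1 : ∑ ψ : A →* ℂˣ, ((ψ y : ℂˣ) : ℂ) =
        ((φ y : ℂˣ) : ℂ) * ∑ ψ : A →* ℂˣ, ((ψ y : ℂˣ) : ℂ) := by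
      rw [Finset.mul_sum, ← Equiv.sum_comp (Equiv.mulLeft φ)]
      apply Finset.sum_congr rfl
      intro ψ _
      simp
    have h2 : (1 - ((φ y : ℂˣ) : ℂ)) * ∑ ψ : A →* ℂˣ, ((ψ y : ℂˣ) : ℂ) = 0 := by
      linear_combination h1
    rcases mul_eq_zero.mp h2 with h3 | h3
    · exfalso
      apply hφ
      apply Units.ext
      rw [Units.val_one]
      linear_combination -h3
    · exact h3

/-- Fourier inversion on a finite abelian group. -/
theorem fourier_inversion (hcomm : ∀ a b : A, a * b = b * a) [Fintype (A →* ℂˣ)] (F : A → ℂ)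
    (y : A) :
    ∑ ψ : A →* ℂˣ, (∑ y' : A, F y' * conj ((ψ y' : ℂˣ) : ℂ)) * ((ψ y : ℂˣ) : ℂ) =
      (Fintype.card A : ℂ) * F y := by
  classical
  simp_rw [Finset.sum_mul]
  rw [Finset.sum_comm]
  have h1 : ∀ y' : A, ∑ ψ : A →* ℂˣ, F y' * conj ((ψ y' : ℂˣ) : ℂ) * ((ψ y : ℂˣ) : ℂ) =
      F y' * (if y' = y then (Fintype.card A : ℂ) else 0) := by
    intro y'
    have h2 := sum_dual_apply hcomm (y'⁻¹ * y)
    have h3 : (y'⁻¹ * y = 1) ↔ y' = y := by
      constructor
      · intro h
        calc y' = y' * (y'⁻¹ * y) := by rw [h, mul_one]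
          _ = y := by group
      · intro h; rw [h]; group
    simp only [h3] at h2
    rw [← h2, Finset.mul_sum]
    apply Finset.sum_congr rfl
    intro ψ _
    rw [conj_hom_apply, map_mul]
    push_cast
    ring
  rw [Finset.sum_congr rfl (fun y' _ => h1 y')]
  simp only [mul_ite, mul_zero]
  rw [Finset.sum_ite_eq' Finset.univ y]
  simp [mul_comm]

end fourier

end Cfsg.Agent.CharLib
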