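import Mathlib
import Cfsg.Agent.Lib.Lead.BrLeo4

/-!
lead: Brauer–Leonard (S4709 cluster), part 5: the Gram matrix of the coefficient vectors.
-/

set_option autoImplicit false

namespace Cfsg.Agent.CharLib

open Cfsg Cfsg.Agent.Lib.Helper24 Cfsg.Agent.Lib.Helper6
open scoped ComplexConjugate

universe u v

section gram

variable {A : Type u} [Group A] [Fintype A]

/-- The multiplicity of the linear character `ψ` in the function `F`. -/
noncomputable def multP (F : A → ℂ) (ψ : A →* ℂˣ) : ℂ :=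
  (Fintype.card A : ℂ)⁻¹ * ∑ y : A, F y * conj ((ψ y : ℂˣ) : ℂ)

theorem multP_sub_one (F : A → ℂ) (ψ : A →* ℂˣ) :
    multP F ψ - multP F 1 =
      (Fintype.card A : ℂ)⁻¹ * ∑ y : A, F y * (conj ((ψ y : ℂˣ) : ℂ) - 1) := by
  unfold multP
  rw [← mul_sub, ← Finset.sum_sub_distrib]
  congr 1
  apply Finset.sum_congr rfl
  intro y _
  simp only [MonoidHom.one_apply, Units.val_one, map_one]
  ring

theorem dualPow_ne_one (β : A ≃* A) (k : ℕ) (ψ : A →* ℂˣ) (hψ : ψ ≠ 1) : dualPow β k ψ ≠ 1 := by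
  intro h
  apply hψ
  apply MonoidHom.ext
  intro y
  have := congrArg (fun f : A →* ℂˣ => f ((β ^ k).symm y)) h
  simpa [dualPow_apply] using this

/-- The basic sum `∑ (conj ψ - 1)(φ - 1)` for non-trivial `ψ, φ`. -/
theorem sum_conj_sub_one_mul (ψ φ : A →* ℂˣ) (hψ : ψ ≠ 1) (hφ : φ ≠ 1) :
    ∑ y : A, (conj ((ψ y : ℂˣ) : ℂ) - 1) * (((φ y : ℂˣ) : ℂ) - 1) =
      (Fintype.card A : ℂ) * ((if φ = ψ then 1 else 0) + 1) := by
  have h1 := sum_hom_mul_conj φ ψ
  have h2 := sum_hom_eq ψ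
  have h3 := sum_hom_eq φ
  rw [if_neg hψ] at h2
  rw [if_neg hφ] at h3
  have h4 : ∑ y : A, conj ((ψ y : ℂˣ) : ℂ) = 0 := by
    rw [← map_sum, h2, map_zero]
  have e : ∀ y : A, (conj ((ψ y : ℂˣ) : ℂ) - 1) * (((φ y : ℂˣ) : ℂ) - 1) =
      ((φ y : ℂˣ) : ℂ) * conj ((ψ y : ℂˣ) : ℂ) - conj ((ψ y : ℂˣ) : ℂ) - ((φ y : ℂˣ) : ℂ) + 1 := by
    intro y; ring
  rw [Finset.sum_congr rfl (fun y _ => e y), Finset.sum_add_distrib, Finset.sum_sub_distrib,
    Finset.sum_sub_distrib, h1, h4, h3, Finset.sum_const, Finset.card_univ, nsmul_eq_mul, mul_one]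
  split_ifs <;> ring

variable {B : Type v} [Fintype B]

open Classical in
/-- The Gram matrix of the coefficient vectors is `m + [ψ ~ ψ']`. -/
theorem gram_dual (hcomm : ∀ a b : A, a * b = b * a) (β : A ≃* A) (m : ℕ) (X : B → A → ℂ)
    (c : B → (A →* ℂˣ) → ℤ)
    (hc : ∀ χ ψ, (c χ ψ : ℂ) = multP (X χ) ψ - multP (X χ) 1)
    (horth : ∀ y y' : A, y ≠ 1 → y' ≠ 1 → ∑ χ : B, X χ y * conj (X χ y') =
      (Fintype.card A : ℂ) * ∑ k ∈ Finset.range m, if y' = (β ^ k) y then 1 else 0)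
    (ψ ψ' : A →* ℂˣ) (hψ : ψ ≠ 1) (hψ' : ψ' ≠ 1) :
    ((∑ χ : B, c χ ψ * c χ ψ' : ℤ) : ℂ) =
      (m : ℂ) + ((Finset.range m).filter (fun k => dualPow β k ψ' = ψ)).card := by
  have hN : (Fintype.card A : ℂ) ≠ 0 := by
    exact_mod_cast Fintype.card_ne_zero
  set N : ℂ := (Fintype.card A : ℂ) with hNdef
  -- formulas for the coefficients
  have f1 : ∀ χ : B, (c χ ψ : ℂ) = N⁻¹ * ∑ y : A, X χ y * (conj ((ψ y : ℂˣ) : ℂ) - 1) := by
    intro χ; rw [hc, multP_sub_one]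
  have f2 : ∀ χ : B, (c χ ψ' : ℂ) =
      N⁻¹ * ∑ y : A, conj (X χ y) * (((ψ' y : ℂˣ) : ℂ) - 1) := by
    intro χ
    have h1 : (c χ ψ' : ℂ) = conj (c χ ψ' : ℂ) := by rw [map_intCast]
    rw [h1, hc, multP_sub_one, map_mul, map_inv₀, map_sum, Complex.conj_natCast]
    congr 1
    apply Finset.sum_congr rfl
    intro y _
    rw [map_mul, map_sub, Complex.conj_conj, map_one]
  -- the double sum
  have key : ∀ y y' : A,
      (conj ((ψ y : ℂˣ) : ℂ) - 1) * (((ψ' y' : ℂˣ) : ℂ) - 1) * ∑ χ : B, X χ y * conj (X χ y') =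
      (conj ((ψ y : ℂˣ) : ℂ) - 1) * (((ψ' y' : ℂˣ) : ℂ) - 1) *
        (N * ∑ k ∈ Finset.range m, if y' = (β ^ k) y then 1 else 0) := by
    intro y y'
    by_cases hy : y = 1
    · rw [hy]; simp
    by_cases hy' : y' = 1
    · rw [hy']; simp
    rw [horth y y' hy hy']
  push_cast
  calc ∑ χ : B, (c χ ψ : ℂ) * (c χ ψ' : ℂ)
      = ∑ χ : B, (N⁻¹ * ∑ y : A, X χ y * (conj ((ψ y : ℂˣ) : ℂ) - 1)) *
          (N⁻¹ * ∑ y' : A, conj (X χ y') * (((ψ' y' : ℂˣ) : ℂ) - 1)) := by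
        apply Finset.sum_congr rfl
        intro χ _
        rw [f1, f2]
    _ = N⁻¹ * N⁻¹ * ∑ y : A, ∑ y' : A, (conj ((ψ y : ℂˣ) : ℂ) - 1) *
          (((ψ' y' : ℂˣ) : ℂ) - 1) * ∑ χ : B, X χ y * conj (X χ y') := by
        have e1 : ∀ χ : B, (N⁻¹ * ∑ y : A, X χ y * (conj ((ψ y : ℂˣ) : ℂ) - 1)) *
            (N⁻¹ * ∑ y' : A, conj (X χ y') * (((ψ' y' : ℂˣ) : ℂ) - 1)) =
            N⁻¹ * N⁻¹ * ∑ y : A, ∑ y' : A, (conj ((ψ y : ℂˣ) : ℂ) - 1) *
              (((ψ' y' : ℂˣ) : ℂ) - 1) * (X χ y * conj (X χ y')) := by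
          intro χ
          rw [mul_mul_mul_comm, Finset.sum_mul_sum]
          congr 1
          apply Finset.sum_congr rfl
          intro y _
          apply Finset.sum_congr rfl
          intro y' _
          ring
        rw [Finset.sum_congr rfl (fun χ _ => e1 χ), ← Finset.mul_sum]
        congr 1
        rw [Finset.sum_comm]
        apply Finset.sum_congr rfl
        intro y _
        rw [Finset.sum_comm]
        apply Finset.sum_congr rfl
        intro y' _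
        rw [Finset.mul_sum]
    _ = N⁻¹ * N⁻¹ * ∑ y : A, ∑ y' : A, (conj ((ψ y : ℂˣ) : ℂ) - 1) *
          (((ψ' y' : ℂˣ) : ℂ) - 1) *
          (N * ∑ k ∈ Finset.range m, if y' = (β ^ k) y then 1 else 0) := by
        congr 1
        apply Finset.sum_congr rfl
        intro y _
        apply Finset.sum_congr rfl
        intro y' _
        exact key y y'
    _ = N⁻¹ * ∑ k ∈ Finset.range m, ∑ y : A, (conj ((ψ y : ℂˣ) : ℂ) - 1) *
          (((dualPow β k ψ' y : ℂˣ) : ℂ) - 1) := by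
        have e2 : ∀ y : A, ∑ y' : A, (conj ((ψ y : ℂˣ) : ℂ) - 1) * (((ψ' y' : ℂˣ) : ℂ) - 1) *
            (N * ∑ k ∈ Finset.range m, if y' = (β ^ k) y then 1 else 0) =
            N * ∑ k ∈ Finset.range m, (conj ((ψ y : ℂˣ) : ℂ) - 1) *
              (((dualPow β k ψ' y : ℂˣ) : ℂ) - 1) := by
          intro y
          simp_rw [Finset.mul_sum]
          rw [Finset.sum_comm]
          apply Finset.sum_congr rfl
          intro k _
          simp_rw [mul_ite, mul_one, mul_zero]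
          rw [Finset.sum_ite_eq' Finset.univ ((β ^ k) y)]
          simp only [Finset.mem_univ, if_true, dualPow_apply]
          ring
        rw [Finset.sum_congr rfl (fun y _ => e2 y), ← Finset.mul_sum, Finset.sum_comm]
        field_simp
    _ = N⁻¹ * ∑ k ∈ Finset.range m, N * ((if dualPow β k ψ' = ψ then 1 else 0) + 1) := by
        congr 1
        apply Finset.sum_congr rfl
        intro k _
        exact sum_conj_sub_one_mul ψ (dualPow β k ψ') hψ (dualPow_ne_one β k ψ' hψ')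
    _ = (m : ℂ) + ((Finset.range m).filter (fun k => dualPow β k ψ' = ψ)).card := by
        rw [← Finset.mul_sum, ← mul_assoc, inv_mul_cancel₀ hN, one_mul, Finset.sum_add_distrib,
          Finset.sum_const, Finset.card_range, nsmul_eq_mul, mul_one, Finset.sum_boole]
        ring

end gram

end Cfsg.Agent.CharLib
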