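import Mathlib

/-!
lead: Brauer–Leonard (S4709 cluster), part 6: the lattice lemma. Integer vectors `v i` with Gram
matrix `m + [i ~ j]`, orthogonal to a positive vector, have the shape `w + δ e_{e i}`.
-/

set_option autoImplicit false

namespace Cfsg.Agent.CharLib

universe u v

section norm_two

variable {B : Type u} [Fintype B] [DecidableEq B]

/-- An integer vector of norm two orthogonal to a positive vector is `1_a - 1_b`. -/
theorem exists_eq_indicator_sub_of_norm_two (u : B → ℤ) (h2 : ∑ χ : B, u χ ^ 2 = 2)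
    (f : B → ℤ) (hf : ∀ χ, 0 < f χ) (huf : ∑ χ : B, u χ * f χ = 0) :
    ∃ a b : B, a ≠ b ∧ f a = f b ∧
      ∀ χ : B, u χ = (if χ = a then 1 else 0) - (if χ = b then 1 else 0) := by
  classical
  have hle : ∀ χ : B, u χ ^ 2 ≤ 1 := by
    intro χ
    have h1 : u χ ^ 2 ≤ ∑ χ : B, u χ ^ 2 :=
      Finset.single_le_sum (f := fun χ => u χ ^ 2) (fun i _ => sq_nonneg (u i)) (Finset.mem_univ χ)
    rw [h2] at h1
    by_contra hgt
    push_neg at hgt
    have h3 : 2 ≤ |u χ| := by
      by_contra h4
      push_neg at h4
      have h5 : |u χ| ≤ 1 := by omega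
      have h6 : u χ ^ 2 ≤ 1 := by
        rw [← sq_abs]
        nlinarith [abs_nonneg (u χ)]
      omega
    have h7 : 4 ≤ u χ ^ 2 := by
      rw [← sq_abs]
      nlinarith
    omega
  have hval : ∀ χ : B, u χ = 0 ∨ u χ = 1 ∨ u χ = -1 := by
    intro χ
    have h1 := hle χ
    have h3 : -1 ≤ u χ ∧ u χ ≤ 1 := by
      constructor <;> nlinarith [sq_nonneg (u χ)]
    omega
  have hsq : ∀ χ : B, u χ ^ 2 = if u χ ≠ 0 then 1 else 0 := by
    intro χ
    rcases hval χ with h | h | h <;> rw [h] <;> simp
  set S : Finset B := Finset.univ.filter (fun χ => u χ ≠ 0) with hS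
  have hcard : S.card = 2 := by
    have h1 : ∑ χ : B, u χ ^ 2 = (S.card : ℤ) := by
      rw [Finset.sum_congr rfl (fun χ _ => hsq χ), Finset.sum_boole]
    rw [h2] at h1
    exact_mod_cast h1.symm
  obtain ⟨x, y, hxy, hSxy⟩ := Finset.card_eq_two.mp hcard
  have hx : u x ≠ 0 := by
    have : x ∈ S := by rw [hSxy]; simp
    rw [hS, Finset.mem_filter] at this
    exact this.2
  have hy : u y ≠ 0 := by
    have : y ∈ S := by rw [hSxy]; simp
    rw [hS, Finset.mem_filter] at this
    exact this.2
  have hz : ∀ χ : B, χ ≠ x → χ ≠ y → u χ = 0 := by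
    intro χ h1 h3
    by_contra h4
    have : χ ∈ S := by rw [hS, Finset.mem_filter]; exact ⟨Finset.mem_univ _, h4⟩
    rw [hSxy] at this
    simp only [Finset.mem_insert, Finset.mem_singleton] at this
    rcases this with h | h
    · exact h1 h
    · exact h3 h
  have hsum : u x * f x + u y * f y = 0 := by
    rw [← huf]
    have h1 : ∑ χ : B, u χ * f χ = ∑ χ ∈ S, u χ * f χ := by
      symm
      apply Finset.sum_subset (Finset.subset_univ S)
      intro χ _ hχ
      have : u χ = 0 := by
        by_contra h4
        apply hχ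
        rw [hS, Finset.mem_filter]
        exact ⟨Finset.mem_univ _, h4⟩
      rw [this, zero_mul]
    rw [h1, hSxy, Finset.sum_pair hxy]
  have hfx := hf x
  have hfy := hf y
  rcases hval x with h | h | h
  · exact absurd h hx
  · rcases hval y with h' | h' | h'
    · exact absurd h' hy
    · rw [h, h'] at hsum; omega
    · refine ⟨x, y, hxy, ?_, ?_⟩
      · rw [h, h'] at hsum; omega
      · intro χ
        by_cases h1 : χ = x
        · rw [h1, h, if_pos rfl, if_neg hxy]; ring
        · by_cases h3 : χ = y
          · rw [h3, h', if_neg (Ne.symm hxy), if_pos rfl]; ring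
          · rw [hz χ h1 h3, if_neg h1, if_neg h3]; ring
  · rcases hval y with h' | h' | h'
    · exact absurd h' hy
    · refine ⟨y, x, Ne.symm hxy, ?_, ?_⟩
      · rw [h, h'] at hsum; omega
      · intro χ
        by_cases h1 : χ = x
        · rw [h1, h, if_neg hxy, if_pos rfl]; ring
        · by_cases h3 : χ = y
          · rw [h3, h', if_pos rfl, if_neg (Ne.symm hxy)]; ring
          · rw [hz χ h1 h3, if_neg h3, if_neg h1]; ring
    · rw [h, h'] at hsum; omega

/-- `1_a - 1_b` determines `a` and `b`. -/
theorem indicator_sub_unique {a b a' b' : B} (hab : a ≠ b)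
    (h : ∀ χ : B, ((if χ = a then 1 else 0) - (if χ = b then 1 else 0) : ℤ) =
      (if χ = a' then 1 else 0) - (if χ = b' then 1 else 0)) : a = a' ∧ b = b' := by
  have h1 := h a
  have h2 := h b
  rw [if_pos rfl, if_neg hab] at h1
  rw [if_neg (Ne.symm hab), if_pos rfl] at h2
  constructor
  · by_contra hne
    rw [if_neg hne] at h1
    split_ifs at h1 <;> omega
  · by_contra hne
    rw [if_neg hne] at h2
    split_ifs at h2 <;> omega

/-- Inner product of two indicator differences. -/
theorem sum_indicator_sub_mul (a b a' b' : B) :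
    ∑ χ : B, (((if χ = a then 1 else 0) - (if χ = b then 1 else 0) : ℤ) *
      ((if χ = a' then 1 else 0) - (if χ = b' then 1 else 0))) =
      (if a = a' then 1 else 0) - (if a = b' then 1 else 0) - (if b = a' then 1 else 0) +
        (if b = b' then 1 else 0) := by
  have e : ∀ χ : B, (((if χ = a then 1 else 0) - (if χ = b then 1 else 0) : ℤ) *
      ((if χ = a' then 1 else 0) - (if χ = b' then 1 else 0))) =
      (if χ = a then ((if χ = a' then 1 else 0) - (if χ = b' then 1 else 0) : ℤ) else 0) -
      (if χ = b then ((if χ = a' then 1 else 0) - (if χ = b' then 1 else 0) : ℤ) else 0) := by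
    intro χ
    split_ifs <;> ring
  rw [Finset.sum_congr rfl (fun χ _ => e χ), Finset.sum_sub_distrib, Finset.sum_ite_eq',
    Finset.sum_ite_eq']
  simp only [Finset.mem_univ, if_true]
  ring

end norm_two

end Cfsg.Agent.CharLib
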