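import Mathlib
import Cfsg.Agent.Lib.Lead.BrLeo6

/-!
lead: Brauer–Leonard (S4709 cluster), part 7: the lattice structure theorem.
-/

set_option autoImplicit false

namespace Cfsg.Agent.CharLib

universe u v

section lattice

variable {B : Type u} [Fintype B] [DecidableEq B] {I : Type v}

theorem lattice_T_aux {a b a' b' : B} (hab : a ≠ b) (hab' : a' ≠ b')
    (h : ((if a = a' then 1 else 0) - (if a = b' then 1 else 0) - (if b = a' then 1 else 0) +
        (if b = b' then 1 else 0) : ℤ) = 1) :
    (a = a' ∧ b ≠ b') ∨ (a ≠ a' ∧ b = b') := by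
  by_cases h1 : a = a'
  · by_cases h2 : b = b'
    · exfalso
      have h3 : a ≠ b' := by rw [← h2]; exact hab
      have h4 : b ≠ a' := by rw [← h1]; exact Ne.symm hab
      rw [if_pos h1, if_pos h2, if_neg h3, if_neg h4] at h
      omega
    · exact Or.inl ⟨h1, h2⟩
  · by_cases h2 : b = b'
    · exact Or.inr ⟨h1, h2⟩
    · exfalso
      rw [if_neg h1, if_neg h2] at h
      split_ifs at h <;> omega

open Classical in
/-- The lattice structure theorem. -/
theorem lattice_structure (R : I → I → Prop) (hR : Equivalence R) (v : I → B → ℤ) (m : ℤ)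
    (hgram : ∀ i j : I, ∑ χ : B, v i χ * v j χ = m + (if R i j then 1 else 0))
    (f : B → ℤ) (hf : ∀ χ, 0 < f χ) (hvf : ∀ i : I, ∑ χ : B, v i χ * f χ = 0)
    (i₀ j₀ : I) (h0 : ¬ R i₀ j₀) :
    ∃ (δ : ℤ) (w : B → ℤ) (e : I → B), (δ = 1 ∨ δ = -1) ∧
      (∀ i χ, v i χ = w χ + if χ = e i then δ else 0) ∧ (∀ i j, e i = e j ↔ R i j) ∧
      (∀ i j, f (e i) = f (e j)) := by
  -- inner products of differences
  have hip : ∀ i j k l : I, ∑ χ : B, (v i χ - v j χ) * (v k χ - v l χ) =
      (if R i k then 1 else 0) - (if R i l then 1 else 0) - (if R j k then 1 else 0) +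
        (if R j l then 1 else 0) := by
    intro i j k l
    have e : ∀ χ : B, (v i χ - v j χ) * (v k χ - v l χ) =
        v i χ * v k χ - v i χ * v l χ - v j χ * v k χ + v j χ * v l χ := by intro χ; ring
    rw [Finset.sum_congr rfl (fun χ _ => e χ), Finset.sum_add_distrib, Finset.sum_sub_distrib,
      Finset.sum_sub_distrib, hgram, hgram, hgram, hgram]
    ring
  -- related indices have equal vectors
  have heq : ∀ i j : I, R i j → ∀ χ : B, v i χ = v j χ := by
    intro i j hij χ
    have h1 := hip i j i j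
    rw [if_pos (hR.refl i), if_pos hij, if_pos (hR.symm hij), if_pos (hR.refl j)] at h1
    have h2 : ∑ χ : B, (v i χ - v j χ) * (v i χ - v j χ) = 0 := by rw [h1]; ring
    have h3 := (Finset.sum_eq_zero_iff_of_nonneg
      (fun χ _ => mul_self_nonneg (v i χ - v j χ))).mp h2 χ (Finset.mem_univ χ)
    have h4 := mul_self_eq_zero.mp h3
    omega
  -- unrelated indices differ by `1_a - 1_b`
  have hdiff : ∀ i j : I, ¬ R i j → ∃ a b : B, a ≠ b ∧ f a = f b ∧
      ∀ χ : B, v i χ - v j χ = (if χ = a then 1 else 0) - (if χ = b then 1 else 0) := by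
    intro i j hij
    apply exists_eq_indicator_sub_of_norm_two (fun χ => v i χ - v j χ) _ f hf
    · have e : ∀ χ : B, (v i χ - v j χ) * f χ = v i χ * f χ - v j χ * f χ := by intro χ; ring
      rw [Finset.sum_congr rfl (fun χ _ => e χ), Finset.sum_sub_distrib, hvf, hvf, sub_zero]
    · have h1 := hip i j i j
      have hji : ¬ R j i := fun h => hij (hR.symm h)
      rw [if_pos (hR.refl i), if_neg hij, if_neg hji, if_pos (hR.refl j)] at h1
      have e : ∀ χ : B, (v i χ - v j χ) ^ 2 = (v i χ - v j χ) * (v i χ - v j χ) := by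
        intro χ; ring
      rw [Finset.sum_congr rfl (fun χ _ => e χ), h1]
      ring
  choose a b hab hfab hvab using hdiff
  -- the triple lemma
  have hT : ∀ (i j k : I) (hij : ¬ R i j) (hik : ¬ R i k) (_hjk : ¬ R j k),
      (a i j hij = a i k hik ∧ b i j hij ≠ b i k hik) ∨
      (a i j hij ≠ a i k hik ∧ b i j hij = b i k hik) := by
    intro i j k hij hik hjk
    apply lattice_T_aux (hab i j hij) (hab i k hik)
    rw [← sum_indicator_sub_mul]
    have h1 := hip i j i k
    have hji : ¬ R j i := fun h => hij (hR.symm h)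
    rw [if_pos (hR.refl i), if_neg hik, if_neg hji, if_neg hjk] at h1
    have h5 : ∑ χ : B, ((if χ = a i j hij then (1:ℤ) else 0) - (if χ = b i j hij then 1 else 0)) *
        ((if χ = a i k hik then (1:ℤ) else 0) - (if χ = b i k hik then 1 else 0)) =
        ∑ χ : B, (v i χ - v j χ) * (v i χ - v k χ) :=
      Finset.sum_congr rfl (fun χ _ => by rw [hvab i j hij χ, hvab i k hik χ])
    rw [h5, h1]; ring
  -- class invariance
  have hcl : ∀ (i j j' : I) (hij : ¬ R i j) (hij' : ¬ R i j'), R j j' →
      a i j hij = a i j' hij' ∧ b i j hij = b i j' hij' := by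
    intro i j j' hij hij' hjj'
    apply indicator_sub_unique (hab i j hij)
    intro χ
    rw [← hvab i j hij χ, ← hvab i j' hij' χ, heq j j' hjj' χ]
  -- the dichotomy at `i₀`
  have hdich : (∀ (j : I) (h : ¬ R i₀ j), a i₀ j h = a i₀ j₀ h0) ∨
      (∀ (j : I) (h : ¬ R i₀ j), b i₀ j h = b i₀ j₀ h0) := by
    by_contra hcon
    push_neg at hcon
    obtain ⟨⟨j₁, hj₁, ha₁⟩, ⟨j₂, hj₂, hb₂⟩⟩ := hcon
    have h01 : ¬ R j₀ j₁ := fun h => ha₁ ((hcl i₀ j₀ j₁ h0 hj₁ h).1).symm
    have h02 : ¬ R j₀ j₂ := fun h => hb₂ ((hcl i₀ j₀ j₂ h0 hj₂ h).2).symm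
    have hb₁ : b i₀ j₀ h0 = b i₀ j₁ hj₁ := by
      rcases hT i₀ j₀ j₁ h0 hj₁ h01 with h | h
      · exact absurd h.1.symm ha₁
      · exact h.2
    have ha₂ : a i₀ j₀ h0 = a i₀ j₂ hj₂ := by
      rcases hT i₀ j₀ j₂ h0 hj₂ h02 with h | h
      · exact h.1
      · exact absurd h.2.symm hb₂
    have h12 : ¬ R j₁ j₂ := by
      intro h
      have := (hcl i₀ j₁ j₂ hj₁ hj₂ h).1
      exact ha₁ (this.trans ha₂.symm)
    rcases hT i₀ j₁ j₂ hj₁ hj₂ h12 with h | h
    · exact ha₁ (h.1.trans ha₂.symm)
    · exact hb₂ (h.2.symm.trans hb₁.symm)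
  -- consequences of a representation
  have hfinish : ∀ (δ : ℤ) (w : B → ℤ) (e : I → B), (δ = 1 ∨ δ = -1) →
      (∀ i χ, v i χ = w χ + if χ = e i then δ else 0) →
      (∀ i j, e i = e j ↔ R i j) ∧ (∀ i j, f (e i) = f (e j)) := by
    intro δ w e hδ hrep
    have hδ0 : δ ≠ 0 := by rcases hδ with h | h <;> rw [h] <;> norm_num
    have h1 : ∀ i j, e i = e j ↔ R i j := by
      intro i j
      constructor
      · intro hij
        by_contra hnot
        have h2 := hvab i j hnot (a i j hnot)
        rw [hrep i, hrep j, hij, if_pos rfl, if_neg (hab i j hnot)] at h2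
        omega
      · intro hij
        have h2 := heq i j hij (e i)
        rw [hrep i, hrep j, if_pos rfl] at h2
        by_contra hne
        rw [if_neg hne] at h2
        omega
    refine ⟨h1, ?_⟩
    intro i j
    by_cases hij : R i j
    · rw [(h1 i j).mpr hij]
    · have h2 : ∑ χ : B, (v i χ - v j χ) * f χ = 0 := by
        have e' : ∀ χ : B, (v i χ - v j χ) * f χ = v i χ * f χ - v j χ * f χ := by
          intro χ; ring
        rw [Finset.sum_congr rfl (fun χ _ => e' χ), Finset.sum_sub_distrib, hvf, hvf, sub_zero]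
      have e2 : ∀ χ : B, (v i χ - v j χ) * f χ =
          (if χ = e i then δ * f χ else 0) - (if χ = e j then δ * f χ else 0) := by
        intro χ
        rw [hrep i, hrep j]
        split_ifs <;> ring
      rw [Finset.sum_congr rfl (fun χ _ => e2 χ), Finset.sum_sub_distrib, Finset.sum_ite_eq',
        Finset.sum_ite_eq'] at h2
      simp only [Finset.mem_univ, if_true] at h2
      have h3 : δ * (f (e i) - f (e j)) = 0 := by linear_combination h2
      rcases mul_eq_zero.mp h3 with h4 | h4
      · exact absurd h4 hδ0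
      · omega
  rcases hdich with hplus | hminus
  · -- pattern `+`
    set a₀ := a i₀ j₀ h0 with ha₀
    let e : I → B := fun i => if h : R i₀ i then a₀ else b i₀ i h
    let w : B → ℤ := fun χ => v i₀ χ - if χ = a₀ then 1 else 0
    have hrep : ∀ i χ, v i χ = w χ + if χ = e i then (1 : ℤ) else 0 := by
      intro i χ
      by_cases h : R i₀ i
      · have he : e i = a₀ := dif_pos h
        rw [he, ← heq i₀ i h χ]
        simp only [w]
        ring
      · have he : e i = b i₀ i h := dif_neg h
        have h1 := hvab i₀ i h χ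
        rw [hplus i h] at h1
        rw [he]
        simp only [w]
        split_ifs at h1 ⊢ <;> linarith
    obtain ⟨h1, h2⟩ := hfinish 1 w e (Or.inl rfl) hrep
    exact ⟨1, w, e, Or.inl rfl, hrep, h1, h2⟩
  · -- pattern `-`
    set b₀ := b i₀ j₀ h0 with hb₀
    let e : I → B := fun i => if h : R i₀ i then b₀ else a i₀ i h
    let w : B → ℤ := fun χ => v i₀ χ + if χ = b₀ then 1 else 0
    have hrep : ∀ i χ, v i χ = w χ + if χ = e i then (-1 : ℤ) else 0 := by
      intro i χ
      by_cases h : R i₀ i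
      · have he : e i = b₀ := dif_pos h
        rw [he, ← heq i₀ i h χ]
        simp only [w]
        split_ifs <;> ring
      · have he : e i = a i₀ i h := dif_neg h
        have h1 := hvab i₀ i h χ
        rw [hminus i h] at h1
        rw [he]
        simp only [w]
        split_ifs at h1 ⊢ <;> linarith
    obtain ⟨h1, h2⟩ := hfinish (-1) w e (Or.inr rfl) hrep
    exact ⟨-1, w, e, Or.inr rfl, hrep, h1, h2⟩

end lattice

end Cfsg.Agent.CharLib
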