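import Mathlib
import Cfsg.Agent.Lib.Lead.BrLeo7
import Cfsg.Agent.Lib.Lead.BrLeo5

/-!
lead: Brauer–Leonard (S4709 cluster), part 8: the relation on the dual group, the expansion of a
function in terms of its coefficients, and coefficient orthogonality.
-/

set_option autoImplicit false

namespace Cfsg.Agent.CharLib

open Cfsg Cfsg.Agent.Lib.Helper24 Cfsg.Agent.Lib.Helper6
open scoped ComplexConjugate

universe u v

section dualrel

variable {A : Type u} [Group A] [Finite A]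

theorem dualPow_zero' (β : A ≃* A) (ψ : A →* ℂˣ) : dualPow β 0 ψ = ψ := by
  apply MonoidHom.ext
  intro y
  rw [dualPow_apply, pow_zero]
  rfl

theorem FreeAut.dualPow_m {β : A ≃* A} {m : ℕ} (h : FreeAut β m) (ψ : A →* ℂˣ) :
    dualPow β m ψ = ψ := by
  rw [dualPow_mod h, Nat.mod_self, dualPow_zero']

theorem FreeAut.dualRel_refl {β : A ≃* A} (ψ : A →* ℂˣ) : DualRel β ψ ψ :=
  ⟨0, dualPow_zero' β ψ⟩

theorem FreeAut.dualRel_symm {β : A ≃* A} {m : ℕ} (h : FreeAut β m) (hm : 0 < m)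
    {ψ ψ' : A →* ℂˣ} (hr : DualRel β ψ ψ') : DualRel β ψ' ψ := by
  obtain ⟨k, hk⟩ := hr
  refine ⟨m - k % m, ?_⟩
  rw [← hk, dualPow_mod h k, ← dualPow_add]
  have hlt : k % m < m := Nat.mod_lt k hm
  have : k % m + (m - k % m) = m := by omega
  rw [this, h.dualPow_m]

theorem FreeAut.dualRel_trans {β : A ≃* A} {ψ ψ' ψ'' : A →* ℂˣ} (h1 : DualRel β ψ ψ')
    (h2 : DualRel β ψ' ψ'') : DualRel β ψ ψ'' := by
  obtain ⟨k, hk⟩ := h1
  obtain ⟨j, hj⟩ := h2
  refine ⟨j + k, ?_⟩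
  rw [dualPow_add, hj, hk]

theorem FreeAut.dualRel_iff_lt {β : A ≃* A} {m : ℕ} (h : FreeAut β m) (hm : 0 < m)
    (ψ ψ' : A →* ℂˣ) : DualRel β ψ ψ' ↔ ∃ k, k < m ∧ dualPow β k ψ' = ψ := by
  constructor
  · rintro ⟨k, hk⟩
    exact ⟨k % m, Nat.mod_lt k hm, by rw [← dualPow_mod h, hk]⟩
  · rintro ⟨k, -, hk⟩
    exact ⟨k, hk⟩

theorem dualRel_ne_one {β : A ≃* A} {ψ ψ' : A →* ℂˣ} (hr : DualRel β ψ ψ') (hψ : ψ ≠ 1) :
    ψ' ≠ 1 := by
  intro h1
  obtain ⟨k, hk⟩ := hr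
  rw [h1, dualPow_one'] at hk
  exact hψ hk.symm

open Classical in
theorem FreeAut.card_filter_dualPow {β : A ≃* A} {m : ℕ} (h : FreeAut β m) (hm : 0 < m)
    (ψ ψ' : A →* ℂˣ) (hψ' : ψ' ≠ 1) :
    ((Finset.range m).filter (fun k => dualPow β k ψ' = ψ)).card =
      if DualRel β ψ ψ' then 1 else 0 := by
  by_cases hr : DualRel β ψ ψ'
  · rw [if_pos hr]
    obtain ⟨k, hkm, hk⟩ := (h.dualRel_iff_lt hm ψ ψ').mp hr
    rw [Finset.card_eq_one]
    refine ⟨k, ?_⟩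
    ext j
    rw [Finset.mem_filter, Finset.mem_range, Finset.mem_singleton]
    constructor
    · rintro ⟨hjm, hj⟩
      exact h.dual_unique ψ ψ' hψ' j k hjm hkm hj hk
    · rintro rfl
      exact ⟨hkm, hk⟩
  · rw [if_neg hr, Finset.card_eq_zero, Finset.filter_eq_empty_iff]
    intro k _ hk
    exact hr ⟨k, hk⟩

open Classical in
/-- The class of a non-trivial character has exactly `m` elements. -/
theorem FreeAut.card_dualRel_class {β : A ≃* A} {m : ℕ} (h : FreeAut β m) (hm : 0 < m)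
    [Fintype (A →* ℂˣ)] (ψ : A →* ℂˣ) (hψ : ψ ≠ 1) :
    (Finset.univ.filter (fun ψ' : A →* ℂˣ => DualRel β ψ ψ')).card = m := by
  have h1 : Finset.univ.filter (fun ψ' : A →* ℂˣ => DualRel β ψ ψ') =
      (Finset.range m).image (fun k => dualPow β k ψ) := by
    ext ψ'
    rw [Finset.mem_filter, Finset.mem_image]
    constructor
    · rintro ⟨-, hr⟩
      obtain ⟨k, hkm, hk⟩ := (h.dualRel_iff_lt hm ψ' ψ).mp (h.dualRel_symm hm hr)
      exact ⟨k, Finset.mem_range.mpr hkm, hk⟩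
    · rintro ⟨k, -, hk⟩
      exact ⟨Finset.mem_univ _, h.dualRel_symm hm ⟨k, hk⟩⟩
  rw [h1, Finset.card_image_of_injOn, Finset.card_range]
  intro j hj k hk hjk
  rw [Finset.coe_range, Set.mem_Iio] at hj hk
  exact h.dual_unique _ ψ hψ j k hj hk hjk rfl

end dualrel

section expansion

variable {A : Type u} [Group A] [Fintype A]

theorem multP_one_fun (ψ : A →* ℂˣ) (hψ : ψ ≠ 1) : multP (fun _ : A => (1 : ℂ)) ψ = 0 := by
  unfold multP
  have h2 := sum_hom_eq ψ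
  rw [if_neg hψ] at h2
  have h4 : ∑ y : A, (1 : ℂ) * conj ((ψ y : ℂˣ) : ℂ) = 0 := by
    simp only [one_mul]
    rw [← map_sum, h2, map_zero]
  rw [h4, mul_zero]

theorem multP_one_fun_one : multP (fun _ : A => (1 : ℂ)) (1 : A →* ℂˣ) = 1 := by
  unfold multP
  simp only [MonoidHom.one_apply, Units.val_one, map_one, mul_one, Finset.sum_const,
    Finset.card_univ, nsmul_eq_mul]
  have hN : (Fintype.card A : ℂ) ≠ 0 := by
    exact_mod_cast Fintype.card_ne_zero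
  exact inv_mul_cancel₀ hN

/-- Expansion of a function away from the identity in terms of the differences of multiplicities.
-/
theorem expansion_of_ne_one (hcomm : ∀ a b : A, a * b = b * a) [Fintype (A →* ℂˣ)] (F : A → ℂ)
    (y : A) (hy : y ≠ 1) :
    F y = ∑ ψ : A →* ℂˣ, (multP F ψ - multP F 1) * ((ψ y : ℂˣ) : ℂ) := by
  classical
  have hN : (Fintype.card A : ℂ) ≠ 0 := by
    exact_mod_cast Fintype.card_ne_zero
  have h1 := fourier_inversion hcomm F y
  have h2 := sum_dual_apply hcomm y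
  rw [if_neg hy] at h2
  simp_rw [sub_mul]
  rw [Finset.sum_sub_distrib, ← Finset.mul_sum, h2, mul_zero, sub_zero]
  unfold multP
  simp_rw [mul_assoc]
  rw [← Finset.mul_sum, h1, ← mul_assoc, inv_mul_cancel₀ hN, one_mul]

variable {B : Type v} [Fintype B]

/-- Coefficient orthogonality. -/
theorem sum_coeff_mul_of_orth (X : B → A → ℂ) (Z : B → ℂ)
    (hZ : ∀ y : A, y ≠ 1 → ∑ χ : B, Z χ * X χ y = 0) (ψ : A →* ℂˣ) :
    ∑ χ : B, (multP (X χ) ψ - multP (X χ) 1) * Z χ = 0 := by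
  simp_rw [multP_sub_one]
  have e1 : ∀ χ : B, (Fintype.card A : ℂ)⁻¹ *
      (∑ y : A, X χ y * (conj ((ψ y : ℂˣ) : ℂ) - 1)) * Z χ =
      (Fintype.card A : ℂ)⁻¹ * ∑ y : A, (conj ((ψ y : ℂˣ) : ℂ) - 1) * (Z χ * X χ y) := by
    intro χ
    rw [mul_assoc, Finset.sum_mul]
    congr 1
    apply Finset.sum_congr rfl
    intro y _
    ring
  rw [Finset.sum_congr rfl (fun χ _ => e1 χ), ← Finset.mul_sum, Finset.sum_comm]
  have e2 : ∀ y : A, ∑ χ : B, (conj ((ψ y : ℂˣ) : ℂ) - 1) * (Z χ * X χ y) = 0 := by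
    intro y
    rw [← Finset.mul_sum]
    by_cases hy : y = 1
    · rw [hy]; simp
    · rw [hZ y hy, mul_zero]
  rw [Finset.sum_congr rfl (fun y _ => e2 y), Finset.sum_const_zero, mul_zero]

end expansion

end Cfsg.Agent.CharLib
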