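import Mathlib
import Cfsg.Agent.Lib.Lead.BrLeo8

/-!
lead: Brauer–Leonard (S4709 cluster), part 9: the representation of the coefficient matrix.
-/

set_option autoImplicit false

namespace Cfsg.Agent.CharLib

open Cfsg Cfsg.Agent.Lib.Helper24 Cfsg.Agent.Lib.Helper6
open scoped ComplexConjugate

universe u v

section main

variable {A : Type u} [Group A] [Fintype A] [Fintype (A →* ℂˣ)]

theorem card_dual (hcomm : ∀ a b : A, a * b = b * a) :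
    Fintype.card (A →* ℂˣ) = Fintype.card A := by
  classical
  letI : CommGroup A := { (inferInstance : Group A) with mul_comm := hcomm }
  have hne : NeZero ((Monoid.exponent A : ℕ) : ℂ) :=
    ⟨by exact_mod_cast Monoid.exponent_ne_zero_of_finite⟩
  have := CommGroup.card_monoidHom_of_hasEnoughRootsOfUnity A ℂ
  rw [Nat.card_eq_fintype_card, Nat.card_eq_fintype_card] at this
  exact this

theorem FreeAut.exists_not_dualRel {β : A ≃* A} {m : ℕ} (h : FreeAut β m) (hm : 0 < m)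
    (hm2 : m + 1 < Fintype.card A) (ψ : A →* ℂˣ) (hψ : ψ ≠ 1) :
    ∃ ψ' : A →* ℂˣ, ψ' ≠ 1 ∧ ¬ DualRel β ψ ψ' := by
  classical
  by_contra hcon
  push_neg at hcon
  have h1 : (Finset.univ.erase (1 : A →* ℂˣ)) ⊆
      Finset.univ.filter (fun ψ' : A →* ℂˣ => DualRel β ψ ψ') := by
    intro ψ' hψ'
    rw [Finset.mem_filter]
    exact ⟨Finset.mem_univ _, hcon ψ' (Finset.ne_of_mem_erase hψ')⟩
  have h2 := Finset.card_le_card h1
  rw [Finset.card_erase_of_mem (Finset.mem_univ _), Finset.card_univ, card_dual h.comm] at h2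
  have h3 : (Finset.univ.filter (fun ψ' : A →* ℂˣ => DualRel β ψ ψ')).card = m := by
    convert h.card_dualRel_class hm ψ hψ
  omega

variable {B : Type v} [Fintype B] [DecidableEq B]

/-- The representation data of the Brauer–Leonard theorem. -/
structure BLRep (β : A ≃* A) (m : ℕ) (c : B → (A →* ℂˣ) → ℤ) (δ d : ℤ) (a : B → ℤ)
    (e : (A →* ℂˣ) → B) : Prop where
  hδ : δ = 1 ∨ δ = -1
  erel : ∀ ψ ψ' : A →* ℂˣ, ψ ≠ 1 → ψ' ≠ 1 → (e ψ = e ψ' ↔ DualRel β ψ ψ')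
  rep : ∀ ψ : A →* ℂˣ, ψ ≠ 1 → ∀ χ : B, c χ ψ = -a χ + if χ = e ψ then δ else 0
  ad : ∀ ψ : A →* ℂˣ, ψ ≠ 1 → a (e ψ) = d
  norm : ∑ χ : B, a χ ^ 2 - 2 * δ * d = m

open Classical in
theorem bl_rep (β : A ≃* A) (m : ℕ) (hfree : FreeAut β m) (hm1 : 1 < m)
    (hm2 : m + 1 < Fintype.card A)
    (X : B → A → ℂ) (c : B → (A →* ℂˣ) → ℤ)
    (hc : ∀ χ ψ, (c χ ψ : ℂ) = multP (X χ) ψ - multP (X χ) 1)
    (horth : ∀ y y' : A, y ≠ 1 → y' ≠ 1 → ∑ χ : B, X χ y * conj (X χ y') =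
      (Fintype.card A : ℂ) * ∑ k ∈ Finset.range m, if y' = (β ^ k) y then 1 else 0)
    (f : B → ℤ) (hf : ∀ χ, 0 < f χ)
    (hZf : ∀ y : A, y ≠ 1 → ∑ χ : B, (f χ : ℂ) * X χ y = 0) :
    ∃ (δ d : ℤ) (a : B → ℤ) (e : (A →* ℂˣ) → B), BLRep β m c δ d a e := by
  classical
  have hm0 : 0 < m := by omega
  have hcomm := hfree.comm
  -- the Gram matrix
  have hgram : ∀ i j : {ψ : A →* ℂˣ // ψ ≠ 1}, ∑ χ : B, c χ i.1 * c χ j.1 =
      (m : ℤ) + (if DualRel β i.1 j.1 then 1 else 0) := by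
    intro i j
    have h1 := gram_dual hcomm β m X c hc horth i.1 j.1 i.2 j.2
    have h2 : ((Finset.range m).filter (fun k => dualPow β k j.1 = i.1)).card =
        if DualRel β i.1 j.1 then 1 else 0 := by
      convert hfree.card_filter_dualPow hm0 i.1 j.1 j.2
    rw [h2] at h1
    have h3 : ((∑ χ : B, c χ i.1 * c χ j.1 : ℤ) : ℂ) =
        (((m : ℤ) + (if DualRel β i.1 j.1 then 1 else 0) : ℤ) : ℂ) := by
      rw [h1]
      push_cast
      split_ifs <;> simp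
    exact_mod_cast h3
  have hvf : ∀ i : {ψ : A →* ℂˣ // ψ ≠ 1}, ∑ χ : B, c χ i.1 * f χ = 0 := by
    intro i
    have h1 := sum_coeff_mul_of_orth X (fun χ => (f χ : ℂ)) hZf i.1
    have h3 : ((∑ χ : B, c χ i.1 * f χ : ℤ) : ℂ) = 0 := by
      push_cast
      rw [← h1]
      apply Finset.sum_congr rfl
      intro χ _
      rw [hc]
    exact_mod_cast h3
  -- two unrelated non-trivial characters
  have hcard : 1 < Fintype.card (A →* ℂˣ) := by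
    rw [card_dual hcomm]; omega
  obtain ⟨ψ₀, hψ₀⟩ := Fintype.exists_ne_of_one_lt_card hcard (1 : A →* ℂˣ)
  obtain ⟨ψ₁, hψ₁, hψ₀₁⟩ := hfree.exists_not_dualRel hm0 hm2 ψ₀ hψ₀
  have hR : Equivalence (fun i j : {ψ : A →* ℂˣ // ψ ≠ 1} => DualRel β i.1 j.1) :=
    ⟨fun i => FreeAut.dualRel_refl i.1, fun h => hfree.dualRel_symm hm0 h,
      fun h1 h2 => FreeAut.dualRel_trans h1 h2⟩
  obtain ⟨δ, w, e₀, hδ, hrep, herel, -⟩ := lattice_structure
    (fun i j : {ψ : A →* ℂˣ // ψ ≠ 1} => DualRel β i.1 j.1) hR (fun i χ => c χ i.1) (m : ℤ)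
    (fun i j => by convert hgram i j) f hf hvf ⟨ψ₀, hψ₀⟩ ⟨ψ₁, hψ₁⟩ hψ₀₁
  -- the norm equation
  have hnorm : ∀ i : {ψ : A →* ℂˣ // ψ ≠ 1},
      ∑ χ : B, w χ ^ 2 + 2 * δ * w (e₀ i) + δ ^ 2 = (m : ℤ) + 1 := by
    intro i
    have h1 := hgram i i
    rw [if_pos (FreeAut.dualRel_refl i.1)] at h1
    rw [← h1]
    have e1 : ∀ χ : B, c χ i.1 * c χ i.1 =
        w χ ^ 2 + (if χ = e₀ i then 2 * δ * w χ + δ ^ 2 else 0) := by
      intro χ
      have := hrep i χ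
      rw [this]
      split_ifs <;> ring
    rw [Finset.sum_congr rfl (fun χ _ => e1 χ), Finset.sum_add_distrib, Finset.sum_ite_eq']
    simp only [Finset.mem_univ, if_true]
    ring
  have hδ2 : δ ^ 2 = 1 := by rcases hδ with h | h <;> rw [h] <;> norm_num
  have hconst : ∀ i j : {ψ : A →* ℂˣ // ψ ≠ 1}, w (e₀ i) = w (e₀ j) := by
    intro i j
    have h1 := hnorm i
    have h2 := hnorm j
    have h3 : δ * (w (e₀ i) - w (e₀ j)) = 0 := by linarith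
    rcases mul_eq_zero.mp h3 with h4 | h4
    · rcases hδ with h | h <;> rw [h] at h4 <;> norm_num at h4
    · linarith
  refine ⟨δ, -w (e₀ ⟨ψ₀, hψ₀⟩), fun χ => -w χ,
    fun ψ => if h : ψ ≠ 1 then e₀ ⟨ψ, h⟩ else e₀ ⟨ψ₀, hψ₀⟩, hδ, ?_, ?_, ?_, ?_⟩
  · intro ψ ψ' hψ hψ'
    rw [dif_pos hψ, dif_pos hψ']
    exact herel ⟨ψ, hψ⟩ ⟨ψ', hψ'⟩
  · intro ψ hψ χ
    rw [dif_pos hψ, neg_neg]
    exact hrep ⟨ψ, hψ⟩ χ
  · intro ψ hψ
    rw [dif_pos hψ]
    rw [hconst ⟨ψ, hψ⟩ ⟨ψ₀, hψ₀⟩]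
  · have h1 := hnorm ⟨ψ₀, hψ₀⟩
    have e2 : ∀ χ : B, (-w χ) ^ 2 = w χ ^ 2 := by intro χ; ring
    rw [Finset.sum_congr rfl (fun χ _ => e2 χ)]
    linarith

end main

end Cfsg.Agent.CharLib
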