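import Mathlib
import Cfsg.Agent.Lib.Lead.BrLeo9

/-!
lead: Brauer–Leonard (S4709 cluster), part 10: consequences of the representation.
-/

set_option autoImplicit false

namespace Cfsg.Agent.CharLib

open Cfsg Cfsg.Agent.Lib.Helper24 Cfsg.Agent.Lib.Helper6
open scoped ComplexConjugate

universe u v

section consequences

variable {A : Type u} [Group A] [Fintype A] [Fintype (A →* ℂˣ)]
variable {B : Type v} [Fintype B] [DecidableEq B]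
variable {β : A ≃* A} {m : ℕ} {c : B → (A →* ℂˣ) → ℤ} {δ d : ℤ} {a : B → ℤ}
  {e : (A →* ℂˣ) → B}

open Classical in
/-- The set `Y` of exceptional characters. -/
noncomputable def blY (e : (A →* ℂˣ) → B) : Finset B :=
  (Finset.univ.erase (1 : A →* ℂˣ)).image e

theorem mem_blY (e : (A →* ℂˣ) → B) (χ : B) : χ ∈ blY e ↔ ∃ ψ : A →* ℂˣ, ψ ≠ 1 ∧ e ψ = χ := by
  classical
  unfold blY
  rw [Finset.mem_image]
  constructor
  · rintro ⟨ψ, hψ, rfl⟩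
    exact ⟨ψ, Finset.ne_of_mem_erase hψ, rfl⟩
  · rintro ⟨ψ, hψ, rfl⟩
    exact ⟨ψ, Finset.mem_erase.mpr ⟨hψ, Finset.mem_univ _⟩, rfl⟩

theorem BLRep.delta_sq (h : BLRep β m c δ d a e) : δ ^ 2 = 1 := by
  rcases h.hδ with h1 | h1 <;> rw [h1] <;> norm_num

theorem BLRep.delta_ne (h : BLRep β m c δ d a e) : (δ : ℂ) ≠ 0 := by
  rcases h.hδ with h1 | h1 <;> rw [h1] <;> norm_num

open Classical in
/-- Values away from the identity. -/
theorem BLRep.value (h : BLRep β m c δ d a e) (hcomm : ∀ a b : A, a * b = b * a)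
    (X : B → A → ℂ) (hc : ∀ χ ψ, (c χ ψ : ℂ) = multP (X χ) ψ - multP (X χ) 1) (χ : B) (y : A)
    (hy : y ≠ 1) :
    X χ y = (a χ : ℂ) + (δ : ℂ) *
      ∑ ψ ∈ Finset.univ.filter (fun ψ : A →* ℂˣ => ψ ≠ 1 ∧ e ψ = χ), ((ψ y : ℂˣ) : ℂ) := by
  have h1 := expansion_of_ne_one hcomm (X χ) y hy
  have hc1 : (c χ 1 : ℂ) = 0 := by rw [hc]; ring
  have e1 : ∀ ψ : A →* ℂˣ, (multP (X χ) ψ - multP (X χ) 1) * ((ψ y : ℂˣ) : ℂ) =
      (-(a χ : ℂ)) * ((ψ y : ℂˣ) : ℂ) + (if ψ = 1 then (a χ : ℂ) else 0) +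
        (if ψ ≠ 1 ∧ e ψ = χ then (δ : ℂ) * ((ψ y : ℂˣ) : ℂ) else 0) := by
    intro ψ
    rw [← hc]
    by_cases hψ : ψ = 1
    · rw [hψ, hc1]
      simp
    · rw [h.rep ψ hψ χ]
      by_cases hχ : χ = e ψ
      · rw [if_pos hχ, if_neg hψ, if_pos ⟨hψ, hχ.symm⟩]
        push_cast
        ring
      · rw [if_neg hχ, if_neg hψ, if_neg (fun h' => hχ h'.2.symm)]
        push_cast
        ring
  have h2 := sum_dual_apply hcomm y
  rw [if_neg hy] at h2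
  rw [h1, Finset.sum_congr rfl (fun ψ _ => e1 ψ), Finset.sum_add_distrib, Finset.sum_add_distrib,
    ← Finset.mul_sum, h2, mul_zero, zero_add, Finset.sum_ite_eq', ← Finset.sum_filter,
    Finset.mul_sum]
  simp

open Classical in
theorem BLRep.filter_eq (h : BLRep β m c δ d a e) (hfree : FreeAut β m) (hm0 : 0 < m)
    (ψ₀ : A →* ℂˣ) (hψ₀ : ψ₀ ≠ 1) :
    Finset.univ.filter (fun ψ : A →* ℂˣ => ψ ≠ 1 ∧ e ψ = e ψ₀) =
      Finset.univ.filter (fun ψ : A →* ℂˣ => DualRel β ψ₀ ψ) := by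
  ext ψ
  simp only [Finset.mem_filter, Finset.mem_univ, true_and]
  constructor
  · rintro ⟨h3, h4⟩
    exact hfree.dualRel_symm hm0 ((h.erel ψ ψ₀ h3 hψ₀).mp h4)
  · intro h3
    have h4 := dualRel_ne_one h3 hψ₀
    exact ⟨h4, (h.erel ψ ψ₀ h4 hψ₀).mpr (hfree.dualRel_symm hm0 h3)⟩

open Classical in
/-- Values of the exceptional characters away from the identity. -/
theorem BLRep.value_exceptional (h : BLRep β m c δ d a e) (hfree : FreeAut β m) (hm0 : 0 < m)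
    (X : B → A → ℂ) (hc : ∀ χ ψ, (c χ ψ : ℂ) = multP (X χ) ψ - multP (X χ) 1)
    (ψ₀ : A →* ℂˣ) (hψ₀ : ψ₀ ≠ 1) (y : A) (hy : y ≠ 1) :
    X (e ψ₀) y = (d : ℂ) + (δ : ℂ) *
      ∑ ψ ∈ Finset.univ.filter (fun ψ : A →* ℂˣ => DualRel β ψ₀ ψ), ((ψ y : ℂˣ) : ℂ) := by
  rw [h.value hfree.comm X hc (e ψ₀) y hy, h.filter_eq hfree hm0 ψ₀ hψ₀, h.ad ψ₀ hψ₀]

/-- Values of the non-exceptional characters away from the identity. -/
theorem BLRep.value_nonexceptional (h : BLRep β m c δ d a e) (hcomm : ∀ a b : A, a * b = b * a)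
    (X : B → A → ℂ) (hc : ∀ χ ψ, (c χ ψ : ℂ) = multP (X χ) ψ - multP (X χ) 1)
    (χ : B) (hχ : χ ∉ blY e) (y : A) (hy : y ≠ 1) : X χ y = (a χ : ℂ) := by
  classical
  rw [h.value hcomm X hc χ y hy]
  have : Finset.univ.filter (fun ψ : A →* ℂˣ => ψ ≠ 1 ∧ e ψ = χ) = ∅ := by
    rw [Finset.filter_eq_empty_iff]
    intro ψ _ hψ
    exact hχ ((mem_blY e χ).mpr ⟨ψ, hψ.1, hψ.2⟩)
  rw [this, Finset.sum_empty, mul_zero, add_zero]

/-- The number of exceptional characters. -/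
theorem BLRep.card_blY (h : BLRep β m c δ d a e) (hfree : FreeAut β m) (hm0 : 0 < m) :
    (blY e).card * m = Fintype.card A - 1 := by
  classical
  have h1 := Finset.card_eq_sum_card_image e (Finset.univ.erase (1 : A →* ℂˣ))
  have h2 : ∀ b ∈ (Finset.univ.erase (1 : A →* ℂˣ)).image e,
      ((Finset.univ.erase (1 : A →* ℂˣ)).filter (fun ψ => e ψ = b)).card = m := by
    intro b hb
    obtain ⟨ψ₀, hψ₀, rfl⟩ := Finset.mem_image.mp hb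
    have hψ₀' := Finset.ne_of_mem_erase hψ₀
    have h5 : (Finset.univ.filter (fun ψ' : A →* ℂˣ => DualRel β ψ₀ ψ')).card = m := by
      convert hfree.card_dualRel_class hm0 ψ₀ hψ₀'
    rw [← h5]
    congr 1
    ext ψ
    simp only [Finset.mem_filter, Finset.mem_erase, Finset.mem_univ, and_true, true_and]
    constructor
    · rintro ⟨h3, h4⟩
      exact hfree.dualRel_symm hm0 ((h.erel ψ ψ₀ h3 hψ₀').mp h4)
    · intro h3
      have h4 := dualRel_ne_one h3 hψ₀'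
      exact ⟨h4, (h.erel ψ ψ₀ h4 hψ₀').mpr (hfree.dualRel_symm hm0 h3)⟩
  rw [Finset.sum_congr rfl h2, Finset.sum_const, smul_eq_mul,
    Finset.card_erase_of_mem (Finset.mem_univ _), Finset.card_univ, card_dual hfree.comm] at h1
  unfold blY
  convert h1.symm

/-- The basic relation for a vector orthogonal to the columns. -/
theorem BLRep.sum_Z (h : BLRep β m c δ d a e) (X : B → A → ℂ)
    (hc : ∀ χ ψ, (c χ ψ : ℂ) = multP (X χ) ψ - multP (X χ) 1) (Z : B → ℂ)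
    (hZ : ∀ y : A, y ≠ 1 → ∑ χ : B, Z χ * X χ y = 0) (ψ : A →* ℂˣ) (hψ : ψ ≠ 1) :
    -(∑ χ : B, (a χ : ℂ) * Z χ) + (δ : ℂ) * Z (e ψ) = 0 := by
  have h1 := sum_coeff_mul_of_orth X Z hZ ψ
  have e1 : ∀ χ : B, (multP (X χ) ψ - multP (X χ) 1) * Z χ =
      -((a χ : ℂ) * Z χ) + (if χ = e ψ then (δ : ℂ) * Z χ else 0) := by
    intro χ
    rw [← hc, h.rep ψ hψ χ]
    split_ifs <;> push_cast <;> ring
  rw [Finset.sum_congr rfl (fun χ _ => e1 χ), Finset.sum_add_distrib, Finset.sum_neg_distrib,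
    Finset.sum_ite_eq'] at h1
  simpa using h1

theorem BLRep.Z_const (h : BLRep β m c δ d a e) (X : B → A → ℂ)
    (hc : ∀ χ ψ, (c χ ψ : ℂ) = multP (X χ) ψ - multP (X χ) 1) (Z : B → ℂ)
    (hZ : ∀ y : A, y ≠ 1 → ∑ χ : B, Z χ * X χ y = 0) (ψ ψ' : A →* ℂˣ) (hψ : ψ ≠ 1)
    (hψ' : ψ' ≠ 1) : Z (e ψ) = Z (e ψ') := by
  have h1 := h.sum_Z X hc Z hZ ψ hψ
  have h2 := h.sum_Z X hc Z hZ ψ' hψ'
  have h3 : (δ : ℂ) * (Z (e ψ) - Z (e ψ')) = 0 := by linear_combination h1 - h2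
  rcases mul_eq_zero.mp h3 with h4 | h4
  · exact absurd h4 h.delta_ne
  · exact sub_eq_zero.mp h4

theorem BLRep.Z_rel (h : BLRep β m c δ d a e) (X : B → A → ℂ)
    (hc : ∀ χ ψ, (c χ ψ : ℂ) = multP (X χ) ψ - multP (X χ) 1) (Z : B → ℂ)
    (hZ : ∀ y : A, y ≠ 1 → ∑ χ : B, Z χ * X χ y = 0) (ψ : A →* ℂˣ) (hψ : ψ ≠ 1) :
    (((blY e).card : ℂ) * (d : ℂ) - (δ : ℂ)) * Z (e ψ) +
      ∑ χ ∈ Finset.univ \ blY e, (a χ : ℂ) * Z χ = 0 := by
  have h1 := h.sum_Z X hc Z hZ ψ hψ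
  have h2 : ∑ χ ∈ Finset.univ \ blY e, (a χ : ℂ) * Z χ + ∑ χ ∈ blY e, (a χ : ℂ) * Z χ =
      ∑ χ : B, (a χ : ℂ) * Z χ := Finset.sum_sdiff (Finset.subset_univ _)
  have h3 : ∑ χ ∈ blY e, (a χ : ℂ) * Z χ = ((blY e).card : ℂ) * ((d : ℂ) * Z (e ψ)) := by
    rw [← nsmul_eq_mul, ← Finset.sum_const]
    apply Finset.sum_congr rfl
    intro χ hχ
    obtain ⟨ψ', hψ', rfl⟩ := (mem_blY e χ).mp hχ
    rw [h.ad ψ' hψ', h.Z_const X hc Z hZ ψ' ψ hψ' hψ]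
  have hδ2 : (δ : ℂ) ^ 2 = 1 := by exact_mod_cast h.delta_sq
  rw [← h2, h3] at h1
  -- multiply `h1` by `-1` ... and use δ² = 1? no: direct
  linear_combination (-1 : ℂ) * h1

theorem BLRep.norm' (h : BLRep β m c δ d a e) :
    (d - δ) ^ 2 + (((blY e).card : ℤ) - 1) * d ^ 2 + ∑ χ ∈ Finset.univ \ blY e, a χ ^ 2 =
      (m : ℤ) + 1 := by
  have h1 := h.norm
  have h2 : ∑ χ ∈ Finset.univ \ blY e, a χ ^ 2 + ∑ χ ∈ blY e, a χ ^ 2 =
      ∑ χ : B, a χ ^ 2 := Finset.sum_sdiff (Finset.subset_univ _)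
  have h3 : ∑ χ ∈ blY e, a χ ^ 2 = ((blY e).card : ℤ) * d ^ 2 := by
    rw [← nsmul_eq_mul, ← Finset.sum_const]
    apply Finset.sum_congr rfl
    intro χ hχ
    obtain ⟨ψ', hψ', rfl⟩ := (mem_blY e χ).mp hχ
    rw [h.ad ψ' hψ']
  have hδ2 := h.delta_sq
  rw [← h2, h3] at h1
  linear_combination h1 + hδ2

theorem BLRep.card_compl_le (h : BLRep β m c δ d a e)
    (ha : ∀ χ ∈ Finset.univ \ blY e, a χ ≠ 0) (hr : 2 ≤ (blY e).card) :
    (Finset.univ \ blY e).card ≤ m := by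
  have h1 := h.norm'
  have h2 : ((Finset.univ \ blY e).card : ℤ) ≤ ∑ χ ∈ Finset.univ \ blY e, a χ ^ 2 := by
    rw [Finset.card_eq_sum_ones]
    push_cast
    apply Finset.sum_le_sum
    intro χ hχ
    have := ha χ hχ
    have h3 : 0 < a χ ^ 2 := by positivity
    omega
  have h3 : 1 ≤ (d - δ) ^ 2 + (((blY e).card : ℤ) - 1) * d ^ 2 := by
    by_cases hd : d = 0
    · rw [hd]
      have := h.delta_sq
      nlinarith
    · have h4 : 1 ≤ d ^ 2 := by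
        have : 0 < d ^ 2 := by positivity
        omega
      have h5 : (1 : ℤ) ≤ ((blY e).card : ℤ) - 1 := by
        have : (2 : ℤ) ≤ ((blY e).card : ℤ) := by exact_mod_cast hr
        omega
      nlinarith [sq_nonneg (d - δ)]
  have : ((Finset.univ \ blY e).card : ℤ) ≤ (m : ℤ) := by linarith
  exact_mod_cast this

/-- The trivial character is not exceptional. -/
theorem BLRep.triv_not_mem (h : BLRep β m c δ d a e) (hfree : FreeAut β m) (hm0 : 0 < m)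
    (hm2 : m + 1 < Fintype.card A) (X : B → A → ℂ)
    (hc : ∀ χ ψ, (c χ ψ : ℂ) = multP (X χ) ψ - multP (X χ) 1) (χ₁ : B)
    (hχ₁ : ∀ y : A, X χ₁ y = 1) : χ₁ ∉ blY e := by
  intro hmem
  obtain ⟨ψ₀, hψ₀, hψ₀e⟩ := (mem_blY e χ₁).mp hmem
  obtain ⟨ψ₁, hψ₁, hψ₀₁⟩ := hfree.exists_not_dualRel hm0 hm2 ψ₀ hψ₀
  have hX : X χ₁ = fun _ => (1 : ℂ) := funext hχ₁
  have hcv : ∀ ψ : A →* ℂˣ, ψ ≠ 1 → c χ₁ ψ = -1 := by
    intro ψ hψ
    have h1 := hc χ₁ ψ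
    rw [hX, multP_one_fun ψ hψ, multP_one_fun_one] at h1
    have h2 : (c χ₁ ψ : ℂ) = ((-1 : ℤ) : ℂ) := by rw [h1]; push_cast; ring
    exact_mod_cast h2
  have h1 := h.rep ψ₀ hψ₀ χ₁
  have h2 := h.rep ψ₁ hψ₁ χ₁
  rw [hcv ψ₀ hψ₀, if_pos hψ₀e.symm] at h1
  have hne : χ₁ ≠ e ψ₁ := by
    intro h3
    apply hψ₀₁
    exact (h.erel ψ₀ ψ₁ hψ₀ hψ₁).mp (hψ₀e.trans h3)
  rw [hcv ψ₁ hψ₁, if_neg hne] at h2
  rcases h.hδ with h3 | h3 <;> rw [h3] at h1 <;> omega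

end consequences

end Cfsg.Agent.CharLib
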