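import Mathlib
import Cfsg.Agent.Lib.Helper2.KleinSylow
import Cfsg.Agent.Lib.Helper1.NormalPComplement
import Cfsg.Agent.Lib.Helper12.Cores
import Cfsg.Agent.Lib.Helper12.PNilpotent

/-!
lead: the centralizer of an involution in a group with Klein four Sylow 2-subgroups has a normal
2-complement.
-/

set_option autoImplicit false

namespace Cfsg.Agent.CharLib

open Cfsg

section general

variable {X : Type*} [Group X] [Finite X]

/-- If an abelian Sylow `p`-subgroup `Q` is normalized by `n` and a `p`-power of `n` centralizes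
`Q`, then `n` centralizes `Q`. -/
theorem mem_centralizer_sylow_of_pow_mem {p : ℕ} [hpp : Fact p.Prime] (Q : Sylow p X)
    (hab : ∀ x ∈ Q, ∀ y ∈ Q, x * y = y * x) (n : X)
    (hn : n ∈ Subgroup.normalizer ((Q : Subgroup X) : Set X)) (j : ℕ)
    (hj : n ^ (p ^ j) ∈ Subgroup.centralizer ((Q : Subgroup X) : Set X)) :
    n ∈ Subgroup.centralizer ((Q : Subgroup X) : Set X) := by
  have hp := hpp.out
  obtain ⟨e, m, hm, ho⟩ := Nat.exists_eq_pow_mul_and_not_dvd (orderOf_pos n).ne' p hp.ne_one
  -- `n ^ m` is a `p`-element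
  have h1 : (n ^ m) ^ (p ^ e) = 1 := by
    rw [← pow_mul, mul_comm, ← ho, pow_orderOf_eq_one]
  have hpg : IsPGroup p (Subgroup.zpowers (n ^ m)) := by
    obtain ⟨e', -, he'⟩ := (Nat.dvd_prime_pow hp).mp (orderOf_dvd_of_pow_eq_one h1)
    apply IsPGroup.of_card (n := e')
    rw [Nat.card_zpowers, he']
  have hnm : n ^ m ∈ Subgroup.normalizer ((Q : Subgroup X) : Set X) := Subgroup.pow_mem _ hn m
  have h3 := hpg.inf_normalizer_sylow Q
  have h4 : n ^ m ∈ Subgroup.zpowers (n ^ m) ⊓ Subgroup.normalizer ((Q : Subgroup X) : Set X) :=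
    Subgroup.mem_inf.mpr ⟨Subgroup.mem_zpowers _, hnm⟩
  have h4' : n ^ m ∈ Subgroup.zpowers (n ^ m) ⊓ (Q : Subgroup X) := h3 ▸ h4
  have hnmQ : n ^ m ∈ (Q : Subgroup X) := (Subgroup.mem_inf.mp h4').2
  have hnmC : n ^ m ∈ Subgroup.centralizer ((Q : Subgroup X) : Set X) := by
    rw [Subgroup.mem_centralizer_iff]
    intro x hx
    exact hab x hx _ hnmQ
  -- Bezout
  have hcop : Nat.Coprime m (p ^ j) := by
    apply Nat.Coprime.pow_right
    exact ((Nat.Prime.coprime_iff_not_dvd hp).mpr hm).symm
  obtain ⟨u, v, huv⟩ := Nat.isCoprime_iff_coprime.mpr hcop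
  have h5 : n = (n ^ m) ^ u * (n ^ (p ^ j)) ^ v := by
    rw [← zpow_natCast n m, ← zpow_natCast n (p ^ j), ← zpow_mul, ← zpow_mul, ← zpow_add]
    have : (m : ℤ) * u + ((p ^ j : ℕ) : ℤ) * v = 1 := by
      rw [← huv]; ring
    rw [this, zpow_one]
  rw [h5]
  exact Subgroup.mul_mem _ (Subgroup.zpow_mem _ hnmC u) (Subgroup.zpow_mem _ hj v)

/-- In a group with Klein four Sylow 2-subgroup `Q`, an element normalizing `Q` and centralizing
an involution of `Q` has its square in the centralizer of `Q`. -/
theorem sq_mem_centralizer_klein (Q : Sylow 2 X) (hQ : IsKleinFour (Q : Subgroup X))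
    (z : X) (hzQ : z ∈ Q) (hz1 : z ≠ 1) (n : X)
    (hn : n ∈ Subgroup.normalizer ((Q : Subgroup X) : Set X)) (hnz : n * z = z * n) :
    n ^ 2 ∈ Subgroup.centralizer ((Q : Subgroup X) : Set X) := by
  rw [Subgroup.mem_centralizer_iff]
  intro x hx
  have hnorm := Subgroup.mem_normalizer_iff.mp hn
  have hw : n * x * n⁻¹ ∈ (Q : Subgroup X) := (hnorm x).mp hx
  have hzz : z * z = 1 := Cfsg.Agent.Lib.Helper2.klein_sq Q hQ z hzQ
  by_cases hx1 : x = 1
  · rw [hx1, one_mul, mul_one]
  by_cases hxz : x = z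
  · rw [hxz, pow_two]
    calc z * (n * n) = (z * n) * n := by group
      _ = (n * z) * n := by rw [hnz]
      _ = n * (z * n) := by group
      _ = n * (n * z) := by rw [hnz]
      _ = n * n * z := by group
  by_cases hwx : n * x * n⁻¹ = x
  · have h1 : n * x = x * n := by
      calc n * x = (n * x * n⁻¹) * n := by group
        _ = x * n := by rw [hwx]
    rw [pow_two]
    calc x * (n * n) = (x * n) * n := by group
      _ = (n * x) * n := by rw [h1]
      _ = n * (x * n) := by group
      _ = n * (n * x) := by rw [h1]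
      _ = n * n * x := by group
  · have hw1 : n * x * n⁻¹ ≠ 1 := by
      intro h
      apply hx1
      have : x = n⁻¹ * (n * x * n⁻¹) * n := by group
      rw [this, h]; group
    have hwz : n * x * n⁻¹ ≠ z := by
      intro h
      apply hxz
      have h2 : n⁻¹ * z * n = z := by
        calc n⁻¹ * z * n = n⁻¹ * (z * n) := by group
          _ = n⁻¹ * (n * z) := by rw [hnz]
          _ = z := by group
      have : x = n⁻¹ * (n * x * n⁻¹) * n := by group
      rw [this, h, h2]
    have h3 : n * x * n⁻¹ = z * x :=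
      Cfsg.Agent.Lib.Helper2.klein_third Q hQ hzQ hx hw hz1 hx1 (Ne.symm hxz) hw1 hwz hwx
    have h4 : n * (z * x) * n⁻¹ = x := by
      calc n * (z * x) * n⁻¹ = (n * z) * x * n⁻¹ := by group
        _ = (z * n) * x * n⁻¹ := by rw [hnz]
        _ = z * (n * x * n⁻¹) := by group
        _ = z * (z * x) := by rw [h3]
        _ = (z * z) * x := by group
        _ = x := by rw [hzz, one_mul]
    rw [pow_two]
    calc x * (n * n) = (n * (z * x) * n⁻¹) * (n * n) := by rw [h4]
      _ = n * (z * x) * n := by group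
      _ = n * (n * x * n⁻¹) * n := by rw [h3]
      _ = n * n * x := by group

/-- A group with Klein four Sylow 2-subgroup containing a central involution has a normal
2-complement. -/
theorem hasNormalPComplement_of_klein_central (Q : Sylow 2 X) (hQ : IsKleinFour (Q : Subgroup X))
    (z : X) (hzQ : z ∈ Q) (hz1 : z ≠ 1) (hzc : ∀ n : X, n * z = z * n) :
    HasNormalPComplement 2 X := by
  haveI : Fact (Nat.Prime 2) := ⟨Nat.prime_two⟩
  apply Cfsg.Agent.Lib.Helper1.hasNormalPComplement_of_normalizer_le_centralizer Q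
  intro n hn
  have h1 := sq_mem_centralizer_klein Q hQ z hzQ hz1 n hn (hzc n)
  apply mem_centralizer_sylow_of_pow_mem Q (Cfsg.Agent.Lib.Helper2.klein_comm Q hQ) n hn 1
  rw [pow_one]
  exact h1

/-- A normal `p`-complement forces `O_{p'}` to have `p`-power index. -/
theorem exists_index_pPrimeCore_of_hasNormalPComplement {p : ℕ} [hpp : Fact p.Prime]
    (h : HasNormalPComplement p X) : ∃ k : ℕ, (pPrimeCore p X).index = p ^ k := by
  obtain ⟨P, N, hN, hc⟩ := h
  have hcop := Cfsg.Agent.Lib.Helper12.coprime_card_of_isComplement' P N hc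
  have hle : N ≤ pPrimeCore p X := Cfsg.Agent.Lib.Helper12.le_pPrimeCore p N hN hcop
  have h1 : (pPrimeCore p X).index ∣ N.index := Subgroup.index_dvd_of_le hle
  have h2 : N.index = Nat.card P := by
    have h3 := hc.card_mul_card
    have h4 := Subgroup.card_mul_index N
    have hpos : 0 < Nat.card N := Nat.card_pos
    have : Nat.card N * N.index = Nat.card N * Nat.card P := by rw [h4, h3]
    exact Nat.eq_of_mul_eq_mul_left hpos this
  obtain ⟨a, ha⟩ := IsPGroup.iff_card.mp P.2
  rw [h2] at h1
  have ha' : Nat.card P = p ^ a := ha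
  rw [ha'] at h1
  obtain ⟨k, -, hk⟩ := (Nat.dvd_prime_pow hpp.out).mp h1
  exact ⟨k, hk⟩

end general

section centralizer

variable {G : Type*} [Group G] [Finite G]

/-- The centralizer of an involution in a group with Klein four Sylow 2-subgroups has a normal
2-complement: `O_{2'}` of it has 2-power index. -/
theorem exists_index_pPrimeCore_centralizer_klein (P : Sylow 2 G)
    (hP : IsKleinFour (P : Subgroup G)) (z : G) (hzP : z ∈ P) (hz1 : z ≠ 1) :
    ∃ k : ℕ, (pPrimeCore 2 (Subgroup.centralizer ({z} : Set G))).index = 2 ^ k := by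
  haveI : Fact (Nat.Prime 2) := ⟨Nat.prime_two⟩
  have hPC : (P : Subgroup G) ≤ Subgroup.centralizer ({z} : Set G) := by
    intro x hx
    rw [Subgroup.mem_centralizer_singleton_iff]
    exact Cfsg.Agent.Lib.Helper2.klein_comm P hP x hx z hzP
  have hzC : z ∈ Subgroup.centralizer ({z} : Set G) := hPC hzP
  let Q : Sylow 2 (Subgroup.centralizer ({z} : Set G)) := P.subtype hPC
  have e : ((Q : Subgroup (Subgroup.centralizer ({z} : Set G)))) ≃* (P : Subgroup G) :=
    Subgroup.subgroupOfEquivOfLe hPC
  have hQ : IsKleinFour (Q : Subgroup (Subgroup.centralizer ({z} : Set G))) :=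
    ⟨by rw [Nat.card_congr e.toEquiv]; exact hP.card_four,
     by rw [Monoid.exponent_eq_of_mulEquiv e]; exact hP.exponent_two⟩
  apply exists_index_pPrimeCore_of_hasNormalPComplement
  apply hasNormalPComplement_of_klein_central Q hQ ⟨z, hzC⟩
  · change (⟨z, hzC⟩ : Subgroup.centralizer ({z} : Set G)) ∈
      (P : Subgroup G).subgroupOf (Subgroup.centralizer ({z} : Set G))
    rw [Subgroup.mem_subgroupOf]
    exact hzP
  · intro h
    exact hz1 (congrArg Subtype.val h)
  · intro n
    have := n.2
    rw [Subgroup.mem_centralizer_singleton_iff] at this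
    apply Subtype.ext
    exact this

end centralizer

end Cfsg.Agent.CharLib
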