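import Mathlib
import Cfsg.Agent.Lib.Helper6.OneBlock
import Cfsg.Agent.Lib.Lead.BlockBasic
/-! Orbit-counting modulo the local ideal (2-power order permutations), character values at
`p`-elements modulo the local ideal, invariance of block idempotent coefficients under twists. -/
open Cfsg Cfsg.Agent.Lib.Helper24 Cfsg.Agent.Lib.Helper6
open scoped ComplexConjugate
namespace Cfsg.Agent.CharLib
universe u

section orbit
variable {M : Ideal AlgInt} [hp : M.IsPrime] {α : Type*} [DecidableEq α]

/-- A fixed-point-free involution compatible with `f` modulo the local ideal (which contains 2):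
the sum of `f` lies in the local ideal. -/
theorem sum_memLocalIdeal_of_involution (h2 : MemLocalIdeal M (2 : ℂ)) (π : α → α) (f : α → ℂ) :
    ∀ (s : Finset α), (∀ a ∈ s, π a ∈ s) → (∀ a ∈ s, π (π a) = a) → (∀ a ∈ s, π a ≠ a) →
    (∀ a ∈ s, MemLocalRing M (f a)) → (∀ a ∈ s, MemLocalIdeal M (f (π a) - f a)) →
    MemLocalIdeal M (∑ a ∈ s, f a) := by
  intro s
  induction s using Finset.strongInduction with
  | H s ih =>
    intro hs hinv hfix hR hI
    rcases s.eq_empty_or_nonempty with rfl | ⟨a, ha⟩
    · rw [Finset.sum_empty]; exact memLocalIdeal_zero hp.one_notMem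
    · have hπa : π a ∈ s.erase a := Finset.mem_erase.mpr ⟨hfix a ha, hs a ha⟩
      have hsum : ∑ x ∈ s, f x = f a + (f (π a) + ∑ x ∈ (s.erase a).erase (π a), f x) := by
        rw [← Finset.add_sum_erase s f ha, ← Finset.add_sum_erase (s.erase a) f hπa]
      rw [hsum]
      have hsub : (s.erase a).erase (π a) ⊆ s :=
        (Finset.erase_subset _ _).trans (Finset.erase_subset _ _)
      have hss : (s.erase a).erase (π a) ⊂ s := by
        refine ⟨hsub, fun h => ?_⟩
        have := h ha
        rw [Finset.mem_erase, Finset.mem_erase] at this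
        exact this.2.1 rfl
      have hmem : ∀ b ∈ (s.erase a).erase (π a), b ∈ s ∧ b ≠ a ∧ b ≠ π a := by
        intro b hb
        rw [Finset.mem_erase, Finset.mem_erase] at hb
        exact ⟨hb.2.2, hb.2.1, hb.1⟩
      have hrest := ih _ hss
        (fun b hb => by
          obtain ⟨hbs, hba, hbπ⟩ := hmem b hb
          rw [Finset.mem_erase, Finset.mem_erase]
          refine ⟨?_, ?_, hs b hbs⟩
          · intro h
            apply hba
            rw [← hinv b hbs, h, hinv a ha]
          · intro h
            apply hbπ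
            rw [← hinv b hbs, h])
        (fun b hb => hinv b (hmem b hb).1)
        (fun b hb => hfix b (hmem b hb).1)
        (fun b hb => hR b (hmem b hb).1)
        (fun b hb => hI b (hmem b hb).1)
      have h1 : f a + (f (π a) + ∑ x ∈ (s.erase a).erase (π a), f x) =
          (2 * f a + (f (π a) - f a)) + ∑ x ∈ (s.erase a).erase (π a), f x := by ring
      rw [h1]
      exact memLocalIdeal_add (memLocalIdeal_add (memLocalIdeal_mul_right h2 (hR a ha)) (hI a ha))
        hrest

/-- A permutation of 2-power order, without fixed points on the stable set `s`, compatible with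
`f` modulo the local ideal: the sum of `f` over `s` lies in the local ideal. -/
theorem sum_memLocalIdeal_of_perm_two_pow (h2 : MemLocalIdeal M (2 : ℂ)) (f : α → ℂ) :
    ∀ (n : ℕ) (π : Equiv.Perm α) (s : Finset α), (∀ a ∈ s, π a ∈ s) → π ^ (2 ^ n) = 1 →
    (∀ a ∈ s, π a ≠ a) → (∀ a ∈ s, MemLocalRing M (f a)) →
    (∀ a ∈ s, MemLocalIdeal M (f (π a) - f a)) → MemLocalIdeal M (∑ a ∈ s, f a) := by
  intro n
  induction n with
  | zero =>
    intro π s hs hπ hfix hR hI
    rw [pow_zero, pow_one] at hπ
    have : s = ∅ := by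
      apply Finset.eq_empty_of_forall_notMem
      intro a ha
      apply hfix a ha
      rw [hπ]; rfl
    rw [this, Finset.sum_empty]; exact memLocalIdeal_zero hp.one_notMem
  | succ n ih =>
    intro π s hs hπ hfix hR hI
    rw [← Finset.sum_filter_add_sum_filter_not s (fun a => (π ^ 2) a = a)]
    have hρ : ∀ a, (π ^ 2) a = π (π a) := fun a => by rw [pow_two]; rfl
    apply memLocalIdeal_add
    · apply sum_memLocalIdeal_of_involution h2 π f
      · intro a ha
        rw [Finset.mem_filter] at ha ⊢
        refine ⟨hs a ha.1, ?_⟩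
        rw [hρ] at ha ⊢
        rw [ha.2]
      · intro a ha
        rw [Finset.mem_filter, hρ] at ha
        exact ha.2
      · intro a ha
        exact hfix a (Finset.mem_filter.mp ha).1
      · intro a ha
        exact hR a (Finset.mem_filter.mp ha).1
      · intro a ha
        exact hI a (Finset.mem_filter.mp ha).1
    · apply ih (π ^ 2)
      · intro a ha
        rw [Finset.mem_filter] at ha ⊢
        refine ⟨?_, ?_⟩
        · rw [hρ]; exact hs _ (hs a ha.1)
        · intro h
          exact ha.2 ((π ^ 2).injective h)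
      · rw [← pow_mul, ← pow_succ']; exact hπ
      · intro a ha
        exact (Finset.mem_filter.mp ha).2
      · intro a ha
        exact hR a (Finset.mem_filter.mp ha).1
      · intro a ha
        have has := (Finset.mem_filter.mp ha).1
        have h1 : f ((π ^ 2) a) - f a = (f (π (π a)) - f (π a)) + (f (π a) - f a) := by
          rw [hρ]; ring
        rw [h1]
        exact memLocalIdeal_add (hI _ (hs a has)) (hI a has)

/-- Orbit counting modulo the local ideal: only the fixed points of a permutation of 2-power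
order contribute. -/
theorem sum_sub_sum_fixed_memLocalIdeal (h2 : MemLocalIdeal M (2 : ℂ)) (f : α → ℂ) (n : ℕ)
    (π : Equiv.Perm α) (s : Finset α) (hs : ∀ a ∈ s, π a ∈ s) (hπ : π ^ (2 ^ n) = 1)
    (hR : ∀ a ∈ s, MemLocalRing M (f a)) (hI : ∀ a ∈ s, MemLocalIdeal M (f (π a) - f a)) :
    MemLocalIdeal M (∑ a ∈ s, f a - ∑ a ∈ s.filter (fun a => π a = a), f a) := by
  rw [← Finset.sum_filter_add_sum_filter_not s (fun a => π a = a), add_sub_cancel_left]
  apply sum_memLocalIdeal_of_perm_two_pow h2 f n π
  · intro a ha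
    rw [Finset.mem_filter] at ha ⊢
    exact ⟨hs a ha.1, fun h => ha.2 (π.injective h)⟩
  · exact hπ
  · intro a ha
    exact (Finset.mem_filter.mp ha).2
  · intro a ha
    exact hR a (Finset.mem_filter.mp ha).1
  · intro a ha
    exact hI a (Finset.mem_filter.mp ha).1

end orbit

section pelement
variable {M : Ideal AlgInt} {G : Type u} [Group G] [Finite G]

/-- A character takes at a `p`-element a value congruent to its degree modulo the local ideal. -/
theorem memLocalIdeal_char_sub_of_pow_eq_one {p : ℕ} [hpp : Fact p.Prime] (hM : IsPModular p M)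
    {χ : G → ℂ} (hχ : IsCharacter G χ) (g : G) (j : ℕ) (hg : g ^ (p ^ j) = 1) :
    MemLocalIdeal M (χ g - χ 1) := by
  haveI hp : M.IsPrime := isPrime_of_isPModular hM
  obtain ⟨n, ρ, rfl⟩ := hχ
  obtain ⟨ι, hι, b, μ, hμ, hb, -, -⟩ := exists_eigenbasis ρ g
  have hdvd : orderOf g ∣ p ^ j := orderOf_dvd_of_pow_eq_one hg
  have hμ' : ∀ i, μ i ^ (p ^ j) = 1 := by
    intro i
    obtain ⟨c, hc⟩ := hdvd
    rw [hc, pow_mul, hμ i, one_pow]
  have h1 : ρ.character g = ∑ i, μ i := by
    unfold Representation.character
    exact trace_eq_sum_of_eigenbasis b (ρ g) μ hb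
  have h2 : ρ.character 1 = ∑ _i : ι, (1 : ℂ) := by
    rw [Representation.char_one, Finset.sum_const, Finset.card_univ, nsmul_eq_mul, mul_one,
      Module.finrank_eq_card_basis b]
  rw [h1, h2, ← Finset.sum_sub_distrib]
  apply sum_memLocalIdeal
  intro i _
  have hint : IsIntegral ℤ (μ i) := by
    refine ⟨Polynomial.X ^ (p ^ j) - 1, Polynomial.monic_X_pow_sub_C 1 (pow_pos hpp.out.pos j).ne', ?_⟩
    simp [hμ' i]
  have hR : MemLocalRing M (μ i) := memLocalRing_of_algInt ⟨μ i, hint⟩ hp.one_notMem
  have := memLocalIdeal_sub_natCast_of_pow hM hR 1 j (by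
    rw [hμ' i, Nat.cast_one, sub_self]; exact memLocalIdeal_zero hp.one_notMem)
  rwa [Nat.cast_one] at this

end pelement

end Cfsg.Agent.CharLib
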