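import Mathlib
import Cfsg.Agent.Lib.Lead.BlockInvol
import Cfsg.Agent.Lib.Lead.CharFS
import Cfsg.Agent.Lib.Helper2.PRegGenChar
import Cfsg.Agent.Lib.Helper10.GenChar
/-! Real-valued irreducible characters of odd degree lie in the principal 2-block, and there are at
most `4^a` of them (`2^a` the 2-part of the group order). -/
open Cfsg Cfsg.Agent.Lib.Helper24 Cfsg.Agent.Lib.Helper6
open scoped ComplexConjugate
namespace Cfsg.Agent.CharLib
universe u

theorem centralizer_singleton_inv {G : Type u} [Group G] (g : G) :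
    Subgroup.centralizer ({g⁻¹} : Set G) = Subgroup.centralizer ({g} : Set G) := by
  ext x
  simp only [Subgroup.mem_centralizer_iff, Set.mem_singleton_iff, forall_eq]
  constructor
  · intro h
    calc g * x = g * (x * g⁻¹) * g := by group
      _ = g * (g⁻¹ * x) * g := by rw [h]
      _ = x * g := by group
  · intro h
    calc g⁻¹ * x = g⁻¹ * (x * g) * g⁻¹ := by group
      _ = g⁻¹ * (g * x) * g⁻¹ := by rw [h]
      _ = x * g⁻¹ := by group

/-- complex conjugate of an irreducible character, as an irreducible character -/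
noncomputable def cjIrr {G : Type u} [Group G] [Finite G] (χ : IrrCharacter G) : IrrCharacter G :=
  ⟨fun g => conj ((χ : G → ℂ) g), IsIrrCharacter.conj' χ.2⟩

theorem cjIrr_cjIrr {G : Type u} [Group G] [Finite G] (χ : IrrCharacter G) : cjIrr (cjIrr χ) = χ := by
  apply Subtype.ext
  funext g
  simp [cjIrr]

theorem centralChar_cjIrr {G : Type u} [Group G] [Finite G] (χ : IrrCharacter G) (g : G) :
    centralChar ((cjIrr χ : IrrCharacter G) : G → ℂ) g = centralChar (χ : G → ℂ) g⁻¹ := by
  unfold centralChar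
  have hc := IsIrrCharacter.isCharacter χ.2
  have h1 : ((cjIrr χ : IrrCharacter G) : G → ℂ) g = (χ : G → ℂ) g⁻¹ := by
    rw [IsCharacter.apply_inv hc]; rfl
  have h2 : ((cjIrr χ : IrrCharacter G) : G → ℂ) 1 = (χ : G → ℂ) 1 := by
    change conj ((χ : G → ℂ) 1) = _
    exact IsCharacter.conj_apply_one hc
  rw [h1, h2, centralizer_singleton_inv]

theorem cjIrr_mem_principal_iff {G : Type u} [Group G] [Finite G] (M : Ideal AlgInt)
    (χ : IrrCharacter G) :
    cjIrr χ ∈ blockOf M ((trivIrr G : IrrCharacter G) : G → ℂ) ↔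
      χ ∈ blockOf M ((trivIrr G : IrrCharacter G) : G → ℂ) := by
  have key : ∀ ψ : IrrCharacter G, ψ ∈ blockOf M ((trivIrr G : IrrCharacter G) : G → ℂ) →
      cjIrr ψ ∈ blockOf M ((trivIrr G : IrrCharacter G) : G → ℂ) := by
    intro ψ h g
    have := h g⁻¹
    rw [centralChar_cjIrr]
    have h1 : centralChar ((trivIrr G : IrrCharacter G) : G → ℂ) g =
        centralChar ((trivIrr G : IrrCharacter G) : G → ℂ) g⁻¹ := by
      unfold centralChar
      rw [centralizer_singleton_inv]
      rfl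
    rw [h1]
    exact this
  constructor
  · intro h
    have := key _ h
    rwa [cjIrr_cjIrr] at this
  · exact key χ

/-- The idempotent coefficients of the principal block are invariant under inversion. -/
theorem blockCoeff_principal_inv {G : Type u} [Group G] [Finite G] (M : Ideal AlgInt) (x : G) :
    blockCoeff (blockOf M ((trivIrr G : IrrCharacter G) : G → ℂ)) x⁻¹ =
      blockCoeff (blockOf M ((trivIrr G : IrrCharacter G) : G → ℂ)) x := by
  classical
  let _ := fintypeIrr G
  rw [blockCoeff_eq_sum, blockCoeff_eq_sum]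
  congr 1
  let e : IrrCharacter G ≃ IrrCharacter G := Function.Involutive.toPerm cjIrr cjIrr_cjIrr
  rw [← Equiv.sum_comp e]
  apply Finset.sum_congr rfl
  intro χ _
  have he : e χ = cjIrr χ := rfl
  rw [he]
  have hc := IsIrrCharacter.isCharacter χ.2
  by_cases h : χ ∈ blockOf M ((trivIrr G : IrrCharacter G) : G → ℂ)
  · rw [if_pos h, if_pos ((cjIrr_mem_principal_iff M χ).mpr h)]
    have h2 : ((cjIrr χ : IrrCharacter G) : G → ℂ) 1 = (χ : G → ℂ) 1 := by
      change conj ((χ : G → ℂ) 1) = _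
      exact IsCharacter.conj_apply_one hc
    have h1 : conj (((cjIrr χ : IrrCharacter G) : G → ℂ) x⁻¹) = conj ((χ : G → ℂ) x) := by
      change conj (conj ((χ : G → ℂ) x⁻¹)) = _
      rw [IsCharacter.apply_inv hc, Complex.conj_conj]
    rw [h1, h2]
  · rw [if_neg h, if_neg (fun h' => h ((cjIrr_mem_principal_iff M χ).mp h'))]

theorem two_memLocalIdeal {M : Ideal AlgInt} (hM : IsPModular 2 M) : MemLocalIdeal M (2 : ℂ) := by
  have := memLocalIdeal_natCast_of_dvd hM (dvd_refl 2)
  simpa using this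

theorem not_memLocalIdeal_of_odd {M : Ideal AlgInt} (hM : IsPModular 2 M) {d : ℕ} (hd : Odd d) :
    ¬ MemLocalIdeal M (d : ℂ) := by
  have hp : M.IsPrime := isPrime_of_isPModular hM
  have h1 := natCast_not_mem_of_not_dvd hM (Nat.two_dvd_ne_zero.mpr (Nat.odd_iff.mp hd))
  intro h
  apply h1
  have h2 : ((d : AlgInt) : ℂ) = (d : ℂ) := by simp
  rw [← h2] at h
  exact (memLocalIdeal_coe_iff _).mp h

theorem memLocalRing_char {M : Ideal AlgInt} [hp : M.IsPrime] {G : Type u} [Group G] [Finite G]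
    {χ : G → ℂ} (hχ : IsCharacter G χ) (g : G) : MemLocalRing M (χ g) := by
  obtain ⟨n, ρ, rfl⟩ := hχ
  exact memLocalRing_of_algInt ⟨_, isIntegral_char ρ g⟩ hp.one_notMem

theorem inv_perm_sq {G : Type u} [Group G] : (Equiv.inv G) ^ (2 ^ 1) = 1 := by
  ext x
  simp [pow_two]

/-- Real-valued irreducible characters of odd degree lie in the principal 2-block. -/
theorem real_odd_mem_principalBlock {G : Type u} [Group G] [Finite G] {M : Ideal AlgInt}
    (hM : IsPModular 2 M) (χ : IrrCharacter G) (hreal : ∀ g : G, ((χ : G → ℂ) g).im = 0)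
    (hodd : Odd (charDegree (χ : G → ℂ))) : χ ∈ principalBlock M G := by
  classical
  let _ := Fintype.ofFinite G
  let _ := fintypeIrr G
  haveI : Fact (Nat.Prime 2) := ⟨Nat.prime_two⟩
  have hp : M.IsPrime := isPrime_of_isPModular hM
  have hM1 := one_not_mem_of_isPModular hM
  have h2 := two_memLocalIdeal hM
  have hB : principalBlock M G = blockOf M ((trivIrr G : IrrCharacter G) : G → ℂ) := rfl
  rw [hB]
  set B := blockOf M ((trivIrr G : IrrCharacter G) : G → ℂ) with hBdef
  set f := blockCoeff B with hf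
  have hfR : ∀ x, MemLocalRing M (f x) := fun x => memLocalRing_blockCoeff_blockOf (trivIrr G) x
  have hfinv : ∀ x, f x⁻¹ = f x := fun x => blockCoeff_principal_inv M x
  have hc := IsIrrCharacter.isCharacter χ.2
  have hχR : ∀ x, MemLocalRing M ((χ : G → ℂ) x) := fun x => memLocalRing_char hc x
  have hχinv : ∀ x, (χ : G → ℂ) x⁻¹ = (χ : G → ℂ) x := by
    intro x
    rw [IsCharacter.apply_inv hc]
    exact Complex.conj_eq_iff_im.mpr (hreal x)
  obtain ⟨d, hdpos, hd⟩ := IsIrrCharacter.apply_one_pos χ.2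
  have hdodd : Odd d := by rwa [charDegree_eq_of_apply_one hd] at hodd
  -- orbit counting for f * χ and for f
  have hA := sum_sub_sum_fixed_memLocalIdeal (M := M) h2 (fun x => f x * (χ : G → ℂ) x) 1
    (Equiv.inv G) Finset.univ (fun _ _ => Finset.mem_univ _) inv_perm_sq
    (fun x _ => memLocalRing_mul (hfR x) (hχR x))
    (fun x _ => by
      change MemLocalIdeal M (f x⁻¹ * (χ : G → ℂ) x⁻¹ - f x * (χ : G → ℂ) x)
      rw [hfinv, hχinv, sub_self]; exact memLocalIdeal_zero hM1)
  have hA' := sum_sub_sum_fixed_memLocalIdeal (M := M) h2 (fun x => f x) 1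
    (Equiv.inv G) Finset.univ (fun _ _ => Finset.mem_univ _) inv_perm_sq
    (fun x _ => hfR x)
    (fun x _ => by
      change MemLocalIdeal M (f x⁻¹ - f x)
      rw [hfinv, sub_self]; exact memLocalIdeal_zero hM1)
  -- on the fixed points χ x ≡ χ 1
  have hfix : MemLocalIdeal M
      (∑ x ∈ Finset.univ.filter (fun x : G => (Equiv.inv G) x = x), f x * (χ : G → ℂ) x -
        (χ : G → ℂ) 1 * ∑ x ∈ Finset.univ.filter (fun x : G => (Equiv.inv G) x = x), f x) := by
    rw [Finset.mul_sum, ← Finset.sum_sub_distrib]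
    apply sum_memLocalIdeal
    intro x hx
    rw [Finset.mem_filter] at hx
    have hx2 : x ^ (2 ^ 1) = 1 := by
      have h1 : x⁻¹ = x := hx.2
      rw [pow_one, pow_two]
      nth_rewrite 1 [← h1]
      exact inv_mul_cancel x
    have h3 := memLocalIdeal_char_sub_of_pow_eq_one hM hc x 1 hx2
    have h4 : f x * (χ : G → ℂ) x - (χ : G → ℂ) 1 * f x = f x * ((χ : G → ℂ) x - (χ : G → ℂ) 1) := by
      ring
    rw [h4]
    exact memLocalIdeal_mul_left (hfR x) h3
  -- combine
  have hcomb : MemLocalIdeal M (∑ x : G, f x * (χ : G → ℂ) x - (χ : G → ℂ) 1 * ∑ x : G, f x) := by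
    have h5 := memLocalIdeal_mul_left (hχR 1) hA'
    have h6 := memLocalIdeal_sub (memLocalIdeal_add hA hfix) h5
    have h7 : (∑ x : G, f x * (χ : G → ℂ) x - (χ : G → ℂ) 1 * ∑ x : G, f x) =
        (∑ x : G, f x * (χ : G → ℂ) x -
          ∑ x ∈ Finset.univ.filter (fun x : G => (Equiv.inv G) x = x), f x * (χ : G → ℂ) x) +
        (∑ x ∈ Finset.univ.filter (fun x : G => (Equiv.inv G) x = x), f x * (χ : G → ℂ) x -
          (χ : G → ℂ) 1 * ∑ x ∈ Finset.univ.filter (fun x : G => (Equiv.inv G) x = x), f x) -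
        (χ : G → ℂ) 1 * (∑ x : G, f x -
          ∑ x ∈ Finset.univ.filter (fun x : G => (Equiv.inv G) x = x), f x) := by ring
    rw [h7]
    exact h6
  -- the two sums via omegaFun
  have hd0 : (χ : G → ℂ) 1 ≠ 0 := by rw [hd]; exact Nat.cast_ne_zero.mpr hdpos.ne'
  have h1mem : trivIrr G ∈ B := by
    intro g
    rw [sub_self]
    exact memLocalIdeal_zero hM1
  have hω1 : ∑ x : G, f x = 1 := by
    have := omegaFun_blockCoeff B (trivIrr G)
    rw [if_pos h1mem] at this
    unfold omegaFun at this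
    have h11 : ∀ g, ((trivIrr G : IrrCharacter G) : G → ℂ) g = 1 := fun _ => rfl
    simp only [h11, mul_one, div_one] at this
    exact this
  by_contra hχB
  have hωχ : ∑ x : G, f x * (χ : G → ℂ) x = 0 := by
    have := omegaFun_blockCoeff B χ
    rw [if_neg hχB] at this
    unfold omegaFun at this
    rw [div_eq_zero_iff] at this
    rcases this with h | h
    · exact h
    · exact absurd h hd0
  rw [hωχ, hω1, mul_one, zero_sub, hd] at hcomb
  have := memLocalIdeal_neg hcomb
  rw [neg_neg] at this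
  exact not_memLocalIdeal_of_odd hM hdodd this

/-- There are at most `4^a` real-valued irreducible characters of odd degree, `2^a` the 2-part of
the group order. -/
theorem card_real_odd_le {G : Type u} [Group G] [Finite G] {M : Ideal AlgInt}
    (hM : IsPModular 2 M) :
    Nat.card {χ : IrrCharacter G // (∀ g : G, ((χ : G → ℂ) g).im = 0) ∧
      Odd (charDegree (χ : G → ℂ))} ≤ 2 ^ (2 * (Nat.card G).factorization 2) := by
  classical
  let _ := Fintype.ofFinite G
  let _ := fintypeIrr G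
  haveI : Fact (Nat.Prime 2) := ⟨Nat.prime_two⟩
  have hp : M.IsPrime := isPrime_of_isPModular hM
  have hM1 := one_not_mem_of_isPModular hM
  have h2 := two_memLocalIdeal hM
  set a := (Nat.card G).factorization 2 with ha
  have hcint : ∀ (g : G) (j : ℕ), 2 ^ j ∣ Nat.card (Subgroup.centralizer ({g} : Set G)) →
      IsIntegral ℤ (((2 ^ a : ℕ) : ℂ) * (1 : G → ℂ) g / ((2 : ℕ) : ℂ) ^ j) := by
    intro g j hj
    have hj' : 2 ^ j ∣ Nat.card G := hj.trans (Subgroup.card_subgroup_dvd_card _)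
    have hja : j ≤ a :=
      (Nat.Prime.pow_dvd_iff_le_factorization Nat.prime_two Nat.card_pos.ne').mp hj'
    have h3 : ((2 ^ a : ℕ) : ℂ) * (1 : G → ℂ) g / ((2 : ℕ) : ℂ) ^ j = ((2 ^ (a - j) : ℕ) : ℂ) := by
      rw [Pi.one_apply, mul_one]
      push_cast
      have h20 : ((2 : ℂ) ^ j) ≠ 0 := pow_ne_zero _ (by norm_num)
      rw [div_eq_iff h20, ← pow_add]
      congr 1
      omega
    rw [h3]
    have h4 := isIntegral_algebraMap (R := ℤ) (A := ℂ) (x := ((2 ^ (a - j) : ℕ) : ℤ))
    simpa using h4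
  have hΘ := Cfsg.Agent.Lib.Helper2.scaled_pRegPart_isGenChar (isCharacter_one (G := G)) (p := 2)
    (2 ^ a) hcint
  set Θ : G → ℂ := fun g => ((2 ^ a : ℕ) : ℂ) * Cfsg.Agent.Lib.Helper2.pRegPart 2 (1 : G → ℂ) g
    with hΘdef
  have hΘval : ∀ g, Θ g = if 2 ∣ orderOf g then 0 else ((2 ^ a : ℕ) : ℂ) := by
    intro g
    rw [hΘdef]
    unfold Cfsg.Agent.Lib.Helper2.pRegPart
    simp only
    split_ifs
    · rw [mul_zero]
    · rw [Pi.one_apply, mul_one]
  obtain ⟨c, hc1, -, hc3⟩ := Cfsg.Agent.Lib.Helper10.genChar_coeff hΘ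
  set S : Finset G := Finset.univ.filter (fun g : G => ¬ 2 ∣ orderOf g) with hS
  have hG0 : (Nat.card G : ℂ) ≠ 0 := Nat.cast_ne_zero.mpr Nat.card_pos.ne'
  -- the norm of Θ
  have hnorm : (Nat.card G : ℂ) * classInner Θ Θ = (S.card : ℂ) * ((4 ^ a : ℕ) : ℂ) := by
    unfold classInner
    rw [← mul_assoc, mul_inv_cancel₀ hG0, one_mul]
    have h3 : ∀ g : G, Θ g * conj (Θ g) = if ¬ 2 ∣ orderOf g then ((4 ^ a : ℕ) : ℂ) else 0 := by
      intro g
      rw [hΘval]
      split_ifs with h
      · simp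
      · rw [Complex.conj_natCast]
        have : (4 : ℕ) = 2 * 2 := rfl
        push_cast
        rw [show (4 : ℂ) = 2 * 2 by norm_num, mul_pow]
    rw [Finset.sum_congr rfl (fun g _ => h3 g), ← Finset.sum_filter, Finset.sum_const,
      nsmul_eq_mul]
  have hsumle : ∑ ξ : IrrCharacter G, (c ξ) ^ 2 ≤ (4 ^ a : ℤ) := by
    have h3 : ((Nat.card G : ℤ) * ∑ ξ : IrrCharacter G, (c ξ) ^ 2 : ℤ) = (S.card : ℤ) * 4 ^ a := by
      have h4 : (((Nat.card G : ℤ) * ∑ ξ : IrrCharacter G, (c ξ) ^ 2 : ℤ) : ℂ) =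
          (((S.card : ℤ) * 4 ^ a : ℤ) : ℂ) := by
        push_cast
        have h5 : ∑ ξ : IrrCharacter G, ((c ξ : ℤ) : ℂ) ^ 2 = classInner Θ Θ := by
          rw [hc3]
          apply Finset.sum_congr rfl
          intro ξ _
          ring
        rw [h5, hnorm]
        push_cast
        ring
      exact_mod_cast h4
    have hScard : (S.card : ℤ) ≤ (Nat.card G : ℤ) := by
      have : S.card ≤ Fintype.card G := Finset.card_le_univ S
      rw [Nat.card_eq_fintype_card]
      exact_mod_cast this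
    have hGpos : (0 : ℤ) < (Nat.card G : ℤ) := by exact_mod_cast Nat.card_pos
    have h6 : (Nat.card G : ℤ) * ∑ ξ : IrrCharacter G, (c ξ) ^ 2 ≤ (Nat.card G : ℤ) * 4 ^ a := by
      rw [h3]
      exact mul_le_mul_of_nonneg_right hScard (by positivity)
    exact le_of_mul_le_mul_left h6 hGpos
  -- nonvanishing of the coefficients at real odd-degree characters
  have hne : ∀ ξ : IrrCharacter G, (∀ g : G, ((ξ : G → ℂ) g).im = 0) →
      Odd (charDegree (ξ : G → ℂ)) → c ξ ≠ 0 := by
    intro ξ hreal hodd h0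
    have hcξ := IsIrrCharacter.isCharacter ξ.2
    obtain ⟨d, hdpos, hd⟩ := IsIrrCharacter.apply_one_pos ξ.2
    have hdodd : Odd d := by rwa [charDegree_eq_of_apply_one hd] at hodd
    have hξinv : ∀ x, (ξ : G → ℂ) x⁻¹ = (ξ : G → ℂ) x := by
      intro x
      rw [IsCharacter.apply_inv hcξ]
      exact Complex.conj_eq_iff_im.mpr (hreal x)
    have hin := hc1 ξ
    rw [h0, Int.cast_zero] at hin
    unfold classInner at hin
    have h3 : ∑ g : G, Θ g * conj ((ξ : G → ℂ) g) = ((2 ^ a : ℕ) : ℂ) * ∑ g ∈ S, (ξ : G → ℂ) g := by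
      rw [Finset.mul_sum, hS, Finset.sum_filter]
      apply Finset.sum_congr rfl
      intro g _
      rw [hΘval, Complex.conj_eq_iff_im.mpr (hreal g)]
      split_ifs
      · rw [zero_mul]
      · rfl
    rw [h3] at hin
    have h2a : ((2 ^ a : ℕ) : ℂ) ≠ 0 := by
      rw [Nat.cast_ne_zero]; exact pow_ne_zero _ (by norm_num)
    have hsum0 : ∑ g ∈ S, (ξ : G → ℂ) g = 0 := by
      rcases mul_eq_zero.mp hin with h | h
      · exact absurd (inv_eq_zero.mp h) hG0
      · rcases mul_eq_zero.mp h with h | h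
        · exact absurd h h2a
        · exact h
    have hA := sum_sub_sum_fixed_memLocalIdeal (M := M) h2 (fun x => (ξ : G → ℂ) x) 1
      (Equiv.inv G) S
      (fun x hx => by
        rw [hS, Finset.mem_filter] at hx ⊢
        refine ⟨Finset.mem_univ _, ?_⟩
        change ¬ 2 ∣ orderOf x⁻¹
        rw [orderOf_inv]
        exact hx.2)
      inv_perm_sq
      (fun x _ => memLocalRing_char hcξ x)
      (fun x _ => by
        change MemLocalIdeal M ((ξ : G → ℂ) x⁻¹ - (ξ : G → ℂ) x)
        rw [hξinv, sub_self]; exact memLocalIdeal_zero hM1)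
    have hfixset : S.filter (fun x : G => (Equiv.inv G) x = x) = {1} := by
      ext x
      rw [Finset.mem_filter, Finset.mem_singleton, hS, Finset.mem_filter]
      constructor
      · rintro ⟨⟨-, hx⟩, hx2⟩
        have h1 : x⁻¹ = x := hx2
        have hx2' : x ^ 2 = 1 := by
          rw [pow_two]
          nth_rewrite 1 [← h1]
          exact inv_mul_cancel x
        have hdvd : orderOf x ∣ 2 := orderOf_dvd_of_pow_eq_one hx2'
        rcases (Nat.dvd_prime Nat.prime_two).mp hdvd with h | h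
        · exact orderOf_eq_one_iff.mp h
        · exact absurd (h.symm ▸ dvd_refl 2 : 2 ∣ orderOf x) hx
      · rintro rfl
        refine ⟨⟨Finset.mem_univ _, ?_⟩, ?_⟩
        · rw [orderOf_one]; norm_num
        · change (1 : G)⁻¹ = 1
          exact inv_one
    rw [hfixset, Finset.sum_singleton, hsum0, zero_sub, hd] at hA
    have := memLocalIdeal_neg hA
    rw [neg_neg] at this
    exact not_memLocalIdeal_of_odd hM hdodd this
  -- counting
  rw [Nat.card_eq_fintype_card, Fintype.card_subtype]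
  set X := Finset.univ.filter (fun χ : IrrCharacter G => (∀ g : G, ((χ : G → ℂ) g).im = 0) ∧
      Odd (charDegree (χ : G → ℂ))) with hX
  have h3 : (X.card : ℤ) ≤ ∑ ξ ∈ X, (c ξ) ^ 2 := by
    have : (X.card : ℤ) = ∑ _ξ ∈ X, (1 : ℤ) := by simp
    rw [this]
    apply Finset.sum_le_sum
    intro ξ hξ
    rw [hX, Finset.mem_filter] at hξ
    have h4 := hne ξ hξ.2.1 hξ.2.2
    have h5 : 0 < (c ξ) ^ 2 := by positivity
    exact h5
  have h4 : ∑ ξ ∈ X, (c ξ) ^ 2 ≤ ∑ ξ : IrrCharacter G, (c ξ) ^ 2 :=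
    Finset.sum_le_sum_of_subset_of_nonneg (Finset.subset_univ _) (fun ξ _ _ => sq_nonneg _)
  have h5 : (X.card : ℤ) ≤ 4 ^ a := h3.trans (h4.trans hsumle)
  have h6 : X.card ≤ 4 ^ a := by exact_mod_cast h5
  rw [pow_mul]
  exact h6

end Cfsg.Agent.CharLib
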