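import Mathlib
import Cfsg.Agent.Lib.Lead.CharFS
/-! Frobenius–Schur indicator; odd order consequences (real characters, Burnside's congruence mod 16). -/
set_option autoImplicit false
open Representation Module
open scoped ComplexConjugate TensorProduct
namespace Cfsg.Agent.CharLib
universe u v
variable {G : Type u} [Group G]
variable {V : Type v} [AddCommGroup V] [Module ℂ V] [FiniteDimensional ℂ V]

/-- `trace (swap ∘ (A ⊗ B)) = trace (A * B)`. -/
theorem trace_comm_comp_map (A B : Module.End ℂ V) :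
    LinearMap.trace ℂ (V ⊗[ℂ] V) ((TensorProduct.comm ℂ V V).toLinearMap ∘ₗ TensorProduct.map A B) =
      LinearMap.trace ℂ V (B * A) := by
  classical
  let b := Module.finBasis ℂ V
  rw [LinearMap.trace_eq_matrix_trace ℂ (b.tensorProduct b), LinearMap.trace_eq_matrix_trace ℂ b,
    LinearMap.toMatrix_mul]
  simp only [Matrix.trace, Matrix.diag_apply, Matrix.mul_apply, LinearMap.toMatrix_apply,
    Fintype.sum_prod_type, Basis.tensorProduct_apply, LinearMap.comp_apply, TensorProduct.map_tmul,
    LinearEquiv.coe_coe, TensorProduct.comm_tmul, Basis.tensorProduct_repr_tmul_apply]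
  apply Finset.sum_congr rfl; intro x _
  apply Finset.sum_congr rfl; intro y _
  rw [smul_eq_mul, mul_comm]

/-- The Frobenius–Schur indicator of an irreducible representation is `0`, `1` or `-1`;
it is `c * m` where ... Here: packaged version. -/
theorem frobenius_schur_aux [Fintype G] (ρ : Representation ℂ G V) [hirr : ρ.IsIrreducible] :
    ((∀ s : G, (ρ.character s).im = 0) →
        ((Nat.card G : ℂ)⁻¹ * ∑ s : G, ρ.character (s * s) = 1 ∨
          (Nat.card G : ℂ)⁻¹ * ∑ s : G, ρ.character (s * s) = -1)) ∧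
    ((∃ s : G, (ρ.character s).im ≠ 0) →
        (Nat.card G : ℂ)⁻¹ * ∑ s : G, ρ.character (s * s) = 0) := by
  classical
  have hG : (Nat.card G : ℂ) ≠ 0 := card_ne_zero_complex
  set σ : Representation ℂ G (V ⊗[ℂ] V) := ρ.tprod ρ with hσ
  set τ : (V ⊗[ℂ] V) →ₗ[ℂ] (V ⊗[ℂ] V) := (TensorProduct.comm ℂ V V).toLinearMap with hτ
  set P : Module.End ℂ (V ⊗[ℂ] V) := (Nat.card G : ℂ)⁻¹ • ∑ g : G, σ g with hP
  have hττ : ∀ x, τ (τ x) = x := fun x => by simp [hτ]
  have hτσ : ∀ g x, τ (σ g x) = σ g (τ x) := by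
    intro g x
    simp only [hτ, hσ, Representation.tprod_apply, LinearEquiv.coe_coe]
    exact (TensorProduct.map_comm (ρ g) (ρ g) x).symm
  have hP1 : ∀ x, P x ∈ σ.invariants := by
    intro x h
    simp only [hP, LinearMap.smul_apply, LinearMap.sum_apply, map_smul, map_sum]
    congr 1
    rw [← Equiv.sum_comp (Equiv.mulLeft h) (fun g => σ g x)]
    apply Finset.sum_congr rfl
    intro g _
    simp only [Equiv.coe_mulLeft, map_mul, Module.End.mul_apply]
  have hP2 : ∀ x ∈ σ.invariants, P x = x := by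
    intro x hx
    simp only [hP, LinearMap.smul_apply, LinearMap.sum_apply]
    rw [Finset.sum_congr rfl (fun g _ => hx g), Finset.sum_const, Finset.card_univ,
      ← Nat.card_eq_fintype_card, ← Nat.cast_smul_eq_nsmul ℂ, smul_smul, inv_mul_cancel₀ hG, one_smul]
  have hproj : LinearMap.IsProj σ.invariants P := ⟨hP1, hP2⟩
  have htrP : LinearMap.trace ℂ _ P = (finrank ℂ σ.invariants : ℂ) := hproj.trace
  have htrP' : LinearMap.trace ℂ _ P = (Nat.card G : ℂ)⁻¹ * ∑ g : G, ρ.character g * ρ.character g := by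
    rw [hP, map_smul, map_sum, smul_eq_mul]
    congr 1
    apply Finset.sum_congr rfl
    intro g _
    rw [hσ, Representation.tprod_apply, LinearMap.trace_tensorProduct']
    rfl
  have htrτP : LinearMap.trace ℂ _ (τ ∘ₗ P) = (Nat.card G : ℂ)⁻¹ * ∑ s : G, ρ.character (s * s) := by
    rw [← Module.End.mul_eq_comp, hP, mul_smul_comm, Finset.mul_sum, map_smul, map_sum, smul_eq_mul]
    congr 1
    apply Finset.sum_congr rfl
    intro g _
    rw [Module.End.mul_eq_comp, hσ, Representation.tprod_apply, hτ, trace_comm_comp_map, ← map_mul]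
    rfl
  have hτI : ∀ x ∈ σ.invariants, τ x ∈ σ.invariants := by
    intro x hx g
    rw [← hτσ, hx g]
  have hirrc : IsIrrCharacter G ρ.character := isIrrCharacter_of_rep ρ hirr
  have hirrc' : IsIrrCharacter G (fun g => conj (ρ.character g)) := IsIrrCharacter.conj' hirrc
  have hm : (finrank ℂ σ.invariants : ℂ) =
      if ρ.character = (fun g => conj (ρ.character g)) then 1 else 0 := by
    rw [← htrP, htrP', ← classInner_irr hirrc hirrc']
    simp only [classInner, Complex.conj_conj]
  have hreal : ρ.character = (fun g => conj (ρ.character g)) ↔ ∀ s : G, (ρ.character s).im = 0 := by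
    constructor
    · intro h s
      exact Complex.conj_eq_iff_im.mp (congrFun h s).symm
    · intro h
      funext s
      exact (Complex.conj_eq_iff_im.mpr (h s)).symm
  rw [← htrτP]
  constructor
  · intro hre
    rw [if_pos (hreal.mpr hre)] at hm
    have hm1 : finrank ℂ σ.invariants = 1 := by exact_mod_cast hm
    obtain ⟨⟨w, hwI⟩, hw0, hw⟩ := finrank_eq_one_iff'.mp hm1
    obtain ⟨c, hc⟩ := hw ⟨τ w, hτI w hwI⟩
    have hc' : τ w = c • w := by
      have := congrArg Subtype.val hc
      simpa using this.symm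
    have hw0' : w ≠ 0 := fun h => hw0 (Subtype.ext h)
    have hc2 : c * c = 1 := by
      have h1 : τ (τ w) = (c * c) • w := by rw [hc', map_smul, hc', smul_smul]
      rw [hττ] at h1
      have h2 : ((c * c) - 1) • w = 0 := by rw [sub_smul, ← h1, one_smul, sub_self]
      rcases smul_eq_zero.mp h2 with h3 | h3
      · exact sub_eq_zero.mp h3
      · exact absurd h3 hw0'
    have hτP : τ ∘ₗ P = c • P := by
      apply LinearMap.ext
      intro x
      obtain ⟨a, ha⟩ := hw ⟨P x, hP1 x⟩
      have ha' : P x = a • w := by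
        have := congrArg Subtype.val ha
        simpa using this.symm
      show τ (P x) = c • P x
      rw [ha', map_smul, hc', smul_comm]
    rw [hτP, map_smul, htrP, hm, smul_eq_mul, mul_one]
    have : (c - 1) * (c + 1) = 0 := by ring_nf; rw [← hc2]; ring
    rcases mul_eq_zero.mp this with h | h
    · left; exact sub_eq_zero.mp h
    · right; exact eq_neg_of_add_eq_zero_left h
  · rintro ⟨s, hs⟩
    have hne : ¬ ρ.character = (fun g => conj (ρ.character g)) := fun h => hs (hreal.mp h s)
    rw [if_neg hne] at hm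
    have hm0 : finrank ℂ σ.invariants = 0 := by exact_mod_cast hm
    have hbot : σ.invariants = ⊥ := Submodule.finrank_eq_zero.mp hm0
    have hP0 : P = 0 := by
      apply LinearMap.ext
      intro x
      have := hP1 x
      rw [hbot, Submodule.mem_bot] at this
      rw [this, LinearMap.zero_apply]
    rw [hP0, LinearMap.comp_zero, map_zero]

/-- Frobenius–Schur (S0158). -/
theorem frobenius_schur [Fintype G] (ρ : Representation ℂ G V) [hirr : ρ.IsIrreducible] :
    ((Nat.card G : ℂ)⁻¹ * ∑ s : G, ρ.character (s * s) = 0 ∨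
      (Nat.card G : ℂ)⁻¹ * ∑ s : G, ρ.character (s * s) = 1 ∨
      (Nat.card G : ℂ)⁻¹ * ∑ s : G, ρ.character (s * s) = -1) ∧
    ((Nat.card G : ℂ)⁻¹ * ∑ s : G, ρ.character (s * s) = 0 ↔ ∃ s : G, (ρ.character s).im ≠ 0) := by
  obtain ⟨h1, h2⟩ := frobenius_schur_aux ρ
  by_cases h : ∃ s : G, (ρ.character s).im ≠ 0
  · exact ⟨Or.inl (h2 h), ⟨fun _ => h, fun _ => h2 h⟩⟩
  · have h' : ∀ s : G, (ρ.character s).im = 0 := by
      intro s
      by_contra hs
      exact h ⟨s, hs⟩
    rcases h1 h' with h3 | h3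
    · refine ⟨Or.inr (Or.inl h3), ⟨fun h0 => ?_, fun hh => absurd hh h⟩⟩
      rw [h3] at h0
      exact absurd h0 one_ne_zero
    · refine ⟨Or.inr (Or.inr h3), ⟨fun h0 => ?_, fun hh => absurd hh h⟩⟩
      rw [h3] at h0
      exact absurd h0 (neg_ne_zero.mpr one_ne_zero)

/-- In a group of odd order, a real-valued irreducible character is trivial (S0161). -/
theorem eq_one_of_real_of_odd [Finite G] (hodd : Odd (Nat.card G)) (χ : IrrCharacter G)
    (hreal : ∀ g : G, ((χ : G → ℂ) g).im = 0) : (χ : G → ℂ) = fun _ => 1 := by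
  classical
  let _ := Fintype.ofFinite G
  obtain ⟨n, ρ, hirr, hρ⟩ := χ.2
  have hG : (Nat.card G : ℂ) ≠ 0 := card_ne_zero_complex
  have h1 := (frobenius_schur_aux ρ).1 (by rw [hρ]; exact hreal)
  have hcop : (Nat.card G).Coprime 2 := Nat.Coprime.symm (Nat.coprime_two_left.mpr hodd)
  have hsum : ∑ s : G, ρ.character (s * s) = ∑ s : G, ρ.character s := by
    rw [← Equiv.sum_comp (powCoprime hcop) (fun s => ρ.character s)]
    apply Finset.sum_congr rfl
    intro s _
    rw [powCoprime_apply, pow_two]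
  rw [hsum, hρ] at h1
  have h2 : classInner (χ : G → ℂ) (1 : G → ℂ) = (Nat.card G : ℂ)⁻¹ * ∑ s : G, (χ : G → ℂ) s := by
    simp only [classInner, Pi.one_apply, map_one, mul_one]
  have h3 := classInner_irr χ.2 (isIrrCharacter_one (G := G))
  rw [h2] at h3
  by_cases h : (χ : G → ℂ) = 1
  · rw [h]; rfl
  · rw [if_neg h] at h3
    rw [h3] at h1
    rcases h1 with h1 | h1
    · exact absurd h1 zero_ne_one
    · exact absurd h1.symm (neg_ne_zero.mpr one_ne_zero)

/-- The degree of an irreducible character is a natural number dividing the group order. -/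
theorem IsIrrCharacter.exists_degree [Finite G] {χ : G → ℂ} (hχ : IsIrrCharacter G χ) :
    ∃ n : ℕ, χ 1 = n ∧ n ∣ Nat.card G := by
  obtain ⟨n, ρ, hirr, hρ⟩ := hχ
  refine ⟨n, ?_, ?_⟩
  · rw [← hρ]; simp
  · have := Cfsg.Agent.Lib.Helper24.finrank_dvd_card ρ
    simpa using this

/-- Burnside: for odd `|G|`, `|G| ≡ k(G) mod 16` (S0162). -/
theorem card_modEq_card_conjClasses_of_odd [Finite G] (hodd : Odd (Nat.card G)) :
    Nat.card G ≡ Nat.card (ConjClasses G) [MOD 16] := by
  classical
  let _ := Fintype.ofFinite G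
  let _ := fintypeIrr G
  have hdeg : ∀ χ : IrrCharacter G, ∃ n : ℕ, (χ : G → ℂ) 1 = n ∧ n ∣ Nat.card G :=
    fun χ => IsIrrCharacter.exists_degree χ.2
  choose d hd1 hd2 using hdeg
  -- the conjugation involution
  let cj : IrrCharacter G → IrrCharacter G := fun χ =>
    ⟨fun g => conj ((χ : G → ℂ) g), IsIrrCharacter.conj' χ.2⟩
  have hcj2 : ∀ χ, cj (cj χ) = χ := by
    intro χ
    apply Subtype.ext
    funext g
    simp [cj]
  have hdcj : ∀ χ, d (cj χ) = d χ := by
    intro χ
    have h1 := hd1 (cj χ)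
    have h2 : ((cj χ : IrrCharacter G) : G → ℂ) 1 = conj ((χ : G → ℂ) 1) := rfl
    rw [h2, hd1 χ, Complex.conj_natCast] at h1
    exact_mod_cast h1.symm
  have hcjfix : ∀ χ, cj χ = χ → d χ = 1 := by
    intro χ h
    have hre : ∀ g : G, ((χ : G → ℂ) g).im = 0 := by
      intro g
      have := congrFun (congrArg Subtype.val h) g
      exact Complex.conj_eq_iff_im.mp this
    have h1 := eq_one_of_real_of_odd hodd χ hre
    have h2 := hd1 χ
    rw [h1] at h2
    have h3 : (1 : ℂ) = (d χ : ℂ) := h2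
    exact_mod_cast h3.symm
  -- sum of squares
  have hsq : Nat.card G = ∑ χ : IrrCharacter G, d χ ^ 2 := by
    have h := finsum_irr_apply_one_sq (G := G)
    rw [finsum_eq_sum_of_fintype] at h
    have h' : ((∑ χ : IrrCharacter G, d χ ^ 2 : ℕ) : ℂ) = (Nat.card G : ℂ) := by
      rw [← h]
      push_cast
      apply Finset.sum_congr rfl
      intro χ _
      rw [hd1 χ]
    exact_mod_cast h'.symm
  have hk : Nat.card (ConjClasses G) = ∑ χ : IrrCharacter G, 1 := by
    rw [← card_irrCharacter, Nat.card_eq_fintype_card]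
    simp
  have hodd_d : ∀ χ, (d χ) % 2 = 1 := fun χ =>
    Nat.odd_iff.mp (Odd.of_dvd_nat hodd (hd2 χ))
  have hz : ∀ x : ZMod 16, x.val % 2 = 1 → (x ^ 2 - 1) + (x ^ 2 - 1) = 0 := by decide
  have hz1 : ∀ χ, ((d χ : ZMod 16) ^ 2 - 1) + ((d χ : ZMod 16) ^ 2 - 1) = 0 := by
    intro χ
    apply hz
    rw [ZMod.val_natCast]
    have := hodd_d χ
    omega
  have hsum : ∑ χ : IrrCharacter G, ((d χ : ZMod 16) ^ 2 - 1) = 0 := by
    apply Finset.sum_involution (fun χ _ => cj χ)
    · intro χ _
      rw [hdcj χ]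
      exact hz1 χ
    · intro χ _ hne hfix
      apply hne
      rw [hcjfix χ hfix]
      simp
    · intro χ _
      exact Finset.mem_univ _
    · intro χ _
      exact hcj2 χ
  apply (ZMod.natCast_eq_natCast_iff _ _ 16).mp
  rw [hsq, hk]
  push_cast
  rw [← sub_eq_zero, ← Finset.sum_sub_distrib]
  exact hsum

end Cfsg.Agent.CharLib
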