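import Mathlib
import Cfsg.Prelude.Def_Characters
import Cfsg.Agent.Lib.Helper23.GaloisChar
/-! Power maps `x ↦ x^k` of 2-power order (general form) and the induced permutation of the
irreducible characters. -/
open Cfsg
namespace Cfsg.Agent.CharLib
universe u

section
variable {G : Type u} [Group G] [Finite G]

/-- If `k` is coprime to `|G|` and `g^(k^2) = g` for the elements of odd order, then the power map
`x ↦ x^k` has order dividing `2^(a+1)`, `2^a` the 2-part of `|G|`. -/
theorem pow_pow_two_pow_eq_gen (k : ℕ) (hk : Nat.Coprime k (Nat.card G))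
    (hk₂ : ∀ g : G, Odd (orderOf g) → g ^ (k ^ 2) = g) (x : G) :
    x ^ (k ^ (2 ^ ((Nat.card G).factorization 2 + 1))) = x := by
  set a := (Nat.card G).factorization 2 with ha
  obtain ⟨b, m, hm, ho⟩ := Nat.exists_eq_two_pow_mul_odd (orderOf_pos x).ne'
  have hcop : Nat.Coprime (2 ^ b) m := by
    apply Nat.Coprime.pow_left
    rw [Nat.coprime_two_left]
    exact hm
  have h2b : 2 ^ b ∣ Nat.card G := by
    have : 2 ^ b ∣ orderOf x := ⟨m, ho⟩
    exact this.trans (orderOf_dvd_natCard x)
  have hba : b ≤ a :=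
    (Nat.Prime.pow_dvd_iff_le_factorization Nat.prime_two Nat.card_pos.ne').mp h2b
  have hmod : k ^ (2 ^ (a + 1)) ≡ 1 [MOD orderOf x] := by
    rw [ho]
    apply (Nat.modEq_and_modEq_iff_modEq_mul hcop).mp
    constructor
    · rcases Nat.eq_zero_or_pos b with hb0 | hbpos
      · rw [hb0, pow_zero]; exact Nat.modEq_one
      · have hck : Nat.Coprime k (2 ^ b) := Nat.Coprime.coprime_dvd_right h2b hk
        have he := Nat.ModEq.pow_totient hck
        rw [Nat.totient_prime_pow Nat.prime_two hbpos] at he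
        have hsplit : 2 ^ (a + 1) = (2 ^ (b - 1) * (2 - 1)) * 2 ^ (a + 1 - (b - 1)) := by
          rw [show (2 - 1 : ℕ) = 1 from rfl, mul_one, ← pow_add]
          congr 1
          omega
        rw [hsplit, pow_mul]
        have := he.pow (2 ^ (a + 1 - (b - 1)))
        rwa [one_pow] at this
    · set g := x ^ (2 ^ b) with hg
      have hgm : g ^ m = 1 := by
        rw [hg, ← pow_mul, ← ho]; exact pow_orderOf_eq_one x
      have hgodd : Odd (orderOf g) := Odd.of_dvd_nat hm (orderOf_dvd_of_pow_eq_one hgm)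
      have hgk : g ^ (k ^ 2) = g := hk₂ g hgodd
      have h1 : 2 ^ b * k ^ 2 ≡ 2 ^ b * 1 [MOD 2 ^ b * m] := by
        rw [← ho, mul_one]
        apply (pow_eq_pow_iff_modEq (x := x)).mp
        rw [pow_mul]
        exact hgk
      have h2 : k ^ 2 ≡ 1 [MOD m] :=
        Nat.ModEq.mul_left_cancel' (pow_pos (by norm_num) b).ne' h1
      have hsplit : 2 ^ (a + 1) = 2 * 2 ^ a := by rw [pow_succ, mul_comm]
      rw [hsplit, pow_mul]
      have := h2.pow (2 ^ a)
      rwa [one_pow] at this
  have := (pow_eq_pow_iff_modEq (x := x)).mpr hmod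
  rwa [pow_one] at this

/-- The twist of an irreducible character by the power map. -/
noncomputable def twIrr (k : ℕ) (hk : Nat.Coprime k (Nat.card G)) (χ : IrrCharacter G) :
    IrrCharacter G :=
  ⟨fun g => (χ : G → ℂ) (g ^ k), Cfsg.Agent.Lib.Helper23.isIrrCharacter_comp_pow χ.2 k hk⟩

theorem twIrr_apply (k : ℕ) (hk : Nat.Coprime k (Nat.card G)) (χ : IrrCharacter G) (g : G) :
    ((twIrr k hk χ : IrrCharacter G) : G → ℂ) g = (χ : G → ℂ) (g ^ k) := rfl

theorem twIrr_eq_iff (k : ℕ) (hk : Nat.Coprime k (Nat.card G)) (χ : IrrCharacter G) :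
    twIrr k hk χ = χ ↔ ∀ g : G, (χ : G → ℂ) (g ^ k) = (χ : G → ℂ) g := by
  constructor
  · intro h g
    have := congrArg (fun ψ : IrrCharacter G => (ψ : G → ℂ) g) h
    exact this
  · intro h
    apply Subtype.ext
    funext g
    exact h g

theorem twIrr_injective (k : ℕ) (hk : Nat.Coprime k (Nat.card G)) :
    Function.Injective (twIrr k hk) := by
  intro χ ψ h
  apply Subtype.ext
  funext g
  obtain ⟨g', rfl⟩ := (powCoprime hk.symm).surjective g
  have := congrArg (fun φ : IrrCharacter G => (φ : G → ℂ) g') h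
  exact this

/-- The twist as a permutation of the irreducible characters. -/
noncomputable def twPerm (k : ℕ) (hk : Nat.Coprime k (Nat.card G)) :
    Equiv.Perm (IrrCharacter G) :=
  haveI : Finite (IrrCharacter G) := inferInstance
  Equiv.ofBijective (twIrr k hk) (Finite.injective_iff_bijective.mp (twIrr_injective k hk))

theorem twPerm_apply (k : ℕ) (hk : Nat.Coprime k (Nat.card G)) (χ : IrrCharacter G) :
    twPerm k hk χ = twIrr k hk χ := rfl

theorem twPerm_pow_apply (k : ℕ) (hk : Nat.Coprime k (Nat.card G)) (j : ℕ) (χ : IrrCharacter G)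
    (g : G) : (((twPerm k hk ^ j) χ : IrrCharacter G) : G → ℂ) g = (χ : G → ℂ) (g ^ (k ^ j)) := by
  induction j generalizing g with
  | zero => simp
  | succ j ih =>
    rw [pow_succ', Equiv.Perm.mul_apply, twPerm_apply, twIrr_apply, ih, ← pow_mul, pow_succ']

theorem twPerm_pow_two_pow (k : ℕ) (hk : Nat.Coprime k (Nat.card G))
    (hk₂ : ∀ g : G, Odd (orderOf g) → g ^ (k ^ 2) = g) :
    twPerm k hk ^ (2 ^ ((Nat.card G).factorization 2 + 1)) = 1 := by
  ext χ g
  rw [twPerm_pow_apply, pow_pow_two_pow_eq_gen k hk hk₂ g]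
  rfl

end

end Cfsg.Agent.CharLib
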