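import Mathlib
import Cfsg.Agent.Lib.Helper6.Clifford
import Cfsg.Agent.Lib.Helper6.Gallagher2
import Cfsg.Agent.Lib.Helper24.Deflation
import Cfsg.Agent.Lib.Lead.FrobSchur
import Cfsg.Agent.Lib.Lead.CharMain
import Cfsg.Agent.Lib.Lead.CharEquiv
import Cfsg.Agent.Lib.Lead.CharInd
import Cfsg.Agent.Lib.Lead.RealOddBlock
import Cfsg.Agent.Lib.Lead.PowTwist2
import Cfsg.Agent.Lib.Helper23.FSInd
/-! Normal subgroups of odd index: parity of multiplicities, uniqueness of characters fixed by a
permutation of 2-power order (complex conjugation, Galois twists) lying over a given character. -/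
set_option autoImplicit false
open Cfsg Cfsg.Agent.Lib.Helper24 Cfsg.Agent.Lib.Helper6
open scoped ComplexConjugate
namespace Cfsg.Agent.CharLib
universe u

section parity
variable {α : Type*} [DecidableEq α]

theorem sum_zmod_two_of_involution (π : α → α) (f : α → ZMod 2) (s : Finset α)
    (hs : ∀ a ∈ s, π a ∈ s) (hinv : ∀ a ∈ s, π (π a) = a) (hfix : ∀ a ∈ s, π a ≠ a)
    (hI : ∀ a ∈ s, f (π a) = f a) : ∑ a ∈ s, f a = 0 := by
  apply Finset.sum_involution (fun a _ => π a)
  · intro a ha
    rw [hI a ha]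
    exact CharTwo.add_self_eq_zero (f a)
  · intro a ha _
    exact hfix a ha
  · intro a ha
    exact hs a ha
  · intro a ha
    exact hinv a ha

theorem sum_zmod_two_of_perm_two_pow (f : α → ZMod 2) :
    ∀ (n : ℕ) (π : Equiv.Perm α) (s : Finset α), (∀ a ∈ s, π a ∈ s) → π ^ (2 ^ n) = 1 →
    (∀ a ∈ s, π a ≠ a) → (∀ a ∈ s, f (π a) = f a) → ∑ a ∈ s, f a = 0 := by
  intro n
  induction n with
  | zero =>
    intro π s hs hπ hfix hI
    rw [pow_zero, pow_one] at hπ
    have : s = ∅ := by
      apply Finset.eq_empty_of_forall_notMem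
      intro a ha
      apply hfix a ha
      rw [hπ]; rfl
    rw [this, Finset.sum_empty]
  | succ n ih =>
    intro π s hs hπ hfix hI
    rw [← Finset.sum_filter_add_sum_filter_not s (fun a => (π ^ 2) a = a)]
    have hρ : ∀ a, (π ^ 2) a = π (π a) := fun a => by rw [pow_two]; rfl
    have h1 : ∑ a ∈ s.filter (fun a => (π ^ 2) a = a), f a = 0 := by
      apply sum_zmod_two_of_involution π f
      · intro a ha
        rw [Finset.mem_filter] at ha ⊢
        refine ⟨hs a ha.1, ?_⟩
        rw [hρ] at ha ⊢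
        rw [ha.2]
      · intro a ha
        rw [Finset.mem_filter, hρ] at ha
        exact ha.2
      · intro a ha
        exact hfix a (Finset.mem_filter.mp ha).1
      · intro a ha
        exact hI a (Finset.mem_filter.mp ha).1
    have h2 : ∑ a ∈ s.filter (fun a => ¬ (π ^ 2) a = a), f a = 0 := by
      apply ih (π ^ 2)
      · intro a ha
        rw [Finset.mem_filter] at ha ⊢
        refine ⟨?_, ?_⟩
        · rw [hρ]; exact hs _ (hs a ha.1)
        · intro h
          exact ha.2 ((π ^ 2).injective h)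
      · rw [← pow_mul, ← pow_succ']; exact hπ
      · intro a ha
        exact (Finset.mem_filter.mp ha).2
      · intro a ha
        have has := (Finset.mem_filter.mp ha).1
        rw [hρ, hI _ (hs a has), hI a has]
    rw [h1, h2, add_zero]

/-- Orbit counting modulo 2: only the fixed points of a permutation of 2-power order contribute. -/
theorem sum_zmod_two_eq_sum_fixed (f : α → ZMod 2) (n : ℕ) (π : Equiv.Perm α) (s : Finset α)
    (hs : ∀ a ∈ s, π a ∈ s) (hπ : π ^ (2 ^ n) = 1) (hI : ∀ a ∈ s, f (π a) = f a) :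
    ∑ a ∈ s, f a = ∑ a ∈ s.filter (fun a => π a = a), f a := by
  rw [← Finset.sum_filter_add_sum_filter_not s (fun a => π a = a)]
  have : ∑ a ∈ s.filter (fun a => ¬ π a = a), f a = 0 := by
    apply sum_zmod_two_of_perm_two_pow f n π
    · intro a ha
      rw [Finset.mem_filter] at ha ⊢
      exact ⟨hs a ha.1, fun h => ha.2 (π.injective h)⟩
    · exact hπ
    · intro a ha
      exact (Finset.mem_filter.mp ha).2
    · intro a ha
      exact hI a (Finset.mem_filter.mp ha).1
  rw [this, add_zero]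

end parity


section normal
variable {G : Type u} [Group G] [Fintype G] (N : Subgroup G) [hN : N.Normal] [Fintype N]

/-- `χ` is constant (equal to `χ 1`) on `N`. -/
def TrivOn (χ : G → ℂ) : Prop := ∀ n : N, χ n = χ 1

theorem trivOn_one : TrivOn N (fun _ : G => (1 : ℂ)) := fun _ => rfl

theorem classInner_one_one_sub : classInner (1 : N → ℂ) (1 : N → ℂ) = 1 := by
  simp only [classInner, Pi.one_apply, map_one, mul_one, Finset.sum_const, Finset.card_univ,
    nsmul_eq_mul]
  rw [Nat.card_eq_fintype_card]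
  have : (Fintype.card N : ℂ) ≠ 0 := by exact_mod_cast Fintype.card_ne_zero
  field_simp

theorem classInner_res_one_of_trivOn {χ : G → ℂ} (h : TrivOn N χ) :
    classInner (resFun N χ) (1 : N → ℂ) = χ 1 := by
  have h1 : resFun N χ = χ 1 • (1 : N → ℂ) := by
    funext n
    rw [resFun_apply, h n]
    simp
  rw [h1, classInner_smul_left, classInner_one_one_sub, mul_one]

theorem trivOn_of_classInner_res_one_ne_zero (χ : IrrCharacter G)
    (h : classInner (resFun N (χ : G → ℂ)) (1 : N → ℂ) ≠ 0) : TrivOn N (χ : G → ℂ) := by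
  have hinv : ∀ g : G, conjFun N g (1 : N → ℂ) = 1 := fun g => rfl
  have h1 := clifford_of_invariant N χ.2 (Cfsg.Agent.Lib.Helper6.isIrrCharacter_one N) h hinv
  intro n
  have h2 := congrFun h1 n
  have h3 := congrFun h1 1
  rw [resFun_apply] at h2 h3
  simp only [Pi.smul_apply, Pi.one_apply, smul_eq_mul, mul_one] at h2 h3
  rw [h2]
  exact h3.symm

/-- Multiplicity of the trivial character of `N` in the restriction of a class function. -/
theorem classInner_res_one_eq_sum [Fintype (IrrCharacter G)] {ψ : G → ℂ} (hψ : IsClassFunction G ψ) :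
    classInner (resFun N ψ) (1 : N → ℂ) =
      ∑ β : IrrCharacter G, classInner ψ (β : G → ℂ) *
        classInner (resFun N (β : G → ℂ)) (1 : N → ℂ) := by
  conv_lhs => rw [classFunction_eq_sum hψ]
  rw [map_sum, classInner_sum_left]
  apply Finset.sum_congr rfl
  intro β _
  rw [map_smul, classInner_smul_left]

theorem mem_of_sq_mem_of_odd_index (hodd : Odd N.index) {y : G} (hy : y * y ∈ N) : y ∈ N := by
  rw [← QuotientGroup.eq_one_iff] at hy ⊢
  rw [QuotientGroup.mk_mul, ← pow_two] at hy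
  have h1 : orderOf (y : G ⧸ N) ∣ 2 := orderOf_dvd_of_pow_eq_one hy
  have h2 : orderOf (y : G ⧸ N) ∣ N.index := by
    rw [Subgroup.index_eq_card]
    exact orderOf_dvd_natCard _
  have h3 : orderOf (y : G ⧸ N) ∣ Nat.gcd 2 N.index := Nat.dvd_gcd h1 h2
  have h4 : Nat.gcd 2 N.index = 1 := Nat.coprime_two_left.mpr hodd
  rw [h4, Nat.dvd_one] at h3
  exact orderOf_eq_one_iff.mp h3

/-- A real-valued irreducible character trivial on a normal subgroup of odd index is trivial. -/
theorem eq_one_of_trivOn_of_real (hodd : Odd N.index) (β : IrrCharacter G)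
    (h : TrivOn N (β : G → ℂ)) (hreal : ∀ g : G, ((β : G → ℂ) g).im = 0) :
    (β : G → ℂ) = fun _ => 1 := by
  obtain ⟨n, ρ, hirr, hρ⟩ := β.2
  have h1 : (β : G → ℂ) 1 = (Module.finrank ℂ (Fin n → ℂ) : ℂ) := by
    rw [← hρ]; exact Representation.char_one ρ
  have hN' : ∀ x ∈ N, ρ x = 1 := by
    intro x hx
    apply rep_eq_one_of_char_eq_finrank ρ x
    rw [hρ, ← h1]
    exact h ⟨x, hx⟩
  haveI := hirr
  have hσ := deflate_isIrreducible N ρ hN'
  let β' : IrrCharacter (G ⧸ N) := ⟨(deflate N ρ hN').character, ⟨n, deflate N ρ hN', hσ, rfl⟩⟩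
  have hodd' : Odd (Nat.card (G ⧸ N)) := by rwa [← Subgroup.index_eq_card]
  have hreal' : ∀ q : G ⧸ N, ((β' : G ⧸ N → ℂ) q).im = 0 := by
    intro q
    obtain ⟨g, rfl⟩ := QuotientGroup.mk_surjective q
    change ((deflate N ρ hN').character (g : G ⧸ N)).im = 0
    rw [deflate_character, hρ]
    exact hreal g
  have h2 := eq_one_of_real_of_odd hodd' β' hreal'
  funext g
  have h3 := congrFun h2 (g : G ⧸ N)
  change (deflate N ρ hN').character (g : G ⧸ N) = 1 at h3
  rw [deflate_character, hρ] at h3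
  exact h3

/-- Parity of the multiplicity of the trivial character of `N` in a character invariant under a
permutation of `2`-power order of `Irr(G)` whose only fixed point trivial on `N` is trivial. -/
theorem parity_res {ψ : G → ℂ} (hψ : IsCharacter G ψ)
    (π : Equiv.Perm (IrrCharacter G)) (e : ℕ) (hπ : π ^ (2 ^ e) = 1)
    (hπ1 : π (trivIrr G) = trivIrr G)
    (hdeg : ∀ β : IrrCharacter G, (π β : G → ℂ) 1 = (β : G → ℂ) 1)
    (htriv : ∀ β : IrrCharacter G, TrivOn N (β : G → ℂ) → TrivOn N (π β : G → ℂ))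
    (hfix : ∀ β : IrrCharacter G, TrivOn N (β : G → ℂ) → π β = β → β = trivIrr G)
    (hinv : ∀ β : IrrCharacter G, classInner ψ (π β : G → ℂ) = classInner ψ (β : G → ℂ))
    (a b : ℕ) (ha : classInner (resFun N ψ) (1 : N → ℂ) = a)
    (hb : classInner ψ (fun _ => 1) = b) : (a : ZMod 2) = b := by
  classical
  let _ := fintypeIrr G
  have hm : ∀ β : IrrCharacter G, ∃ m : ℕ, classInner ψ (β : G → ℂ) = m :=
    fun β => IsCharacter.classInner_nat hψ (IsIrrCharacter.isCharacter β.2)
  choose m hm using hm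
  have hd : ∀ β : IrrCharacter G, ∃ d : ℕ, (β : G → ℂ) 1 = d :=
    fun β => IsCharacter.apply_one (IsIrrCharacter.isCharacter β.2)
  choose d hd using hd
  have hsum : (a : ℂ) = ((∑ β ∈ Finset.univ.filter (fun β : IrrCharacter G => TrivOn N (β : G → ℂ)),
      m β * d β : ℕ) : ℂ) := by
    rw [← ha, classInner_res_one_eq_sum N (IsCharacter.isClassFunction hψ), Finset.sum_filter]
    push_cast
    apply Finset.sum_congr rfl
    intro β _
    split_ifs with hβ
    · rw [classInner_res_one_of_trivOn N hβ, hm, hd]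
    · have : classInner (resFun N (β : G → ℂ)) (1 : N → ℂ) = 0 := by
        by_contra hne
        exact hβ (trivOn_of_classInner_res_one_ne_zero N β hne)
      rw [this, mul_zero]
  have hsum' : a = ∑ β ∈ Finset.univ.filter (fun β : IrrCharacter G => TrivOn N (β : G → ℂ)),
      m β * d β := by exact_mod_cast hsum
  have hmπ : ∀ β, m (π β) = m β := by
    intro β
    have := hinv β
    rw [hm, hm] at this
    exact_mod_cast this
  have hdπ : ∀ β, d (π β) = d β := by
    intro β
    have := hdeg β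
    rw [hd, hd] at this
    exact_mod_cast this
  rw [hsum']
  push_cast
  rw [sum_zmod_two_eq_sum_fixed (fun β : IrrCharacter G => ((m β : ZMod 2) * (d β : ZMod 2))) e π]
  · have hfilter : (Finset.univ.filter (fun β : IrrCharacter G => TrivOn N (β : G → ℂ))).filter
        (fun β => π β = β) = {trivIrr G} := by
      ext β
      simp only [Finset.mem_filter, Finset.mem_univ, true_and, Finset.mem_singleton]
      constructor
      · rintro ⟨h1, h2⟩
        exact hfix β h1 h2
      · rintro rfl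
        exact ⟨fun _ => rfl, hπ1⟩
    rw [hfilter, Finset.sum_singleton]
    have h1 : d (trivIrr G) = 1 := by
      have := hd (trivIrr G)
      have h2 : ((trivIrr G : IrrCharacter G) : G → ℂ) 1 = 1 := rfl
      rw [h2] at this
      exact_mod_cast this.symm
    have h2 : m (trivIrr G) = b := by
      have := hm (trivIrr G)
      have h3 : ((trivIrr G : IrrCharacter G) : G → ℂ) = fun _ => 1 := rfl
      rw [h3, hb] at this
      exact_mod_cast this.symm
    rw [h1, h2]
    simp
  · intro β hβ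
    rw [Finset.mem_filter] at hβ ⊢
    exact ⟨Finset.mem_univ _, htriv β hβ.2⟩
  · exact hπ
  · intro β _
    rw [hmπ, hdπ]


theorem zmod_two_eq_one_of_sq {x : ZMod 2} (h : x * x = 1) : x = 1 := by
  revert h; revert x; decide

/-- Two irreducible characters over the same `θ ∈ Irr(N)`, both fixed by a permutation `π` of
`2`-power order whose only fixed point trivial on `N` is trivial, coincide (`N` of odd index
enters through `hfix`). -/
theorem eq_of_fixed_of_over
    (π : Equiv.Perm (IrrCharacter G)) (e : ℕ) (hπ : π ^ (2 ^ e) = 1)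
    (hπ1 : π (trivIrr G) = trivIrr G)
    (hdeg : ∀ β : IrrCharacter G, (π β : G → ℂ) 1 = (β : G → ℂ) 1)
    (htriv : ∀ β : IrrCharacter G, TrivOn N (β : G → ℂ) → TrivOn N (π β : G → ℂ))
    (hfix : ∀ β : IrrCharacter G, TrivOn N (β : G → ℂ) → π β = β → β = trivIrr G)
    (hinv : ∀ χ₁ χ₂ β : IrrCharacter G, π χ₁ = χ₁ → π χ₂ = χ₂ →
      classInner (fun g => (χ₁ : G → ℂ) g * conj ((χ₂ : G → ℂ) g)) (π β : G → ℂ) =
      classInner (fun g => (χ₁ : G → ℂ) g * conj ((χ₂ : G → ℂ) g)) (β : G → ℂ))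
    (θ : IrrCharacter N) (χ₁ χ₂ : IrrCharacter G) (h1 : π χ₁ = χ₁) (h2 : π χ₂ = χ₂)
    (ho1 : classInner (resFun N (χ₁ : G → ℂ)) (θ : N → ℂ) ≠ 0)
    (ho2 : classInner (resFun N (χ₂ : G → ℂ)) (θ : N → ℂ) ≠ 0) : χ₁ = χ₂ := by
  classical
  have hchar : ∀ χ : IrrCharacter G, IsCharacter G (χ : G → ℂ) :=
    fun χ => IsIrrCharacter.isCharacter χ.2
  have hψ : ∀ χ χ' : IrrCharacter G,
      IsCharacter G (fun g => (χ : G → ℂ) g * conj ((χ' : G → ℂ) g)) :=
    fun χ χ' => IsCharacter.mul (hchar χ) (IsCharacter.conj (hchar χ'))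
  have hres : ∀ χ χ' : IrrCharacter G,
      classInner (resFun N (fun g => (χ : G → ℂ) g * conj ((χ' : G → ℂ) g))) (1 : N → ℂ) =
      classInner (resFun N (χ : G → ℂ)) (resFun N (χ' : G → ℂ)) := by
    intro χ χ'
    simp only [classInner, resFun_apply, Pi.one_apply, map_one, mul_one]
  have hglob : ∀ χ χ' : IrrCharacter G,
      classInner (fun g => (χ : G → ℂ) g * conj ((χ' : G → ℂ) g)) (fun _ => 1) =
      classInner (χ : G → ℂ) (χ' : G → ℂ) := by
    intro χ χ'
    simp only [classInner, map_one, mul_one]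
  -- Clifford
  set S : N → ℂ := ∑ φ ∈ conjOrbit N (θ : N → ℂ), φ with hS
  have hcl1 := clifford N χ₁.2 θ.2 ho1
  have hcl2 := clifford N χ₂.2 θ.2 ho2
  obtain ⟨n₁, hn₁⟩ := IsCharacter.classInner_nat (isCharacter_resFun N (hchar χ₁))
    (IsIrrCharacter.isCharacter θ.2)
  obtain ⟨n₂, hn₂⟩ := IsCharacter.classInner_nat (isCharacter_resFun N (hchar χ₂))
    (IsIrrCharacter.isCharacter θ.2)
  have hSchar : IsCharacter N S := by
    apply IsCharacter.sum
    intro φ hφ
    obtain ⟨g, rfl⟩ := (mem_conjOrbit N).mp hφ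
    exact IsIrrCharacter.isCharacter (isIrrCharacter_conjFun N θ.2 g)
  obtain ⟨s, hs⟩ := IsCharacter.classInner_nat hSchar hSchar
  rw [hn₁] at hcl1
  rw [hn₂] at hcl2
  have hpair : ∀ (a b : ℕ) (χ χ' : IrrCharacter G), resFun N (χ : G → ℂ) = (a : ℂ) • S →
      resFun N (χ' : G → ℂ) = (b : ℂ) • S →
      classInner (resFun N (χ : G → ℂ)) (resFun N (χ' : G → ℂ)) = ((a * b * s : ℕ) : ℂ) := by
    intro a b χ χ' ha hb
    rw [ha, hb, classInner_smul_left, classInner_smul_right, hs]
    push_cast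
    rw [Complex.conj_natCast]
    ring
  have hpar : ∀ (a b : ℕ) (χ χ' : IrrCharacter G), π χ = χ → π χ' = χ' →
      resFun N (χ : G → ℂ) = (a : ℂ) • S → resFun N (χ' : G → ℂ) = (b : ℂ) • S →
      ((a * b * s : ℕ) : ZMod 2) = ((if χ = χ' then 1 else 0 : ℕ) : ZMod 2) := by
    intro a b χ χ' hf hf' ha hb
    apply parity_res N (hψ χ χ') π e hπ hπ1 hdeg htriv hfix (hinv χ χ' · hf hf')
    · rw [hres, hpair a b χ χ' ha hb]
    · rw [hglob, classInner_irr']
      split_ifs <;> simp
  have p11 := hpar n₁ n₁ χ₁ χ₁ h1 h1 hcl1 hcl1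
  have p22 := hpar n₂ n₂ χ₂ χ₂ h2 h2 hcl2 hcl2
  have p12 := hpar n₁ n₂ χ₁ χ₂ h1 h2 hcl1 hcl2
  rw [if_pos rfl] at p11 p22
  by_contra hne
  rw [if_neg hne] at p12
  push_cast at p11 p22 p12
  have hx : ((n₁ : ZMod 2) * n₂ * s) * ((n₁ : ZMod 2) * n₂ * s) = 1 := by
    calc ((n₁ : ZMod 2) * n₂ * s) * ((n₁ : ZMod 2) * n₂ * s)
        = ((n₁ : ZMod 2) * n₁ * s) * ((n₂ : ZMod 2) * n₂ * s) := by ring
      _ = 1 := by rw [p11, p22, one_mul]
  rw [p12, mul_zero] at hx
  exact zero_ne_one hx

end normal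

section conjugation
variable {G : Type u} [Group G] [Fintype G] (N : Subgroup G) [hN : N.Normal] [Fintype N]

/-- complex conjugation as a permutation of `Irr(G)` -/
noncomputable def cjPerm (G : Type u) [Group G] [Finite G] : Equiv.Perm (IrrCharacter G) :=
  Function.Involutive.toPerm cjIrr cjIrr_cjIrr

theorem cjPerm_apply (χ : IrrCharacter G) (g : G) :
    ((cjPerm G χ : IrrCharacter G) : G → ℂ) g = conj ((χ : G → ℂ) g) := rfl

theorem conj_eq_of_cjPerm_eq {χ : IrrCharacter G} (h : cjPerm G χ = χ) (g : G) :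
    conj ((χ : G → ℂ) g) = (χ : G → ℂ) g := by
  have := congrArg (fun ψ : IrrCharacter G => (ψ : G → ℂ) g) h
  exact this

theorem cjPerm_eq_of_real {χ : IrrCharacter G} (h : ∀ g : G, ((χ : G → ℂ) g).im = 0) :
    cjPerm G χ = χ := by
  apply Subtype.ext
  funext g
  rw [cjPerm_apply]
  exact Complex.conj_eq_iff_im.mpr (h g)

/-- Two real-valued irreducible characters of `G` over the same irreducible character of a normal
subgroup of odd index coincide. -/
theorem real_unique_over (hodd : Odd N.index) (θ : IrrCharacter N) (χ₁ χ₂ : IrrCharacter G)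
    (hr1 : ∀ g : G, ((χ₁ : G → ℂ) g).im = 0) (hr2 : ∀ g : G, ((χ₂ : G → ℂ) g).im = 0)
    (ho1 : classInner (resFun N (χ₁ : G → ℂ)) (θ : N → ℂ) ≠ 0)
    (ho2 : classInner (resFun N (χ₂ : G → ℂ)) (θ : N → ℂ) ≠ 0) : χ₁ = χ₂ := by
  apply eq_of_fixed_of_over N (cjPerm G) 1 ?_ ?_ ?_ ?_ ?_ ?_ θ χ₁ χ₂ (cjPerm_eq_of_real hr1)
    (cjPerm_eq_of_real hr2) ho1 ho2
  · ext χ g
    rw [pow_one, pow_two, Equiv.Perm.mul_apply, cjPerm_apply, cjPerm_apply, Complex.conj_conj]
    rfl
  · apply Subtype.ext
    funext g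
    rw [cjPerm_apply]
    change conj (1 : ℂ) = 1
    exact map_one _
  · intro β
    rw [cjPerm_apply]
    exact IsCharacter.conj_apply_one (IsIrrCharacter.isCharacter β.2)
  · intro β h n
    rw [cjPerm_apply, cjPerm_apply, h n]
  · intro β h hfix
    apply Subtype.ext
    apply eq_one_of_trivOn_of_real N hodd β h
    intro g
    exact Complex.conj_eq_iff_im.mp (conj_eq_of_cjPerm_eq hfix g)
  · intro χ χ' β hχ hχ'
    obtain ⟨m, hm⟩ := IsCharacter.classInner_nat
      (IsCharacter.mul (IsIrrCharacter.isCharacter χ.2)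
        (IsCharacter.conj (IsIrrCharacter.isCharacter χ'.2)))
      (IsIrrCharacter.isCharacter β.2)
    have hm' : classInner (fun g => (χ : G → ℂ) g * conj ((χ' : G → ℂ) g)) (β : G → ℂ) = m := hm
    rw [hm']
    have h1 : conj (classInner (fun g => (χ : G → ℂ) g * conj ((χ' : G → ℂ) g)) (β : G → ℂ)) = m := by
      rw [hm', Complex.conj_natCast]
    rw [← h1]
    simp only [classInner, map_mul, map_sum, map_inv₀, Complex.conj_natCast, Complex.conj_conj]
    congr 1
    apply Finset.sum_congr rfl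
    intro g _
    rw [cjPerm_apply, Complex.conj_conj, conj_eq_of_cjPerm_eq hχ g]
    have := conj_eq_of_cjPerm_eq hχ' g
    rw [← this, Complex.conj_conj, this]

/-- Frobenius–Schur sum of a function induced from a normal subgroup of odd index. -/
theorem fs_indFun (hodd : Odd N.index) (φ : N → ℂ) :
    (Nat.card G : ℂ)⁻¹ * ∑ g : G, indFun N φ (g * g) =
      (Nat.card N : ℂ)⁻¹ * ∑ n : N, φ (n * n) := by
  classical
  have h1 : ∀ x : G, ∑ g : G, extendByZero N φ (x⁻¹ * (g * g) * x) =
      ∑ g : G, extendByZero N φ (g * g) := by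
    intro x
    rw [← Equiv.sum_comp (MulAut.conj x⁻¹).toEquiv (fun g => extendByZero N φ (g * g))]
    apply Finset.sum_congr rfl
    intro g _
    simp only [MulEquiv.toEquiv_eq_coe, MulEquiv.coe_toEquiv, MulAut.conj_apply, inv_inv]
    congr 1
    group
  have h2 : ∑ g : G, extendByZero N φ (g * g) = ∑ n : N, φ (n * n) := by
    rw [← Finset.sum_filter_add_sum_filter_not Finset.univ (fun g : G => g ∈ N)]
    have hz : ∑ g ∈ Finset.univ.filter (fun g : G => ¬ g ∈ N), extendByZero N φ (g * g) = 0 := by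
      apply Finset.sum_eq_zero
      intro g hg
      rw [Finset.mem_filter] at hg
      apply extendByZero_apply_of_not_mem
      intro hgg
      exact hg.2 (mem_of_sq_mem_of_odd_index N hodd hgg)
    rw [hz, add_zero]
    rw [Finset.sum_subtype (p := fun g : G => g ∈ N) (Finset.univ.filter (fun g : G => g ∈ N))
      (by intro g; simp) (fun g => extendByZero N φ (g * g))]
    apply Finset.sum_congr rfl
    intro n _
    have : ((n : G) * (n : G)) = ((n * n : N) : G) := rfl
    rw [this, extendByZero_apply_coe]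
  simp only [indFun]
  rw [← Finset.mul_sum, Finset.sum_comm, Finset.sum_congr rfl (fun x _ => h1 x), Finset.sum_const,
    Finset.card_univ, nsmul_eq_mul, h2]
  have hG : (Nat.card G : ℂ) ≠ 0 := card_ne_zero_complex
  rw [Nat.card_eq_fintype_card (α := G)] at hG ⊢
  field_simp


/-- The Frobenius–Schur indicators of the characters over `φ`, weighted by multiplicity, sum to
the indicator of `φ` (odd index). -/
theorem sum_mult_fs_eq (hodd : Odd N.index) [Fintype (IrrCharacter G)] (φ : IrrCharacter N) :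
    ∑ χ : IrrCharacter G, classInner (resFun N (χ : G → ℂ)) (φ : N → ℂ) *
      ((Nat.card G : ℂ)⁻¹ * ∑ g : G, (χ : G → ℂ) (g * g)) =
    (Nat.card N : ℂ)⁻¹ * ∑ n : N, (φ : N → ℂ) (n * n) := by
  rw [← fs_indFun N hodd (φ : N → ℂ)]
  have hexp := classFunction_eq_sum (indFun_isClassFunction N (φ : N → ℂ))
  have hcoef : ∀ χ : IrrCharacter G, classInner (indFun N (φ : N → ℂ)) (χ : G → ℂ) =
      classInner (resFun N (χ : G → ℂ)) (φ : N → ℂ) := by
    intro χ
    rw [frobenius_reciprocity N (φ : N → ℂ)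
      (IsCharacter.isClassFunction (IsIrrCharacter.isCharacter χ.2))]
    obtain ⟨m, hm⟩ := IsCharacter.classInner_nat
      (isCharacter_resFun N (IsIrrCharacter.isCharacter χ.2)) (IsIrrCharacter.isCharacter φ.2)
    rw [← classInner_conj_symm, ← resFun_eq, hm, Complex.conj_natCast]
  have h2 : ∀ g : G, indFun N (φ : N → ℂ) (g * g) =
      ∑ χ : IrrCharacter G, classInner (resFun N (χ : G → ℂ)) (φ : N → ℂ) * (χ : G → ℂ) (g * g) := by
    intro g
    conv_lhs => rw [hexp]
    rw [Finset.sum_apply]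
    apply Finset.sum_congr rfl
    intro χ _
    rw [Pi.smul_apply, smul_eq_mul, hcoef]
  rw [Finset.sum_congr rfl (fun g _ => h2 g), Finset.sum_comm, Finset.mul_sum]
  apply Finset.sum_congr rfl
  intro χ _
  rw [← Finset.mul_sum]
  ring

/-- **S4873**: for `N` normal of odd index, an irreducible character of `N` with Frobenius–Schur
indicator `+1` lies under exactly one irreducible character of `G` with indicator `+1`. -/
theorem exists_unique_fs_one_over (hodd : Odd N.index) (φ : IrrCharacter N)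
    (hφ : (Nat.card N : ℂ)⁻¹ * ∑ n : N, (φ : N → ℂ) (n * n) = 1) :
    ∃! χ : IrrCharacter G, (Nat.card G : ℂ)⁻¹ * ∑ g : G, (χ : G → ℂ) (g * g) = 1 ∧
      classInner (resFun N (χ : G → ℂ)) (φ : N → ℂ) ≠ 0 := by
  classical
  let _ := fintypeIrr G
  have hn : ∀ χ : IrrCharacter G, ∃ n : ℕ, classInner (resFun N (χ : G → ℂ)) (φ : N → ℂ) = n :=
    fun χ => IsCharacter.classInner_nat
      (isCharacter_resFun N (IsIrrCharacter.isCharacter χ.2)) (IsIrrCharacter.isCharacter φ.2)
  choose n hn using hn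
  have hz := fun χ : IrrCharacter G => Cfsg.Agent.Lib.Helper23.exists_fsIndicator χ
  choose z hz1 hz2 hz3 using hz
  have hsum : ∑ χ : IrrCharacter G, (n χ : ℤ) * z χ = 1 := by
    have h := sum_mult_fs_eq N hodd φ
    rw [hφ] at h
    have h' : ((∑ χ : IrrCharacter G, (n χ : ℤ) * z χ : ℤ) : ℂ) = ((1 : ℤ) : ℂ) := by
      rw [Int.cast_one, ← h]
      push_cast
      apply Finset.sum_congr rfl
      intro χ _
      rw [hn, hz1]
    exact_mod_cast h'
  -- the set of real characters over φ
  set R := Finset.univ.filter (fun χ : IrrCharacter G => n χ ≠ 0 ∧ z χ ≠ 0) with hR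
  have hR1 : ∀ χ ∈ R, ∀ χ' ∈ R, χ = χ' := by
    intro χ hχ χ' hχ'
    rw [hR, Finset.mem_filter] at hχ hχ'
    apply real_unique_over N hodd φ χ χ' ((hz3 χ).mp hχ.2.2) ((hz3 χ').mp hχ'.2.2)
    · rw [hn]; exact_mod_cast hχ.2.1
    · rw [hn]; exact_mod_cast hχ'.2.1
  have hsumR : ∑ χ ∈ R, (n χ : ℤ) * z χ = 1 := by
    rw [← hsum, hR, Finset.sum_filter]
    apply Finset.sum_congr rfl
    intro χ _
    split_ifs with h
    · rfl
    · rw [not_and_or, not_not, not_not] at h
      rcases h with h | h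
      · rw [h]; simp
      · rw [h]; simp
  have hne : R.Nonempty := by
    by_contra hemp
    rw [Finset.not_nonempty_iff_eq_empty] at hemp
    rw [hemp, Finset.sum_empty] at hsumR
    exact zero_ne_one hsumR
  obtain ⟨χ₀, hχ₀⟩ := hne
  have hRs : R = {χ₀} := by
    ext χ
    rw [Finset.mem_singleton]
    constructor
    · intro h; exact hR1 χ h χ₀ hχ₀
    · rintro rfl; exact hχ₀
  rw [hRs, Finset.sum_singleton] at hsumR
  have hz0 : z χ₀ = 1 := by
    rcases hz2 χ₀ with h | h | h
    · rw [h, mul_zero] at hsumR; exact absurd hsumR zero_ne_one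
    · exact h
    · rw [h] at hsumR
      have : (0 : ℤ) ≤ n χ₀ := Int.natCast_nonneg _
      omega
  have hn0 : n χ₀ ≠ 0 := by
    intro h
    rw [h] at hsumR
    simp at hsumR
  refine ⟨χ₀, ⟨?_, ?_⟩, ?_⟩
  · rw [hz1, hz0]; simp
  · rw [hn]; exact_mod_cast hn0
  · rintro χ ⟨h1, h2⟩
    have hzχ : z χ ≠ 0 := by
      intro h
      rw [hz1, h] at h1
      simp at h1
    have hnχ : n χ ≠ 0 := by
      intro h
      rw [hn, h] at h2
      simp at h2
    have : χ ∈ R := by
      rw [hR, Finset.mem_filter]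
      exact ⟨Finset.mem_univ _, hnχ, hzχ⟩
    exact hR1 χ this χ₀ hχ₀

end conjugation

end Cfsg.Agent.CharLib
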