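import Mathlib
import Cfsg.Agent.Lib.Helper24.LocalRing
import Cfsg.Agent.Lib.Helper6.PAdicZero

/-!
lead: elements of the local ideal at a `p`-modular maximal ideal `M` of the algebraic integers are
`p`-adically nilpotent: some power is divisible by `p` in the local ring.
-/

set_option autoImplicit false

namespace Cfsg.Agent.CharLib

open Cfsg Cfsg.Agent.Lib.Helper24 Polynomial

section padicpow

variable {M : Ideal AlgInt}

theorem intCast_not_mem_of_not_dvd {p : ℕ} (hM : IsPModular p M) {c : ℤ} (hc : ¬ (p : ℤ) ∣ c) :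
    ((c : ℤ) : AlgInt) ∉ M := by
  have hprime : M.IsPrime := isPrime_of_isPModular hM
  intro h
  have hpp : Prime (p : ℤ) := Nat.prime_iff_prime_int.mp hM.1
  have hcop : IsCoprime (p : ℤ) c := (Prime.coprime_iff_not_dvd hpp).mpr hc
  obtain ⟨a, b, hab⟩ := hcop
  have h1 : (1 : AlgInt) = ((a : ℤ) : AlgInt) * (p : AlgInt) + ((b : ℤ) : AlgInt) * ((c : ℤ) : AlgInt) := by
    have := congrArg (fun z : ℤ => (z : AlgInt)) hab
    simp only [Int.cast_add, Int.cast_mul, Int.cast_natCast, Int.cast_one] at this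
    exact this.symm
  apply hprime.one_notMem
  rw [h1]
  exact M.add_mem (M.mul_mem_left _ hM.2.2) (M.mul_mem_left _ h)

/-- Auxiliary induction: if `α ∈ M`, `α ^ k * P(α) = p * t` and `P` has a coefficient prime to
`p`, then some power of `α` is `p` times a local integer. -/
theorem exists_pow_eq_mul_aux {p : ℕ} (hM : IsPModular p M) (α : AlgInt) (hα : α ∈ M) :
    ∀ (n : ℕ) (P : ℤ[X]), P.natDegree ≤ n → (∃ i, ¬ (p : ℤ) ∣ P.coeff i) →
    ∀ (k : ℕ) (t : AlgInt), α ^ k * aeval α P = (p : AlgInt) * t →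
    ∃ (r : ℕ) (s : ℂ), MemLocalRing M s ∧ (α : ℂ) ^ r = (p : ℂ) * s := by
  have hprime : M.IsPrime := isPrime_of_isPModular hM
  intro n
  induction n with
  | zero =>
    intro P hdeg ⟨i, hi⟩ k t hkt
    have hC : P = C (P.coeff 0) := eq_C_of_natDegree_le_zero hdeg
    have hi0 : ¬ (p : ℤ) ∣ P.coeff 0 := by
      intro h
      apply hi
      rcases Nat.eq_zero_or_pos i with h0 | h0
      · rw [h0]; exact h
      · rw [hC, coeff_C, if_neg h0.ne']
        exact dvd_zero _
    have hev : aeval α P = ((P.coeff 0 : ℤ) : AlgInt) := by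
      conv_lhs => rw [hC]
      rw [aeval_C]
      rfl
    have hnm : ((P.coeff 0 : ℤ) : AlgInt) ∉ M := intCast_not_mem_of_not_dvd hM hi0
    refine ⟨k, (t : ℂ) / (((P.coeff 0 : ℤ) : AlgInt) : ℂ), ⟨t, _, hnm, rfl⟩, ?_⟩
    have h0 := coe_ne_zero_of_not_mem hnm
    rw [hev] at hkt
    have h1 := congrArg (fun z : AlgInt => (z : ℂ)) hkt
    simp only [MulMemClass.coe_mul, SubmonoidClass.coe_pow, SubringClass.coe_natCast] at h1
    field_simp
    exact h1
  | succ n ih =>
    intro P hdeg ⟨i, hi⟩ k t hkt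
    by_cases h0 : (p : ℤ) ∣ P.coeff 0
    · -- divide by X
      obtain ⟨c', hc'⟩ := h0
      have hsplit : aeval α P = aeval α P.divX * α + ((P.coeff 0 : ℤ) : AlgInt) := by
        conv_lhs => rw [← divX_mul_X_add P]
        rw [map_add, map_mul, aeval_X, aeval_C]
        rfl
      have hdeg' : P.divX.natDegree ≤ n := by
        rw [natDegree_divX_eq_natDegree_tsub_one]
        omega
      have hi' : ∃ j, ¬ (p : ℤ) ∣ P.divX.coeff j := by
        rcases Nat.eq_zero_or_pos i with hi0 | hi0
        · exfalso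
          apply hi
          rw [hi0, hc']
          exact dvd_mul_right _ _
        · refine ⟨i - 1, ?_⟩
          rw [coeff_divX]
          have : i - 1 + 1 = i := by omega
          rw [this]
          exact hi
      apply ih P.divX hdeg' hi' (k + 1) (t - α ^ k * ((c' : ℤ) : AlgInt))
      rw [hsplit, hc'] at hkt
      have : (((p : ℤ) * c' : ℤ) : AlgInt) = (p : AlgInt) * ((c' : ℤ) : AlgInt) := by
        push_cast
        rfl
      rw [this] at hkt
      rw [pow_succ]
      linear_combination hkt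
    · -- constant coefficient is a unit mod M
      have hsplit : aeval α P = aeval α P.divX * α + ((P.coeff 0 : ℤ) : AlgInt) := by
        conv_lhs => rw [← divX_mul_X_add P]
        rw [map_add, map_mul, aeval_X, aeval_C]
        rfl
      have hnm : aeval α P ∉ M := by
        intro h
        have h1 : ((P.coeff 0 : ℤ) : AlgInt) ∈ M := by
          have h2 : ((P.coeff 0 : ℤ) : AlgInt) = aeval α P - aeval α P.divX * α := by
            rw [hsplit]; ring
          rw [h2]
          exact M.sub_mem h (M.mul_mem_left _ hα)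
        exact intCast_not_mem_of_not_dvd hM h0 h1
      refine ⟨k, (t : ℂ) / ((aeval α P : AlgInt) : ℂ), ⟨t, _, hnm, rfl⟩, ?_⟩
      have h0' := coe_ne_zero_of_not_mem hnm
      have h1 := congrArg (fun z : AlgInt => (z : ℂ)) hkt
      simp only [MulMemClass.coe_mul, SubmonoidClass.coe_pow, SubringClass.coe_natCast] at h1
      field_simp
      exact h1

/-- Every element of the local ideal has a power divisible by `p` in the local ring. -/
theorem exists_pow_eq_prime_mul {p : ℕ} (hM : IsPModular p M) {z : ℂ} (hz : MemLocalIdeal M z) :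
    ∃ (r : ℕ) (s : ℂ), MemLocalRing M s ∧ z ^ r = (p : ℂ) * s := by
  have hprime : M.IsPrime := isPrime_of_isPModular hM
  obtain ⟨α, β, hα, hβ, rfl⟩ := hz
  have hint : IsIntegral ℤ (α : ℂ) := α.2
  set P := minpoly ℤ (α : ℂ) with hP
  have hmonic : P.Monic := minpoly.monic hint
  have h0 : aeval α P = 0 := by
    apply Subtype.ext
    rw [← Subalgebra.aeval_coe]
    exact minpoly.aeval ℤ (α : ℂ)
  have hp1 : ¬ (p : ℤ) ∣ 1 := by
    intro h
    have := Int.eq_one_of_dvd_one (by positivity) h
    have h2 : p = 1 := by exact_mod_cast this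
    exact hM.1.one_lt.ne' h2
  obtain ⟨r, s, hs, hrs⟩ := exists_pow_eq_mul_aux hM α hα P.natDegree P le_rfl
    ⟨P.natDegree, by rw [hmonic.coeff_natDegree]; exact hp1⟩ 0 0 (by rw [h0]; ring)
  have hβ0 := coe_ne_zero_of_not_mem hβ
  have hβr : (β ^ r : AlgInt) ∉ M := fun h => hβ (hprime.mem_of_pow_mem r h)
  refine ⟨r, s / ((β ^ r : AlgInt) : ℂ), ?_, ?_⟩
  · obtain ⟨a, b, hb, hab⟩ := hs
    refine ⟨a, b * β ^ r, ?_, ?_⟩
    · intro h
      rcases hprime.mem_or_mem h with h1 | h1
      · exact hb h1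
      · exact hβr h1
    · rw [← hab]
      push_cast
      rw [div_div]
  · rw [div_pow, hrs]
    push_cast
    ring

/-- Powers of an element of the local ideal are eventually divisible by any given power of `p`. -/
theorem exists_forall_pow_eq_prime_pow_mul {p : ℕ} (hM : IsPModular p M) {z : ℂ}
    (hz : MemLocalIdeal M z) (j : ℕ) :
    ∃ m₀ : ℕ, ∀ m, m₀ ≤ m → ∃ s : ℂ, MemLocalRing M s ∧ z ^ m = (p : ℂ) ^ j * s := by
  have hprime : M.IsPrime := isPrime_of_isPModular hM
  obtain ⟨r, s, hs, hrs⟩ := exists_pow_eq_prime_mul hM hz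
  have hzR : MemLocalRing M z := memLocalRing_of_memLocalIdeal hz
  have hpow : ∀ (w : ℂ), MemLocalRing M w → ∀ n : ℕ, MemLocalRing M (w ^ n) := by
    intro w hw n
    induction n with
    | zero => rw [pow_zero]; exact ⟨1, 1, hprime.one_notMem, by simp⟩
    | succ n ih => rw [pow_succ]; exact memLocalRing_mul ih hw
  refine ⟨r * j, fun m hm => ⟨s ^ j * z ^ (m - r * j), ?_, ?_⟩⟩
  · exact memLocalRing_mul (hpow s hs j) (hpow z hzR _)
  · have : m = r * j + (m - r * j) := by omega
    conv_lhs => rw [this, pow_add, pow_mul, hrs, mul_pow]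
    ring

end padicpow

end Cfsg.Agent.CharLib
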