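import Mathlib
import Cfsg.Agent.Lib.Helper6.Osima2
import Cfsg.Agent.Lib.Lead.PAdicPow

/-!
lead: algebra of the convolution product `Cfsg.Agent.Lib.Helper6.conv`: associativity, centrality of
class functions, extension by zero from a subgroup, convolution powers of class functions in terms of
central characters, and `p`-adic nilpotency.
-/

set_option autoImplicit false

namespace Cfsg.Agent.CharLib

open Cfsg Cfsg.Agent.Lib.Helper24 Cfsg.Agent.Lib.Helper6
open scoped ComplexConjugate

universe u

section convAlg

variable {G : Type u} [Group G] [Fintype G]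

theorem conv_assoc (a b c : G → ℂ) : conv (conv a b) c = conv a (conv b c) := by
  funext x
  unfold conv
  simp_rw [Finset.sum_mul, Finset.mul_sum]
  rw [Finset.sum_comm]
  apply Finset.sum_congr rfl
  intro k _
  rw [← Equiv.sum_comp (Equiv.mulLeft k)]
  apply Finset.sum_congr rfl
  intro g _
  rw [Equiv.coe_mulLeft, inv_mul_cancel_left, mul_inv_rev, mul_assoc, mul_assoc]

theorem conv_comm_of_isClassFunction {e : G → ℂ} (he : IsClassFunction G e) (a : G → ℂ) :
    conv e a = conv a e := by
  funext x
  unfold conv
  rw [← Equiv.sum_comp ((Equiv.inv G).trans (Equiv.mulLeft x))]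
  apply Finset.sum_congr rfl
  intro g _
  simp only [Equiv.trans_apply, Equiv.inv_apply, Equiv.coe_mulLeft]
  rw [mul_inv_rev, inv_inv, inv_mul_cancel_right, mul_comm]
  congr 1
  have := he (g⁻¹ * x) g
  rw [← this]
  congr 1
  group

/-- An idempotent is fixed by all positive convolution powers. -/
theorem wordSum_of_idem {z : G → ℂ} (hz : conv z z = z) (m : ℕ) : wordSum z (m + 1) = z := by
  induction m with
  | zero => rw [zero_add, wordSum_succ, wordSum_zero, conv_classInd_one_right]
  | succ m ih => rw [wordSum_succ, ih, hz]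

end convAlg

section ext

variable {G : Type u} [Group G] [Fintype G] (H : Subgroup G) [Fintype H]

theorem conv_extendByZero (a b : H → ℂ) :
    conv (extendByZero H a) (extendByZero H b) = extendByZero H (conv a b) := by
  funext x
  by_cases hx : x ∈ H
  · rw [extendByZero_mem H _ hx]
    unfold conv
    rw [sum_eq_sum_subgroup_of_support H (fun g => extendByZero H a g * extendByZero H b (g⁻¹ * x))]
    · apply Finset.sum_congr rfl
      intro k _
      rw [extendByZero_coe]
      congr 1
      exact extendByZero_mem H b (H.mul_mem (H.inv_mem k.2) hx)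
    · intro g hg
      rw [extendByZero_not_mem H a hg, zero_mul]
  · rw [extendByZero_not_mem H _ hx]
    unfold conv
    apply Finset.sum_eq_zero
    intro g _
    by_cases hg : g ∈ H
    · rw [extendByZero_not_mem H b, mul_zero]
      intro h'
      apply hx
      have := H.mul_mem hg h'
      rwa [mul_inv_cancel_left] at this
    · rw [extendByZero_not_mem H a hg, zero_mul]

theorem classInd_one_eq_extendByZero :
    (classInd (1 : G)) = extendByZero H (classInd (1 : H)) := by
  classical
  funext x
  by_cases hx : x ∈ H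
  · rw [extendByZero_mem H _ hx]
    unfold classInd
    by_cases h1 : x = 1
    · subst h1
      rw [if_pos (IsConj.refl _), if_pos]
      exact IsConj.refl _
    · rw [if_neg, if_neg]
      · intro h
        apply h1
        have := isConj_one_left.mp h.symm
        exact congrArg Subtype.val this
      · intro h
        exact h1 (isConj_one_left.mp h.symm)
  · rw [extendByZero_not_mem H _ hx]
    unfold classInd
    rw [if_neg]
    intro h
    apply hx
    rw [isConj_one_left.mp h.symm]
    exact H.one_mem

theorem wordSum_extendByZero (a : H → ℂ) (m : ℕ) :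
    wordSum (extendByZero H a) m = extendByZero H (wordSum a m) := by
  induction m with
  | zero => rw [wordSum_zero, wordSum_zero, classInd_one_eq_extendByZero H]
  | succ m ih => rw [wordSum_succ, wordSum_succ, ih, conv_extendByZero]

end ext

section powers

variable {X : Type u} [Group X] [Fintype X] {M : Ideal AlgInt}

theorem wordSum_isClassFunction {a : X → ℂ} (ha : IsClassFunction X a) (m : ℕ) :
    IsClassFunction X (wordSum a m) := by
  induction m with
  | zero => rw [wordSum_zero]; exact classInd_isClassFunction 1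
  | succ m ih => rw [wordSum_succ]; exact conv_isClassFunction ha ih

theorem omegaFun_wordSum (ψ : IrrCharacter X) {a : X → ℂ} (ha : IsClassFunction X a) (m : ℕ) :
    omegaFun (ψ : X → ℂ) (wordSum a m) = omegaFun (ψ : X → ℂ) a ^ m := by
  induction m with
  | zero =>
    rw [wordSum_zero, omegaFun_classInd, pow_zero]
    unfold centralChar
    obtain ⟨d, hdpos, hd⟩ := IsIrrCharacter.apply_one_pos ψ.2
    have hd0 : (ψ : X → ℂ) 1 ≠ 0 := by rw [hd]; exact Nat.cast_ne_zero.mpr hdpos.ne'
    have h1 : Subgroup.centralizer ({(1 : X)} : Set X) = ⊤ := by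
      ext g
      simp [Subgroup.mem_centralizer_iff]
    rw [h1, Subgroup.index_top, Nat.cast_one, one_mul, div_self hd0]
  | succ m ih =>
    rw [wordSum_succ, omegaFun_conv ψ ha (wordSum_isClassFunction ha m), ih, pow_succ']

/-- Convolution powers of a class function in terms of its central character values. -/
theorem wordSum_eq_sum_omega [Fintype (IrrCharacter X)] {a : X → ℂ} (ha : IsClassFunction X a)
    (m : ℕ) (k : X) :
    wordSum a m k = (Nat.card X : ℂ)⁻¹ *
      ∑ ψ : IrrCharacter X, omegaFun (ψ : X → ℂ) a ^ m * ((ψ : X → ℂ) 1 * conj ((ψ : X → ℂ) k)) := by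
  classical
  have key : wordSum a m =
      ∑ ψ : IrrCharacter X, (omegaFun (ψ : X → ℂ) a ^ m) • blockCoeff ({ψ} : Set (IrrCharacter X)) := by
    apply eq_of_omegaFun_eq (wordSum_isClassFunction ha m)
    · intro g h
      rw [Finset.sum_apply, Finset.sum_apply]
      apply Finset.sum_congr rfl
      intro ψ _
      rw [Pi.smul_apply, Pi.smul_apply, blockCoeff_isClassFunction _ g h]
    · intro φ
      rw [omegaFun_wordSum φ ha, omegaFun_sum]
      rw [Finset.sum_eq_single φ]
      · rw [omegaFun_smul, omegaFun_blockCoeff, if_pos (Set.mem_singleton φ), mul_one]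
      · intro ψ _ hψ
        rw [omegaFun_smul, omegaFun_blockCoeff, if_neg, mul_zero]
        intro h
        exact hψ (Set.mem_singleton_iff.mp h).symm
      · intro h
        exact absurd (Finset.mem_univ _) h
  rw [key, Finset.sum_apply, Finset.mul_sum]
  apply Finset.sum_congr rfl
  intro ψ _
  rw [Pi.smul_apply, smul_eq_mul]
  unfold blockCoeff
  rw [finsum_mem_singleton]
  ring

/-- **`p`-adic nilpotency**: if all central character values of the local-integer valued class
function `a` lie in the local ideal, its convolution powers are eventually divisible by any power of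
`p`. -/
theorem exists_forall_wordSum_eq_pow_mul {p : ℕ} [hpp : Fact p.Prime] (hM : IsPModular p M)
    {a : X → ℂ} (ha : IsClassFunction X a)
    (hω : ∀ ψ : IrrCharacter X, MemLocalIdeal M (omegaFun (ψ : X → ℂ) a)) (j : ℕ) :
    ∃ m₀ : ℕ, ∀ m, m₀ ≤ m → ∀ k : X, ∃ t : ℂ, MemLocalRing M t ∧
      wordSum a m k = (p : ℂ) ^ j * t := by
  classical
  have hprime : M.IsPrime := isPrime_of_isPModular hM
  let _ : Fintype (IrrCharacter X) := Fintype.ofFinite _
  -- `|X| = p ^ e * q` with `q` prime to `p`
  have hX0 : Nat.card X ≠ 0 := Nat.card_pos.ne'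
  obtain ⟨e, q, hq, hXe⟩ := Nat.exists_eq_pow_mul_and_not_dvd hX0 p hpp.out.ne_one
  have hch := fun ψ : IrrCharacter X => exists_forall_pow_eq_prime_pow_mul hM (hω ψ) (j + e)
  choose m₀ hm₀ using hch
  refine ⟨Finset.univ.sup m₀, fun m hm k => ?_⟩
  have hm' : ∀ ψ : IrrCharacter X, m₀ ψ ≤ m :=
    fun ψ => (Finset.le_sup (Finset.mem_univ ψ)).trans hm
  choose s hs using fun ψ => hm₀ ψ m (hm' ψ)
  have hqR : MemLocalRing M ((q : ℂ)⁻¹) := by
    refine ⟨1, (q : AlgInt), natCast_not_mem_of_not_dvd hM hq, ?_⟩
    simp
  have hintR : ∀ w : ℂ, IsIntegral ℤ w → MemLocalRing M w :=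
    fun w hw => memLocalRing_of_algInt ⟨w, hw⟩ hprime.one_notMem
  refine ⟨(q : ℂ)⁻¹ * ∑ ψ : IrrCharacter X, s ψ * ((ψ : X → ℂ) 1 * conj ((ψ : X → ℂ) k)), ?_, ?_⟩
  · apply memLocalRing_mul hqR
    apply sum_memLocalRing
    intro ψ _
    apply memLocalRing_mul (hs ψ).1
    apply memLocalRing_mul (hintR _ (irr_isIntegral ψ 1))
    rw [← irr_apply_inv]
    exact hintR _ (irr_isIntegral ψ k⁻¹)
  · rw [wordSum_eq_sum_omega ha, hXe]
    have hp0 : (p : ℂ) ≠ 0 := Nat.cast_ne_zero.mpr hpp.out.ne_zero
    have hq0 : (q : ℂ) ≠ 0 := by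
      intro h
      apply hq
      have : q = 0 := by exact_mod_cast h
      rw [this]
      exact dvd_zero _
    have h1 : ∀ ψ : IrrCharacter X,
        omegaFun (ψ : X → ℂ) a ^ m * ((ψ : X → ℂ) 1 * conj ((ψ : X → ℂ) k)) =
        (p : ℂ) ^ (j + e) * (s ψ * ((ψ : X → ℂ) 1 * conj ((ψ : X → ℂ) k))) := by
      intro ψ
      rw [(hs ψ).2]
      ring
    rw [Finset.sum_congr rfl (fun ψ _ => h1 ψ), ← Finset.mul_sum]
    push_cast
    rw [pow_add]
    field_simp

end powers

end Cfsg.Agent.CharLib
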