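import Mathlib
import Cfsg.Agent.Lib.Helper6.TraceZero

/-!
lead: twisted rotation of words `(g₁, …, g_m) ↦ (g₂, …, g_m, h g₁ h⁻¹)`, used for the relative
trace-zero argument behind Brauer's second main theorem.
-/

set_option autoImplicit false

namespace Cfsg.Agent.CharLib

open Cfsg Cfsg.Agent.Lib.Helper24 Cfsg.Agent.Lib.Helper6

universe u

section lists

variable {G : Type u}

/-- One step of the twisted rotation on lists. -/
def twStep (c : G → G) : List G → List G
  | [] => []
  | a :: t => t ++ [c a]

theorem twStep_eq (c : G → G) (l : List G) : twStep c l = (l.modifyHead c).rotate 1 := by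
  cases l with
  | nil => rfl
  | cons a t =>
    change t ++ [c a] = (c a :: t).rotate 1
    rw [List.rotate_cons_succ, List.rotate_zero]

theorem length_twStep (c : G → G) (l : List G) : (twStep c l).length = l.length := by
  cases l with
  | nil => rfl
  | cons a t => simp [twStep]

theorem twStep_iterate (c : G → G) (l : List G) :
    ∀ i : ℕ, i ≤ l.length → (twStep c)^[i] l = l.drop i ++ (l.take i).map c := by
  intro i
  induction i with
  | zero => intro _; simp
  | succ i ih =>
    intro hi
    rw [Function.iterate_succ_apply', ih (by omega)]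
    have hlt : i < l.length := by omega
    have hdrop : l.drop i = l[i] :: l.drop (i + 1) := List.drop_eq_getElem_cons hlt
    rw [hdrop]
    change l.drop (i + 1) ++ (l.take i).map c ++ [c l[i]] = _
    rw [List.take_succ_eq_append_getElem hlt, List.map_append, List.map_singleton,
      List.append_assoc]

theorem twStep_iterate_length (c : G → G) (l : List G) :
    (twStep c)^[l.length] l = l.map c := by
  rw [twStep_iterate c l l.length le_rfl, List.drop_length, List.take_length, List.nil_append]

theorem twStep_iterate_length_mul (c : G → G) (l : List G) (t : ℕ) :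
    (twStep c)^[l.length * t] l = l.map (c^[t]) := by
  induction t with
  | zero => simp
  | succ t ih =>
    rw [Nat.mul_succ, Nat.add_comm, Function.iterate_add_apply, ih]
    have hlen : (l.map (c^[t])).length = l.length := List.length_map _
    have := twStep_iterate_length c (l.map (c^[t]))
    rw [hlen] at this
    rw [this, List.map_map]
    congr 1
    funext x
    rw [Function.comp_apply, Function.iterate_succ_apply']

theorem prod_map_twStep {c : G → G} (z : G → ℂ) (hz : ∀ g, z (c g) = z g) (l : List G) :
    ((twStep c l).map z).prod = (l.map z).prod := by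
  cases l with
  | nil => rfl
  | cons a t =>
    change ((t ++ [c a]).map z).prod = ((a :: t).map z).prod
    rw [List.map_append, List.prod_append, List.map_cons, List.map_nil, List.prod_singleton,
      List.map_cons, List.prod_cons, hz, mul_comm]

theorem forall_mem_twStep {c : G → G} (S : Set G) (hc : ∀ g, c g ∈ S ↔ g ∈ S) (l : List G) :
    (∀ x ∈ twStep c l, x ∈ S) ↔ ∀ x ∈ l, x ∈ S := by
  cases l with
  | nil => rfl
  | cons a t =>
    change (∀ x ∈ t ++ [c a], x ∈ S) ↔ ∀ x ∈ a :: t, x ∈ S
    simp only [List.mem_append, List.mem_cons, List.not_mem_nil, or_false]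
    constructor
    · intro h x hx
      rcases hx with rfl | hx
      · exact (hc x).mp (h _ (Or.inr rfl))
      · exact h x (Or.inl hx)
    · intro h x hx
      rcases hx with hx | rfl
      · exact h x (Or.inr hx)
      · exact (hc a).mpr (h a (Or.inl rfl))

theorem isConj_prod_twStep [Group G] (h : G) (l : List G) :
    IsConj (l.prod * h) ((twStep (fun g => h * g * h⁻¹) l).prod * h) := by
  cases l with
  | nil => exact IsConj.refl _
  | cons a t =>
    change IsConj ((a :: t).prod * h) ((t ++ [h * a * h⁻¹]).prod * h)
    rw [List.prod_cons, List.prod_append, List.prod_singleton]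
    exact isConj_iff.mpr ⟨a⁻¹, by group⟩

end lists

section perm

variable {G : Type u} [Group G]

/-- Conjugating the head of a word. -/
def headConjPerm (h : G) (m : ℕ) : Equiv.Perm (List.Vector G m) where
  toFun w := ⟨w.1.modifyHead (fun g => h * g * h⁻¹), by rw [List.length_modifyHead]; exact w.2⟩
  invFun w := ⟨w.1.modifyHead (fun g => h⁻¹ * g * h), by rw [List.length_modifyHead]; exact w.2⟩
  left_inv w := by
    apply Subtype.ext
    change (w.1.modifyHead (fun g => h * g * h⁻¹)).modifyHead (fun g => h⁻¹ * g * h) = w.1
    rw [List.modifyHead_modifyHead]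
    have : ((fun g => h⁻¹ * g * h) ∘ fun g => h * g * h⁻¹) = id := by
      funext g
      simp only [Function.comp_apply, id]
      group
    rw [this, List.modifyHead_id]
    rfl
  right_inv w := by
    apply Subtype.ext
    change (w.1.modifyHead (fun g => h⁻¹ * g * h)).modifyHead (fun g => h * g * h⁻¹) = w.1
    rw [List.modifyHead_modifyHead]
    have : ((fun g => h * g * h⁻¹) ∘ fun g => h⁻¹ * g * h) = id := by
      funext g
      simp only [Function.comp_apply, id]
      group
    rw [this, List.modifyHead_id]
    rfl

/-- The twisted rotation `(g₁, …, g_m) ↦ (g₂, …, g_m, h g₁ h⁻¹)` as a permutation of words. -/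
def twRotPerm (h : G) (m : ℕ) : Equiv.Perm (List.Vector G m) :=
  rotPerm m * headConjPerm h m

theorem twRotPerm_apply_val (h : G) (m : ℕ) (w : List.Vector G m) :
    (twRotPerm h m w).1 = twStep (fun g => h * g * h⁻¹) w.1 := by
  rw [twStep_eq]
  rfl

theorem twRotPerm_pow_apply_val (h : G) (m i : ℕ) (w : List.Vector G m) :
    ((twRotPerm h m ^ i) w).1 = (twStep (fun g => h * g * h⁻¹))^[i] w.1 := by
  induction i with
  | zero => simp
  | succ i ih =>
    rw [pow_succ', Equiv.Perm.mul_apply, twRotPerm_apply_val, ih, Function.iterate_succ_apply']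

theorem iterate_conj (h : G) (t : ℕ) :
    (fun g : G => h * g * h⁻¹)^[t] = fun g => h ^ t * g * (h ^ t)⁻¹ := by
  induction t with
  | zero => funext g; simp
  | succ t ih =>
    funext g
    rw [Function.iterate_succ_apply', ih, pow_succ']
    group

theorem twRotPerm_pow_mul_apply_val (h : G) (m t : ℕ) (w : List.Vector G m) :
    ((twRotPerm h m ^ (m * t)) w).1 = w.1.map (fun g => h ^ t * g * (h ^ t)⁻¹) := by
  rw [twRotPerm_pow_apply_val]
  have := twStep_iterate_length_mul (fun g => h * g * h⁻¹) w.1 t
  rw [w.2] at this
  rw [this, iterate_conj]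

theorem twRotPerm_pow_mul_orderOf (h : G) (m : ℕ) : twRotPerm h m ^ (m * orderOf h) = 1 := by
  ext w : 1
  apply Subtype.ext
  rw [twRotPerm_pow_mul_apply_val, pow_orderOf_eq_one, Equiv.Perm.one_apply]
  simp

end perm

end Cfsg.Agent.CharLib
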