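import Mathlib
import Cfsg.Agent.Lib.Lead.TwistedWords
import Cfsg.Agent.Lib.Lead.PAdicPow

/-!
lead: relative trace-zero lemma.  If `z` (local-integer coefficients) commutes with `h`, is fixed by
arbitrarily large `p`-power convolution powers, and its words inside a subgroup `H ⊇ C_G(h_p)` are
`p`-adically small, then all class sums of `z · h` vanish.
-/

set_option autoImplicit false

namespace Cfsg.Agent.CharLib

open Cfsg Cfsg.Agent.Lib.Helper24 Cfsg.Agent.Lib.Helper6

universe u

section relTrace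

variable {G : Type u} [Group G] [Fintype G] {M : Ideal AlgInt}

theorem apply_pow_eq_of_invariant {α β : Type*} (σ : Equiv.Perm α) (F : α → β)
    (hF : ∀ w, F (σ w) = F w) (k : ℕ) (w : α) : F ((σ ^ k) w) = F w := by
  induction k generalizing w with
  | zero => simp
  | succ k ih => rw [pow_succ', Equiv.Perm.mul_apply, hF, ih]

theorem sum_classInd_mul_wordSum (z : G → ℂ) (m : ℕ) (g₀ h : G) :
    ∑ g : G, classInd g₀ (g * h) * wordSum z m g =
      ∑ w : List.Vector G m, classInd g₀ (w.1.prod * h) * (w.1.map z).prod := by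
  classical
  have h2 : ∀ g : G, classInd g₀ (g * h) * wordSum z m g = ∑ w : List.Vector G m,
      classInd g₀ (g * h) * (if w.1.prod = g then (w.1.map z).prod else 0) := by
    intro g
    rw [← Finset.mul_sum]
    congr 1
  rw [Finset.sum_congr rfl (fun g _ => h2 g), Finset.sum_comm]
  apply Finset.sum_congr rfl
  intro w _
  rw [Finset.sum_eq_single w.1.prod]
  · rw [if_pos rfl]
  · intro g _ hg
    rw [if_neg (Ne.symm hg), mul_zero]
  · intro hne
    exact absurd (Finset.mem_univ _) hne

theorem relTraceZero {p : ℕ} [hpp : Fact p.Prime] (hM : IsPModular p M) (H : Subgroup G)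
    (h : G) (hh : h ∈ H) (c s : ℕ) (hcs : h ^ (p ^ s * c) = 1)
    (hC : ∀ g : G, Commute g (h ^ c) → g ∈ H)
    {z zH : G → ℂ} (hzR : ∀ x, MemLocalRing M (z x)) (hzh : ∀ g, z (h * g * h⁻¹) = z g)
    (hper : ∀ n₀ : ℕ, ∃ n, n₀ ≤ n ∧ wordSum z (p ^ n) = z)
    (hzH1 : ∀ g ∈ H, zH g = z g) (hzH0 : ∀ g, g ∉ H → zH g = 0)
    (hnil : ∀ j : ℕ, ∃ m₀ : ℕ, ∀ m, m₀ ≤ m → ∀ g : G, ∃ t : ℂ, MemLocalRing M t ∧
      wordSum zH m g = (p : ℂ) ^ j * t)
    (g₀ : G) : ∑ g : G, classInd g₀ (g * h) * z g = 0 := by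
  classical
  have hprime : M.IsPrime := isPrime_of_isPModular hM
  apply eq_zero_of_forall_pow_mul hM
  intro k
  obtain ⟨m₀, hm₀⟩ := hnil k
  obtain ⟨n, hn, hzn⟩ := hper (k + m₀)
  have hnm : m₀ ≤ p ^ n := by
    have : n < p ^ n := Nat.lt_pow_self hpp.out.one_lt
    omega
  set m := p ^ n with hm
  set σ := twRotPerm h m with hσ
  have hzHR : ∀ x, MemLocalRing M (zH x) := by
    intro x
    by_cases hx : x ∈ H
    · rw [hzH1 x hx]; exact hzR x
    · rw [hzH0 x hx]; exact ⟨0, 1, hprime.one_notMem, by simp⟩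
  have hzHh : ∀ g, zH (h * g * h⁻¹) = zH g := by
    intro g
    by_cases hg : g ∈ H
    · rw [hzH1 g hg, hzH1 _ (H.mul_mem (H.mul_mem hh hg) (H.inv_mem hh)), hzh]
    · rw [hzH0 g hg, hzH0]
      intro hg'
      apply hg
      have : h⁻¹ * (h * g * h⁻¹) * h ∈ H := H.mul_mem (H.mul_mem (H.inv_mem hh) hg') hh
      have h2 : h⁻¹ * (h * g * h⁻¹) * h = g := by group
      rw [h2] at this
      exact this
  -- the H-part
  have hHpart : ∃ t₁ : ℂ, MemLocalRing M t₁ ∧
      ∑ g : G, classInd g₀ (g * h) * wordSum zH m g = (p : ℂ) ^ k * t₁ := by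
    choose t ht using fun g => hm₀ m hnm g
    refine ⟨∑ g : G, classInd g₀ (g * h) * t g, ?_, ?_⟩
    · apply sum_memLocalRing
      intro g _
      exact memLocalRing_mul (memLocalRing_classInd _ _) (ht g).1
    · rw [Finset.mul_sum]
      apply Finset.sum_congr rfl
      intro g _
      rw [(ht g).2]
      ring
  obtain ⟨t₁, ht₁, hsum₁⟩ := hHpart
  rw [sum_classInd_mul_wordSum] at hsum₁
  have h1 : ∑ g : G, classInd g₀ (g * h) * z g =
      ∑ w : List.Vector G m, classInd g₀ (w.1.prod * h) * (w.1.map z).prod := by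
    rw [← sum_classInd_mul_wordSum, hzn]
  let F : List.Vector G m → ℂ := fun w =>
    classInd g₀ (w.1.prod * h) * ((w.1.map z).prod - (w.1.map zH).prod)
  have hsplit : ∀ w : List.Vector G m, classInd g₀ (w.1.prod * h) * (w.1.map z).prod =
      classInd g₀ (w.1.prod * h) * (w.1.map zH).prod + F w := by
    intro w
    change _ = _ + classInd g₀ (w.1.prod * h) * ((w.1.map z).prod - (w.1.map zH).prod)
    ring
  have hprodR : ∀ (z' : G → ℂ), (∀ x, MemLocalRing M (z' x)) → ∀ l : List G,
      (l.map z').prod ∈ localSubring M := by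
    intro z' hz' l
    apply Subring.list_prod_mem
    intro x hx
    obtain ⟨y, _, rfl⟩ := List.mem_map.mp hx
    exact hz' y
  have hFS : ∀ w, F w ∈ (localSubring M).toAddSubgroup := by
    intro w
    change classInd g₀ (w.1.prod * h) * ((w.1.map z).prod - (w.1.map zH).prod) ∈ localSubring M
    apply Subring.mul_mem
    · exact memLocalRing_classInd _ _
    · exact Subring.sub_mem _ (hprodR z hzR _) (hprodR zH hzHR _)
  have hFσ : ∀ w, F (σ w) = F w := by
    intro w
    change classInd g₀ ((σ w).1.prod * h) * (((σ w).1.map z).prod - ((σ w).1.map zH).prod) =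
      classInd g₀ (w.1.prod * h) * ((w.1.map z).prod - (w.1.map zH).prod)
    have e1 : (σ w).1 = twStep (fun g => h * g * h⁻¹) w.1 := twRotPerm_apply_val h m w
    rw [e1, prod_map_twStep z hzh, prod_map_twStep zH hzHh]
    congr 1
    have hc := isConj_prod_twStep h w.1
    have h3 := classInd_isClassFunction g₀
    obtain ⟨u, hu⟩ := isConj_iff.mp hc
    rw [← hu]
    exact h3 _ u
  set τ := σ ^ c with hτ
  have hFτ : ∀ w, F (τ w) = F w := fun w => apply_pow_eq_of_invariant σ F hFσ c w
  have hτpow : τ ^ (p ^ (n + s)) = 1 := by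
    rw [hτ, ← pow_mul]
    have : c * p ^ (n + s) = m * (p ^ s * c) := by rw [hm, pow_add]; ring
    rw [this]
    ext w : 1
    apply Subtype.ext
    rw [twRotPerm_pow_mul_apply_val, hcs, Equiv.Perm.one_apply]
    simp
  have hfix : ∀ w, (τ ^ (p ^ n)) w = w → F w = 0 := by
    intro w hw
    change classInd g₀ (w.1.prod * h) * ((w.1.map z).prod - (w.1.map zH).prod) = 0
    have hall : ∀ x ∈ w.1, x ∈ H := by
      intro x hx
      apply hC
      have h2 := congrArg Subtype.val hw
      rw [hτ, ← pow_mul] at h2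
      have : c * p ^ n = m * c := by rw [hm]; ring
      rw [this, twRotPerm_pow_mul_apply_val] at h2
      have h3 : w.1.map (fun g => h ^ c * g * (h ^ c)⁻¹) = w.1.map id := by
        rw [h2, List.map_id]
      have h4 := (List.map_inj_left.mp h3) x hx
      simp only [id] at h4
      unfold Commute SemiconjBy
      have : h ^ c * x = x * h ^ c := by
        calc h ^ c * x = (h ^ c * x * (h ^ c)⁻¹) * h ^ c := by group
          _ = x * h ^ c := by rw [h4]
      exact this.symm
    have heq : w.1.map z = w.1.map zH := by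
      apply List.map_inj_left.mpr
      intro x hx
      exact (hzH1 x (hall x hx)).symm
    rw [heq, sub_self, mul_zero]
  obtain ⟨t₂, ht₂, hsum₂⟩ := sum_mem_pow_mul_of_perm p (n + s) n τ hτpow
    (localSubring M).toAddSubgroup F hFS hFτ hfix
  refine ⟨t₁ + (p : ℂ) ^ (n + 1 - k) * t₂, ?_, ?_⟩
  · apply memLocalRing_add ht₁
    apply memLocalRing_mul _ ((mem_localSubring M t₂).mp ht₂)
    have : (p : ℂ) ^ (n + 1 - k) = ((p ^ (n + 1 - k) : ℕ) : ℂ) := by push_cast; rfl
    rw [this]
    exact memLocalRing_natCast _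
  · rw [h1, Finset.sum_congr rfl (fun w _ => hsplit w), Finset.sum_add_distrib, hsum₁, hsum₂,
      mul_add, ← mul_assoc, ← pow_add]
    congr 3
    omega

end relTrace

end Cfsg.Agent.CharLib
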