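import Mathlib
import Cfsg.Agent.Lib.Lead.RelTraceZero
import Cfsg.Agent.Lib.Lead.ConvAlg
import Cfsg.Agent.Lib.Helper6.InducedDefect
import Cfsg.Agent.Lib.Helper6.FirstMain

/-!
lead: the key lemma for Brauer's second main theorem (Isaacs 15.47): if the block `b` of `H ≤ G`
induces `B`, `h ∈ H` with `C_G(h_p) ≤ H` and `χ ∉ B`, then `χ (f_b h) = 0`.
-/

set_option autoImplicit false

namespace Cfsg.Agent.CharLib

open Cfsg Cfsg.Agent.Lib.Helper24 Cfsg.Agent.Lib.Helper6
open scoped ComplexConjugate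

universe u

section ppart

variable {G : Type u} [Group G] [Finite G]

/-- Existence of the `p`-part as a power, in the form needed for `relTraceZero`. -/
theorem exists_ppart_data (p : ℕ) [hpp : Fact p.Prime] (h : G) :
    ∃ (c s : ℕ) (x : G), h ^ (p ^ s * c) = 1 ∧ IsPPart p h x ∧ ∃ i, x = (h ^ c) ^ i := by
  have ho : orderOf h ≠ 0 := (orderOf_pos h).ne'
  obtain ⟨s, c, hc, hsc⟩ := Nat.exists_eq_pow_mul_and_not_dvd ho p hpp.out.ne_one
  have hcop : Nat.Coprime (p ^ s) c :=
    Nat.Coprime.pow_left s ((Nat.Prime.coprime_iff_not_dvd hpp.out).mpr hc)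
  -- `i ≡ 1 mod p^s`, `i ≡ 0 mod c`; `i' ≡ 0 mod p^s`, `i' ≡ 1 mod c`
  obtain ⟨i, hi1, hi2⟩ := Nat.chineseRemainder hcop 1 0
  obtain ⟨i', hi'1, hi'2⟩ := Nat.chineseRemainder hcop 0 1
  have hci : c ∣ i := (Nat.modEq_zero_iff_dvd).mp hi2
  have hpi' : p ^ s ∣ i' := (Nat.modEq_zero_iff_dvd).mp hi'1
  obtain ⟨i₀, hi₀⟩ := hci
  refine ⟨c, s, h ^ i, ?_, ?_, ⟨i₀, by rw [← pow_mul, hi₀]⟩⟩
  · rw [← hsc]; exact pow_orderOf_eq_one h
  · refine ⟨h ^ i', ?_, ?_, ?_, ?_⟩
    · rw [← pow_add]
      have hmod : i + i' ≡ 1 [MOD orderOf h] := by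
        rw [hsc]
        apply (Nat.modEq_and_modEq_iff_modEq_mul hcop).mp
        constructor
        · have := hi1.add hi'1
          simpa using this
        · have := hi2.add hi'2
          simpa using this
      have := (pow_eq_pow_iff_modEq (x := h)).mpr hmod
      rwa [pow_one] at this
    · exact (Commute.refl h).pow_pow i i'
    · have h1 : (h ^ i) ^ (p ^ s) = 1 := by
        rw [← pow_mul, hi₀]
        have : c * i₀ * p ^ s = orderOf h * i₀ := by rw [hsc]; ring
        rw [this, pow_mul, pow_orderOf_eq_one, one_pow]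
      obtain ⟨k, -, hk⟩ := (Nat.dvd_prime_pow hpp.out).mp (orderOf_dvd_of_pow_eq_one h1)
      exact ⟨k, hk⟩
    · obtain ⟨i₁, hi₁⟩ := hpi'
      have h1 : (h ^ i') ^ c = 1 := by
        rw [← pow_mul, hi₁]
        have : p ^ s * i₁ * c = orderOf h * i₁ := by rw [hsc]; ring
        rw [this, pow_mul, pow_orderOf_eq_one, one_pow]
      intro hdvd
      exact hc (hdvd.trans (orderOf_dvd_of_pow_eq_one h1))

end ppart

section key

variable {G : Type u} [Group G] [Fintype G] {M : Ideal AlgInt}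

theorem extendByZero_conj (H : Subgroup G) {f : H → ℂ} (hf : IsClassFunction H f) {h : G}
    (hh : h ∈ H) (g : G) : extendByZero H f (h * g * h⁻¹) = extendByZero H f g := by
  by_cases hg : g ∈ H
  · have hg' : h * g * h⁻¹ ∈ H := H.mul_mem (H.mul_mem hh hg) (H.inv_mem hh)
    rw [extendByZero_mem H f hg, extendByZero_mem H f hg']
    have := hf ⟨g, hg⟩ ⟨h, hh⟩
    rw [← this]
    congr 1
  · rw [extendByZero_not_mem H f hg, extendByZero_not_mem]
    intro hg'
    apply hg
    have : h⁻¹ * (h * g * h⁻¹) * h ∈ H := H.mul_mem (H.mul_mem (H.inv_mem hh) hg') hh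
    have h2 : h⁻¹ * (h * g * h⁻¹) * h = g := by group
    rw [h2] at this
    exact this

/-- **Isaacs 15.47** (function form). -/
theorem sum_blockCoeff_mul_char_eq_zero {p : ℕ} [hpp : Fact p.Prime] (hM : IsPModular p M)
    (H : Subgroup G) [Fintype H] (b : Set (IrrCharacter H)) (B : Set (IrrCharacter G))
    (hind : IsInducedBlock M H b B) (h : H)
    (hC : ∀ z : G, IsPPart p (h : G) z → Subgroup.centralizer ({z} : Set G) ≤ H)
    (χ : IrrCharacter G) (hχ : χ ∉ B) :
    ∑ k : H, blockCoeff b k * (χ : G → ℂ) ((k : G) * (h : G)) = 0 := by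
  classical
  have hprime : M.IsPrime := isPrime_of_isPModular hM
  let _ : Fintype (ConjClasses G) := Fintype.ofFinite _
  obtain ⟨ξ₀, hb⟩ := hind.1
  obtain ⟨χ₁, hB⟩ := hind.2.1
  have hχ₁B : χ₁ ∈ B := by rw [hB]; exact mem_blockOf_self χ₁
  set B' := blockOf M (χ : G → ℂ) with hB'
  set e := blockCoeff B' with he
  set f := blockCoeff b with hf
  have heC : IsClassFunction G e := blockCoeff_isClassFunction _
  have hfC : IsClassFunction H f := blockCoeff_isClassFunction _
  have heR : ∀ x, MemLocalRing M (e x) := fun x => memLocalRing_blockCoeff_blockOf χ x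
  have hfR : ∀ x, MemLocalRing M (f x) := by
    intro x
    rw [hf, hb]
    exact memLocalRing_blockCoeff_blockOf ξ₀ x
  have heI : conv e e = e := conv_blockCoeff_self _
  have hfI : conv f f = f := conv_blockCoeff_self _
  set F := extendByZero H f with hF
  have hFR : ∀ x, MemLocalRing M (F x) := by
    intro x
    by_cases hx : x ∈ H
    · rw [hF, extendByZero_mem H f hx]; exact hfR _
    · rw [hF, extendByZero_not_mem H f hx]; exact ⟨0, 1, hprime.one_notMem, by simp⟩
  have hFI : conv F F = F := by rw [hF, conv_extendByZero, hfI]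
  set u := conv F e with hu
  set a := conv f (resFun H e) with ha
  set uH := extendByZero H a with huH
  have huR : ∀ x, MemLocalRing M (u x) := memLocalRing_conv hFR heR
  have huI : conv u u = u := by
    rw [hu, conv_assoc F e (conv F e), ← conv_assoc e F e, conv_comm_of_isClassFunction heC F,
      conv_assoc F e e, heI, ← conv_assoc, hFI]
  have huh : ∀ g, u ((h : G) * g * (h : G)⁻¹) = u g := by
    intro g
    rw [hu]
    unfold conv
    rw [← Equiv.sum_comp (MulAut.conj (h : G)).toEquiv]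
    apply Finset.sum_congr rfl
    intro k _
    simp only [MulEquiv.toEquiv_eq_coe, EquivLike.coe_coe, MulAut.conj_apply]
    rw [hF, extendByZero_conj H hfC h.2]
    congr 1
    rw [← heC (k⁻¹ * g) (h : G)]
    congr 1
    group
  have huH1 : ∀ g ∈ H, uH g = u g := by
    intro g hg
    rw [huH, extendByZero_mem H a hg, ha, hu]
    unfold conv
    rw [sum_eq_sum_subgroup_of_support H (fun k => F k * e (k⁻¹ * g))]
    · apply Finset.sum_congr rfl
      intro k _
      rw [hF, extendByZero_coe]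
      rfl
    · intro k hk
      rw [hF, extendByZero_not_mem H f hk, zero_mul]
  have huH0 : ∀ g, g ∉ H → uH g = 0 := fun g hg => extendByZero_not_mem H a hg
  -- nilpotency of `a`
  have haC : IsClassFunction H a := conv_isClassFunction hfC (resFun_isClassFunction H heC)
  have hχB' : ∀ χ' ∈ B, χ' ∉ B' := by
    intro χ' hχ' hmem
    apply hχ
    rw [hB] at hχ' ⊢
    exact sameBlock_trans hχ' (sameBlock_symm hmem)
  have haω : ∀ ψ : IrrCharacter H, MemLocalIdeal M (omegaFun (ψ : H → ℂ) a) := by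
    intro ψ
    rw [ha, omegaFun_conv ψ hfC (resFun_isClassFunction H heC), hf, omegaFun_blockCoeff]
    by_cases hψ : ψ ∈ b
    · rw [if_pos hψ, one_mul]
      have h1 := memLocalIdeal_omegaFun_resFun_sub_of_induced H hind hψ hχ₁B heC heR
      rw [he, omegaFun_blockCoeff, if_neg (hχB' χ₁ hχ₁B), sub_zero] at h1
      exact h1
    · rw [if_neg hψ, zero_mul]
      exact memLocalIdeal_zero hprime.one_notMem
  have hnil : ∀ j : ℕ, ∃ m₀ : ℕ, ∀ m, m₀ ≤ m → ∀ g : G, ∃ t : ℂ, MemLocalRing M t ∧
      wordSum uH m g = (p : ℂ) ^ j * t := by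
    intro j
    obtain ⟨m₀, hm₀⟩ := exists_forall_wordSum_eq_pow_mul hM haC haω j
    refine ⟨m₀, fun m hm g => ?_⟩
    rw [huH, wordSum_extendByZero]
    by_cases hg : g ∈ H
    · rw [extendByZero_mem H _ hg]
      exact hm₀ m hm ⟨g, hg⟩
    · rw [extendByZero_not_mem H _ hg]
      exact ⟨0, ⟨0, 1, hprime.one_notMem, by simp⟩, by ring⟩
  have hper : ∀ n₀ : ℕ, ∃ n, n₀ ≤ n ∧ wordSum u (p ^ n) = u := by
    intro n₀
    refine ⟨n₀, le_rfl, ?_⟩
    obtain ⟨m, hm⟩ : ∃ m, p ^ n₀ = m + 1 :=
      ⟨p ^ n₀ - 1, by have := Nat.pow_pos (n := n₀) hpp.out.pos; omega⟩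
    rw [hm]
    exact wordSum_of_idem huI m
  obtain ⟨c, s, x, hcs, hxp, i, hxi⟩ := exists_ppart_data p (h : G)
  have hCx : ∀ g : G, Commute g ((h : G) ^ c) → g ∈ H := by
    intro g hg
    apply hC x hxp
    rw [Subgroup.mem_centralizer_iff]
    intro y hy
    rw [Set.mem_singleton_iff] at hy
    rw [hy, hxi]
    exact ((hg.pow_right i).eq).symm
  have hzero := fun g₀ => relTraceZero hM H (h : G) h.2 c s hcs hCx huR huh hper huH1 huH0 hnil g₀
  -- pass to `χ`
  have h1 : ∑ g : G, u g * (χ : G → ℂ) (g * (h : G)) = 0 := by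
    have hχC : IsClassFunction G (χ : G → ℂ) :=
      IsCharacter.isClassFunction (IsIrrCharacter.isCharacter χ.2)
    have h2 := classFunction_eq_sum_classInd hχC
    have h3 : ∀ g : G, u g * (χ : G → ℂ) (g * (h : G)) = ∑ C : ConjClasses G,
        (χ : G → ℂ) (Quotient.out C) * (classInd (Quotient.out C) (g * (h : G)) * u g) := by
      intro g
      conv_lhs => rw [h2]
      rw [Finset.sum_apply, Finset.mul_sum]
      apply Finset.sum_congr rfl
      intro C _
      rw [Pi.smul_apply, smul_eq_mul]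
      ring
    rw [Finset.sum_congr rfl (fun g _ => h3 g), Finset.sum_comm]
    apply Finset.sum_eq_zero
    intro C _
    rw [← Finset.mul_sum, hzero, mul_zero]
  -- remove `e`
  have h4 : ∑ g : G, u g * (χ : G → ℂ) (g * (h : G)) =
      ∑ k : G, F k * (χ : G → ℂ) (k * (h : G)) := by
    have hχC : IsClassFunction G (χ : G → ℂ) :=
      IsCharacter.isClassFunction (IsIrrCharacter.isCharacter χ.2)
    rw [hu]
    unfold conv
    simp_rw [Finset.sum_mul]
    rw [Finset.sum_comm]
    apply Finset.sum_congr rfl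
    intro k _
    rw [← Equiv.sum_comp (Equiv.mulLeft k)]
    simp only [Equiv.coe_mulLeft, inv_mul_cancel_left]
    simp_rw [mul_assoc (F k)]
    rw [← Finset.mul_sum]
    congr 1
    have h5 : ∀ g' : G, e g' * (χ : G → ℂ) (k * g' * (h : G)) =
        e g' * (χ : G → ℂ) (g' * ((h : G) * k)) := by
      intro g'
      congr 1
      rw [← hχC (g' * ((h : G) * k)) k]
      congr 1
      group
    rw [Finset.sum_congr rfl (fun g' _ => h5 g'), sum_mul_char_mul_right χ heC, he,
      omegaFun_blockCoeff, if_pos (mem_blockOf_self χ), one_mul]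
    rw [← hχC (k * (h : G)) (h : G)]
    congr 1
    group
  rw [h4, sum_eq_sum_subgroup_of_support H (fun k => F k * (χ : G → ℂ) (k * (h : G)))] at h1
  · rw [← h1]
    apply Finset.sum_congr rfl
    intro k _
    rw [hF, extendByZero_coe]
  · intro k hk
    rw [hF, extendByZero_not_mem H f hk, zero_mul]

end key

end Cfsg.Agent.CharLib
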