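import Mathlib
import Cfsg.Agent.Lib.Lead.SecondMain
import Cfsg.Agent.Lib.Lead.OddIndexReal
import Cfsg.Agent.Lib.Helper6.BrauerMap
import Cfsg.Agent.Lib.Helper6.PRegular

/-!
lead: Brauer's second main theorem in terms of ordinary characters (Isaacs 15.48).
-/

set_option autoImplicit false

namespace Cfsg.Agent.CharLib

open Cfsg Cfsg.Agent.Lib.Helper24 Cfsg.Agent.Lib.Helper6
open scoped ComplexConjugate

universe u

section ppartUnique

variable {G : Type u} [Group G] [Finite G]

/-- The `p`-part of an element is unique. -/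
theorem isPPart_unique {p : ℕ} [hpp : Fact p.Prime] {g z x : G} (h1 : IsPPart p g z)
    (h2 : IsPPart p g x) : z = x := by
  obtain ⟨hcz, ⟨k, hk⟩, hnz, c, d, k', hc, -, -⟩ := Cfsg.Agent.Lib.Helper6.IsPPart.exists_pow h1
  obtain ⟨y, hxy, hcomm, ⟨l, hl⟩, hy⟩ := h2
  -- `z` is a power-quotient of `g`, so commutes with everything commuting with `g`
  have hxg : Commute x g := by
    rw [← hxy]
    exact (Commute.refl x).mul_right hcomm
  have hyg : Commute y g := by
    rw [← hxy]
    exact hcomm.symm.mul_right (Commute.refl y)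
  have hzg : z = g * (g ^ c)⁻¹ := by
    rw [hc]
    group
  have hxz : Commute x z := by
    rw [hzg]
    exact hxg.mul_right (hxg.pow_right c).inv_right
  have hyz : Commute y z := by
    rw [hzg]
    exact hyg.mul_right (hyg.pow_right c).inv_right
  set y' := z⁻¹ * g with hy'
  have hzy' : z * y' = g := by rw [hy']; group
  have hxy' : Commute x y' := hxz.inv_right.mul_right hxg
  have hyy' : Commute y y' := hyz.inv_right.mul_right hyg
  -- `z⁻¹ x = y' y⁻¹`
  have heq : z⁻¹ * x = y' * y⁻¹ := by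
    have : x = z * y' * y⁻¹ := by rw [hzy', ← hxy]; group
    rw [this]
    group
  have ho1 : orderOf (z⁻¹ * x) ∣ p ^ (max k l) := by
    have h3 := (hxz.symm.inv_left).orderOf_mul_dvd_lcm
    rw [orderOf_inv, hk, hl] at h3
    apply h3.trans
    apply Nat.lcm_dvd
    · exact pow_dvd_pow p (le_max_left k l)
    · exact pow_dvd_pow p (le_max_right k l)
  have ho2 : orderOf (z⁻¹ * x) ∣ orderOf y' * orderOf y := by
    rw [heq]
    have h3 := (hyy'.symm.inv_right).orderOf_mul_dvd_lcm
    rw [orderOf_inv] at h3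
    exact h3.trans (Nat.lcm_dvd_mul _ _)
  have hcop : Nat.Coprime (p ^ (max k l)) (orderOf y' * orderOf y) := by
    apply Nat.Coprime.pow_left
    apply Nat.Coprime.mul_right
    · exact (Nat.Prime.coprime_iff_not_dvd hpp.out).mpr hnz
    · exact (Nat.Prime.coprime_iff_not_dvd hpp.out).mpr hy
  have h1' : orderOf (z⁻¹ * x) = 1 := Nat.eq_one_of_dvd_coprimes hcop ho1 ho2
  have h2' : z⁻¹ * x = 1 := orderOf_eq_one_iff.mp h1'
  exact (inv_mul_eq_one.mp h2')

end ppartUnique

section proj

variable {X : Type u} [Group X] [Fintype X]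

/-- The `b`-part of a class function, evaluated via the idempotent coefficients. -/
theorem blockPart_eq_sum_blockCoeff (b : Set (IrrCharacter X)) {ϑ : X → ℂ}
    (hϑ : IsClassFunction X ϑ) (y : X) :
    blockPart b ϑ y = ∑ k : X, blockCoeff b k * ϑ (k * y) := by
  classical
  let _ : Fintype (IrrCharacter X) := Fintype.ofFinite _
  have hX0 : (Nat.card X : ℂ) ≠ 0 := Nat.cast_ne_zero.mpr Nat.card_pos.ne'
  have h0 : blockPart b ϑ y = ∑ᶠ ψ ∈ b, classInner ϑ (ψ : X → ℂ) * (ψ : X → ℂ) y := by
    unfold blockPart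
    have hinst : Fintype.ofFinite X = ‹Fintype X› := Subsingleton.elim _ _
    rw [hinst]
  rw [h0, finsum_mem_eq_sum_ite]
  simp_rw [blockCoeff_eq_sum, Finset.mul_sum, Finset.sum_mul]
  rw [Finset.sum_comm]
  apply Finset.sum_congr rfl
  intro ψ _
  by_cases hψ : ψ ∈ b
  · simp only [if_pos hψ]
    obtain ⟨d, hdpos, hd⟩ := IsIrrCharacter.apply_one_pos ψ.2
    have hd0 : (ψ : X → ℂ) 1 ≠ 0 := by rw [hd]; exact Nat.cast_ne_zero.mpr hdpos.ne'
    -- key identity
    have key : ∑ k : X, conj ((ψ : X → ℂ) k) * ϑ (k * y) =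
        (Nat.card X : ℂ) * classInner ϑ (ψ : X → ℂ) * (ψ : X → ℂ) y / (ψ : X → ℂ) 1 := by
      have h1 := sum_mul_char_mul_right (cjPerm X ψ) hϑ y⁻¹
      have h2 : ∑ k : X, conj ((ψ : X → ℂ) k) * ϑ (k * y) =
          ∑ g : X, ϑ g * ((cjPerm X ψ : IrrCharacter X) : X → ℂ) (g * y⁻¹) := by
        rw [← Equiv.sum_comp (Equiv.mulRight y)
          (fun g => ϑ g * ((cjPerm X ψ : IrrCharacter X) : X → ℂ) (g * y⁻¹))]
        apply Finset.sum_congr rfl
        intro k _
        simp only [Equiv.coe_mulRight, mul_inv_cancel_right]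
        rw [cjPerm_apply, mul_comm]
      rw [h2, h1]
      unfold omegaFun classInner
      simp only [cjPerm_apply]
      rw [irr_apply_inv, Complex.conj_conj]
      have : conj ((ψ : X → ℂ) 1) = (ψ : X → ℂ) 1 := by rw [hd, Complex.conj_natCast]
      rw [this]
      field_simp
    have h3 : ∀ k : X, (Nat.card X : ℂ)⁻¹ * ((ψ : X → ℂ) 1 * conj ((ψ : X → ℂ) k)) * ϑ (k * y) =
        (Nat.card X : ℂ)⁻¹ * (ψ : X → ℂ) 1 * (conj ((ψ : X → ℂ) k) * ϑ (k * y)) := by
      intro k; ring
    rw [Finset.sum_congr rfl (fun k _ => h3 k), ← Finset.mul_sum, key]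
    field_simp
  · simp only [if_neg hψ, mul_zero, zero_mul, Finset.sum_const_zero]

end proj

section main

variable {G : Type u} [Group G] [Finite G] {M : Ideal AlgInt}

/-- **Brauer's second main theorem** (Isaacs 15.48), with the centralizer as a variable. -/
theorem blockPart_eq_zero_of_not_induced_aux {p : ℕ} [hpp : Fact p.Prime] (hM : IsPModular p M)
    (x : G) (hx : ∃ k : ℕ, orderOf x = p ^ k) (B : Set (IrrCharacter G)) (hB : IsPBlock M B)
    (χ : IrrCharacter G) (hχ : χ ∈ B) (C : Subgroup G)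
    (hC : C = Subgroup.centralizer ({x} : Set G))
    (b : Set (IrrCharacter C)) (hb : IsPBlock M b)
    (hnot : ¬ IsInducedBlock M C b B)
    (y : C) (hy : ¬ p ∣ orderOf y) :
    blockPart b (fun c : C => (χ : G → ℂ) (x * (c : G))) y = 0 := by
  classical
  have hprime : M.IsPrime := isPrime_of_isPModular hM
  let _ : Fintype G := Fintype.ofFinite G
  let _ : Fintype C := Fintype.ofFinite C
  have hxC : x ∈ C := by
    rw [hC, Subgroup.mem_centralizer_iff]
    intro z hz
    rw [Set.mem_singleton_iff] at hz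
    rw [hz]
  have hcomm' : ∀ c : G, c ∈ C → c * x = x * c := by
    intro c hc
    rw [hC, Subgroup.mem_centralizer_iff] at hc
    exact (hc x rfl).symm
  have hcomm : ∀ c : C, (c : G) * x = x * (c : G) := fun c => hcomm' c c.2
  -- the induced block is defined
  have hP : IsPGroup p (Subgroup.zpowers x) := by
    obtain ⟨k, hk⟩ := hx
    apply IsPGroup.of_card (n := k)
    rw [Nat.card_zpowers, hk]
  have hPC : Subgroup.zpowers x ≤ C := by
    rw [Subgroup.zpowers_le]
    exact hxC
  have hCP : Subgroup.centralizer ((Subgroup.zpowers x : Subgroup G) : Set G) ≤ C := by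
    intro g hg
    rw [hC, Subgroup.mem_centralizer_iff]
    intro z hz
    rw [Set.mem_singleton_iff] at hz
    rw [hz]
    exact (Subgroup.mem_centralizer_iff.mp hg) x (Subgroup.mem_zpowers x)
  have hCN : C ≤ Subgroup.normalizer ((Subgroup.zpowers x : Subgroup G) : Set G) := by
    intro g hg
    rw [Subgroup.mem_normalizer_iff]
    intro z
    have hgx : g * x = x * g := hcomm' g hg
    have hconj : ∀ w : G, w ∈ Subgroup.zpowers x → g * w * g⁻¹ = w := by
      intro w hw
      obtain ⟨i, rfl⟩ := hw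
      have : Commute g (x ^ i) := Commute.zpow_right hgx i
      rw [this.eq]
      group
    constructor
    · intro hz
      rw [hconj z hz]
      exact hz
    · intro hz
      have h2 : z = g⁻¹ * (g * z * g⁻¹) * g := by group
      rw [h2]
      have hginv : ∀ w : G, w ∈ Subgroup.zpowers x → g⁻¹ * w * g = w := by
        intro w hw
        have := hconj w hw
        calc g⁻¹ * w * g = g⁻¹ * (g * w * g⁻¹) * g := by rw [this]
          _ = w := by group
      rw [hginv _ hz]
      exact hz
  obtain ⟨B', hind'⟩ := inducedBlockDefined_of_le_normalizer hM (Subgroup.zpowers x) C hP hPC hCP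
    hCN b hb
  have hχB' : χ ∉ B' := by
    intro hmem
    have : B' = B := isPBlock_eq_of_mem hind'.2.1 hB hmem hχ
    rw [this] at hind'
    exact hnot hind'
  -- apply the key lemma with `h = x * y`
  set h : C := ⟨x, hxC⟩ * y with hh
  have hPP : IsPPart p (h : G) x := by
    refine ⟨(y : G), ?_, ?_, hx, ?_⟩
    · rfl
    · exact (hcomm y).symm
    · rw [Subgroup.orderOf_coe]
      exact hy
  have hCent : ∀ z : G, IsPPart p (h : G) z → Subgroup.centralizer ({z} : Set G) ≤ C := by
    intro z hz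
    rw [isPPart_unique hz hPP, hC]
  have hkey := sum_blockCoeff_mul_char_eq_zero hM C b B' hind' h hCent χ hχB'
  have hϑ : IsClassFunction C (fun c : C => (χ : G → ℂ) (x * (c : G))) := by
    intro c k
    have hχC : IsClassFunction G (χ : G → ℂ) :=
      IsCharacter.isClassFunction (IsIrrCharacter.isCharacter χ.2)
    change (χ : G → ℂ) (x * ((k : G) * (c : G) * (k : G)⁻¹)) = (χ : G → ℂ) (x * (c : G))
    have e : x * ((k : G) * (c : G) * (k : G)⁻¹) = (k : G) * (x * (c : G)) * (k : G)⁻¹ := by
      have := hcomm k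
      calc x * ((k : G) * (c : G) * (k : G)⁻¹) = (x * (k : G)) * (c : G) * (k : G)⁻¹ := by group
        _ = ((k : G) * x) * (c : G) * (k : G)⁻¹ := by rw [this]
        _ = (k : G) * (x * (c : G)) * (k : G)⁻¹ := by group
    rw [e]
    exact hχC _ _
  rw [blockPart_eq_sum_blockCoeff b hϑ y, ← hkey]
  apply Finset.sum_congr rfl
  intro k _
  have e : x * ((k * y : C) : G) = (k : G) * (h : G) := by
    change x * ((k : G) * (y : G)) = (k : G) * (x * (y : G))
    rw [← mul_assoc, ← hcomm k, mul_assoc]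
  change blockCoeff b k * (χ : G → ℂ) (x * ((k * y : C) : G)) =
    blockCoeff b k * (χ : G → ℂ) ((k : G) * (h : G))
  rw [e]

/-- **Brauer's second main theorem** (Isaacs 15.48). -/
theorem blockPart_eq_zero_of_not_induced {p : ℕ} [hpp : Fact p.Prime] (hM : IsPModular p M)
    (x : G) (hx : ∃ k : ℕ, orderOf x = p ^ k) (B : Set (IrrCharacter G)) (hB : IsPBlock M B)
    (χ : IrrCharacter G) (hχ : χ ∈ B)
    (b : Set (IrrCharacter (Subgroup.centralizer ({x} : Set G)))) (hb : IsPBlock M b)
    (hnot : ¬ IsInducedBlock M (Subgroup.centralizer ({x} : Set G)) b B)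
    (y : Subgroup.centralizer ({x} : Set G)) (hy : ¬ p ∣ orderOf y) :
    blockPart b (fun c : Subgroup.centralizer ({x} : Set G) => (χ : G → ℂ) (x * (c : G))) y = 0 :=
  blockPart_eq_zero_of_not_induced_aux hM x hx B hB χ hχ _ rfl b hb hnot y hy

end main

end Cfsg.Agent.CharLib
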