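import Mathlib
import Cfsg.Agent.Lib.Lead.SecondMain2
import Cfsg.Agent.Lib.Lead.CharMain

/-!
lead: corollaries of Brauer's second main theorem: vanishing of characters off the defect groups
(Isaacs 15.49-type results).
-/

set_option autoImplicit false

namespace Cfsg.Agent.CharLib

open Cfsg Cfsg.Agent.Lib.Helper24 Cfsg.Agent.Lib.Helper6
open scoped ComplexConjugate

universe u

section blockSum

variable {X : Type u} [Group X] [Fintype X] {M : Ideal AlgInt}

theorem blockPart_apply (b : Set (IrrCharacter X)) (ϑ : X → ℂ) (y : X) :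
    blockPart b ϑ y = ∑ᶠ ψ ∈ b, classInner ϑ (ψ : X → ℂ) * (ψ : X → ℂ) y := by
  unfold blockPart
  have hinst : Fintype.ofFinite X = ‹Fintype X› := Subsingleton.elim _ _
  rw [hinst]

/-- A class function all of whose block parts vanish at `y` vanishes at `y`. -/
theorem eq_zero_of_blockPart_eq_zero [hp : M.IsPrime] {ϑ : X → ℂ} (hϑ : IsClassFunction X ϑ) (y : X)
    (h : ∀ ψ : IrrCharacter X, blockPart (blockOf M (ψ : X → ℂ)) ϑ y = 0) : ϑ y = 0 := by
  classical
  let _ : Fintype (IrrCharacter X) := Fintype.ofFinite _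
  have h1 := congrFun (classFunction_eq_sum hϑ) y
  rw [Finset.sum_apply] at h1
  simp only [Pi.smul_apply, smul_eq_mul] at h1
  rw [h1]
  set F : IrrCharacter X → ℂ := fun ψ => classInner ϑ (ψ : X → ℂ) * (ψ : X → ℂ) y with hF
  set t : Finset (Set (IrrCharacter X)) :=
    Finset.univ.image (fun ψ : IrrCharacter X => blockOf M (ψ : X → ℂ)) with ht
  have hmaps : ∀ ψ ∈ (Finset.univ : Finset (IrrCharacter X)),
      (fun ψ : IrrCharacter X => blockOf M (ψ : X → ℂ)) ψ ∈ t := by
    intro ψ _
    exact Finset.mem_image_of_mem _ (Finset.mem_univ ψ)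
  rw [← Finset.sum_fiberwise_of_maps_to hmaps F]
  apply Finset.sum_eq_zero
  intro b' hb'
  obtain ⟨ψ', -, rfl⟩ := Finset.mem_image.mp hb'
  have h2 := h ψ'
  rw [blockPart_apply, finsum_mem_eq_sum_ite] at h2
  rw [← h2, Finset.sum_filter]
  apply Finset.sum_congr rfl
  intro φ _
  have hiff : blockOf M (φ : X → ℂ) = blockOf M (ψ' : X → ℂ) ↔ φ ∈ blockOf M (ψ' : X → ℂ) := by
    constructor
    · intro heq
      rw [← heq]
      exact mem_blockOf_self φ
    · intro hmem
      exact isPBlock_eq_of_mem ⟨φ, rfl⟩ ⟨ψ', rfl⟩ (mem_blockOf_self φ) hmem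
  by_cases hc : φ ∈ blockOf M (ψ' : X → ℂ)
  · rw [if_pos (hiff.mpr hc), if_pos hc]
  · rw [if_neg (fun h' => hc (hiff.mp h')), if_neg hc]

end blockSum

section vanish

variable {G : Type u} [Group G] [Finite G] {M : Ideal AlgInt}

/-- If the `p`-part `x` of `g` lies in no defect group of the block of `χ`, then `χ g = 0`
(general-centralizer version). -/
theorem irr_eq_zero_of_ppart_not_mem_defectGroup_aux {p : ℕ} [hpp : Fact p.Prime]
    (hM : IsPModular p M) (χ : IrrCharacter G) (g x : G) (hx : IsPPart p g x)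
    (hD : ∀ D : Subgroup G, IsDefectGroup p M (blockOf M (χ : G → ℂ)) D → x ∉ D)
    (C : Subgroup G) (hC : C = Subgroup.centralizer ({x} : Set G)) :
    (χ : G → ℂ) g = 0 := by
  classical
  have hprime : M.IsPrime := isPrime_of_isPModular hM
  let _ : Fintype G := Fintype.ofFinite G
  let _ : Fintype C := Fintype.ofFinite C
  obtain ⟨y, hxy, hcomm, hxp, hy⟩ := hx
  have hxC : x ∈ C := by
    rw [hC, Subgroup.mem_centralizer_iff]
    intro z hz
    rw [Set.mem_singleton_iff] at hz
    rw [hz]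
  have hyC : y ∈ C := by
    rw [hC, Subgroup.mem_centralizer_iff]
    intro z hz
    rw [Set.mem_singleton_iff] at hz
    rw [hz]
    exact hcomm.eq
  have hcomm'' : ∀ c : G, c ∈ C → c * x = x * c := by
    intro c hc
    rw [hC, Subgroup.mem_centralizer_iff] at hc
    exact (hc x rfl).symm
  have hcomm' : ∀ c : C, (c : G) * x = x * (c : G) := fun c => hcomm'' c c.2
  set B := blockOf M (χ : G → ℂ) with hB
  have hBblock : IsPBlock M B := ⟨χ, rfl⟩
  have hχB : χ ∈ B := mem_blockOf_self χ
  set ϑ : C → ℂ := fun c => (χ : G → ℂ) (x * (c : G)) with hϑdef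
  have hϑ : IsClassFunction C ϑ := by
    intro c k
    have hχC : IsClassFunction G (χ : G → ℂ) :=
      IsCharacter.isClassFunction (IsIrrCharacter.isCharacter χ.2)
    change (χ : G → ℂ) (x * ((k : G) * (c : G) * (k : G)⁻¹)) = (χ : G → ℂ) (x * (c : G))
    have e : x * ((k : G) * (c : G) * (k : G)⁻¹) = (k : G) * (x * (c : G)) * (k : G)⁻¹ := by
      have := hcomm' k
      calc x * ((k : G) * (c : G) * (k : G)⁻¹) = (x * (k : G)) * (c : G) * (k : G)⁻¹ := by group
        _ = ((k : G) * x) * (c : G) * (k : G)⁻¹ := by rw [this]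
        _ = (k : G) * (x * (c : G)) * (k : G)⁻¹ := by group
    rw [e]
    exact hχC _ _
  have hgoal : (χ : G → ℂ) g = ϑ ⟨y, hyC⟩ := by rw [← hxy]
  rw [hgoal]
  apply eq_zero_of_blockPart_eq_zero (M := M) hϑ
  intro ψ
  set b := blockOf M (ψ : C → ℂ) with hb
  have hbblock : IsPBlock M b := ⟨ψ, rfl⟩
  by_cases hind : IsInducedBlock M C b B
  · exfalso
    -- a defect group of `b` contains `x` and lies in a defect group of `B`
    obtain ⟨l, hl⟩ := Cfsg.Agent.S0906.result p M hM b hbblock
    obtain ⟨P⟩ : Nonempty (Sylow p (Subgroup.centralizer ({l} : Set C))) := inferInstance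
    set Db : Subgroup C := (P : Subgroup (Subgroup.centralizer ({l} : Set C))).map
      (Subgroup.centralizer ({l} : Set C)).subtype with hDb
    have hDbdef : IsDefectGroup p M b Db := ⟨l, hl, P, rfl⟩
    set Q : Subgroup C := Subgroup.zpowers (⟨x, hxC⟩ : C) with hQ
    have hQp : IsPGroup p Q := by
      obtain ⟨k, hk⟩ := hxp
      apply IsPGroup.of_card (n := k)
      rw [Nat.card_zpowers, Subgroup.orderOf_mk, hk]
    have hQn : Q.Normal := by
      have hcent : ∀ c : C, c * (⟨x, hxC⟩ : C) = ⟨x, hxC⟩ * c := by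
        intro c
        apply Subtype.ext
        exact hcomm' c
      constructor
      intro n hn c
      obtain ⟨i, rfl⟩ := hn
      have : Commute c ((⟨x, hxC⟩ : C) ^ i) := Commute.zpow_right (hcent c) i
      rw [this.eq, mul_inv_cancel_right]
      exact ⟨i, rfl⟩
    have hQD : Q ≤ Db := le_of_isDefectGroup_of_normal hM Q hQp hbblock hDbdef
    obtain ⟨E, hE, hDE⟩ := exists_defectGroup_ge_of_induced hM C b B hind Db hDbdef
    apply hD E hE
    apply hDE
    exact ⟨⟨x, hxC⟩, hQD (Subgroup.mem_zpowers _), rfl⟩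
  · have hyo : ¬ p ∣ orderOf (⟨y, hyC⟩ : C) := by
      rw [Subgroup.orderOf_mk]
      exact hy
    exact blockPart_eq_zero_of_not_induced_aux hM x hxp B hBblock χ hχB C hC b hbblock hind
      ⟨y, hyC⟩ hyo

/-- **Isaacs 15.49-type vanishing**: if the `p`-part of `g` lies in no defect group of the block of
`χ`, then `χ g = 0`. -/
theorem irr_eq_zero_of_ppart_not_mem_defectGroup {p : ℕ} [hpp : Fact p.Prime]
    (hM : IsPModular p M) (χ : IrrCharacter G) (g x : G) (hx : IsPPart p g x)
    (hD : ∀ D : Subgroup G, IsDefectGroup p M (blockOf M (χ : G → ℂ)) D → x ∉ D) :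
    (χ : G → ℂ) g = 0 :=
  irr_eq_zero_of_ppart_not_mem_defectGroup_aux hM χ g x hx hD _ rfl

end vanish

end Cfsg.Agent.CharLib
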