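import Mathlib
import Cfsg.Agent.Lib.Lead.SecondMain3

/-!
lead: block orthogonality (Isaacs 15.49/15.50-type): the `B`-part of a class function vanishing on a
`p`-section vanishes there; `∑_{χ ∈ B} χ(g) χ(h⁻¹) = 0` when the `p`-parts are not conjugate.
-/

set_option autoImplicit false

namespace Cfsg.Agent.CharLib

open Cfsg Cfsg.Agent.Lib.Helper24 Cfsg.Agent.Lib.Helper6
open scoped ComplexConjugate

universe u

section lin

variable {X : Type u} [Group X] [Fintype X] {M : Ideal AlgInt}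

theorem blockPart_sum_smul {ι : Type*} (s : Finset ι) (b : Set (IrrCharacter X)) (a : ι → ℂ)
    (θ : ι → X → ℂ) (y : X) :
    blockPart b (∑ i ∈ s, a i • θ i) y = ∑ i ∈ s, a i * blockPart b (θ i) y := by
  classical
  let _ : Fintype (IrrCharacter X) := Fintype.ofFinite _
  simp_rw [blockPart_apply, finsum_mem_eq_sum_ite]
  simp_rw [Finset.mul_sum]
  rw [Finset.sum_comm]
  apply Finset.sum_congr rfl
  intro ψ _
  by_cases hψ : ψ ∈ b
  · simp only [if_pos hψ]
    rw [classInner_sum_left, Finset.sum_mul]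
    apply Finset.sum_congr rfl
    intro i _
    rw [classInner_smul_left]
    ring
  · simp only [if_neg hψ, mul_zero, Finset.sum_const_zero]

theorem blockPart_isClassFunction (b : Set (IrrCharacter X)) (ϑ : X → ℂ) :
    IsClassFunction X (blockPart b ϑ) := by
  intro g h
  rw [blockPart_apply, blockPart_apply]
  apply finsum_congr
  intro ψ
  apply finsum_congr
  intro _
  congr 1
  exact IsCharacter.isClassFunction (IsIrrCharacter.isCharacter ψ.2) g h

/-- The block part of a function vanishing on `p`-regular elements vanishes on `p`-regular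
elements. -/
theorem blockPart_eq_zero_of_vanish_regular {p : ℕ} [hpp : Fact p.Prime] (hM : IsPModular p M)
    (ψ₀ : IrrCharacter X) {φ : X → ℂ} (hφ : ∀ c : X, ¬ p ∣ orderOf c → φ c = 0) (y : X)
    (hy : ¬ p ∣ orderOf y) : blockPart (blockOf M (ψ₀ : X → ℂ)) φ y = 0 := by
  classical
  let _ : Fintype (IrrCharacter X) := Fintype.ofFinite _
  rw [blockPart_apply, finsum_mem_eq_sum_ite]
  have h1 : ∀ ψ : IrrCharacter X,
      (if ψ ∈ blockOf M (ψ₀ : X → ℂ) then classInner φ (ψ : X → ℂ) * (ψ : X → ℂ) y else 0) =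
      (Nat.card X : ℂ)⁻¹ * ∑ c : X, φ c *
        (if ψ ∈ blockOf M (ψ₀ : X → ℂ) then (ψ : X → ℂ) y * conj ((ψ : X → ℂ) c) else 0) := by
    intro ψ
    by_cases hψ : ψ ∈ blockOf M (ψ₀ : X → ℂ)
    · simp only [if_pos hψ]
      unfold classInner
      rw [mul_assoc, Finset.sum_mul]
      congr 1
      apply Finset.sum_congr rfl
      intro c _
      ring
    · simp only [if_neg hψ, mul_zero, Finset.sum_const_zero]
  rw [Finset.sum_congr rfl (fun ψ _ => h1 ψ), ← Finset.mul_sum, Finset.sum_comm]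
  have h2 : ∀ c : X, ∑ ψ : IrrCharacter X, φ c *
      (if ψ ∈ blockOf M (ψ₀ : X → ℂ) then (ψ : X → ℂ) y * conj ((ψ : X → ℂ) c) else 0) = 0 := by
    intro c
    rw [← Finset.mul_sum]
    by_cases hc : p ∣ orderOf c
    · have := weak_block_orthogonality hM ψ₀ y c hy hc
      rw [finsum_mem_eq_sum_ite] at this
      rw [this, mul_zero]
    · rw [hφ c hc, zero_mul]
  rw [Finset.sum_congr rfl (fun c _ => h2 c), Finset.sum_const_zero, mul_zero]

end lin

section unique

variable {G : Type u} [Group G] [Finite G] {M : Ideal AlgInt}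

/-- A block induces at most one block. -/
theorem isInducedBlock_unique [hp : M.IsPrime] {H : Subgroup G} {b : Set (IrrCharacter H)}
    {B₁ B₂ : Set (IrrCharacter G)} (h1 : IsInducedBlock M H b B₁) (h2 : IsInducedBlock M H b B₂) :
    B₁ = B₂ := by
  obtain ⟨ξ₀, hb⟩ := h1.1
  obtain ⟨χ₁, hB₁⟩ := h1.2.1
  obtain ⟨χ₂, hB₂⟩ := h2.2.1
  have hξ : ξ₀ ∈ b := by rw [hb]; exact mem_blockOf_self ξ₀
  have hχ₁ : χ₁ ∈ B₁ := by rw [hB₁]; exact mem_blockOf_self χ₁
  have hχ₂ : χ₂ ∈ B₂ := by rw [hB₂]; exact mem_blockOf_self χ₂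
  have hsame : SameBlock M (χ₁ : G → ℂ) (χ₂ : G → ℂ) := by
    intro g
    have e1 := h1.2.2 ξ₀ hξ χ₁ hχ₁ g
    have e2 := h2.2.2 ξ₀ hξ χ₂ hχ₂ g
    have := memLocalIdeal_sub e2 e1
    have h3 : inducedCentralChar H (ξ₀ : H → ℂ) g - centralChar (χ₂ : G → ℂ) g -
        (inducedCentralChar H (ξ₀ : H → ℂ) g - centralChar (χ₁ : G → ℂ) g) =
        centralChar (χ₁ : G → ℂ) g - centralChar (χ₂ : G → ℂ) g := by ring
    rwa [h3] at this
  have hχ₂' : χ₂ ∈ B₁ := by rw [hB₁]; exact hsame
  exact isPBlock_eq_of_mem h1.2.1 h2.2.1 hχ₂' hχ₂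

end unique

section orth

variable {G : Type u} [Group G] [Finite G] {M : Ideal AlgInt}

theorem blockPart_eq_zero_on_section_aux {p : ℕ} [hpp : Fact p.Prime] (hM : IsPModular p M)
    (ϑ : G → ℂ) (hϑ : IsClassFunction G ϑ) (x : G) (hx : ∃ k : ℕ, orderOf x = p ^ k)
    (C : Subgroup G) (hC : C = Subgroup.centralizer ({x} : Set G))
    (hvan : ∀ c : C, ¬ p ∣ orderOf c → ϑ (x * (c : G)) = 0)
    (B : Set (IrrCharacter G)) (hB : IsPBlock M B) (y : C) (hy : ¬ p ∣ orderOf y) :
    blockPart B ϑ (x * (y : G)) = 0 := by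
  classical
  have hprime : M.IsPrime := isPrime_of_isPModular hM
  let _ : Fintype G := Fintype.ofFinite G
  let _ : Fintype C := Fintype.ofFinite C
  let _ : Fintype (IrrCharacter G) := Fintype.ofFinite _
  have hcomm'' : ∀ c : G, c ∈ C → c * x = x * c := by
    intro c hc
    rw [hC, Subgroup.mem_centralizer_iff] at hc
    exact (hc x rfl).symm
  have hcomm' : ∀ c : C, (c : G) * x = x * (c : G) := fun c => hcomm'' c c.2
  -- the twist of a class function of `G` is a class function of `C`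
  have htwC : ∀ θ : G → ℂ, IsClassFunction G θ →
      IsClassFunction C (fun c : C => θ (x * (c : G))) := by
    intro θ hθ c k
    change θ (x * ((k : G) * (c : G) * (k : G)⁻¹)) = θ (x * (c : G))
    have e : x * ((k : G) * (c : G) * (k : G)⁻¹) = (k : G) * (x * (c : G)) * (k : G)⁻¹ := by
      have := hcomm' k
      calc x * ((k : G) * (c : G) * (k : G)⁻¹) = (x * (k : G)) * (c : G) * (k : G)⁻¹ := by group
        _ = ((k : G) * x) * (c : G) * (k : G)⁻¹ := by rw [this]
        _ = (k : G) * (x * (c : G)) * (k : G)⁻¹ := by group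
    rw [e]
    exact hθ _ _
  set Θ := blockPart B ϑ with hΘ
  have hΘC : IsClassFunction G Θ := blockPart_isClassFunction B ϑ
  change (fun c : C => Θ (x * (c : G))) y = 0
  apply eq_zero_of_blockPart_eq_zero (M := M) (htwC Θ hΘC)
  intro ψ
  set b := blockOf M (ψ : C → ℂ) with hb
  have hbblock : IsPBlock M b := ⟨ψ, rfl⟩
  -- expansions
  set a : IrrCharacter G → ℂ := fun χ => classInner ϑ (χ : G → ℂ) with ha
  set aB : IrrCharacter G → ℂ := fun χ => if χ ∈ B then classInner ϑ (χ : G → ℂ) else 0 with haB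
  have hΘexp : (fun c : C => Θ (x * (c : G))) =
      ∑ χ : IrrCharacter G, aB χ • (fun c : C => (χ : G → ℂ) (x * (c : G))) := by
    funext c
    rw [Finset.sum_apply, hΘ, blockPart_apply, finsum_mem_eq_sum_ite]
    apply Finset.sum_congr rfl
    intro χ _
    rw [Pi.smul_apply, smul_eq_mul, haB]
    by_cases hχ : χ ∈ B
    · simp only [if_pos hχ]
    · simp only [if_neg hχ, zero_mul]
  have hϑexp : (fun c : C => ϑ (x * (c : G))) =
      ∑ χ : IrrCharacter G, a χ • (fun c : C => (χ : G → ℂ) (x * (c : G))) := by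
    funext c
    rw [Finset.sum_apply]
    have h1 := congrFun (classFunction_eq_sum hϑ) (x * (c : G))
    rw [Finset.sum_apply] at h1
    exact h1
  -- second main theorem for each `χ`
  have hsm : ∀ χ : IrrCharacter G, ¬ IsInducedBlock M C b (blockOf M (χ : G → ℂ)) →
      blockPart b (fun c : C => (χ : G → ℂ) (x * (c : G))) y = 0 := by
    intro χ hnot
    exact blockPart_eq_zero_of_not_induced_aux hM x hx (blockOf M (χ : G → ℂ)) ⟨χ, rfl⟩ χ
      (mem_blockOf_self χ) C hC b hbblock hnot y hy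
  rw [hΘexp, blockPart_sum_smul]
  by_cases hind : IsInducedBlock M C b B
  · -- compare with the expansion of `ϑ`
    have h0 : blockPart b (fun c : C => ϑ (x * (c : G))) y = 0 :=
      blockPart_eq_zero_of_vanish_regular hM ψ hvan y hy
    rw [hϑexp, blockPart_sum_smul] at h0
    rw [← h0]
    apply Finset.sum_congr rfl
    intro χ _
    by_cases hχ : χ ∈ B
    · rw [haB, ha]
      simp only [if_pos hχ]
    · have hnot : ¬ IsInducedBlock M C b (blockOf M (χ : G → ℂ)) := by
        intro h'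
        have := isInducedBlock_unique hind h'
        apply hχ
        rw [this]
        exact mem_blockOf_self χ
      rw [hsm χ hnot, mul_zero, mul_zero]
  · apply Finset.sum_eq_zero
    intro χ _
    by_cases hχ : χ ∈ B
    · have hBχ : B = blockOf M (χ : G → ℂ) :=
        isPBlock_eq_of_mem hB ⟨χ, rfl⟩ hχ (mem_blockOf_self χ)
      rw [hsm χ (by rw [← hBχ]; exact hind), mul_zero]
    · rw [haB]
      simp only [if_neg hχ, zero_mul]

theorem orderOf_conj_eq' (c z : G) : orderOf (c * z * c⁻¹) = orderOf z :=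
  (MulAut.conj c).orderOf_eq z

/-- Conjugates have conjugate `p`-parts. -/
theorem isPPart_conj {p : ℕ} {u z : G} (h : IsPPart p u z) (c : G) :
    IsPPart p (c * u * c⁻¹) (c * z * c⁻¹) := by
  obtain ⟨y, hzy, hcomm, ⟨k, hk⟩, hy⟩ := h
  refine ⟨c * y * c⁻¹, ?_, ?_, ⟨k, ?_⟩, ?_⟩
  · rw [← hzy]; group
  · unfold Commute SemiconjBy
    have := hcomm.eq
    calc c * z * c⁻¹ * (c * y * c⁻¹) = c * (z * y) * c⁻¹ := by group
      _ = c * (y * z) * c⁻¹ := by rw [this]
      _ = c * y * c⁻¹ * (c * z * c⁻¹) := by group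
  · rw [← hk]
    exact orderOf_conj_eq' c z
  · rw [orderOf_conj_eq' c y]
    exact hy

/-- **Block orthogonality, part (i)**. -/
theorem blockPart_eq_zero_on_section {p : ℕ} [hpp : Fact p.Prime] (hM : IsPModular p M)
    (ϑ : G → ℂ) (hϑ : IsClassFunction G ϑ) (x : G) (hx : ∃ k : ℕ, orderOf x = p ^ k)
    (hvan : ∀ u z : G, IsPPart p u z → IsConj x z → ϑ u = 0)
    (B : Set (IrrCharacter G)) (hB : IsPBlock M B) (u z : G) (hu : IsPPart p u z)
    (hxz : IsConj x z) : blockPart B ϑ u = 0 := by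
  classical
  let _ : Fintype G := Fintype.ofFinite G
  obtain ⟨c, hc⟩ := isConj_iff.mp hxz
  -- replace `u` by a conjugate with `p`-part `x`
  have hu' : IsPPart p (c⁻¹ * u * c⁻¹⁻¹) x := by
    have := isPPart_conj hu c⁻¹
    have e : c⁻¹ * z * c⁻¹⁻¹ = x := by rw [← hc]; group
    rwa [e] at this
  have hcl := blockPart_isClassFunction B ϑ u c⁻¹
  rw [← hcl]
  obtain ⟨y, hxy, hcomm, hxp, hy⟩ := hu'
  set C := Subgroup.centralizer ({x} : Set G) with hC
  have hyC : y ∈ C := by
    rw [hC, Subgroup.mem_centralizer_iff]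
    intro w hw
    rw [Set.mem_singleton_iff] at hw
    rw [hw]
    exact hcomm.eq
  have hvan' : ∀ c' : C, ¬ p ∣ orderOf c' → ϑ (x * (c' : G)) = 0 := by
    intro c' hc'
    apply hvan (x * (c' : G)) x _ (IsConj.refl x)
    refine ⟨(c' : G), rfl, ?_, hx, ?_⟩
    · have hc2 : (c' : G) ∈ Subgroup.centralizer ({x} : Set G) := c'.2
      rw [Subgroup.mem_centralizer_iff] at hc2
      exact hc2 x rfl
    · rw [Subgroup.orderOf_coe]
      exact hc'
  have := blockPart_eq_zero_on_section_aux hM ϑ hϑ x hx C hC hvan' B hB ⟨y, hyC⟩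
    (by rw [Subgroup.orderOf_mk]; exact hy)
  rw [← hxy]
  exact this

end orth

end Cfsg.Agent.CharLib

namespace Cfsg.Agent.CharLib

open Cfsg Cfsg.Agent.Lib.Helper24 Cfsg.Agent.Lib.Helper6
open scoped ComplexConjugate

universe u

section orth2

variable {G : Type u} [Group G] [Finite G] {M : Ideal AlgInt}

/-- **Block orthogonality, part (ii)**. -/
theorem block_orthogonality {p : ℕ} [hpp : Fact p.Prime] (hM : IsPModular p M)
    (g h x y : G) (hg : IsPPart p g x) (hh : IsPPart p h y) (hxy : ¬ IsConj x y)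
    (B : Set (IrrCharacter G)) (hB : IsPBlock M B) :
    ∑ᶠ χ ∈ B, (χ : G → ℂ) g * (χ : G → ℂ) h⁻¹ = 0 := by
  classical
  let _ : Fintype G := Fintype.ofFinite G
  let _ : Fintype (IrrCharacter G) := Fintype.ofFinite _
  have hxp : ∃ k : ℕ, orderOf x = p ^ k := by
    obtain ⟨_, _, _, hk, _⟩ := hg
    exact hk
  have hvan : ∀ u z : G, IsPPart p u z → IsConj x z → classInd h u = 0 := by
    intro u z hu hxz
    apply classInd_of_not_isConj
    intro hconj
    obtain ⟨c, hc⟩ := isConj_iff.mp hconj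
    have h1 := isPPart_conj hh c
    rw [hc] at h1
    have h2 : c * y * c⁻¹ = z := isPPart_unique h1 hu
    apply hxy
    apply hxz.trans
    rw [← h2]
    exact (isConj_iff.mpr ⟨c, rfl⟩).symm
  have h0 := blockPart_eq_zero_on_section hM (classInd h) (classInd_isClassFunction h) x hxp hvan
    B hB g x hg (IsConj.refl x)
  rw [blockPart_apply, finsum_mem_eq_sum_ite] at h0
  rw [finsum_mem_eq_sum_ite]
  have hidx := index_centralizer_ne_zero h
  have hG0 : (Nat.card G : ℂ) ≠ 0 := Nat.cast_ne_zero.mpr Nat.card_pos.ne'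
  have h1 : ∀ χ : IrrCharacter G,
      (if χ ∈ B then classInner (classInd h) (χ : G → ℂ) * (χ : G → ℂ) g else 0) =
      (Nat.card G : ℂ)⁻¹ * ((Subgroup.centralizer ({h} : Set G)).index : ℂ) *
        (if χ ∈ B then (χ : G → ℂ) g * (χ : G → ℂ) h⁻¹ else 0) := by
    intro χ
    by_cases hχ : χ ∈ B
    · simp only [if_pos hχ]
      obtain ⟨n, ρ, hρ, hχρ⟩ := χ.2
      have h2 := sum_classInd_mul_char ρ h
      rw [hχρ] at h2
      have h3 : classInner (classInd h) (χ : G → ℂ) =
          (Nat.card G : ℂ)⁻¹ * conj (∑ t : G, classInd h t * (χ : G → ℂ) t) := by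
        unfold classInner
        congr 1
        rw [map_sum]
        apply Finset.sum_congr rfl
        intro t _
        rw [map_mul]
        congr 1
        unfold classInd
        split_ifs <;> simp
      rw [h3, h2, map_mul, Complex.conj_natCast, irr_apply_inv]
      ring
    · simp only [if_neg hχ, mul_zero]
  rw [Finset.sum_congr rfl (fun χ _ => h1 χ), ← Finset.mul_sum] at h0
  rcases mul_eq_zero.mp h0 with h2 | h2
  · rcases mul_eq_zero.mp h2 with h3 | h3
    · exact absurd (inv_eq_zero.mp h3) hG0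
    · exact absurd h3 hidx
  · exact h2

end orth2

end Cfsg.Agent.CharLib
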