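import Mathlib
import Cfsg.Agent.Lib.Lead.SecondMain4

/-!
lead: Brauer's formula on `p`-sections, block by block: the `B`-part of a class function `Θ` of `G`,
twisted to `C_G(x)`, has `b`-part equal to that of the twist of `Θ` when `b` induces `B`, and zero
otherwise (on `p`-regular elements).
-/

set_option autoImplicit false

namespace Cfsg.Agent.CharLib

open Cfsg Cfsg.Agent.Lib.Helper24 Cfsg.Agent.Lib.Helper6
open scoped ComplexConjugate

universe u

section decomp

variable {X : Type u} [Group X] [Fintype X] {M : Ideal AlgInt}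

/-- A class function is the sum of its block parts. -/
theorem apply_eq_sum_blockPart [hp : M.IsPrime] [DecidableEq (Set (IrrCharacter X))]
    [Fintype (IrrCharacter X)] {ϑ : X → ℂ} (hϑ : IsClassFunction X ϑ) (y : X) :
    ϑ y = ∑ b' ∈ Finset.univ.image (fun ψ : IrrCharacter X => blockOf M (ψ : X → ℂ)),
      blockPart b' ϑ y := by
  classical
  have h1 := congrFun (classFunction_eq_sum hϑ) y
  rw [Finset.sum_apply] at h1
  simp only [Pi.smul_apply, smul_eq_mul] at h1
  rw [h1]
  set F : IrrCharacter X → ℂ := fun ψ => classInner ϑ (ψ : X → ℂ) * (ψ : X → ℂ) y with hF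
  have hmaps : ∀ ψ ∈ (Finset.univ : Finset (IrrCharacter X)),
      (fun ψ : IrrCharacter X => blockOf M (ψ : X → ℂ)) ψ ∈
        Finset.univ.image (fun ψ : IrrCharacter X => blockOf M (ψ : X → ℂ)) := by
    intro ψ _
    exact Finset.mem_image_of_mem _ (Finset.mem_univ ψ)
  rw [← Finset.sum_fiberwise_of_maps_to hmaps F]
  apply Finset.sum_congr rfl
  intro b' hb'
  obtain ⟨ψ', -, rfl⟩ := Finset.mem_image.mp hb'
  rw [blockPart_apply, finsum_mem_eq_sum_ite, Finset.sum_filter]
  apply Finset.sum_congr rfl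
  intro φ _
  have hiff : blockOf M (φ : X → ℂ) = blockOf M (ψ' : X → ℂ) ↔ φ ∈ blockOf M (ψ' : X → ℂ) := by
    constructor
    · intro heq
      rw [← heq]
      exact mem_blockOf_self φ
    · intro hmem
      exact isPBlock_eq_of_mem ⟨φ, rfl⟩ ⟨ψ', rfl⟩ (mem_blockOf_self φ) hmem
  by_cases hc : φ ∈ blockOf M (ψ' : X → ℂ)
  · rw [if_pos (hiff.mpr hc), if_pos hc]
  · rw [if_neg (fun h' => hc (hiff.mp h')), if_neg hc]

theorem blockPart_sub (b : Set (IrrCharacter X)) (f g : X → ℂ) (y : X) :
    blockPart b (f - g) y = blockPart b f y - blockPart b g y := by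
  classical
  have h := blockPart_sum_smul (Finset.univ : Finset (Fin 2)) b ![1, -1] ![f, g] y
  simp only [Fin.sum_univ_two, Matrix.cons_val_zero, Matrix.cons_val_one, one_smul, neg_smul,
    one_mul, neg_mul] at h
  rw [sub_eq_add_neg, sub_eq_add_neg]
  exact h

/-- Block parts on `p`-regular elements only depend on the values on `p`-regular elements. -/
theorem blockPart_congr_regular {p : ℕ} [hpp : Fact p.Prime] (hM : IsPModular p M)
    (ψ₀ : IrrCharacter X) {f g : X → ℂ} (hfg : ∀ c : X, ¬ p ∣ orderOf c → f c = g c) (y : X)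
    (hy : ¬ p ∣ orderOf y) :
    blockPart (blockOf M (ψ₀ : X → ℂ)) f y = blockPart (blockOf M (ψ₀ : X → ℂ)) g y := by
  have h := blockPart_eq_zero_of_vanish_regular hM ψ₀ (φ := f - g)
    (fun c hc => by rw [Pi.sub_apply, hfg c hc, sub_self]) y hy
  rw [blockPart_sub] at h
  exact sub_eq_zero.mp h

end decomp

section twist

variable {G : Type u} [Group G] [Finite G] {M : Ideal AlgInt}

/-- The twist to `C_G(x)` of the `B`-part of `Θ`, block by block. -/
theorem blockPart_twist_blockPart {p : ℕ} [hpp : Fact p.Prime] (hM : IsPModular p M)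
    (Θ : G → ℂ) (hΘ : IsClassFunction G Θ) (x : G) (hx : ∃ k : ℕ, orderOf x = p ^ k)
    (C : Subgroup G) (hC : C = Subgroup.centralizer ({x} : Set G))
    (B : Set (IrrCharacter G)) (hB : IsPBlock M B) (ψ : IrrCharacter C) (y : C)
    (hy : ¬ p ∣ orderOf y) :
    (IsInducedBlock M C (blockOf M (ψ : C → ℂ)) B →
      blockPart (blockOf M (ψ : C → ℂ)) (fun c : C => blockPart B Θ (x * (c : G))) y =
        blockPart (blockOf M (ψ : C → ℂ)) (fun c : C => Θ (x * (c : G))) y) ∧
    (¬ IsInducedBlock M C (blockOf M (ψ : C → ℂ)) B →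
      blockPart (blockOf M (ψ : C → ℂ)) (fun c : C => blockPart B Θ (x * (c : G))) y = 0) := by
  classical
  have hprime : M.IsPrime := isPrime_of_isPModular hM
  let _ : Fintype G := Fintype.ofFinite G
  let _ : Fintype C := Fintype.ofFinite C
  let _ : Fintype (IrrCharacter G) := Fintype.ofFinite _
  set b := blockOf M (ψ : C → ℂ) with hb
  have hbblock : IsPBlock M b := ⟨ψ, rfl⟩
  set a : IrrCharacter G → ℂ := fun χ => classInner Θ (χ : G → ℂ) with ha
  set aB : IrrCharacter G → ℂ := fun χ => if χ ∈ B then classInner Θ (χ : G → ℂ) else 0 with haB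
  have hΘBexp : (fun c : C => blockPart B Θ (x * (c : G))) =
      ∑ χ : IrrCharacter G, aB χ • (fun c : C => (χ : G → ℂ) (x * (c : G))) := by
    funext c
    rw [Finset.sum_apply, blockPart_apply, finsum_mem_eq_sum_ite]
    apply Finset.sum_congr rfl
    intro χ _
    rw [Pi.smul_apply, smul_eq_mul, haB]
    by_cases hχ : χ ∈ B
    · simp only [if_pos hχ]
    · simp only [if_neg hχ, zero_mul]
  have hΘexp : (fun c : C => Θ (x * (c : G))) =
      ∑ χ : IrrCharacter G, a χ • (fun c : C => (χ : G → ℂ) (x * (c : G))) := by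
    funext c
    rw [Finset.sum_apply]
    have h1 := congrFun (classFunction_eq_sum hΘ) (x * (c : G))
    rw [Finset.sum_apply] at h1
    exact h1
  have hsm : ∀ χ : IrrCharacter G, ¬ IsInducedBlock M C b (blockOf M (χ : G → ℂ)) →
      blockPart b (fun c : C => (χ : G → ℂ) (x * (c : G))) y = 0 := by
    intro χ hnot
    exact blockPart_eq_zero_of_not_induced_aux hM x hx (blockOf M (χ : G → ℂ)) ⟨χ, rfl⟩ χ
      (mem_blockOf_self χ) C hC b hbblock hnot y hy
  constructor
  · intro hind
    rw [hΘBexp, hΘexp, blockPart_sum_smul, blockPart_sum_smul]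
    apply Finset.sum_congr rfl
    intro χ _
    by_cases hχ : χ ∈ B
    · rw [haB, ha]
      simp only [if_pos hχ]
    · have hnot : ¬ IsInducedBlock M C b (blockOf M (χ : G → ℂ)) := by
        intro h'
        have := isInducedBlock_unique hind h'
        apply hχ
        rw [this]
        exact mem_blockOf_self χ
      rw [hsm χ hnot, mul_zero, mul_zero]
  · intro hind
    rw [hΘBexp, blockPart_sum_smul]
    apply Finset.sum_eq_zero
    intro χ _
    by_cases hχ : χ ∈ B
    · have hBχ : B = blockOf M (χ : G → ℂ) :=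
        isPBlock_eq_of_mem hB ⟨χ, rfl⟩ hχ (mem_blockOf_self χ)
      rw [hsm χ (by rw [← hBχ]; exact hind), mul_zero]
    · rw [haB]
      simp only [if_neg hχ, zero_mul]

/-- The value of the block part of a class indicator. -/
theorem blockPart_classInd (B : Set (IrrCharacter G)) (h g : G) :
    blockPart B (classInd h) g = (Nat.card G : ℂ)⁻¹ *
      ((Subgroup.centralizer ({h} : Set G)).index : ℂ) *
        ∑ᶠ χ ∈ B, (χ : G → ℂ) g * conj ((χ : G → ℂ) h) := by
  classical
  let _ : Fintype G := Fintype.ofFinite G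
  let _ : Fintype (IrrCharacter G) := Fintype.ofFinite _
  rw [blockPart_apply, finsum_mem_eq_sum_ite, finsum_mem_eq_sum_ite, Finset.mul_sum]
  apply Finset.sum_congr rfl
  intro χ _
  by_cases hχ : χ ∈ B
  · simp only [if_pos hχ]
    obtain ⟨n, ρ, hρ, hχρ⟩ := χ.2
    have h2 := sum_classInd_mul_char ρ h
    rw [hχρ] at h2
    have h3 : classInner (classInd h) (χ : G → ℂ) =
        (Nat.card G : ℂ)⁻¹ * conj (∑ t : G, classInd h t * (χ : G → ℂ) t) := by
      unfold classInner
      congr 1
      rw [map_sum]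
      apply Finset.sum_congr rfl
      intro t _
      rw [map_mul]
      congr 1
      unfold classInd
      split_ifs <;> simp
    rw [h3, h2, map_mul, Complex.conj_natCast]
    ring
  · simp only [if_neg hχ, mul_zero]

end twist

end Cfsg.Agent.CharLib
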