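import Mathlib
import Cfsg.Agent.Lib.Lead.SecondMain5
import Cfsg.Agent.Lib.Lead.BlockBasic
import Cfsg.Agent.Lib.Helper6.QuotBlock
import Cfsg.Agent.Lib.Helper12.Cores
import Cfsg.Agent.Lib.Helper1.Fitting
import Cfsg.Agent.S0936

/-!
lead: principal block on a `p`-section (Brauer): `∑_{ζ ∈ B₀(G)} |ζ(zy)|² = ∑_{χ ∈ B₀(C_G(z))} |χ(y)|²`.
-/

set_option autoImplicit false

namespace Cfsg.Agent.CharLib

open Cfsg Cfsg.Agent.Lib.Helper24 Cfsg.Agent.Lib.Helper6
open scoped ComplexConjugate

universe u

section sq

variable {X : Type u} [Group X] [Fintype X]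

/-- Sum of squares of the degrees of the irreducible characters trivial on a normal subgroup. -/
theorem sum_sq_trivOn (N : Subgroup X) [hN : N.Normal] [Fintype N] [Fintype (IrrCharacter X)]
    [DecidablePred (fun χ : IrrCharacter X => TrivOn N (χ : X → ℂ))] :
    ∑ χ : IrrCharacter X, (if TrivOn N (χ : X → ℂ) then (χ : X → ℂ) 1 * (χ : X → ℂ) 1 else 0) =
      (N.index : ℂ) := by
  classical
  have h1 := congrFun (classFunction_eq_sum (indFun_isClassFunction N (1 : N → ℂ))) 1
  rw [Finset.sum_apply, Cfsg.Agent.Lib.Helper6.indFun_apply_one] at h1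
  have hidx : (Nat.card N : ℂ)⁻¹ * (Nat.card X : ℂ) * (1 : N → ℂ) 1 = (N.index : ℂ) := by
    have h2 := Subgroup.index_mul_card N
    have hN0 : (Nat.card N : ℂ) ≠ 0 := Nat.cast_ne_zero.mpr Nat.card_pos.ne'
    rw [← h2]
    push_cast
    simp only [Pi.one_apply, mul_one]
    field_simp
  rw [hidx] at h1
  rw [h1]
  apply Finset.sum_congr rfl
  intro χ _
  rw [Pi.smul_apply, smul_eq_mul]
  have hcl : IsClassFunction X (χ : X → ℂ) :=
    IsCharacter.isClassFunction (IsIrrCharacter.isCharacter χ.2)
  rw [frobenius_reciprocity N (1 : N → ℂ) hcl, ← classInner_conj_symm, ← resFun_eq]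
  obtain ⟨d, hdpos, hd⟩ := IsIrrCharacter.apply_one_pos χ.2
  by_cases ht : TrivOn N (χ : X → ℂ)
  · rw [if_pos ht, classInner_res_one_of_trivOn N ht, hd, Complex.conj_natCast]
  · rw [if_neg ht]
    have h0 : classInner (resFun N (χ : X → ℂ)) (1 : N → ℂ) = 0 := by
      by_contra hne
      exact ht (trivOn_of_classInner_res_one_ne_zero N χ hne)
    rw [h0, map_zero, zero_mul]

end sq

section principal

variable {G : Type u} [Group G] [Finite G] {M : Ideal AlgInt}

theorem isPBlock_principalBlock (M : Ideal AlgInt) (X : Type u) [Group X] :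
    IsPBlock M (principalBlock M X) := ⟨trivIrr X, rfl⟩

/-- **Brauer**: the principal block on a `p`-section (complex form). -/
theorem sum_principal_section_aux {p : ℕ} [hpp : Fact p.Prime] (hM : IsPModular p M)
    (z : G) (hz : ∃ k : ℕ, orderOf z = p ^ k) (C : Subgroup G)
    (hC : C = Subgroup.centralizer ({z} : Set G)) (y : C) (hy : ¬ p ∣ orderOf y) :
    ∑ᶠ ζ ∈ principalBlock M G, (ζ : G → ℂ) (z * (y : G)) * conj ((ζ : G → ℂ) (z * (y : G))) =
      ∑ᶠ χ ∈ principalBlock M C, (χ : C → ℂ) y * conj ((χ : C → ℂ) y) := by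
  classical
  have hprime : M.IsPrime := isPrime_of_isPModular hM
  let _ : Fintype G := Fintype.ofFinite G
  let _ : Fintype C := Fintype.ofFinite C
  let _ : Fintype (IrrCharacter C) := Fintype.ofFinite _
  have hzC : z ∈ C := by
    rw [hC, Subgroup.mem_centralizer_iff]
    intro w hw
    rw [Set.mem_singleton_iff] at hw
    rw [hw]
  have hcomm'' : ∀ c : G, c ∈ C → c * z = z * c := by
    intro c hc
    rw [hC, Subgroup.mem_centralizer_iff] at hc
    exact (hc z rfl).symm
  have hmemC : ∀ c : G, c * z = z * c → c ∈ C := by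
    intro c hc
    rw [hC, Subgroup.mem_centralizer_iff]
    intro w hw
    rw [Set.mem_singleton_iff] at hw
    rw [hw]
    exact hc.symm
  have hcomm' : ∀ c : C, (c : G) * z = z * (c : G) := fun c => hcomm'' c c.2
  set h : G := z * (y : G) with hh
  set B := principalBlock M G with hB
  have hBblock : IsPBlock M B := isPBlock_principalBlock M G
  set b₀ := principalBlock M C with hb₀
  have hPPh : ∀ c : C, ¬ p ∣ orderOf c → IsPPart p (z * (c : G)) z := by
    intro c hc
    refine ⟨(c : G), rfl, (hcomm' c).symm, hz, ?_⟩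
    rw [Subgroup.orderOf_coe]
    exact hc
  -- (1)
  have e1 := blockPart_classInd B h h
  -- twist is a class function
  have hΘBC : IsClassFunction G (blockPart B (classInd h)) := blockPart_isClassFunction B _
  have htw : IsClassFunction C (fun c : C => blockPart B (classInd h) (z * (c : G))) := by
    intro c k
    change blockPart B (classInd h) (z * ((k : G) * (c : G) * (k : G)⁻¹)) =
      blockPart B (classInd h) (z * (c : G))
    have e : z * ((k : G) * (c : G) * (k : G)⁻¹) = (k : G) * (z * (c : G)) * (k : G)⁻¹ := by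
      have := hcomm' k
      calc z * ((k : G) * (c : G) * (k : G)⁻¹) = (z * (k : G)) * (c : G) * (k : G)⁻¹ := by group
        _ = ((k : G) * z) * (c : G) * (k : G)⁻¹ := by rw [this]
        _ = (k : G) * (z * (c : G)) * (k : G)⁻¹ := by group
    rw [e]
    exact hΘBC _ _
  -- (2) decomposition over the blocks of `C`
  have e2 := apply_eq_sum_blockPart (M := M) htw y
  -- induced block defined for every block of `C`
  have hP : IsPGroup p (Subgroup.zpowers z) := by
    obtain ⟨k, hk⟩ := hz
    apply IsPGroup.of_card (n := k)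
    rw [Nat.card_zpowers, hk]
  have hPC : Subgroup.zpowers z ≤ C := by
    rw [Subgroup.zpowers_le]
    exact hzC
  have hCP : Subgroup.centralizer ((Subgroup.zpowers z : Subgroup G) : Set G) ≤ C := by
    intro g hg
    apply hmemC
    exact ((Subgroup.mem_centralizer_iff.mp hg) z (Subgroup.mem_zpowers z)).symm
  have hCN : C ≤ Subgroup.normalizer ((Subgroup.zpowers z : Subgroup G) : Set G) := by
    intro g hg
    rw [Subgroup.mem_normalizer_iff]
    intro w
    have hgz : g * z = z * g := hcomm'' g hg
    have hconj : ∀ w : G, w ∈ Subgroup.zpowers z → g * w * g⁻¹ = w := by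
      intro w hw
      obtain ⟨i, rfl⟩ := hw
      have : Commute g (z ^ i) := Commute.zpow_right hgz i
      rw [this.eq]
      group
    constructor
    · intro hw
      rw [hconj w hw]
      exact hw
    · intro hw
      have h2 : w = g⁻¹ * (g * w * g⁻¹) * g := by group
      rw [h2]
      have hginv : ∀ w : G, w ∈ Subgroup.zpowers z → g⁻¹ * w * g = w := by
        intro w hw
        have := hconj w hw
        calc g⁻¹ * w * g = g⁻¹ * (g * w * g⁻¹) * g := by rw [this]
          _ = w := by group
      rw [hginv _ hw]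
      exact hw
  have hdef : ∀ ψ : IrrCharacter C, InducedBlockDefined M C (blockOf M (ψ : C → ℂ)) :=
    fun ψ => inducedBlockDefined_of_le_normalizer hM (Subgroup.zpowers z) C hP hPC hCP hCN _
      ⟨ψ, rfl⟩
  have hthird : ∀ ψ : IrrCharacter C,
      IsInducedBlock M C (blockOf M (ψ : C → ℂ)) B ↔ blockOf M (ψ : C → ℂ) = b₀ :=
    fun ψ => Cfsg.Agent.S0936.result p M hM C _ (hdef ψ)
  -- (3) only the principal block of `C` contributes
  have hb₀mem : b₀ ∈ Finset.univ.image (fun ψ : IrrCharacter C => blockOf M (ψ : C → ℂ)) :=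
    Finset.mem_image.mpr ⟨trivIrr C, Finset.mem_univ _, rfl⟩
  rw [Finset.sum_eq_single_of_mem b₀ hb₀mem] at e2
  swap
  · intro b' hb' hne
    obtain ⟨ψ, -, rfl⟩ := Finset.mem_image.mp hb'
    exact (blockPart_twist_blockPart hM (classInd h) (classInd_isClassFunction h) z hz C hC B
      hBblock ψ y hy).2 (fun hind => hne ((hthird ψ).mp hind))
  have e3 := (blockPart_twist_blockPart hM (classInd h) (classInd_isClassFunction h) z hz C hC B
    hBblock (trivIrr C) y hy).1 ((hthird (trivIrr C)).mpr rfl)
  have hb₀' : blockOf M ((trivIrr C : IrrCharacter C) : C → ℂ) = b₀ := rfl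
  rw [hb₀'] at e3
  -- (4) compare the twist of the class indicator with the class indicator of `y` in `C`
  have e4 : blockPart b₀ (fun c : C => classInd h (z * (c : G))) y =
      blockPart b₀ (classInd (y : C)) y := by
    rw [← hb₀']
    apply blockPart_congr_regular hM (trivIrr C) _ y hy
    intro c hc
    by_cases hconj : IsConj y c
    · rw [classInd_of_isConj hconj]
      apply classInd_of_isConj
      obtain ⟨t, ht⟩ := isConj_iff.mp hconj
      apply isConj_iff.mpr
      refine ⟨(t : G), ?_⟩
      have h5 : (c : G) = (t : G) * (y : G) * (t : G)⁻¹ := by rw [← ht]; rfl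
      rw [h5, hh]
      have := hcomm' t
      calc (t : G) * (z * (y : G)) * (t : G)⁻¹ = ((t : G) * z) * (y : G) * (t : G)⁻¹ := by group
        _ = (z * (t : G)) * (y : G) * (t : G)⁻¹ := by rw [this]
        _ = z * ((t : G) * (y : G) * (t : G)⁻¹) := by group
    · rw [classInd_of_not_isConj hconj]
      apply classInd_of_not_isConj
      intro hconj'
      apply hconj
      obtain ⟨t, ht⟩ := isConj_iff.mp hconj'
      have hp1 := isPPart_conj (hPPh y hy) t
      rw [← hh, ht] at hp1
      have hp2 := hPPh c hc
      have htz : t * z * t⁻¹ = z := isPPart_unique hp1 hp2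
      have htC : t ∈ C := by
        apply hmemC
        calc t * z = (t * z * t⁻¹) * t := by group
          _ = z * t := by rw [htz]
      apply isConj_iff.mpr
      refine ⟨⟨t, htC⟩, ?_⟩
      apply Subtype.ext
      change t * (y : G) * t⁻¹ = (c : G)
      have h6 : t * (z * (y : G)) * t⁻¹ = z * (c : G) := ht
      have h7 : t * (z * (y : G)) * t⁻¹ = (t * z * t⁻¹) * (t * (y : G) * t⁻¹) := by group
      rw [h7, htz] at h6
      exact mul_left_cancel h6
  -- (5)
  have e5 := blockPart_classInd b₀ (y : C) y
  -- (6) the centralizers have the same order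
  have hcentmap : (Subgroup.centralizer ({(y : C)} : Set C)).map C.subtype =
      Subgroup.centralizer ({h} : Set G) := by
    ext g
    constructor
    · rintro ⟨c, hc, rfl⟩
      have hc' : c ∈ Subgroup.centralizer ({(y : C)} : Set C) := hc
      rw [Subgroup.mem_centralizer_singleton_iff] at hc' ⊢
      replace hc := hc'
      have h8 : (c : G) * (y : G) = (y : G) * (c : G) := by
        have := congrArg Subtype.val hc
        exact this
      change (c : G) * h = h * (c : G)
      rw [hh]
      calc (c : G) * (z * (y : G)) = ((c : G) * z) * (y : G) := by group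
        _ = (z * (c : G)) * (y : G) := by rw [hcomm' c]
        _ = z * ((c : G) * (y : G)) := by group
        _ = z * ((y : G) * (c : G)) := by rw [h8]
        _ = z * (y : G) * (c : G) := by group
    · intro hg
      rw [Subgroup.mem_centralizer_singleton_iff] at hg
      obtain ⟨-, -, -, c', -, -, hc', -, -⟩ :=
        Cfsg.Agent.Lib.Helper6.IsPPart.exists_pow (hPPh y hy)
      -- `y = h ^ c'`
      have hyh : (y : G) = h ^ c' := by
        rw [← hh] at hc'
        rw [hc', hh]
        group
      have hgy : g * (y : G) = (y : G) * g := by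
        rw [hyh]
        exact (Commute.pow_right hg c').eq
      have hgz : g * z = z * g := by
        have hzh : z = h * (y : G)⁻¹ := by rw [hh]; group
        rw [hzh]
        have h9 : Commute g (y : G)⁻¹ := (Commute.inv_right hgy)
        exact (Commute.mul_right hg h9).eq
      refine ⟨⟨g, hmemC g hgz⟩, ?_, rfl⟩
      show (⟨g, hmemC g hgz⟩ : C) ∈ Subgroup.centralizer ({(y : C)} : Set C)
      rw [Subgroup.mem_centralizer_singleton_iff]
      apply Subtype.ext
      exact hgy
  have hcard : Nat.card (Subgroup.centralizer ({(y : C)} : Set C)) =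
      Nat.card (Subgroup.centralizer ({h} : Set G)) := by
    rw [← hcentmap]
    exact (Subgroup.card_map_of_injective C.subtype_injective).symm
  have hfac : (Nat.card G : ℂ)⁻¹ * ((Subgroup.centralizer ({h} : Set G)).index : ℂ) =
      (Nat.card C : ℂ)⁻¹ * ((Subgroup.centralizer ({(y : C)} : Set C)).index : ℂ) := by
    have h1 := Subgroup.index_mul_card (Subgroup.centralizer ({h} : Set G))
    have h2 := Subgroup.index_mul_card (Subgroup.centralizer ({(y : C)} : Set C))
    have hi1 := index_centralizer_ne_zero h
    have hi2 := index_centralizer_ne_zero (y : C)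
    have hc0 : (Nat.card (Subgroup.centralizer ({h} : Set G)) : ℂ) ≠ 0 :=
      Nat.cast_ne_zero.mpr Nat.card_pos.ne'
    rw [← h1, ← h2, hcard]
    push_cast
    field_simp
  have hfac0 : (Nat.card G : ℂ)⁻¹ * ((Subgroup.centralizer ({h} : Set G)).index : ℂ) ≠ 0 := by
    apply mul_ne_zero
    · exact inv_ne_zero (Nat.cast_ne_zero.mpr Nat.card_pos.ne')
    · exact index_centralizer_ne_zero h
  -- assemble
  have e6 : blockPart B (classInd h) h = blockPart b₀ (classInd (y : C)) y := by
    exact e2.trans (e3.trans e4)
  rw [e1, e5, ← hfac] at e6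
  exact mul_left_cancel₀ hfac0 e6

end principal

end Cfsg.Agent.CharLib
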