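import Mathlib
import Cfsg.Agent.Lib.Lead.SecondMain6

/-!
lead: principal block on a `p`-section, statement form (real norms) and the case of a normal
`p`-complement.
-/

set_option autoImplicit false

namespace Cfsg.Agent.CharLib

open Cfsg Cfsg.Agent.Lib.Helper24 Cfsg.Agent.Lib.Helper6
open scoped ComplexConjugate

universe u

section conv

variable {X : Type u} [Group X] [Finite X]

theorem ofReal_finsum_norm_sq (S : Set (IrrCharacter X)) (x : X) :
    ((∑ᶠ ζ ∈ S, ‖(ζ : X → ℂ) x‖ ^ 2 : ℝ) : ℂ) =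
      ∑ᶠ ζ ∈ S, (ζ : X → ℂ) x * conj ((ζ : X → ℂ) x) := by
  classical
  let _ : Fintype (IrrCharacter X) := Fintype.ofFinite _
  rw [finsum_mem_eq_sum_ite, finsum_mem_eq_sum_ite]
  push_cast
  apply Finset.sum_congr rfl
  intro ζ _
  split_ifs
  · rw [Complex.mul_conj, Complex.normSq_eq_norm_sq]
  · rfl

end conv

section pcompl

variable {X : Type u} [Group X] [Finite X] {M : Ideal AlgInt}

/-- If `X` has a normal `p`-complement, the principal block sum of squares at a `p`-regular element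
is the `p`-part of the order. -/
theorem sum_principal_of_pcomplement {p : ℕ} [hpp : Fact p.Prime] (hM : IsPModular p M)
    (hk : ∃ k : ℕ, (pPrimeCore p X).index = p ^ k) (y : X) (hy : ¬ p ∣ orderOf y) :
    ∑ᶠ χ ∈ principalBlock M X, (χ : X → ℂ) y * conj ((χ : X → ℂ) y) =
      ((p ^ (Nat.card X).factorization p : ℕ) : ℂ) := by
  classical
  let _ : Fintype X := Fintype.ofFinite X
  let _ : Fintype (IrrCharacter X) := Fintype.ofFinite _
  obtain ⟨k, hk⟩ := hk
  set K := pPrimeCore p X with hKdef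
  haveI hKn : K.Normal := Cfsg.Agent.Lib.Helper1.pPrimeCore_normal p X
  let _ : Fintype K := Fintype.ofFinite K
  have hcop : (Nat.card K).Coprime p := Cfsg.Agent.Lib.Helper12.pPrimeCore_coprime p
  have hpK : ¬ p ∣ Nat.card K := by
    intro h
    have := Nat.Coprime.eq_one_of_dvd hcop.symm h
    exact hpp.out.one_lt.ne' this
  have hQ : IsPGroup p (X ⧸ K) := by
    apply IsPGroup.of_card (n := k)
    rw [← Subgroup.index_eq_card, hk]
  -- y ∈ K
  have hyK : y ∈ K := by
    have h1 : ((y : X) : X ⧸ K) = 1 := by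
      obtain ⟨j, hj⟩ := hQ ((y : X) : X ⧸ K)
      have h2 : orderOf ((y : X) : X ⧸ K) ∣ orderOf y :=
        orderOf_map_dvd (QuotientGroup.mk' K) y
      have h3 : orderOf ((y : X) : X ⧸ K) ∣ p ^ j := orderOf_dvd_of_pow_eq_one hj
      have h4 : (orderOf ((y : X) : X ⧸ K)).Coprime (p ^ j) := by
        apply Nat.Coprime.pow_right
        apply Nat.Coprime.coprime_dvd_left h2
        exact ((Nat.Prime.coprime_iff_not_dvd hpp.out).mpr hy).symm
      have h5 : orderOf ((y : X) : X ⧸ K) = 1 := Nat.Coprime.eq_one_of_dvd h4 h3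
      exact orderOf_eq_one_iff.mp h5
    exact (QuotientGroup.eq_one_iff y).mp h1
  -- the principal block
  have hmem : ∀ χ : IrrCharacter X, χ ∈ principalBlock M X ↔ TrivOn K (χ : X → ℂ) := by
    intro χ
    constructor
    · intro h n
      exact le_ker_of_sameBlock_one hM K hpK χ h n n.2
    · intro h
      exact sameBlock_one_of_le_ker hM K hQ χ (fun n hn => h ⟨n, hn⟩)
  rw [finsum_mem_eq_sum_ite]
  have h1 := sum_sq_trivOn K
  have hidx : (K.index : ℂ) = ((p ^ (Nat.card X).factorization p : ℕ) : ℂ) := by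
    congr 1
    rw [hk]
    congr 1
    have h2 := Subgroup.index_mul_card K
    rw [hk] at h2
    rw [← h2]
    rw [Nat.factorization_mul (pow_pos hpp.out.pos k).ne' Nat.card_pos.ne']
    rw [Finsupp.add_apply, Nat.factorization_eq_zero_of_not_dvd hpK, add_zero]
    rw [Nat.Prime.factorization_pow hpp.out]
    simp
  rw [← hidx, ← h1]
  apply Finset.sum_congr rfl
  intro χ _
  by_cases hχ : TrivOn K (χ : X → ℂ)
  · rw [if_pos ((hmem χ).mpr hχ), if_pos hχ]
    have h3 : (χ : X → ℂ) y = (χ : X → ℂ) 1 := hχ ⟨y, hyK⟩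
    rw [h3]
    obtain ⟨d, -, hd⟩ := IsIrrCharacter.apply_one_pos χ.2
    rw [hd, Complex.conj_natCast]
  · rw [if_neg hχ, if_neg (fun h => hχ ((hmem χ).mp h))]

end pcompl

end Cfsg.Agent.CharLib
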