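import Mathlib
import Cfsg.Agent.Lib.Lead.KleinBlock1
import Cfsg.Agent.Lib.Lead.SecondMain7
import Cfsg.Agent.Lib.Lead.RealOddBlock
import Cfsg.Agent.Lib.Lead.CharEquiv

/-!
lead: character-theoretic lemmas for the principal 2-block of a group with Klein four Sylow
2-subgroups and one class of involutions.
-/

set_option autoImplicit false

namespace Cfsg.Agent.CharLib

open Cfsg Cfsg.Agent.Lib.Helper24 Cfsg.Agent.Lib.Helper6
open scoped ComplexConjugate

universe u

section sums

variable {G : Type u} [Group G] [Finite G]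

theorem apply_eq_of_isConj {f : G → ℂ} (hf : IsClassFunction G f) {x z : G} (h : IsConj x z) :
    f x = f z := by
  obtain ⟨c, hc⟩ := isConj_iff.mp h
  rw [← hc, hf]

/-- Sum of a class function over a subgroup all of whose non-identity elements are conjugate
to `z`. -/
theorem sum_subgroup_of_conj (H : Subgroup G) [Fintype H] (f : G → ℂ) (hf : IsClassFunction G f)
    (z : G) (hH : ∀ x ∈ H, x ≠ 1 → IsConj x z) :
    ∑ x : H, f x = f 1 + ((Nat.card H : ℂ) - 1) * f z := by
  classical
  rw [← Finset.add_sum_erase Finset.univ (fun x : H => f x) (Finset.mem_univ (1 : H))]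
  congr 1
  have h1 : ∀ x ∈ Finset.univ.erase (1 : H), f x = f z := by
    intro x hx
    have hx1 : x ≠ 1 := (Finset.mem_erase.mp hx).1
    apply apply_eq_of_isConj hf
    apply hH x x.2
    intro h
    exact hx1 (Subtype.ext h)
  rw [Finset.sum_congr rfl h1, Finset.sum_const, Finset.card_erase_of_mem (Finset.mem_univ _),
    Finset.card_univ, nsmul_eq_mul, Nat.card_eq_fintype_card]
  rw [Nat.cast_pred Fintype.card_pos]

/-- The sum of a character over a subgroup is a multiple of the order of the subgroup. -/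
theorem exists_nat_sum_subgroup (H : Subgroup G) [Fintype H] {χ : G → ℂ} (hχ : IsCharacter G χ) :
    ∃ m : ℕ, ∑ x : H, χ x = (Nat.card H : ℂ) * m := by
  obtain ⟨m, hm⟩ := IsCharacter.classInner_nat (isCharacter_resFun H hχ) (isCharacter_one (G := H))
  refine ⟨m, ?_⟩
  unfold classInner at hm
  simp only [Pi.one_apply, map_one, mul_one] at hm
  rw [← hm]
  have h0 : (Nat.card H : ℂ) ≠ 0 := Nat.cast_ne_zero.mpr Nat.card_pos.ne'
  rw [← mul_assoc, mul_inv_cancel₀ h0, one_mul]
  rfl

end sums

section klein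

variable {G : Type u} [Group G] [Finite G]

/-- Values at an involution `z ∈ P` of an irreducible character of a group with Klein four Sylow
2-subgroup `P` and one class of involutions. -/
theorem klein_values (P : Sylow 2 G) (hP : IsKleinFour (P : Subgroup G))
    (hone : ∀ s t : G, orderOf s = 2 → orderOf t = 2 → IsConj s t) (z : G) (hzP : z ∈ P)
    (hz1 : z ≠ 1) (χ : IrrCharacter G) :
    ∃ n : ℤ, ∃ d : ℕ, 0 < d ∧ (χ : G → ℂ) z = n ∧ (χ : G → ℂ) 1 = d ∧ (4 : ℤ) ∣ (d : ℤ) - n := by
  classical
  have hz2 : orderOf z = 2 := Cfsg.Agent.Lib.Helper2.klein_orderOf P hP hzP hz1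
  have hchar : IsCharacter G (χ : G → ℂ) := IsIrrCharacter.isCharacter χ.2
  have hcl : IsClassFunction G (χ : G → ℂ) := IsCharacter.isClassFunction hchar
  obtain ⟨d, hdpos, hd⟩ := IsIrrCharacter.apply_one_pos χ.2
  -- the subgroup generated by `z`
  let _ : Fintype (Subgroup.zpowers z) := Fintype.ofFinite _
  let _ : Fintype (P : Subgroup G) := Fintype.ofFinite _
  have hcardZ : Nat.card (Subgroup.zpowers z) = 2 := by rw [Nat.card_zpowers, hz2]
  have hcardP : Nat.card (P : Subgroup G) = 4 := hP.card_four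
  have hZ : ∀ x ∈ Subgroup.zpowers z, x ≠ 1 → IsConj x z := by
    intro x hx hx1
    apply hone x z _ hz2
    have h1 := Subgroup.orderOf_dvd_natCard _ hx
    rw [hcardZ] at h1
    rcases (Nat.dvd_prime Nat.prime_two).mp h1 with h | h
    · exact absurd (orderOf_eq_one_iff.mp h) hx1
    · exact h
  have hPc : ∀ x ∈ (P : Subgroup G), x ≠ 1 → IsConj x z := by
    intro x hx hx1
    exact hone x z (Cfsg.Agent.Lib.Helper2.klein_orderOf P hP hx hx1) hz2
  have s1 := sum_subgroup_of_conj (Subgroup.zpowers z) (χ : G → ℂ) hcl z hZ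
  have s2 := sum_subgroup_of_conj (P : Subgroup G) (χ : G → ℂ) hcl z hPc
  obtain ⟨a, ha⟩ := exists_nat_sum_subgroup (Subgroup.zpowers z) hchar
  obtain ⟨m, hm⟩ := exists_nat_sum_subgroup (P : Subgroup G) hchar
  rw [ha, hcardZ, hd] at s1
  rw [hm, hcardP, hd] at s2
  have hval : (χ : G → ℂ) z = ((2 * (a : ℤ) - (d : ℤ) : ℤ) : ℂ) := by
    push_cast
    push_cast at s1
    linear_combination (-1 : ℂ) * s1
  refine ⟨2 * (a : ℤ) - (d : ℤ), d, hdpos, hval, hd, ?_⟩
  rw [hval] at s2
  have s3 : (4 : ℤ) * (m : ℤ) = (d : ℤ) + 3 * (2 * (a : ℤ) - (d : ℤ)) := by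
    have : ((4 * (m : ℤ) : ℤ) : ℂ) = (((d : ℤ) + 3 * (2 * (a : ℤ) - (d : ℤ)) : ℤ) : ℂ) := by
      push_cast
      push_cast at s2
      linear_combination s2
    exact_mod_cast this
  refine ⟨(a : ℤ) - (m : ℤ), ?_⟩
  linarith

/-- Characters in the principal 2-block do not vanish at elements with centralizer of odd
index. -/
theorem apply_ne_zero_of_mem_principalBlock {M : Ideal AlgInt} (hM : IsPModular 2 M)
    (χ : IrrCharacter G) (hχ : χ ∈ principalBlock M G) (z : G)
    (hodd : Odd (Subgroup.centralizer ({z} : Set G)).index) : (χ : G → ℂ) z ≠ 0 := by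
  intro h0
  have h1 := hχ z
  unfold centralChar at h1
  rw [h0, mul_zero, zero_div, sub_zero, mul_one, div_one] at h1
  exact not_memLocalIdeal_of_odd hM hodd h1

theorem odd_index_centralizer_of_klein (P : Sylow 2 G) (hP : IsKleinFour (P : Subgroup G))
    (z : G) (hzP : z ∈ P) : Odd (Subgroup.centralizer ({z} : Set G)).index := by
  haveI : Fact (Nat.Prime 2) := ⟨Nat.prime_two⟩
  have hPC : (P : Subgroup G) ≤ Subgroup.centralizer ({z} : Set G) := by
    intro x hx
    rw [Subgroup.mem_centralizer_singleton_iff]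
    exact Cfsg.Agent.Lib.Helper2.klein_comm P hP x hx z hzP
  have h1 : (Subgroup.centralizer ({z} : Set G)).index ∣ (P : Subgroup G).index :=
    Subgroup.index_dvd_of_le hPC
  have h2 : ¬ 2 ∣ (P : Subgroup G).index := P.not_dvd_index
  rw [← Nat.not_even_iff_odd, even_iff_two_dvd]
  intro h
  exact h2 (dvd_trans h h1)

/-- The sum of the squares of the values at an involution over the principal block is 4. -/
theorem klein_sum_sq {M : Ideal AlgInt} (hM : IsPModular 2 M) (P : Sylow 2 G)
    (hP : IsKleinFour (P : Subgroup G)) (z : G) (hzP : z ∈ P) (hz1 : z ≠ 1) :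
    ∑ᶠ ζ ∈ principalBlock M G, (ζ : G → ℂ) z * conj ((ζ : G → ℂ) z) = 4 := by
  haveI : Fact (Nat.Prime 2) := ⟨Nat.prime_two⟩
  have hz2 : orderOf z = 2 := Cfsg.Agent.Lib.Helper2.klein_orderOf P hP hzP hz1
  have hk := exists_index_pPrimeCore_centralizer_klein P hP z hzP hz1
  have hy1 : ¬ 2 ∣ orderOf (1 : Subgroup.centralizer ({z} : Set G)) := by
    rw [orderOf_one]; decide
  have e1 := sum_principal_section_aux hM z ⟨1, by rw [hz2, pow_one]⟩ _ rfl
    (1 : Subgroup.centralizer ({z} : Set G)) hy1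
  have e2 := sum_principal_of_pcomplement hM hk (1 : Subgroup.centralizer ({z} : Set G)) hy1
  rw [e2] at e1
  have hone' : z * ((1 : Subgroup.centralizer ({z} : Set G)) : G) = z := by
    rw [Subgroup.coe_one, mul_one]
  rw [hone'] at e1
  rw [e1]
  -- the 2-part of the order of the centralizer is 4
  have hPC : (P : Subgroup G) ≤ Subgroup.centralizer ({z} : Set G) := by
    intro x hx
    rw [Subgroup.mem_centralizer_singleton_iff]
    exact Cfsg.Agent.Lib.Helper2.klein_comm P hP x hx z hzP
  have hcardP : Nat.card (P : Subgroup G) = 4 := hP.card_four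
  have h1 : 2 ^ 2 ∣ Nat.card (Subgroup.centralizer ({z} : Set G)) := by
    have := Subgroup.card_dvd_of_le hPC
    rw [hcardP] at this
    exact this
  have hC0 : Nat.card (Subgroup.centralizer ({z} : Set G)) ≠ 0 := Nat.card_pos.ne'
  have hG0 : Nat.card G ≠ 0 := Nat.card_pos.ne'
  have h2 : 2 ≤ (Nat.card (Subgroup.centralizer ({z} : Set G))).factorization 2 :=
    (Nat.Prime.pow_dvd_iff_le_factorization Nat.prime_two hC0).mp h1
  have h3 : (Nat.card G).factorization 2 = 2 := by
    have h4 := P.card_eq_multiplicity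
    have h4' : Nat.card (P : Subgroup G) = 2 ^ (Nat.card G).factorization 2 := h4
    rw [hcardP] at h4'
    have : (2 : ℕ) ^ 2 = 2 ^ (Nat.card G).factorization 2 := by rw [← h4']; norm_num
    exact (Nat.pow_right_injective (le_refl 2) this).symm
  have h5 : (Nat.card (Subgroup.centralizer ({z} : Set G))).factorization 2 ≤
      (Nat.card G).factorization 2 :=
    (Nat.factorization_le_iff_dvd hC0 hG0).mpr (Subgroup.card_subgroup_dvd_card _) 2
  have h6 : (Nat.card (Subgroup.centralizer ({z} : Set G))).factorization 2 = 2 := by omega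
  rw [h6]
  norm_num

/-- Orthogonality between an involution and an element of odd order over the principal block. -/
theorem klein_orthogonality {M : Ideal AlgInt} (hM : IsPModular 2 M) (z : G)
    (hz2 : orderOf z = 2) (y : G) (hy : Odd (orderOf y)) :
    ∑ᶠ ζ ∈ principalBlock M G, (ζ : G → ℂ) z * (ζ : G → ℂ) y = 0 := by
  haveI : Fact (Nat.Prime 2) := ⟨Nat.prime_two⟩
  have hz1 : z ≠ 1 := by
    intro h
    rw [h, orderOf_one] at hz2
    omega
  have hg : IsPPart 2 z z := by
    refine ⟨1, mul_one z, Commute.one_right z, ⟨1, by rw [hz2, pow_one]⟩, ?_⟩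
    rw [orderOf_one]; decide
  have hh : IsPPart 2 y⁻¹ 1 := by
    refine ⟨y⁻¹, one_mul _, Commute.one_left _, ⟨0, by rw [orderOf_one, pow_zero]⟩, ?_⟩
    rw [orderOf_inv, ← even_iff_two_dvd, Nat.not_even_iff_odd]
    exact hy
  have hxy : ¬ IsConj z 1 := by
    rw [isConj_one_left]
    exact hz1
  have := block_orthogonality hM z y⁻¹ z 1 hg hh hxy (principalBlock M G)
    (isPBlock_principalBlock M G)
  rw [inv_inv] at this
  exact this

end klein

end Cfsg.Agent.CharLib
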