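import Mathlib
import Cfsg.Agent.Lib.Lead.SecondMain7

/-!
lead: values of principal block characters on a `p`-section whose centralizer has a normal
`p`-complement: `ζ (z y) = ζ z`.
-/

set_option autoImplicit false

namespace Cfsg.Agent.CharLib

open Cfsg Cfsg.Agent.Lib.Helper24 Cfsg.Agent.Lib.Helper6
open scoped ComplexConjugate

universe u

section pcompl

variable {X : Type u} [Group X] [Finite X] {M : Ideal AlgInt}

/-- If `X` has a normal `p`-complement, the characters in the principal block are constant on
`p`-regular elements. -/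
theorem apply_regular_of_mem_principalBlock_of_pcomplement {p : ℕ} [hpp : Fact p.Prime]
    (hM : IsPModular p M) (hk : ∃ k : ℕ, (pPrimeCore p X).index = p ^ k)
    (χ : IrrCharacter X) (hχ : χ ∈ principalBlock M X) (y : X) (hy : ¬ p ∣ orderOf y) :
    (χ : X → ℂ) y = (χ : X → ℂ) 1 := by
  classical
  obtain ⟨k, hk⟩ := hk
  set K := pPrimeCore p X with hKdef
  have hKn : K.Normal := Cfsg.Agent.Lib.Helper1.pPrimeCore_normal p X
  have hcop : (Nat.card K).Coprime p := Cfsg.Agent.Lib.Helper12.pPrimeCore_coprime p
  have hpK : ¬ p ∣ Nat.card K := by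
    intro h
    have := Nat.Coprime.eq_one_of_dvd hcop.symm h
    exact hpp.out.one_lt.ne' this
  have hQ : IsPGroup p (X ⧸ K) := by
    apply IsPGroup.of_card (n := k)
    rw [← Subgroup.index_eq_card, hk]
  have hyK : y ∈ K := by
    have h1 : ((y : X) : X ⧸ K) = 1 := by
      obtain ⟨j, hj⟩ := hQ ((y : X) : X ⧸ K)
      have h2 : orderOf ((y : X) : X ⧸ K) ∣ orderOf y :=
        orderOf_map_dvd (QuotientGroup.mk' K) y
      have h3 : orderOf ((y : X) : X ⧸ K) ∣ p ^ j := orderOf_dvd_of_pow_eq_one hj
      have h4 : (orderOf ((y : X) : X ⧸ K)).Coprime (p ^ j) := by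
        apply Nat.Coprime.pow_right
        apply Nat.Coprime.coprime_dvd_left h2
        exact ((Nat.Prime.coprime_iff_not_dvd hpp.out).mpr hy).symm
      have h5 : orderOf ((y : X) : X ⧸ K) = 1 := Nat.Coprime.eq_one_of_dvd h4 h3
      exact orderOf_eq_one_iff.mp h5
    exact (QuotientGroup.eq_one_iff y).mp h1
  exact le_ker_of_sameBlock_one hM K hpK χ hχ y hyK

end pcompl

section third

variable {G : Type u} [Group G] [Finite G] {M : Ideal AlgInt}

/-- Third main theorem for the centralizer of a `p`-element: a block of `C_G(z)` induces the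
principal block of `G` iff it is the principal block. -/
theorem isInducedBlock_principal_centralizer_iff {p : ℕ} [hpp : Fact p.Prime]
    (hM : IsPModular p M) (z : G) (hz : ∃ k : ℕ, orderOf z = p ^ k) (C : Subgroup G)
    (hC : C = Subgroup.centralizer ({z} : Set G)) (ψ : IrrCharacter C) :
    IsInducedBlock M C (blockOf M (ψ : C → ℂ)) (principalBlock M G) ↔
      blockOf M (ψ : C → ℂ) = principalBlock M C := by
  have hzC : z ∈ C := by
    rw [hC, Subgroup.mem_centralizer_iff]
    intro w hw
    rw [Set.mem_singleton_iff] at hw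
    rw [hw]
  have hcomm'' : ∀ c : G, c ∈ C → c * z = z * c := by
    intro c hc
    rw [hC, Subgroup.mem_centralizer_iff] at hc
    exact (hc z rfl).symm
  have hmemC : ∀ c : G, c * z = z * c → c ∈ C := by
    intro c hc
    rw [hC, Subgroup.mem_centralizer_iff]
    intro w hw
    rw [Set.mem_singleton_iff] at hw
    rw [hw]
    exact hc.symm
  have hP : IsPGroup p (Subgroup.zpowers z) := by
    obtain ⟨k, hk⟩ := hz
    apply IsPGroup.of_card (n := k)
    rw [Nat.card_zpowers, hk]
  have hPC : Subgroup.zpowers z ≤ C := by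
    rw [Subgroup.zpowers_le]
    exact hzC
  have hCP : Subgroup.centralizer ((Subgroup.zpowers z : Subgroup G) : Set G) ≤ C := by
    intro g hg
    apply hmemC
    exact ((Subgroup.mem_centralizer_iff.mp hg) z (Subgroup.mem_zpowers z)).symm
  have hCN : C ≤ Subgroup.normalizer ((Subgroup.zpowers z : Subgroup G) : Set G) := by
    intro g hg
    rw [Subgroup.mem_normalizer_iff]
    intro w
    have hgz : g * z = z * g := hcomm'' g hg
    have hconj : ∀ w : G, w ∈ Subgroup.zpowers z → g * w * g⁻¹ = w := by
      intro w hw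
      obtain ⟨i, rfl⟩ := hw
      have : Commute g (z ^ i) := Commute.zpow_right hgz i
      rw [this.eq]
      group
    constructor
    · intro hw
      rw [hconj w hw]
      exact hw
    · intro hw
      have h2 : w = g⁻¹ * (g * w * g⁻¹) * g := by group
      rw [h2]
      have hginv : ∀ w : G, w ∈ Subgroup.zpowers z → g⁻¹ * w * g = w := by
        intro w hw
        have := hconj w hw
        calc g⁻¹ * w * g = g⁻¹ * (g * w * g⁻¹) * g := by rw [this]
          _ = w := by group
      rw [hginv _ hw]
      exact hw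
  have hdef : InducedBlockDefined M C (blockOf M (ψ : C → ℂ)) :=
    inducedBlockDefined_of_le_normalizer hM (Subgroup.zpowers z) C hP hPC hCP hCN _ ⟨ψ, rfl⟩
  exact Cfsg.Agent.S0936.result p M hM C _ hdef

/-- **Brauer**: if the centralizer of the `p`-element `z` has a normal `p`-complement, the
characters of the principal block are constant on the `p`-section of `z`, more precisely
`ζ (z y) = ζ z` for every `p`-regular `y ∈ C_G(z)`. -/
theorem apply_section_of_pcomplement_aux {p : ℕ} [hpp : Fact p.Prime] (hM : IsPModular p M)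
    (z : G) (hz : ∃ k : ℕ, orderOf z = p ^ k) (C : Subgroup G)
    (hC : C = Subgroup.centralizer ({z} : Set G))
    (hk : ∃ k : ℕ, (pPrimeCore p C).index = p ^ k)
    (ζ : IrrCharacter G) (hζ : ζ ∈ principalBlock M G) (y : C) (hy : ¬ p ∣ orderOf y) :
    (ζ : G → ℂ) (z * (y : G)) = (ζ : G → ℂ) z := by
  classical
  have hprime : M.IsPrime := isPrime_of_isPModular hM
  let _ : Fintype G := Fintype.ofFinite G
  let _ : Fintype C := Fintype.ofFinite C
  let _ : Fintype (IrrCharacter C) := Fintype.ofFinite _
  have hcomm' : ∀ c : C, (c : G) * z = z * (c : G) := by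
    intro c
    have hc : (c : G) ∈ Subgroup.centralizer ({z} : Set G) := hC ▸ c.2
    rw [Subgroup.mem_centralizer_iff] at hc
    exact (hc z rfl).symm
  have hcl : IsClassFunction G (ζ : G → ℂ) :=
    IsCharacter.isClassFunction (IsIrrCharacter.isCharacter ζ.2)
  have htw : IsClassFunction C (fun c : C => (ζ : G → ℂ) (z * (c : G))) := by
    intro c k
    change (ζ : G → ℂ) (z * ((k : G) * (c : G) * (k : G)⁻¹)) = (ζ : G → ℂ) (z * (c : G))
    have e : z * ((k : G) * (c : G) * (k : G)⁻¹) = (k : G) * (z * (c : G)) * (k : G)⁻¹ := by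
      have := hcomm' k
      calc z * ((k : G) * (c : G) * (k : G)⁻¹) = (z * (k : G)) * (c : G) * (k : G)⁻¹ := by group
        _ = ((k : G) * z) * (c : G) * (k : G)⁻¹ := by rw [this]
        _ = (k : G) * (z * (c : G)) * (k : G)⁻¹ := by group
    rw [e]
    exact hcl _ _
  set b₀ := principalBlock M C with hb₀
  have hb₀mem : b₀ ∈ Finset.univ.image (fun ψ : IrrCharacter C => blockOf M (ψ : C → ℂ)) :=
    Finset.mem_image.mpr ⟨trivIrr C, Finset.mem_univ _, rfl⟩
  -- for every regular element, only the principal block contributes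
  have hkey : ∀ w : C, ¬ p ∣ orderOf w →
      (ζ : G → ℂ) (z * (w : G)) =
        blockPart b₀ (fun c : C => (ζ : G → ℂ) (z * (c : G))) w := by
    intro w hw
    have e2 := apply_eq_sum_blockPart (M := M) htw w
    rw [Finset.sum_eq_single_of_mem b₀ hb₀mem] at e2
    · exact e2
    · intro b' hb' hne
      obtain ⟨ψ, -, rfl⟩ := Finset.mem_image.mp hb'
      have hnot : ¬ IsInducedBlock M C (blockOf M (ψ : C → ℂ)) (principalBlock M G) :=
        fun h => hne ((isInducedBlock_principal_centralizer_iff hM z hz C hC ψ).mp h)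
      subst hC
      exact blockPart_eq_zero_of_not_induced hM z hz (principalBlock M G)
        (isPBlock_principalBlock M G) ζ hζ _ ⟨ψ, rfl⟩ hnot w hw
  have h1 := hkey y hy
  have h2 := hkey 1 (by rw [orderOf_one]; exact hpp.out.one_lt.ne' ∘ Nat.dvd_one.mp)
  have h3 : blockPart b₀ (fun c : C => (ζ : G → ℂ) (z * (c : G))) y =
      blockPart b₀ (fun c : C => (ζ : G → ℂ) (z * (c : G))) 1 := by
    rw [blockPart_apply, blockPart_apply]
    apply finsum_mem_congr rfl
    intro χ hχ
    rw [apply_regular_of_mem_principalBlock_of_pcomplement hM hk χ hχ y hy]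
  rw [h1, h3, ← h2, Subgroup.coe_one, mul_one]

end third

end Cfsg.Agent.CharLib
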