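import Mathlib
import Cfsg.Agent.Lib.Lead.KleinBlock2
import Cfsg.Agent.Lib.Lead.SecondMain8
import Cfsg.Agent.Lib.Helper6.SepClassesC

/-!
lead: Brauer–Leonard (S4709 cluster), part 1: local structure for an abelian Sylow `p`-subgroup
`P` with `C_G(y) ∩ N_G(P) = C_G(P)` for `y ∈ P#`: centralizers of such `y` have normal
`p`-complements, principal block characters are constant on `p`-sections through `P`, and the
orthogonality relations for the columns of `P#` in the principal block.
-/

set_option autoImplicit false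

namespace Cfsg.Agent.CharLib

open Cfsg Cfsg.Agent.Lib.Helper24 Cfsg.Agent.Lib.Helper6
open scoped ComplexConjugate

universe u

section local_structure

variable {G : Type u} [Group G] [Finite G] {p : ℕ} [hpp : Fact p.Prime]

/-- The Brauer–Leonard hypothesis on centralizers. -/
def BLFrob (P : Sylow p G) : Prop :=
  ∀ y : G, y ∈ (P : Subgroup G) → y ≠ 1 →
    Subgroup.centralizer ({y} : Set G) ⊓ Subgroup.normalizer ((P : Subgroup G) : Set G) =
      Subgroup.centralizer ((P : Subgroup G) : Set G)

theorem sylow_le_centralizer_of_comm (P : Sylow p G) (hab : IsMulCommutative P) (y : G)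
    (hy : y ∈ (P : Subgroup G)) : (P : Subgroup G) ≤ Subgroup.centralizer ({y} : Set G) := by
  intro x hx
  rw [Subgroup.mem_centralizer_singleton_iff]
  have := hab.is_comm.comm (⟨x, hx⟩ : P) ⟨y, hy⟩
  exact congrArg Subtype.val this

/-- Under the Brauer–Leonard hypothesis, `C_G(y)` has a normal `p`-complement for `y ∈ P#`. -/
theorem BLFrob.index_pPrimeCore_centralizer {P : Sylow p G} (hfrob : BLFrob P)
    (hab : IsMulCommutative P) (y : G) (hy : y ∈ (P : Subgroup G)) (hy1 : y ≠ 1) :
    ∃ k : ℕ, (pPrimeCore p (Subgroup.centralizer ({y} : Set G))).index = p ^ k := by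
  have hPC := sylow_le_centralizer_of_comm P hab y hy
  let Q : Sylow p (Subgroup.centralizer ({y} : Set G)) := P.subtype hPC
  apply exists_index_pPrimeCore_of_hasNormalPComplement
  apply Cfsg.Agent.Lib.Helper1.hasNormalPComplement_of_normalizer_le_centralizer Q
  intro n hn
  -- `n` normalizes `P` in `G`
  have hnN : (n : G) ∈ Subgroup.normalizer ((P : Subgroup G) : Set G) := by
    rw [Subgroup.mem_normalizer_iff]
    intro x
    rw [Subgroup.mem_normalizer_iff] at hn
    constructor
    · intro hx
      have hxC : x ∈ Subgroup.centralizer ({y} : Set G) := hPC hx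
      have h1 : (⟨x, hxC⟩ : Subgroup.centralizer ({y} : Set G)) ∈
          (Q : Subgroup (Subgroup.centralizer ({y} : Set G))) := by
        change _ ∈ (P : Subgroup G).subgroupOf _
        rw [Subgroup.mem_subgroupOf]
        exact hx
      have h2 := (hn ⟨x, hxC⟩).mp h1
      change _ ∈ (P : Subgroup G).subgroupOf _ at h2
      rw [Subgroup.mem_subgroupOf] at h2
      exact h2
    · intro hx
      have hxC : (n : G) * x * (n : G)⁻¹ ∈ Subgroup.centralizer ({y} : Set G) := hPC hx
      have hxC' : x ∈ Subgroup.centralizer ({y} : Set G) := by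
        have : x = (n : G)⁻¹ * ((n : G) * x * (n : G)⁻¹) * (n : G) := by group
        rw [this]
        exact Subgroup.mul_mem _ (Subgroup.mul_mem _ (Subgroup.inv_mem _ n.2) hxC) n.2
      have h1 : n * (⟨x, hxC'⟩ : Subgroup.centralizer ({y} : Set G)) * n⁻¹ ∈
          (Q : Subgroup (Subgroup.centralizer ({y} : Set G))) := by
        change _ ∈ (P : Subgroup G).subgroupOf _
        rw [Subgroup.mem_subgroupOf]
        exact hx
      have h2 := (hn ⟨x, hxC'⟩).mpr h1
      change _ ∈ (P : Subgroup G).subgroupOf _ at h2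
      rw [Subgroup.mem_subgroupOf] at h2
      exact h2
  have hnC : (n : G) ∈ Subgroup.centralizer ((P : Subgroup G) : Set G) := by
    rw [← hfrob y hy hy1]
    exact ⟨n.2, hnN⟩
  rw [Subgroup.mem_centralizer_iff]
  intro q hq
  change q ∈ (P : Subgroup G).subgroupOf _ at hq
  rw [Subgroup.mem_subgroupOf] at hq
  apply Subtype.ext
  rw [Subgroup.mem_centralizer_iff] at hnC
  exact hnC (q : G) hq

/-- Principal block characters are constant on `p`-sections through `P#`. -/
theorem BLFrob.apply_section {M : Ideal AlgInt} (hM : IsPModular p M) {P : Sylow p G}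
    (hfrob : BLFrob P) (hab : IsMulCommutative P) (χ : IrrCharacter G)
    (hχ : χ ∈ principalBlock M G) (z y : G) (hzy : IsPPart p z y) (hy : y ∈ (P : Subgroup G))
    (hy1 : y ≠ 1) : (χ : G → ℂ) z = (χ : G → ℂ) y := by
  obtain ⟨c, hc, hcomm, hk, hcodd⟩ := hzy
  have hk' := hfrob.index_pPrimeCore_centralizer hab y hy hy1
  have hcC : c ∈ Subgroup.centralizer ({y} : Set G) := by
    rw [Subgroup.mem_centralizer_singleton_iff]
    exact hcomm.eq.symm
  have h1 := apply_section_of_pcomplement_aux hM y hk _ rfl hk' χ hχ ⟨c, hcC⟩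
    (by rw [Subgroup.orderOf_mk]; exact hcodd)
  rw [← hc]
  exact h1

theorem card_sylow_eq_pow_factorization_centralizer (P : Sylow p G) (hab : IsMulCommutative P)
    (y : G) (hy : y ∈ (P : Subgroup G)) :
    p ^ (Nat.card (Subgroup.centralizer ({y} : Set G))).factorization p =
      Nat.card (P : Subgroup G) := by
  have hPC := sylow_le_centralizer_of_comm P hab y hy
  have h1 : Nat.card (P : Subgroup G) ∣ Nat.card (Subgroup.centralizer ({y} : Set G)) :=
    Subgroup.card_dvd_of_le hPC
  have h2 : Nat.card (Subgroup.centralizer ({y} : Set G)) ∣ Nat.card G :=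
    Subgroup.card_subgroup_dvd_card _
  have h3 : Nat.card (P : Subgroup G) = p ^ (Nat.card G).factorization p :=
    P.card_eq_multiplicity
  have hC0 : Nat.card (Subgroup.centralizer ({y} : Set G)) ≠ 0 := Nat.card_pos.ne'
  have hG0 : Nat.card G ≠ 0 := Nat.card_pos.ne'
  have h4 : (Nat.card (Subgroup.centralizer ({y} : Set G))).factorization p ≤
      (Nat.card G).factorization p := (Nat.factorization_le_iff_dvd hC0 hG0).mpr h2 p
  have h5 : (Nat.card G).factorization p ≤
      (Nat.card (Subgroup.centralizer ({y} : Set G))).factorization p := by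
    rw [h3] at h1
    exact (Nat.Prime.pow_dvd_iff_le_factorization hpp.out hC0).mp h1
  rw [h3, le_antisymm h4 h5]

/-- The column of `y ∈ P#` in the principal block has norm `|P|`. -/
theorem BLFrob.sum_sq {M : Ideal AlgInt} (hM : IsPModular p M) {P : Sylow p G}
    (hfrob : BLFrob P) (hab : IsMulCommutative P) (y : G) (hy : y ∈ (P : Subgroup G))
    (hy1 : y ≠ 1) :
    ∑ᶠ χ ∈ principalBlock M G, (χ : G → ℂ) y * conj ((χ : G → ℂ) y) =
      (Nat.card (P : Subgroup G) : ℂ) := by
  have hk' := hfrob.index_pPrimeCore_centralizer hab y hy hy1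
  have hk : ∃ k : ℕ, orderOf y = p ^ k := by
    have := (P.2 ⟨y, hy⟩)
    obtain ⟨k, hk⟩ := this
    obtain ⟨j, -, hj⟩ := (Nat.dvd_prime_pow hpp.out).mp (orderOf_dvd_of_pow_eq_one hk)
    refine ⟨j, ?_⟩
    rw [← hj, Subgroup.orderOf_mk]
  have hy1' : ¬ p ∣ orderOf (1 : Subgroup.centralizer ({y} : Set G)) := by
    rw [orderOf_one]
    exact fun h => hpp.out.one_lt.ne' (Nat.dvd_one.mp h)
  have e1 := sum_principal_section_aux hM y hk _ rfl
    (1 : Subgroup.centralizer ({y} : Set G)) hy1'
  have e2 := sum_principal_of_pcomplement hM hk' (1 : Subgroup.centralizer ({y} : Set G)) hy1'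
  rw [e2] at e1
  have hone' : y * ((1 : Subgroup.centralizer ({y} : Set G)) : G) = y := by
    rw [Subgroup.coe_one, mul_one]
  rw [hone'] at e1
  rw [e1, card_sylow_eq_pow_factorization_centralizer P hab y hy]

end local_structure

end Cfsg.Agent.CharLib
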