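import Mathlib
import Cfsg.Agent.Lib.Lead.BrLeo1
import Cfsg.Agent.Lib.Lead.SecondMain4

/-!
lead: Brauer–Leonard (S4709 cluster), part 2: the orthogonality relations for the columns of `P#`
in the principal block, Burnside fusion, and non-vanishing.
-/

set_option autoImplicit false

namespace Cfsg.Agent.CharLib

open Cfsg Cfsg.Agent.Lib.Helper24 Cfsg.Agent.Lib.Helper6
open scoped ComplexConjugate

universe u

section ortho

variable {G : Type u} [Group G] [Finite G] {p : ℕ} [hpp : Fact p.Prime]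

theorem exists_orderOf_eq_pow_of_mem_sylow (P : Sylow p G) (y : G) (hy : y ∈ (P : Subgroup G)) :
    ∃ k : ℕ, orderOf y = p ^ k := by
  obtain ⟨k, hk⟩ := P.2 ⟨y, hy⟩
  obtain ⟨j, -, hj⟩ := (Nat.dvd_prime_pow hpp.out).mp (orderOf_dvd_of_pow_eq_one hk)
  refine ⟨j, ?_⟩
  rw [← hj, Subgroup.orderOf_mk]

theorem isPPart_self_of_mem_sylow (P : Sylow p G) (y : G) (hy : y ∈ (P : Subgroup G)) :
    IsPPart p y y := by
  refine ⟨1, mul_one y, Commute.one_right y, exists_orderOf_eq_pow_of_mem_sylow P y hy, ?_⟩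
  rw [orderOf_one]
  exact fun h => hpp.out.one_lt.ne' (Nat.dvd_one.mp h)

theorem isPPart_one_of_regular (g : G) (hg : ¬ p ∣ orderOf g) : IsPPart p g 1 := by
  refine ⟨g, one_mul g, Commute.one_left g, ⟨0, by rw [orderOf_one, pow_zero]⟩, hg⟩

open Classical in
/-- Orthogonality of the columns of `y, y' ∈ P#` in the principal block. -/
theorem BLFrob.column_orthogonality {M : Ideal AlgInt} (hM : IsPModular p M) {P : Sylow p G}
    (hfrob : BLFrob P) (hab : IsMulCommutative P) (y y' : G) (hy : y ∈ (P : Subgroup G))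
    (hy1 : y ≠ 1) (hy' : y' ∈ (P : Subgroup G)) :
    ∑ᶠ χ ∈ principalBlock M G, (χ : G → ℂ) y * conj ((χ : G → ℂ) y') =
      if IsConj y y' then (Nat.card (P : Subgroup G) : ℂ) else 0 := by
  by_cases hc : IsConj y y'
  · rw [if_pos hc, ← hfrob.sum_sq hM hab y hy hy1]
    apply finsum_mem_congr rfl
    intro χ _
    have hcl : IsClassFunction G (χ : G → ℂ) :=
      IsCharacter.isClassFunction (IsIrrCharacter.isCharacter χ.2)
    rw [apply_eq_of_isConj hcl hc]
  · rw [if_neg hc]
    have := block_orthogonality hM y y' y y' (isPPart_self_of_mem_sylow P y hy)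
      (isPPart_self_of_mem_sylow P y' hy') hc (principalBlock M G) (isPBlock_principalBlock M G)
    rw [← this]
    apply finsum_mem_congr rfl
    intro χ _
    rw [IsCharacter.apply_inv (IsIrrCharacter.isCharacter χ.2)]

/-- Orthogonality of a column of `P#` with a `p`-regular column. -/
theorem BLFrob.column_orthogonality_regular {M : Ideal AlgInt} (hM : IsPModular p M)
    (P : Sylow p G) (y g : G) (hy : y ∈ (P : Subgroup G)) (hy1 : y ≠ 1)
    (hg : ¬ p ∣ orderOf g) :
    ∑ᶠ χ ∈ principalBlock M G, (χ : G → ℂ) g * conj ((χ : G → ℂ) y) = 0 := by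
  have hc : ¬ IsConj (1 : G) y := by
    rw [isConj_comm, isConj_one_left]
    exact hy1
  have := block_orthogonality hM g y 1 y (isPPart_one_of_regular g hg)
    (isPPart_self_of_mem_sylow P y hy) hc (principalBlock M G) (isPBlock_principalBlock M G)
  rw [← this]
  apply finsum_mem_congr rfl
  intro χ _
  rw [IsCharacter.apply_inv (IsIrrCharacter.isCharacter χ.2)]

/-- Principal block characters do not vanish on `P`. -/
theorem apply_ne_zero_of_mem_principalBlock_sylow {M : Ideal AlgInt} (hM : IsPModular p M)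
    (P : Sylow p G) (hab : IsMulCommutative P) (χ : IrrCharacter G)
    (hχ : χ ∈ principalBlock M G) (y : G) (hy : y ∈ (P : Subgroup G)) : (χ : G → ℂ) y ≠ 0 := by
  intro h0
  have h1 := hχ y
  unfold centralChar at h1
  rw [h0, mul_zero, zero_div, sub_zero, mul_one, div_one] at h1
  have hPC := sylow_le_centralizer_of_comm P hab y hy
  have h2 : (Subgroup.centralizer ({y} : Set G)).index ∣ (P : Subgroup G).index :=
    Subgroup.index_dvd_of_le hPC
  have h3 : ¬ p ∣ (Subgroup.centralizer ({y} : Set G)).index :=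
    fun h => P.not_dvd_index (dvd_trans h h2)
  exact Cfsg.Agent.Lib.Helper6.SepClasses.not_memLocalIdeal_natCast_of_not_dvd hM h3 h1

/-- Burnside: fusion in an abelian Sylow subgroup is controlled by its normalizer. -/
theorem exists_normalizer_conj_of_isConj (P : Sylow p G) (hab : IsMulCommutative P) (y y' : G)
    (hy : y ∈ (P : Subgroup G)) (hy' : y' ∈ (P : Subgroup G)) (hc : IsConj y y') :
    ∃ n ∈ Subgroup.normalizer ((P : Subgroup G) : Set G), y' = n * y * n⁻¹ := by
  obtain ⟨c, hc⟩ := isConj_iff.mp hc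
  have h1 : c⁻¹⁻¹ * y * c⁻¹ ∈ (P : Subgroup G) := by
    rw [inv_inv, hc]; exact hy'
  obtain ⟨n, hn, hn'⟩ := Sylow.conj_eq_normalizer_conj_of_mem P y c⁻¹ hy h1
  refine ⟨n⁻¹, Subgroup.inv_mem _ hn, ?_⟩
  rw [inv_inv, ← hn', inv_inv, hc]

end ortho

end Cfsg.Agent.CharLib
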