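import Mathlib
import Cfsg.Agent.Lib.Lead.BrLeo10
import Cfsg.Agent.Lib.Lead.BrLeo2

/-!
lead: Brauer–Leonard (S4709 cluster), part 11: the free automorphism of `P` coming from a cyclic
`N_G(P)/C_G(P)` and the dictionary between `N_G(P)`-conjugation and its powers.
-/

set_option autoImplicit false

namespace Cfsg.Agent.CharLib

open Cfsg Cfsg.Agent.Lib.Helper24 Cfsg.Agent.Lib.Helper6
open scoped ComplexConjugate

universe u

section freeaut

variable {G : Type u} [Group G] [Finite G] {p : ℕ} [hpp : Fact p.Prime]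

theorem exists_freeAut (P : Sylow p G) (hab : IsMulCommutative P) (m : ℕ) (hm0 : 0 < m)
    (hCN : (Subgroup.centralizer ((P : Subgroup G) : Set G)).relIndex
      (Subgroup.normalizer ((P : Subgroup G) : Set G)) = m)
    (hcyc : ∃ g : G, g ∈ Subgroup.normalizer ((P : Subgroup G) : Set G) ∧
      Subgroup.centralizer ((P : Subgroup G) : Set G) ⊔ Subgroup.zpowers g =
        Subgroup.normalizer ((P : Subgroup G) : Set G))
    (hfrob : BLFrob P) :
    ∃ β : ↥(P : Subgroup G) ≃* ↥(P : Subgroup G), FreeAut β m ∧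
      (∀ n : G, n ∈ Subgroup.normalizer ((P : Subgroup G) : Set G) → ∃ k : ℕ,
        ∀ w : ↥(P : Subgroup G), (((β ^ k) w : ↥(P : Subgroup G)) : G) = n * w * n⁻¹) ∧
      (∀ k : ℕ, ∃ n : G, n ∈ Subgroup.normalizer ((P : Subgroup G) : Set G) ∧
        ∀ w : ↥(P : Subgroup G), (((β ^ k) w : ↥(P : Subgroup G)) : G) = n * w * n⁻¹) := by
  obtain ⟨g₀, hg₀, hsup⟩ := hcyc
  set φ := (P : Subgroup G).normalizerMonoidHom with hφ
  set β : MulAut ↥(P : Subgroup G) := φ ⟨g₀, hg₀⟩ with hβ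
  -- every `φ n` is a power of `β`
  have hpow : ∀ n : Subgroup.normalizer ((P : Subgroup G) : Set G), φ n ∈ Subgroup.zpowers β := by
    let K : Subgroup G := ((Subgroup.zpowers β).comap φ).map (Subgroup.subtype _)
    have hC : Subgroup.centralizer ((P : Subgroup G) : Set G) ≤ K := by
      intro c hc
      have hcN : c ∈ Subgroup.normalizer ((P : Subgroup G) : Set G) :=
        Subgroup.centralizer_le_normalizer _ hc
      refine Subgroup.mem_map.mpr ⟨⟨c, hcN⟩, ?_, rfl⟩
      rw [Subgroup.mem_comap]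
      have h1 : φ ⟨c, hcN⟩ = 1 := by
        rw [← MonoidHom.mem_ker, hφ, Subgroup.normalizerMonoidHom_ker, Subgroup.mem_subgroupOf]
        exact hc
      rw [h1]
      exact Subgroup.one_mem _
    have hZ : Subgroup.zpowers g₀ ≤ K := by
      rw [Subgroup.zpowers_le]
      refine Subgroup.mem_map.mpr ⟨⟨g₀, hg₀⟩, ?_, rfl⟩
      rw [Subgroup.mem_comap]
      exact Subgroup.mem_zpowers β
    have hN : Subgroup.normalizer ((P : Subgroup G) : Set G) ≤ K := by
      rw [← hsup]
      exact sup_le hC hZ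
    intro n
    obtain ⟨n', hn', hnn'⟩ := Subgroup.mem_map.mp (hN n.2)
    have h2 : n' = n := Subtype.ext hnn'
    rw [← h2]
    exact hn'
  have hrange : φ.range = Subgroup.zpowers β := by
    apply le_antisymm
    · rintro _ ⟨n, rfl⟩
      exact hpow n
    · rw [Subgroup.zpowers_le]
      exact ⟨_, rfl⟩
  have hord : orderOf β = m := by
    rw [← Nat.card_zpowers, ← hrange, ← Subgroup.index_ker, hφ, Subgroup.normalizerMonoidHom_ker]
    exact hCN
  have hβpow : ∀ k : ℕ, β ^ k = φ (⟨g₀, hg₀⟩ ^ k) := by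
    intro k
    rw [map_pow]
  have hcoe : ∀ (n : Subgroup.normalizer ((P : Subgroup G) : Set G)) (w : ↥(P : Subgroup G)),
      ((φ n w : ↥(P : Subgroup G)) : G) = (n : G) * w * (n : G)⁻¹ := by
    intro n w
    rw [hφ]
    exact Subgroup.normalizerMonoidHom_apply_apply_coe _ n w
  refine ⟨β, ⟨?_, ?_, ?_⟩, ?_, ?_⟩
  · intro a b
    exact hab.is_comm.comm a b
  · intro y
    rw [← hord, pow_orderOf_eq_one]
    rfl
  · intro k hk0 hkm y hy
    by_contra hy1
    have hy1' : (y : G) ≠ 1 := fun h => hy1 (Subtype.ext h)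
    have h1 : ((β ^ k) y : ↥(P : Subgroup G)) = y := hy
    rw [hβpow k] at h1
    have h2 := hcoe (⟨g₀, hg₀⟩ ^ k) y
    rw [h1] at h2
    have hgk : ((⟨g₀, hg₀⟩ ^ k : Subgroup.normalizer ((P : Subgroup G) : Set G)) : G) ∈
        Subgroup.centralizer ((P : Subgroup G) : Set G) := by
      rw [← hfrob (y : G) y.2 hy1']
      refine Subgroup.mem_inf.mpr
        ⟨?_, (⟨g₀, hg₀⟩ ^ k : Subgroup.normalizer ((P : Subgroup G) : Set G)).2⟩
      rw [Subgroup.mem_centralizer_singleton_iff]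
      set x : G := ((⟨g₀, hg₀⟩ ^ k : Subgroup.normalizer ((P : Subgroup G) : Set G)) : G)
      calc x * (y : G) = x * (y : G) * x⁻¹ * x := by group
        _ = (y : G) * x := by rw [← h2]
    have h3 : φ (⟨g₀, hg₀⟩ ^ k) = 1 := by
      rw [← MonoidHom.mem_ker, hφ, Subgroup.normalizerMonoidHom_ker, Subgroup.mem_subgroupOf]
      exact hgk
    rw [← hβpow k] at h3
    have h4 := orderOf_dvd_of_pow_eq_one h3
    rw [hord] at h4
    have := Nat.le_of_dvd hk0 h4
    omega
  · intro n hn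
    obtain ⟨i, hi⟩ := Subgroup.mem_zpowers_iff.mp (hpow ⟨n, hn⟩)
    refine ⟨(i % (m : ℤ)).toNat, ?_⟩
    intro w
    have h1 : β ^ (i % (m : ℤ)).toNat = φ ⟨n, hn⟩ := by
      rw [← hi, ← zpow_natCast, Int.toNat_of_nonneg (Int.emod_nonneg i (by exact_mod_cast hm0.ne')),
        ← hord, zpow_mod_orderOf]
    rw [h1]
    exact hcoe ⟨n, hn⟩ w
  · intro k
    refine ⟨((⟨g₀, hg₀⟩ ^ k : Subgroup.normalizer ((P : Subgroup G) : Set G)) : G),
      (⟨g₀, hg₀⟩ ^ k : Subgroup.normalizer ((P : Subgroup G) : Set G)).2, ?_⟩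
    intro w
    rw [hβpow k]
    exact hcoe _ w

end freeaut

end Cfsg.Agent.CharLib
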