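import Mathlib
import Cfsg.Agent.Lib.Lead.BrLeo11

/-!
lead: Brauer–Leonard (S4709 cluster), part 12: counting powers of a free automorphism and
translating the block orthogonality relations.
-/

set_option autoImplicit false

namespace Cfsg.Agent.CharLib

open Cfsg Cfsg.Agent.Lib.Helper24 Cfsg.Agent.Lib.Helper6
open scoped ComplexConjugate

universe u

section count

variable {A : Type u} [Group A]

theorem FreeAut.pow_unique {β : A ≃* A} {m : ℕ} (h : FreeAut β m) (y : A) (hy : y ≠ 1)
    (j k : ℕ) (hj : j < m) (hk : k < m) (hjk : (β ^ j) y = (β ^ k) y) : j = k := by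
  by_contra hne
  wlog hlt : j < k generalizing j k
  · exact this k j hk hj hjk.symm (Ne.symm hne) (lt_of_le_of_ne (not_lt.mp hlt) (Ne.symm hne))
  have h1 : (β ^ k) y = (β ^ j) ((β ^ (k - j)) y) := by
    rw [← pow_add_apply]
    congr 2
    omega
  rw [h1] at hjk
  have h2 := (β ^ j).injective hjk
  exact hy (h.free (k - j) (by omega) (by omega) y h2.symm)

open Classical in
theorem FreeAut.sum_range_ite {β : A ≃* A} {m : ℕ} (h : FreeAut β m) (hm : 0 < m) (y y' : A)
    (hy : y ≠ 1) :
    (∑ k ∈ Finset.range m, if y' = (β ^ k) y then (1 : ℂ) else 0) =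
      if ∃ k : ℕ, y' = (β ^ k) y then 1 else 0 := by
  rw [Finset.sum_boole]
  by_cases hex : ∃ k : ℕ, y' = (β ^ k) y
  · rw [if_pos hex]
    obtain ⟨k, hk⟩ := hex
    have hk' : y' = (β ^ (k % m)) y := by rw [hk, ← h.pow_mod]
    have : (Finset.range m).filter (fun k => y' = (β ^ k) y) = {k % m} := by
      ext j
      rw [Finset.mem_filter, Finset.mem_range, Finset.mem_singleton]
      constructor
      · rintro ⟨hjm, hj⟩
        exact h.pow_unique y hy j (k % m) hjm (Nat.mod_lt k hm) (hj.symm.trans hk')
      · rintro rfl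
        exact ⟨Nat.mod_lt k hm, hk'⟩
    rw [this, Finset.card_singleton, Nat.cast_one]
  · rw [if_neg hex]
    have : (Finset.range m).filter (fun k => y' = (β ^ k) y) = ∅ := by
      rw [Finset.filter_eq_empty_iff]
      intro k _ hk
      exact hex ⟨k, hk⟩
    rw [this, Finset.card_empty, Nat.cast_zero]

end count

section block

variable {G : Type u} [Group G] [Finite G] {p : ℕ} [hpp : Fact p.Prime]

theorem trivIrr_mem_principalBlock {M : Ideal AlgInt} (hM : IsPModular p M) :
    trivIrr G ∈ principalBlock M G := by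
  intro g
  have : centralChar (fun _ : G => (1 : ℂ)) g - centralChar ((trivIrr G : IrrCharacter G) : G → ℂ) g
      = 0 := sub_self _
  rw [this]
  exact memLocalIdeal_zero (isPrime_of_isPModular hM).one_notMem

/-- Sums over the principal block as sums over the subtype. -/
theorem sum_principalBlock_subtype (M : Ideal AlgInt) [Fintype ↥(principalBlock M G)]
    (F : IrrCharacter G → ℂ) :
    ∑ χ : ↥(principalBlock M G), F χ.1 = ∑ᶠ χ ∈ principalBlock M G, F χ := by
  rw [← finsum_eq_sum_of_fintype]
  exact finsum_set_coe_eq_finsum_mem (f := F) (principalBlock M G)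

/-- Regular columns are orthogonal to the columns of `P#` (without conjugation). -/
theorem sum_regular_mul_sylow {M : Ideal AlgInt} (hM : IsPModular p M) (P : Sylow p G)
    [Fintype ↥(principalBlock M G)] (g : G) (hg : ¬ p ∣ orderOf g) (y : G)
    (hy : y ∈ (P : Subgroup G)) (hy1 : y ≠ 1) :
    ∑ χ : ↥(principalBlock M G), (χ.1 : G → ℂ) g * (χ.1 : G → ℂ) y = 0 := by
  have hy' : y⁻¹ ∈ (P : Subgroup G) := Subgroup.inv_mem _ hy
  have hy1' : y⁻¹ ≠ 1 := by
    intro h
    exact hy1 (inv_eq_one.mp h)
  have h1 := BLFrob.column_orthogonality_regular hM P y⁻¹ g hy' hy1' hg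
  have h2 := sum_principalBlock_subtype M
    (fun χ : IrrCharacter G => (χ : G → ℂ) g * (χ : G → ℂ) y)
  rw [h2, ← h1]
  apply finsum_mem_congr rfl
  intro χ _
  rw [IsCharacter.apply_inv (IsIrrCharacter.isCharacter χ.2), Complex.conj_conj]

end block

end Cfsg.Agent.CharLib
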