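import Mathlib
import Cfsg.Agent.Lib.Lead.BrLeo12

/-!
lead: Brauer–Leonard (S4709 cluster), part 13: assembly of the Brauer–Leonard theorem on the
principal block for an abelian Sylow subgroup with cyclic Frobenius-like `N_G(P)/C_G(P)`.
-/

set_option autoImplicit false

namespace Cfsg.Agent.CharLib

open Cfsg Cfsg.Agent.Lib.Helper24 Cfsg.Agent.Lib.Helper6
open scoped ComplexConjugate

universe u

section assembly

variable {G : Type u} [Group G] [Finite G]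

set_option maxHeartbeats 1600000 in
theorem brauer_leonard_main (p : ℕ) [Fact p.Prime] (M : Ideal Cfsg.AlgInt)
    (hM : Cfsg.IsPModular p M) (P : Sylow p G) (hab : IsMulCommutative P)
    (m : ℕ) (hm1 : 1 < m) (hm2 : m + 1 < Nat.card P)
    (hCN : (Subgroup.centralizer ((P : Subgroup G) : Set G)).relIndex
      (Subgroup.normalizer ((P : Subgroup G) : Set G)) = m)
    (hcyc : ∃ g : G, g ∈ Subgroup.normalizer ((P : Subgroup G) : Set G) ∧
      Subgroup.centralizer ((P : Subgroup G) : Set G) ⊔ Subgroup.zpowers g =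
        Subgroup.normalizer ((P : Subgroup G) : Set G))
    (hfrob : ∀ y : G, y ∈ (P : Subgroup G) → y ≠ 1 →
      Subgroup.centralizer ({y} : Set G) ⊓ Subgroup.normalizer ((P : Subgroup G) : Set G) =
        Subgroup.centralizer ((P : Subgroup G) : Set G)) :
    ∃ (s : ℕ) (X Y : Set (Cfsg.IrrCharacter G)), s ≤ m ∧ Cfsg.principalBlock M G = X ∪ Y ∧
      Disjoint X Y ∧ Nat.card X = s ∧ Nat.card Y = (Nat.card P - 1) / m ∧
      (∃ χ₁ ∈ X, (χ₁ : G → ℂ) = fun _ => 1) ∧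
      ∃ (a : Cfsg.IrrCharacter G → ℤ) (d δ : ℤ)
        (ζ : (↥(P : Subgroup G) →* ℂˣ) → Cfsg.IrrCharacter G), (δ = 1 ∨ δ = -1) ∧
        (∀ χ ∈ X, a χ ≠ 0 ∧ ∀ z y : G, Cfsg.IsPPart p z y → y ∈ (P : Subgroup G) → y ≠ 1 →
          (χ : G → ℂ) z = (a χ : ℂ)) ∧
        (∀ ψ : ↥(P : Subgroup G) →* ℂˣ, ψ ≠ 1 → ζ ψ ∈ Y) ∧
        (∀ η ∈ Y, ∃ ψ : ↥(P : Subgroup G) →* ℂˣ, ψ ≠ 1 ∧ ζ ψ = η) ∧
        (∀ ψ ψ' : ↥(P : Subgroup G) →* ℂˣ, ψ ≠ 1 →
          (∃ n : G, n ∈ Subgroup.normalizer ((P : Subgroup G) : Set G) ∧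
            ∀ w w' : ↥(P : Subgroup G), (w' : G) = n * w * n⁻¹ → ψ' w' = ψ w) → ζ ψ' = ζ ψ) ∧
        (∀ ψ : ↥(P : Subgroup G) →* ℂˣ, ψ ≠ 1 → ∀ (z : G) (y : ↥(P : Subgroup G)),
          Cfsg.IsPPart p z (y : G) → (y : G) ≠ 1 →
          (ζ ψ : G → ℂ) z = (d : ℂ) + (δ : ℂ) *
            ∑ᶠ ψ' ∈ {ψ' : ↥(P : Subgroup G) →* ℂˣ |
              ∃ n : G, n ∈ Subgroup.normalizer ((P : Subgroup G) : Set G) ∧
                ∀ w w' : ↥(P : Subgroup G), (w' : G) = n * w * n⁻¹ → ψ' w' = ψ w},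
              ((ψ' y : ℂˣ) : ℂ)) ∧
        ((d - δ) ^ 2 + ((Nat.card P - 1) / m - 1 : ℤ) * d ^ 2 + ∑ᶠ χ ∈ X, a χ ^ 2 =
          (m : ℤ) + 1) ∧
        (∀ η ∈ Y, ∀ η' ∈ Y, ∀ g : G, ¬ p ∣ orderOf g → (η : G → ℂ) g = (η' : G → ℂ) g) ∧
        (∀ η ∈ Y, ∀ g : G, ¬ p ∣ orderOf g →
          ((((Nat.card P - 1) / m : ℕ) : ℂ) * d - δ) * (η : G → ℂ) g +
            ∑ᶠ χ ∈ X, (a χ : ℂ) * (χ : G → ℂ) g = 0) := by
  classical
  have hm0 : 0 < m := by omega
  have hfrob' : BLFrob P := hfrob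
  obtain ⟨β, hfree, hdictN, hdictK⟩ := exists_freeAut P hab m hm0 hCN hcyc hfrob'
  letI : Fintype ↥(P : Subgroup G) := Fintype.ofFinite _
  letI : Fintype (↥(P : Subgroup G) →* ℂˣ) := Fintype.ofFinite _
  letI : Fintype ↥(principalBlock M G) := Fintype.ofFinite _
  have hm2' : m + 1 < Fintype.card ↥(P : Subgroup G) := by
    rw [← Nat.card_eq_fintype_card]; exact hm2
  let X : ↥(principalBlock M G) → ↥(P : Subgroup G) → ℂ := fun χ y => (χ.1 : G → ℂ) (y : G)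
  -- multiplicities are natural numbers
  have hmult : ∀ (χ : ↥(principalBlock M G)) (ψ : ↥(P : Subgroup G) →* ℂˣ),
      ∃ n : ℕ, multP (X χ) ψ = n := by
    intro χ ψ
    obtain ⟨n, hn⟩ := IsCharacter.classInner_nat
      (IsCharacter.restrict (IsIrrCharacter.isCharacter χ.1.2) (P : Subgroup G))
      (isCharacter_of_hom ψ)
    refine ⟨n, ?_⟩
    rw [← hn]
    unfold multP classInner
    rw [Nat.card_eq_fintype_card]
  choose nm hnm using hmult
  let c : ↥(principalBlock M G) → (↥(P : Subgroup G) →* ℂˣ) → ℤ :=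
    fun χ ψ => (nm χ ψ : ℤ) - (nm χ 1 : ℤ)
  have hc : ∀ χ ψ, (c χ ψ : ℂ) = multP (X χ) ψ - multP (X χ) 1 := by
    intro χ ψ
    simp only [c]
    push_cast
    rw [hnm, hnm]
  -- dictionary for conjugacy
  have hne : ∀ y : ↥(P : Subgroup G), y ≠ 1 → (y : G) ≠ 1 := by
    intro y hy h
    exact hy (Subtype.ext h)
  have hconj : ∀ y y' : ↥(P : Subgroup G), IsConj (y : G) (y' : G) ↔
      ∃ k : ℕ, y' = (β ^ k) y := by
    intro y y'
    constructor
    · intro hyy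
      obtain ⟨n, hn, hn'⟩ := exists_normalizer_conj_of_isConj P hab (y : G) (y' : G) y.2 y'.2 hyy
      obtain ⟨k, hk⟩ := hdictN n hn
      exact ⟨k, Subtype.ext (by rw [hk y, hn'])⟩
    · rintro ⟨k, hk⟩
      obtain ⟨n, -, hn'⟩ := hdictK k
      rw [isConj_iff]
      exact ⟨n, by rw [hk, hn' y]⟩
  -- dictionary for the relation on linear characters
  have hrel : ∀ ψ ψ' : ↥(P : Subgroup G) →* ℂˣ,
      (∃ n : G, n ∈ Subgroup.normalizer ((P : Subgroup G) : Set G) ∧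
        ∀ w w' : ↥(P : Subgroup G), (w' : G) = n * w * n⁻¹ → ψ' w' = ψ w) ↔ DualRel β ψ ψ' := by
    intro ψ ψ'
    constructor
    · rintro ⟨n, hn, hn'⟩
      obtain ⟨k, hk⟩ := hdictN n hn
      refine ⟨k, ?_⟩
      apply MonoidHom.ext
      intro w
      rw [dualPow_apply]
      exact hn' w ((β ^ k) w) (hk w)
    · rintro ⟨k, hk⟩
      obtain ⟨n, hn, hn'⟩ := hdictK k
      refine ⟨n, hn, ?_⟩
      intro w w' hw
      have h1 : w' = (β ^ k) w := Subtype.ext (by rw [hw, hn' w])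
      rw [h1, ← dualPow_apply, hk]
  -- orthogonality of the columns
  have horth : ∀ y y' : ↥(P : Subgroup G), y ≠ 1 → y' ≠ 1 →
      ∑ χ : ↥(principalBlock M G), X χ y * conj (X χ y') =
      (Fintype.card ↥(P : Subgroup G) : ℂ) *
        ∑ k ∈ Finset.range m, @ite ℂ (y' = (β ^ k) y) (Classical.propDecidable _) 1 0 := by
    intro y y' hy hy'
    rw [hfree.sum_range_ite hm0 y y' hy]
    have h1 := hfrob'.column_orthogonality hM hab (y : G) (y' : G) y.2 (hne y hy) y'.2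
    have h2 := sum_principalBlock_subtype M
      (fun χ : IrrCharacter G => (χ : G → ℂ) (y : G) * conj ((χ : G → ℂ) (y' : G)))
    rw [h1] at h2
    have h3 : ∑ χ : ↥(principalBlock M G), X χ y * conj (X χ y') =
        ∑ χ : ↥(principalBlock M G), (χ.1 : G → ℂ) (y : G) * conj ((χ.1 : G → ℂ) (y' : G)) := rfl
    rw [h3, h2, Nat.card_eq_fintype_card]
    by_cases hyy : IsConj (y : G) (y' : G)
    · rw [if_pos hyy, if_pos ((hconj y y').mp hyy), mul_one]
    · rw [if_neg hyy, if_neg (fun h => hyy ((hconj y y').mpr h)), mul_zero]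
  -- regular columns
  have hZg : ∀ g : G, ¬ p ∣ orderOf g → ∀ y : ↥(P : Subgroup G), y ≠ 1 →
      ∑ χ : ↥(principalBlock M G), (χ.1 : G → ℂ) g * X χ y = 0 := by
    intro g hg y hy
    exact sum_regular_mul_sylow hM P g hg (y : G) y.2 (hne y hy)
  -- degrees
  let f : ↥(principalBlock M G) → ℤ := fun χ => (charDegree (χ.1 : G → ℂ) : ℤ)
  have hf : ∀ χ, 0 < f χ := by
    intro χ
    simp only [f]
    exact_mod_cast irr_charDegree_pos χ.1
  have hone : ¬ p ∣ orderOf (1 : G) := by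
    rw [orderOf_one]
    exact fun h => (Fact.out : p.Prime).one_lt.ne' (Nat.dvd_one.mp h)
  have hZf : ∀ y : ↥(P : Subgroup G), y ≠ 1 →
      ∑ χ : ↥(principalBlock M G), (f χ : ℂ) * X χ y = 0 := by
    intro y hy
    rw [← hZg 1 hone y hy]
    apply Finset.sum_congr rfl
    intro χ _
    simp only [f]
    rw [irr_apply_one χ.1]
    push_cast
    rfl
  obtain ⟨δ, d, a, e, hrep⟩ := bl_rep β m hfree hm1 hm2' X c hc horth f hf hZf
  -- a non-trivial element of `P`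
  have hcardP : 1 < Fintype.card ↥(P : Subgroup G) := by omega
  obtain ⟨y₀, hy₀⟩ := Fintype.exists_ne_of_one_lt_card hcardP (1 : ↥(P : Subgroup G))
  -- the number of exceptional characters
  have hcardY := hrep.card_blY hfree hm0
  have hr2 : 2 ≤ (blY e).card := by
    by_contra hcon
    have h1 : (blY e).card ≤ 1 := by omega
    have h2 : (blY e).card * m ≤ 1 * m := Nat.mul_le_mul_right m h1
    omega
  have hdiv : (Nat.card P - 1) / m = (blY e).card := by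
    rw [Nat.card_eq_fintype_card, ← hcardY]
    exact Nat.mul_div_cancel _ hm0
  -- non-vanishing of `a` off `Y`
  have hval : ∀ χ : ↥(principalBlock M G), χ ∉ blY e → ∀ y : ↥(P : Subgroup G), y ≠ 1 →
      (χ.1 : G → ℂ) (y : G) = (a χ : ℂ) := by
    intro χ hχ y hy
    exact hrep.value_nonexceptional hfree.comm X hc χ hχ y hy
  have ha : ∀ χ ∈ Finset.univ \ blY e, a χ ≠ 0 := by
    intro χ hχ h0
    have hχ' : χ ∉ blY e := (Finset.mem_sdiff.mp hχ).2
    have h1 := hval χ hχ' y₀ hy₀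
    rw [h0, Int.cast_zero] at h1
    exact apply_ne_zero_of_mem_principalBlock_sylow hM P hab χ.1 χ.2 (y₀ : G) y₀.2 h1
  -- the extension of `a`
  let a' : IrrCharacter G → ℤ := fun χ => if h : χ ∈ principalBlock M G then a ⟨χ, h⟩ else 0
  have ha' : ∀ χ : ↥(principalBlock M G), a' χ.1 = a χ := by
    intro χ
    simp only [a']
    rw [dif_pos χ.2]
  have hinj : Function.Injective (Subtype.val : ↥(principalBlock M G) → IrrCharacter G) :=
    Subtype.val_injective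
  refine ⟨(Finset.univ \ blY e).card,
    Subtype.val '' (↑(Finset.univ \ blY e : Finset ↥(principalBlock M G)) :
      Set ↥(principalBlock M G)),
    Subtype.val '' (↑(blY e : Finset ↥(principalBlock M G)) : Set ↥(principalBlock M G)),
    hrep.card_compl_le ha hr2, ?_, ?_, ?_, ?_, ?_, a', d, δ, fun ψ => (e ψ).1, hrep.hδ,
    ?_, ?_, ?_, ?_, ?_, ?_, ?_, ?_⟩
  · -- union
    ext χ
    constructor
    · intro hχ
      by_cases h : (⟨χ, hχ⟩ : ↥(principalBlock M G)) ∈ blY e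
      · exact Or.inr ⟨⟨χ, hχ⟩, Finset.mem_coe.mpr h, rfl⟩
      · exact Or.inl ⟨⟨χ, hχ⟩, Finset.mem_coe.mpr
          (Finset.mem_sdiff.mpr ⟨Finset.mem_univ _, h⟩), rfl⟩
    · rintro (⟨χ', -, rfl⟩ | ⟨χ', -, rfl⟩)
      · exact χ'.2
      · exact χ'.2
  · -- disjoint
    rw [Set.disjoint_left]
    rintro χ ⟨χ', h1, rfl⟩ ⟨χ'', h2, h3⟩
    have h4 : χ'' = χ' := hinj h3
    rw [h4] at h2
    exact (Finset.mem_sdiff.mp (Finset.mem_coe.mp h1)).2 (Finset.mem_coe.mp h2)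
  · rw [Nat.card_coe_set_eq, Set.ncard_image_of_injective _ hinj, Set.ncard_coe_finset]
  · rw [Nat.card_coe_set_eq, Set.ncard_image_of_injective _ hinj, Set.ncard_coe_finset, hdiv]
  · -- the trivial character
    have h1 : (⟨trivIrr G, trivIrr_mem_principalBlock hM⟩ : ↥(principalBlock M G)) ∉ blY e :=
      hrep.triv_not_mem hfree hm0 hm2' X hc _ (fun y => rfl)
    exact ⟨trivIrr G, ⟨⟨trivIrr G, trivIrr_mem_principalBlock hM⟩,
      Finset.mem_coe.mpr (Finset.mem_sdiff.mpr ⟨Finset.mem_univ _, h1⟩), rfl⟩, rfl⟩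
  · -- values on `X`
    rintro χ ⟨χ', h1, rfl⟩
    have h2 : χ' ∈ Finset.univ \ blY e := Finset.mem_coe.mp h1
    rw [ha' χ']
    refine ⟨ha χ' h2, ?_⟩
    intro z y hzy hy hy1
    rw [hfrob'.apply_section hM hab χ'.1 χ'.2 z y hzy hy hy1]
    exact hval χ' (Finset.mem_sdiff.mp h2).2 ⟨y, hy⟩ (fun h => hy1 (congrArg Subtype.val h))
  · intro ψ hψ
    exact ⟨e ψ, Finset.mem_coe.mpr ((mem_blY e (e ψ)).mpr ⟨ψ, hψ, rfl⟩), rfl⟩
  · rintro η ⟨η', h1, rfl⟩
    obtain ⟨ψ, hψ, hψe⟩ := (mem_blY e η').mp (Finset.mem_coe.mp h1)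
    exact ⟨ψ, hψ, congrArg Subtype.val hψe⟩
  · intro ψ ψ' hψ hr
    have h1 := (hrel ψ ψ').mp hr
    have hψ' := dualRel_ne_one h1 hψ
    have h2 := (hrep.erel ψ ψ' hψ hψ').mpr h1
    exact (congrArg Subtype.val h2).symm
  · -- the values of the exceptional characters
    intro ψ hψ z y hzy hy1
    have hy1' : y ≠ 1 := fun h => hy1 (by rw [h]; rfl)
    have h1 := hfrob'.apply_section hM hab (e ψ).1 (e ψ).2 z (y : G) hzy y.2 hy1
    have h2 := hrep.value_exceptional hfree hm0 X hc ψ hψ y hy1'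
    have h3 : {ψ' : ↥(P : Subgroup G) →* ℂˣ |
        ∃ n : G, n ∈ Subgroup.normalizer ((P : Subgroup G) : Set G) ∧
          ∀ w w' : ↥(P : Subgroup G), (w' : G) = n * w * n⁻¹ → ψ' w' = ψ w} =
        ((Finset.univ.filter (fun ψ' : ↥(P : Subgroup G) →* ℂˣ => DualRel β ψ ψ') :
          Finset _) : Set _) := by
      ext ψ'
      rw [Set.mem_setOf_eq, Finset.mem_coe, Finset.mem_filter, hrel ψ ψ']
      simp
    rw [h3, finsum_mem_coe_finset]
    simp only
    rw [h1]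
    exact h2
  · -- the norm equation
    have h1 := hrep.norm'
    have h2 : ((Nat.card P : ℤ) - 1) / (m : ℤ) = ((blY e).card : ℤ) := by
      have h3 : ((Nat.card P : ℤ) - 1) = ((blY e).card : ℤ) * (m : ℤ) := by
        have h4 : 1 ≤ Nat.card P := by omega
        rw [Nat.card_eq_fintype_card] at h4 ⊢
        have : ((Fintype.card ↥(P : Subgroup G) - 1 : ℕ) : ℤ) =
            (Fintype.card ↥(P : Subgroup G) : ℤ) - 1 := by
          push_cast [Nat.cast_sub h4]; ring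
        rw [← this, ← hcardY]
        push_cast
        ring
      rw [h3]
      exact Int.mul_ediv_cancel _ (by exact_mod_cast hm0.ne')
    have h5 : ∑ᶠ χ ∈ Subtype.val '' (↑(Finset.univ \ blY e : Finset ↥(principalBlock M G)) :
        Set ↥(principalBlock M G)), a' χ ^ 2 = ∑ χ ∈ Finset.univ \ blY e, a χ ^ 2 := by
      rw [finsum_mem_image hinj.injOn, finsum_mem_coe_finset]
      apply Finset.sum_congr rfl
      intro χ _
      rw [ha' χ]
    rw [h2, h5]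
    exact h1
  · -- agreement on `p`-regular elements
    rintro η ⟨η₁, h1, rfl⟩ η' ⟨η₂, h2, rfl⟩ g hg
    obtain ⟨ψ₁, hψ₁, hψe₁⟩ := (mem_blY e η₁).mp (Finset.mem_coe.mp h1)
    obtain ⟨ψ₂, hψ₂, hψe₂⟩ := (mem_blY e η₂).mp (Finset.mem_coe.mp h2)
    have := hrep.Z_const X hc (fun χ => (χ.1 : G → ℂ) g) (hZg g hg) ψ₁ ψ₂ hψ₁ hψ₂
    rw [hψe₁, hψe₂] at this
    exact this
  · -- the linear relation on `p`-regular elements
    rintro η ⟨η₁, h1, rfl⟩ g hg
    obtain ⟨ψ₁, hψ₁, hψe₁⟩ := (mem_blY e η₁).mp (Finset.mem_coe.mp h1)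
    have h2 := hrep.Z_rel X hc (fun χ => (χ.1 : G → ℂ) g) (hZg g hg) ψ₁ hψ₁
    rw [hψe₁] at h2
    have h5 : ∑ᶠ χ ∈ Subtype.val '' (↑(Finset.univ \ blY e : Finset ↥(principalBlock M G)) :
        Set ↥(principalBlock M G)), (a' χ : ℂ) * (χ : G → ℂ) g =
        ∑ χ ∈ Finset.univ \ blY e, (a χ : ℂ) * (χ.1 : G → ℂ) g := by
      rw [finsum_mem_image hinj.injOn, finsum_mem_coe_finset]
      apply Finset.sum_congr rfl
      intro χ _
      rw [ha' χ]
    rw [hdiv, h5]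
    exact h2

end assembly

end Cfsg.Agent.CharLib
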