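import Mathlib
import Cfsg.Prelude.Def_Solvable

/-!
lead: interface between the group-theoretic and the character-theoretic halves of the
Brauer–Suzuki theorem for Sylow `2`-subgroups isomorphic to `Q₈`.

`QuatFacts X t u` collects the facts about a finite group `X` whose Sylow `2`-subgroups are
quaternion of order `8` and which has no normal `2`-complement; `t` is an involution and `u` an
element of order `4` with `u² = t`.
-/

set_option autoImplicit false

namespace Cfsg.Agent.CharLib

open Cfsg

universe u

/-- The group-theoretic input of Brauer's proof of the Brauer–Suzuki theorem for `Q₈`. -/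
structure QuatFacts (X : Type u) [Group X] (t u : X) : Prop where
  /-- `t` is an involution -/
  orderOf_t : orderOf t = 2
  /-- `u` is a square root of `t` -/
  sq_u : u * u = t
  /-- the Sylow `2`-subgroups have order `8` -/
  card_two : (Nat.card X).factorization 2 = 3
  /-- every `2`-element is `1`, conjugate to `t` or conjugate to `u` -/
  two_elt : ∀ x : X, (∃ k : ℕ, orderOf x = 2 ^ k) → x = 1 ∨ IsConj x t ∨ IsConj x u
  /-- the centralizer of `u` has a normal `2`-complement -/
  pcompl_u : ∃ k : ℕ, (pPrimeCore 2 (Subgroup.centralizer ({u} : Set X))).index = 2 ^ k
  /-- the Sylow `2`-subgroups of the centralizer of `u` have order `4` -/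
  card_cent_u : (Nat.card (Subgroup.centralizer ({u} : Set X))).factorization 2 = 2
  /-- a product of two conjugates of `t` has odd order -/
  prod_odd : ∀ a b : X, Odd (orderOf (a * t * a⁻¹ * (b * t * b⁻¹)))

end Cfsg.Agent.CharLib
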