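import Mathlib
import Cfsg.Agent.Lib.Lead.SecondMain8

/-!
lead: Brauer's orthogonality relation on a `p`-section for a general block `B` and a block `e` of
`C_G(u)` inducing `B`:
`∑_{χ ∈ B} χ_u(y) conj χ_u(s) = ∑_{ψ ∈ e} ψ(y) conj ψ(s)` for `p`-regular `y, s`, where `χ_u` is the
`e`-part of `c ↦ χ(u c)`.
-/

set_option autoImplicit false

namespace Cfsg.Agent.CharLib

open Cfsg Cfsg.Agent.Lib.Helper24 Cfsg.Agent.Lib.Helper6
open scoped ComplexConjugate

universe u

section basics

variable {X : Type u} [Group X] [Fintype X] {M : Ideal AlgInt}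

/-- The block part of a member of the block is itself. -/
theorem blockPart_of_mem (b : Set (IrrCharacter X)) (ψ : IrrCharacter X) (hψ : ψ ∈ b) (y : X) :
    blockPart b (ψ : X → ℂ) y = (ψ : X → ℂ) y := by
  classical
  let _ : Fintype (IrrCharacter X) := Fintype.ofFinite _
  rw [blockPart_apply, finsum_mem_eq_sum_ite, Finset.sum_eq_single ψ]
  · rw [if_pos hψ, classInner_irr', if_pos rfl, one_mul]
  · intro φ _ hφ
    split_ifs
    · rw [classInner_irr', if_neg (Ne.symm hφ), zero_mul]
    · rfl
  · intro h
    exact absurd (Finset.mem_univ _) h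

end basics

section main

variable {G : Type u} [Group G] [Finite G] {M : Ideal AlgInt}

/-- First form: only one factor carries the `e`-part. -/
theorem sum_block_section_aux {p : ℕ} [hpp : Fact p.Prime] (hM : IsPModular p M)
    (z : G) (hz : ∃ k : ℕ, orderOf z = p ^ k) (C : Subgroup G)
    (hC : C = Subgroup.centralizer ({z} : Set G)) (B : Set (IrrCharacter G)) (hB : IsPBlock M B)
    (ψ₀ : IrrCharacter C) (hind : IsInducedBlock M C (blockOf M (ψ₀ : C → ℂ)) B)
    (w : C) (hw : ¬ p ∣ orderOf w) (y : C) (hy : ¬ p ∣ orderOf y) :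
    ∑ᶠ χ ∈ B, blockPart (blockOf M (ψ₀ : C → ℂ)) (fun c : C => (χ : G → ℂ) (z * (c : G))) w *
        conj ((χ : G → ℂ) (z * (y : G))) =
      ∑ᶠ ψ ∈ blockOf M (ψ₀ : C → ℂ), (ψ : C → ℂ) w * conj ((ψ : C → ℂ) y) := by
  classical
  have hprime : M.IsPrime := isPrime_of_isPModular hM
  let _ : Fintype G := Fintype.ofFinite G
  let _ : Fintype C := Fintype.ofFinite C
  let _ : Fintype (IrrCharacter C) := Fintype.ofFinite _
  let _ : Fintype (IrrCharacter G) := Fintype.ofFinite _
  have hzC : z ∈ C := by
    rw [hC, Subgroup.mem_centralizer_iff]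
    intro w hw
    rw [Set.mem_singleton_iff] at hw
    rw [hw]
  have hcomm'' : ∀ c : G, c ∈ C → c * z = z * c := by
    intro c hc
    rw [hC, Subgroup.mem_centralizer_iff] at hc
    exact (hc z rfl).symm
  have hmemC : ∀ c : G, c * z = z * c → c ∈ C := by
    intro c hc
    rw [hC, Subgroup.mem_centralizer_iff]
    intro w hw
    rw [Set.mem_singleton_iff] at hw
    rw [hw]
    exact hc.symm
  have hcomm' : ∀ c : C, (c : G) * z = z * (c : G) := fun c => hcomm'' c c.2
  set h : G := z * (y : G) with hh
  set e := blockOf M (ψ₀ : C → ℂ) with he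
  have hPPh : ∀ c : C, ¬ p ∣ orderOf c → IsPPart p (z * (c : G)) z := by
    intro c hc
    refine ⟨(c : G), rfl, (hcomm' c).symm, hz, ?_⟩
    rw [Subgroup.orderOf_coe]
    exact hc
  -- (1) the `B`-part of the class indicator of `h`, twisted, as a combination of twists
  set k : ℂ := (Nat.card G : ℂ)⁻¹ * ((Subgroup.centralizer ({h} : Set G)).index : ℂ) with hk
  have e1 : (fun c : C => blockPart B (classInd h) (z * (c : G))) =
      ∑ χ ∈ Finset.univ.filter (fun χ : IrrCharacter G => χ ∈ B),
        (k * conj ((χ : G → ℂ) h)) • (fun c : C => (χ : G → ℂ) (z * (c : G))) := by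
    funext c
    rw [blockPart_classInd, finsum_mem_eq_sum_ite, ← Finset.sum_filter, Finset.sum_apply,
      Finset.mul_sum]
    apply Finset.sum_congr rfl
    intro χ _
    rw [Pi.smul_apply, smul_eq_mul]
    ring
  -- (2) second main theorem
  have e3 := (blockPart_twist_blockPart hM (classInd h) (classInd_isClassFunction h) z hz C hC B
    hB ψ₀ w hw).1 hind
  rw [e1, blockPart_sum_smul] at e3
  -- (3) compare the twist of the class indicator with the class indicator of `y` in `C`
  have e4 : blockPart e (fun c : C => classInd h (z * (c : G))) w =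
      blockPart e (classInd (y : C)) w := by
    apply blockPart_congr_regular hM ψ₀ _ w hw
    intro c hc
    by_cases hconj : IsConj y c
    · rw [classInd_of_isConj hconj]
      apply classInd_of_isConj
      obtain ⟨t, ht⟩ := isConj_iff.mp hconj
      apply isConj_iff.mpr
      refine ⟨(t : G), ?_⟩
      have h5 : (c : G) = (t : G) * (y : G) * (t : G)⁻¹ := by rw [← ht]; rfl
      rw [h5, hh]
      have := hcomm' t
      calc (t : G) * (z * (y : G)) * (t : G)⁻¹ = ((t : G) * z) * (y : G) * (t : G)⁻¹ := by group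
        _ = (z * (t : G)) * (y : G) * (t : G)⁻¹ := by rw [this]
        _ = z * ((t : G) * (y : G) * (t : G)⁻¹) := by group
    · rw [classInd_of_not_isConj hconj]
      apply classInd_of_not_isConj
      intro hconj'
      apply hconj
      obtain ⟨t, ht⟩ := isConj_iff.mp hconj'
      have hp1 := isPPart_conj (hPPh y hy) t
      rw [← hh, ht] at hp1
      have hp2 := hPPh c hc
      have htz : t * z * t⁻¹ = z := isPPart_unique hp1 hp2
      have htC : t ∈ C := by
        apply hmemC
        calc t * z = (t * z * t⁻¹) * t := by group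
          _ = z * t := by rw [htz]
      apply isConj_iff.mpr
      refine ⟨⟨t, htC⟩, ?_⟩
      apply Subtype.ext
      change t * (y : G) * t⁻¹ = (c : G)
      have h6 : t * (z * (y : G)) * t⁻¹ = z * (c : G) := ht
      have h7 : t * (z * (y : G)) * t⁻¹ = (t * z * t⁻¹) * (t * (y : G) * t⁻¹) := by group
      rw [h7, htz] at h6
      exact mul_left_cancel h6
  -- (4)
  have e5 := blockPart_classInd e (y : C) w
  -- (5) the centralizers have the same order
  have hcentmap : (Subgroup.centralizer ({(y : C)} : Set C)).map C.subtype =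
      Subgroup.centralizer ({h} : Set G) := by
    ext g
    constructor
    · rintro ⟨c, hc, rfl⟩
      have hc' : c ∈ Subgroup.centralizer ({(y : C)} : Set C) := hc
      rw [Subgroup.mem_centralizer_singleton_iff] at hc' ⊢
      have h8 : (c : G) * (y : G) = (y : G) * (c : G) := by
        have := congrArg Subtype.val hc'
        exact this
      change (c : G) * h = h * (c : G)
      rw [hh]
      calc (c : G) * (z * (y : G)) = ((c : G) * z) * (y : G) := by group
        _ = (z * (c : G)) * (y : G) := by rw [hcomm' c]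
        _ = z * ((c : G) * (y : G)) := by group
        _ = z * ((y : G) * (c : G)) := by rw [h8]
        _ = z * (y : G) * (c : G) := by group
    · intro hg
      rw [Subgroup.mem_centralizer_singleton_iff] at hg
      obtain ⟨-, -, -, c', -, -, hc', -, -⟩ :=
        Cfsg.Agent.Lib.Helper6.IsPPart.exists_pow (hPPh y hy)
      have hyh : (y : G) = h ^ c' := by
        rw [← hh] at hc'
        rw [hc', hh]
        group
      have hgy : g * (y : G) = (y : G) * g := by
        rw [hyh]
        exact (Commute.pow_right hg c').eq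
      have hgz : g * z = z * g := by
        have hzh : z = h * (y : G)⁻¹ := by rw [hh]; group
        rw [hzh]
        have h9 : Commute g (y : G)⁻¹ := (Commute.inv_right hgy)
        exact (Commute.mul_right hg h9).eq
      refine ⟨⟨g, hmemC g hgz⟩, ?_, rfl⟩
      show (⟨g, hmemC g hgz⟩ : C) ∈ Subgroup.centralizer ({(y : C)} : Set C)
      rw [Subgroup.mem_centralizer_singleton_iff]
      apply Subtype.ext
      exact hgy
  have hcard : Nat.card (Subgroup.centralizer ({(y : C)} : Set C)) =
      Nat.card (Subgroup.centralizer ({h} : Set G)) := by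
    rw [← hcentmap]
    exact (Subgroup.card_map_of_injective C.subtype_injective).symm
  have hfac : k = (Nat.card C : ℂ)⁻¹ * ((Subgroup.centralizer ({(y : C)} : Set C)).index : ℂ) := by
    have h1 := Subgroup.index_mul_card (Subgroup.centralizer ({h} : Set G))
    have h2 := Subgroup.index_mul_card (Subgroup.centralizer ({(y : C)} : Set C))
    have hi1 := index_centralizer_ne_zero h
    have hi2 := index_centralizer_ne_zero (y : C)
    have hc0 : (Nat.card (Subgroup.centralizer ({h} : Set G)) : ℂ) ≠ 0 :=
      Nat.cast_ne_zero.mpr Nat.card_pos.ne'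
    rw [hk, ← h1, ← h2, hcard]
    push_cast
    field_simp
  have hk0 : k ≠ 0 := by
    rw [hk]
    apply mul_ne_zero
    · exact inv_ne_zero (Nat.cast_ne_zero.mpr Nat.card_pos.ne')
    · exact index_centralizer_ne_zero h
  -- assemble
  rw [e4, e5, ← hfac] at e3
  have e6 : k * ∑ χ ∈ Finset.univ.filter (fun χ : IrrCharacter G => χ ∈ B),
      blockPart e (fun c : C => (χ : G → ℂ) (z * (c : G))) w * conj ((χ : G → ℂ) h) =
      k * ∑ᶠ ψ ∈ e, (ψ : C → ℂ) w * conj ((ψ : C → ℂ) y) := by
    rw [← e3, Finset.mul_sum]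
    apply Finset.sum_congr rfl
    intro χ _
    ring
  have e7 := mul_left_cancel₀ hk0 e6
  rw [← e7, finsum_mem_eq_sum_ite, ← Finset.sum_filter]

/-- **Brauer's orthogonality on a section**: both factors carry the `e`-part. -/
theorem sum_block_section {p : ℕ} [hpp : Fact p.Prime] (hM : IsPModular p M)
    (z : G) (hz : ∃ k : ℕ, orderOf z = p ^ k) (C : Subgroup G)
    (hC : C = Subgroup.centralizer ({z} : Set G)) (B : Set (IrrCharacter G)) (hB : IsPBlock M B)
    (ψ₀ : IrrCharacter C) (hind : IsInducedBlock M C (blockOf M (ψ₀ : C → ℂ)) B)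
    (w : C) (hw : ¬ p ∣ orderOf w) (y : C) (hy : ¬ p ∣ orderOf y) :
    ∑ᶠ χ ∈ B, blockPart (blockOf M (ψ₀ : C → ℂ)) (fun c : C => (χ : G → ℂ) (z * (c : G))) w *
        conj (blockPart (blockOf M (ψ₀ : C → ℂ)) (fun c : C => (χ : G → ℂ) (z * (c : G))) y) =
      ∑ᶠ ψ ∈ blockOf M (ψ₀ : C → ℂ), (ψ : C → ℂ) w * conj ((ψ : C → ℂ) y) := by
  classical
  have hprime : M.IsPrime := isPrime_of_isPModular hM
  let _ : Fintype G := Fintype.ofFinite G
  let _ : Fintype C := Fintype.ofFinite C
  let _ : Fintype (IrrCharacter C) := Fintype.ofFinite _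
  let _ : Fintype (IrrCharacter G) := Fintype.ofFinite _
  set e := blockOf M (ψ₀ : C → ℂ) with he
  set Bf := Finset.univ.filter (fun χ : IrrCharacter G => χ ∈ B) with hBf
  set ef := Finset.univ.filter (fun ψ : IrrCharacter C => ψ ∈ e) with hef
  -- the two class functions of the second variable
  set F₁ : C → ℂ := ∑ χ ∈ Bf,
    conj (blockPart e (fun c : C => (χ : G → ℂ) (z * (c : G))) w) •
      (fun c : C => (χ : G → ℂ) (z * (c : G))) with hF₁
  set F₂ : C → ℂ := ∑ ψ ∈ ef, conj ((ψ : C → ℂ) w) • (ψ : C → ℂ) with hF₂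
  have hagree : ∀ c : C, ¬ p ∣ orderOf c → F₁ c = F₂ c := by
    intro c hc
    have h1 := sum_block_section_aux hM z hz C hC B hB ψ₀ hind w hw c hc
    rw [finsum_mem_eq_sum_ite, ← Finset.sum_filter, finsum_mem_eq_sum_ite,
      ← Finset.sum_filter] at h1
    have h2 := congrArg conj h1
    rw [map_sum, map_sum] at h2
    rw [hF₁, hF₂, Finset.sum_apply, Finset.sum_apply]
    convert h2 using 1
    · apply Finset.sum_congr rfl
      intro χ _
      rw [Pi.smul_apply, smul_eq_mul, map_mul, Complex.conj_conj]
    · apply Finset.sum_congr rfl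
      intro ψ _
      rw [Pi.smul_apply, smul_eq_mul, map_mul, Complex.conj_conj]
  have h3 := blockPart_congr_regular hM ψ₀ hagree y hy
  rw [hF₁, hF₂, blockPart_sum_smul, blockPart_sum_smul] at h3
  have h4 := congrArg conj h3
  rw [map_sum, map_sum] at h4
  rw [finsum_mem_eq_sum_ite, ← Finset.sum_filter, finsum_mem_eq_sum_ite, ← Finset.sum_filter]
  convert h4 using 1
  · apply Finset.sum_congr rfl
    intro χ _
    rw [map_mul, Complex.conj_conj]
  · apply Finset.sum_congr rfl
    intro ψ hψ
    rw [map_mul, Complex.conj_conj, blockPart_of_mem e ψ (Finset.mem_filter.mp hψ).2]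

end main

end Cfsg.Agent.CharLib
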