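import Mathlib
import Cfsg.Agent.Lib.Lead.SecondMain9
import Cfsg.Agent.Lib.Helper24.ClassMul

/-!
lead: Brauer–Suzuki–Wall type vanishing sums over the principal 2-block: if no conjugate of the
involution `t` inverts the 2-element `v`, then
`∑_{χ ∈ B₀} χ(t)²/χ(1) χ(v) = 0`, `∑ χ(1) χ(v) = 0`, `∑ χ(t) χ(v) = 0`.
-/

set_option autoImplicit false

namespace Cfsg.Agent.CharLib

open Cfsg Cfsg.Agent.Lib.Helper24 Cfsg.Agent.Lib.Helper6
open scoped ComplexConjugate

universe u

section classmul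

variable {G : Type u} [Group G] [Finite G]

/-- If no product of a conjugate of `x` and a conjugate of `y` is conjugate to `g⁻¹`, then the
character sum `∑ χ(x) χ(y) χ(g) / χ(1)` vanishes. -/
theorem sum_irr_classMul_eq_zero [Fintype (IrrCharacter G)] (x y g : G)
    (h : ∀ a b : G, ¬ IsConj (a * x * a⁻¹ * (b * y * b⁻¹)) g⁻¹) :
    ∑ χ : IrrCharacter G, ((χ : G → ℂ) x * (χ : G → ℂ) y / (χ : G → ℂ) 1) * (χ : G → ℂ) g = 0 := by
  classical
  let _ : Fintype G := Fintype.ofFinite G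
  have hG0 : (Fintype.card G : ℂ) ≠ 0 := Nat.cast_ne_zero.mpr Fintype.card_pos.ne'
  have h1 : ∀ χ : IrrCharacter G, (χ : G → ℂ) x * (χ : G → ℂ) y / (χ : G → ℂ) 1 =
      ((Fintype.card G : ℂ) ^ 2)⁻¹ *
        ∑ a : G, ∑ b : G, (χ : G → ℂ) (a * x * a⁻¹ * (b * y * b⁻¹)) := by
    intro χ
    obtain ⟨n, ρ, hρ, hχρ⟩ := χ.2
    have h2 := sum_sum_char_conj_mul ρ x y
    have h3 : ρ.character 1 = (Module.finrank ℂ (Fin n → ℂ) : ℂ) := by
      rw [Representation.char_one]
    rw [← hχρ, h2, h3]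
    field_simp
  have h4 : ∀ a b : G, ∑ χ : IrrCharacter G,
      (χ : G → ℂ) (a * x * a⁻¹ * (b * y * b⁻¹)) * (χ : G → ℂ) g = 0 := by
    intro a b
    have h5 := sum_irr_mul_conj (G := G) (a * x * a⁻¹ * (b * y * b⁻¹)) g⁻¹
    have h6 : classIndicator g⁻¹ (a * x * a⁻¹ * (b * y * b⁻¹)) = 0 := by
      unfold classIndicator
      rw [if_neg (h a b)]
    rw [h6, zero_mul] at h5
    rw [← h5]
    apply Finset.sum_congr rfl
    intro χ _
    rw [← IsCharacter.apply_inv (IsIrrCharacter.isCharacter χ.2), inv_inv]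
  calc ∑ χ : IrrCharacter G,
        ((χ : G → ℂ) x * (χ : G → ℂ) y / (χ : G → ℂ) 1) * (χ : G → ℂ) g
      = ∑ χ : IrrCharacter G, ((Fintype.card G : ℂ) ^ 2)⁻¹ *
          ∑ a : G, ∑ b : G, (χ : G → ℂ) (a * x * a⁻¹ * (b * y * b⁻¹)) * (χ : G → ℂ) g := by
        apply Finset.sum_congr rfl
        intro χ _
        rw [h1 χ, mul_assoc, Finset.sum_mul]
        congr 1
        apply Finset.sum_congr rfl
        intro a _
        rw [Finset.sum_mul]
    _ = ((Fintype.card G : ℂ) ^ 2)⁻¹ * ∑ a : G, ∑ b : G, ∑ χ : IrrCharacter G,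
          (χ : G → ℂ) (a * x * a⁻¹ * (b * y * b⁻¹)) * (χ : G → ℂ) g := by
        rw [← Finset.mul_sum]
        congr 1
        rw [Finset.sum_comm]
        apply Finset.sum_congr rfl
        intro a _
        rw [Finset.sum_comm]
    _ = 0 := by
        simp only [h4, Finset.sum_const_zero, mul_zero]

end classmul

section good

variable {G : Type u} [Group G] [Finite G] {M : Ideal AlgInt}

/-- `v` is a 2-element inverted by no conjugate of `t`. -/
def NotInverted (t v : G) : Prop :=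
  (∃ k : ℕ, orderOf v = 2 ^ k) ∧ ∀ g : G, (g * t * g⁻¹) * v * (g * t * g⁻¹)⁻¹ ≠ v⁻¹

theorem NotInverted.inv {t v : G} (h : NotInverted t v) : NotInverted t v⁻¹ := by
  refine ⟨by rw [orderOf_inv]; exact h.1, ?_⟩
  intro g hg
  apply h.2 g
  calc g * t * g⁻¹ * v * (g * t * g⁻¹)⁻¹ = (g * t * g⁻¹ * v⁻¹ * (g * t * g⁻¹)⁻¹)⁻¹ := by group
    _ = v⁻¹ := by rw [hg, inv_inv]

theorem NotInverted.ne_one {t v : G} (h : NotInverted t v) : v ≠ 1 := by
  intro hv
  apply h.2 1
  rw [hv]
  group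

/-- The block part of a combination of all irreducible characters. -/
theorem blockPart_sum_irr [Fintype (IrrCharacter G)] (B : Set (IrrCharacter G))
    (c : IrrCharacter G → ℂ) (v : G) :
    blockPart B (∑ χ : IrrCharacter G, c χ • (χ : G → ℂ)) v =
      ∑ᶠ χ ∈ B, c χ * (χ : G → ℂ) v := by
  classical
  let _ : Fintype G := Fintype.ofFinite G
  rw [blockPart_sum_smul, finsum_mem_eq_sum_ite]
  apply Finset.sum_congr rfl
  intro χ _
  by_cases hχ : χ ∈ B
  · rw [if_pos hχ, blockPart_of_mem B χ hχ]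
  · rw [if_neg hχ]
    have : blockPart B (χ : G → ℂ) v = 0 := by
      rw [blockPart_apply]
      apply finsum_mem_eq_zero_of_forall_eq_zero
      intro ψ hψ
      have hne : χ ≠ ψ := fun h => hχ (h ▸ hψ)
      rw [classInner_irr', if_neg hne, zero_mul]
    rw [this, mul_zero]

/-- First vanishing sum. -/
theorem sum_principal_sq_div_eq_zero (hM : IsPModular 2 M) (t : G) (ht : orderOf t = 2) (v : G)
    (hv : NotInverted t v) :
    ∑ᶠ χ ∈ principalBlock M G,
      ((χ : G → ℂ) t * (χ : G → ℂ) t / (χ : G → ℂ) 1) * (χ : G → ℂ) v = 0 := by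
  classical
  haveI : Fact (Nat.Prime 2) := ⟨Nat.prime_two⟩
  let _ : Fintype G := Fintype.ofFinite G
  let _ : Fintype (IrrCharacter G) := Fintype.ofFinite _
  have ht2 : t * t = 1 := by
    have := pow_orderOf_eq_one t
    rw [ht, pow_two] at this
    exact this
  set Ψ : G → ℂ := ∑ χ : IrrCharacter G,
    ((χ : G → ℂ) t * (χ : G → ℂ) t / (χ : G → ℂ) 1) • (χ : G → ℂ) with hΨ
  have hΨcl : IsClassFunction G Ψ := by
    intro g k
    rw [hΨ, Finset.sum_apply, Finset.sum_apply]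
    apply Finset.sum_congr rfl
    intro χ _
    rw [Pi.smul_apply, Pi.smul_apply,
      IsCharacter.isClassFunction (IsIrrCharacter.isCharacter χ.2) g k]
  have hvan : ∀ u z : G, IsPPart 2 u z → IsConj v z → Ψ u = 0 := by
    intro u z hu hvz
    rw [hΨ, Finset.sum_apply]
    have := sum_irr_classMul_eq_zero (G := G) t t u ?_
    · rw [← this]
      apply Finset.sum_congr rfl
      intro χ _
      rw [Pi.smul_apply, smul_eq_mul]
    · intro a b hconj
      obtain ⟨k, hk⟩ := isConj_iff.mp hconj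
      -- `s = k (a t a⁻¹) k⁻¹` inverts `u`
      set s := k * (a * t * a⁻¹) * k⁻¹ with hs
      have hs2 : s * s = 1 := by
        rw [hs]
        calc k * (a * t * a⁻¹) * k⁻¹ * (k * (a * t * a⁻¹) * k⁻¹)
            = k * a * (t * t) * a⁻¹ * k⁻¹ := by group
          _ = 1 := by rw [ht2]; group
      have hsinv : s⁻¹ = s := inv_eq_of_mul_eq_one_right hs2
      have hb2 : (b * t * b⁻¹) * (b * t * b⁻¹) = 1 := by
        calc b * t * b⁻¹ * (b * t * b⁻¹) = b * (t * t) * b⁻¹ := by group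
          _ = 1 := by rw [ht2]; group
      have ha2 : (a * t * a⁻¹) * (a * t * a⁻¹) = 1 := by
        calc a * t * a⁻¹ * (a * t * a⁻¹) = a * (t * t) * a⁻¹ := by group
          _ = 1 := by rw [ht2]; group
      have hu1 : u = k * ((b * t * b⁻¹) * (a * t * a⁻¹)) * k⁻¹ := by
        have h1 : u⁻¹ = k * (a * t * a⁻¹ * (b * t * b⁻¹)) * k⁻¹ := hk.symm
        have h2 : u = (k * (a * t * a⁻¹ * (b * t * b⁻¹)) * k⁻¹)⁻¹ := by rw [← h1, inv_inv]
        rw [h2]
        have hainv : (a * t * a⁻¹)⁻¹ = a * t * a⁻¹ := inv_eq_of_mul_eq_one_right ha2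
        have hbinv : (b * t * b⁻¹)⁻¹ = b * t * b⁻¹ := inv_eq_of_mul_eq_one_right hb2
        rw [mul_inv_rev, mul_inv_rev, mul_inv_rev (a * t * a⁻¹), hainv, hbinv, inv_inv]
        group
      have hsu : s * u * s⁻¹ = u⁻¹ := by
        rw [hsinv]
        calc s * u * s = k * ((a * t * a⁻¹) * ((b * t * b⁻¹) * (a * t * a⁻¹)) * (a * t * a⁻¹)) *
              k⁻¹ := by
              rw [hs, hu1]
              group
          _ = k * ((a * t * a⁻¹) * (b * t * b⁻¹) * ((a * t * a⁻¹) * (a * t * a⁻¹))) * k⁻¹ := by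
              group
          _ = k * ((a * t * a⁻¹) * (b * t * b⁻¹)) * k⁻¹ := by rw [ha2, mul_one]
          _ = u⁻¹ := hk
      -- `z` is a power of `u`
      obtain ⟨c, -, x, -, hux, i, hxi⟩ := exists_ppart_data 2 u
      have hzx : z = x := isPPart_unique hu hux
      have hsz : s * z * s⁻¹ = z⁻¹ := by
        rw [hzx, hxi, ← pow_mul]
        have hconjpow : ∀ j : ℕ, s * u ^ j * s⁻¹ = (s * u * s⁻¹) ^ j := by
          intro j
          induction j with
          | zero => simp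
          | succ j ih => rw [pow_succ, pow_succ, ← ih]; group
        rw [hconjpow, hsu, inv_pow]
      obtain ⟨m, hm⟩ := isConj_iff.mp hvz
      apply hv.2 (m⁻¹ * k * a)
      have hz' : z = m * v * m⁻¹ := hm.symm
      rw [hz'] at hsz
      have e1 : m⁻¹ * k * a * t * (m⁻¹ * k * a)⁻¹ = m⁻¹ * s * m := by rw [hs]; group
      rw [e1]
      calc m⁻¹ * s * m * v * (m⁻¹ * s * m)⁻¹ = m⁻¹ * (s * (m * v * m⁻¹) * s⁻¹) * m := by group
        _ = m⁻¹ * (m * v * m⁻¹)⁻¹ * m := by rw [hsz]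
        _ = v⁻¹ := by group
  have hvv : IsPPart 2 v v := by
    refine ⟨1, mul_one v, Commute.one_right v, hv.1, ?_⟩
    rw [orderOf_one]; decide
  have h1 := blockPart_eq_zero_on_section hM Ψ hΨcl v hv.1 hvan (principalBlock M G)
    (isPBlock_principalBlock M G) v v hvv (IsConj.refl v)
  rw [hΨ, blockPart_sum_irr] at h1
  exact h1

/-- Second vanishing sum. -/
theorem sum_principal_deg_eq_zero (hM : IsPModular 2 M) (t : G) (v : G)
    (hv : NotInverted t v) :
    ∑ᶠ χ ∈ principalBlock M G, (χ : G → ℂ) 1 * (χ : G → ℂ) v = 0 := by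
  haveI : Fact (Nat.Prime 2) := ⟨Nat.prime_two⟩
  have hg : IsPPart 2 (1 : G) 1 := by
    refine ⟨1, mul_one 1, Commute.one_right 1, ⟨0, by rw [orderOf_one, pow_zero]⟩, ?_⟩
    rw [orderOf_one]; decide
  have hh : IsPPart 2 v⁻¹ v⁻¹ := by
    refine ⟨1, mul_one _, Commute.one_right _, by rw [orderOf_inv]; exact hv.1, ?_⟩
    rw [orderOf_one]; decide
  have hxy : ¬ IsConj (1 : G) v⁻¹ := by
    rw [isConj_one_right]
    intro h
    exact hv.ne_one (inv_eq_one.mp h)
  have := block_orthogonality hM 1 v⁻¹ 1 v⁻¹ hg hh hxy (principalBlock M G)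
    (isPBlock_principalBlock M G)
  rw [inv_inv] at this
  exact this

/-- Third vanishing sum. -/
theorem sum_principal_invol_eq_zero (hM : IsPModular 2 M) (t : G) (ht : orderOf t = 2) (v : G)
    (hv : NotInverted t v) :
    ∑ᶠ χ ∈ principalBlock M G, (χ : G → ℂ) t * (χ : G → ℂ) v = 0 := by
  haveI : Fact (Nat.Prime 2) := ⟨Nat.prime_two⟩
  have ht2 : t * t = 1 := by
    have := pow_orderOf_eq_one t
    rw [ht, pow_two] at this
    exact this
  have hg : IsPPart 2 t t := by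
    refine ⟨1, mul_one t, Commute.one_right t, ⟨1, by rw [ht, pow_one]⟩, ?_⟩
    rw [orderOf_one]; decide
  have hh : IsPPart 2 v⁻¹ v⁻¹ := by
    refine ⟨1, mul_one _, Commute.one_right _, by rw [orderOf_inv]; exact hv.1, ?_⟩
    rw [orderOf_one]; decide
  have hxy : ¬ IsConj t v⁻¹ := by
    intro hconj
    obtain ⟨k, hk⟩ := isConj_iff.mp hconj
    -- `v⁻¹ = k t k⁻¹` is an involution, so it inverts `v`
    have hvinv2 : v⁻¹ * v⁻¹ = 1 := by
      rw [← hk]
      calc k * t * k⁻¹ * (k * t * k⁻¹) = k * (t * t) * k⁻¹ := by group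
        _ = 1 := by rw [ht2]; group
    apply hv.2 k
    rw [hk]
    have : v⁻¹ = v := by
      have h1 : v * v = 1 := by
        have := congrArg (fun w => w⁻¹) hvinv2
        simpa using this
      exact inv_eq_of_mul_eq_one_right h1
    rw [this]
    group
  have := block_orthogonality hM t v⁻¹ t v⁻¹ hg hh hxy (principalBlock M G)
    (isPBlock_principalBlock M G)
  rw [inv_inv] at this
  exact this

end good

end Cfsg.Agent.CharLib
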