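import Mathlib
import Cfsg.Agent.Lib.Lead.KleinBlock2
import Cfsg.Agent.Lib.Lead.BlockBasic

/-!
lead: the principal 2-block of a group with Klein four Sylow 2-subgroups and one class of
involutions (Brauer).
-/

set_option autoImplicit false

namespace Cfsg.Agent.CharLib

open Cfsg Cfsg.Agent.Lib.Helper24 Cfsg.Agent.Lib.Helper6
open scoped ComplexConjugate

universe u

section klein

variable {G : Type u} [Group G] [Finite G]

/-- Structure of the principal block: there are exactly three non-principal characters `a b c`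
in the principal block, with values `1, ε, -1` at the involution `z`. -/
theorem klein_principal_block_aux {M : Ideal AlgInt} (hM : IsPModular 2 M) (P : Sylow 2 G)
    (hP : IsKleinFour (P : Subgroup G))
    (hone : ∀ s t : G, orderOf s = 2 → orderOf t = 2 → IsConj s t) (z : G) (hzP : z ∈ P)
    (hz1 : z ≠ 1) :
    ∃ a b c : IrrCharacter G, ∃ ε : ℤ, (ε = 1 ∨ ε = -1) ∧
      a ≠ trivIrr G ∧ b ≠ trivIrr G ∧ c ≠ trivIrr G ∧ a ≠ b ∧ a ≠ c ∧ b ≠ c ∧
      (∀ χ : IrrCharacter G, χ ∈ principalBlock M G ↔ (χ = trivIrr G ∨ χ = a ∨ χ = b ∨ χ = c)) ∧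
      (a : G → ℂ) z = 1 ∧ (b : G → ℂ) z = (ε : ℂ) ∧ (c : G → ℂ) z = -1 ∧
      (4 : ℤ) ∣ (charDegree (a : G → ℂ) : ℤ) - 1 ∧ (4 : ℤ) ∣ (charDegree (b : G → ℂ) : ℤ) - ε ∧
      (4 : ℤ) ∣ (charDegree (c : G → ℂ) : ℤ) + 1 ∧
      ∀ y : G, Odd (orderOf y) →
        1 + (a : G → ℂ) y + (ε : ℂ) * (b : G → ℂ) y - (c : G → ℂ) y = 0 := by
  classical
  let _ : Fintype G := Fintype.ofFinite G
  let _ : Fintype (IrrCharacter G) := Fintype.ofFinite _
  have hz2 : orderOf z = 2 := Cfsg.Agent.Lib.Helper2.klein_orderOf P hP hzP hz1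
  have hv := klein_values P hP hone z hzP hz1
  choose n d hdpos hnz hd1 h4 using hv
  set B0 := principalBlock M G with hB0
  set S : Finset (IrrCharacter G) := Finset.univ.filter (fun ζ => ζ ∈ B0) with hS
  have hmemS : ∀ ζ, ζ ∈ S ↔ ζ ∈ B0 := by
    intro ζ
    rw [hS, Finset.mem_filter]
    simp
  have hoddidx := odd_index_centralizer_of_klein P hP z hzP
  have hne : ∀ ζ ∈ S, n ζ ≠ 0 := by
    intro ζ hζ h0
    have := apply_ne_zero_of_mem_principalBlock hM ζ ((hmemS ζ).mp hζ) z hoddidx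
    rw [hnz ζ, h0] at this
    exact this (by simp)
  -- sum of squares
  have hsq : ∑ ζ ∈ S, (n ζ) ^ 2 = 4 := by
    have h1 := klein_sum_sq hM P hP z hzP hz1
    rw [finsum_mem_eq_sum_ite, ← Finset.sum_filter] at h1
    have h2 : ((∑ ζ ∈ S, (n ζ) ^ 2 : ℤ) : ℂ) = ((4 : ℤ) : ℂ) := by
      push_cast
      rw [← h1]
      apply Finset.sum_congr rfl
      intro ζ _
      rw [hnz ζ, show conj ((n ζ : ℤ) : ℂ) = (n ζ : ℂ) from Complex.conj_eq_iff_re.mpr rfl]
      ring
    exact_mod_cast h2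
  -- orthogonality with the identity
  have horth : ∀ y : G, Odd (orderOf y) → ∑ ζ ∈ S, (n ζ : ℂ) * (ζ : G → ℂ) y = 0 := by
    intro y hy
    have h1 := klein_orthogonality hM z hz2 y hy
    rw [finsum_mem_eq_sum_ite, ← Finset.sum_filter] at h1
    rw [← h1]
    apply Finset.sum_congr rfl
    intro ζ _
    rw [hnz ζ]
  have horth1 : ∑ ζ ∈ S, n ζ * (d ζ : ℤ) = 0 := by
    have h1 := horth 1 (by rw [orderOf_one]; exact odd_one)
    have h2 : ((∑ ζ ∈ S, n ζ * (d ζ : ℤ) : ℤ) : ℂ) = ((0 : ℤ) : ℂ) := by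
      push_cast
      rw [← h1]
      apply Finset.sum_congr rfl
      intro ζ _
      rw [hd1 ζ]
    exact_mod_cast h2
  -- the trivial character
  have htrivS : trivIrr G ∈ S := by
    rw [hmemS]
    intro g
    have : centralChar (fun _ : G => (1 : ℂ)) g - centralChar ((trivIrr G : IrrCharacter G) : G → ℂ) g
        = 0 := sub_self _
    rw [this]
    exact memLocalIdeal_zero (isPrime_of_isPModular hM).one_notMem
  have htriv1 : ∀ g : G, ((trivIrr G : IrrCharacter G) : G → ℂ) g = 1 := fun g => rfl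
  have hntriv : n (trivIrr G) = 1 := by
    have h1 := hnz (trivIrr G)
    rw [htriv1] at h1
    exact_mod_cast h1.symm
  have hdtriv : d (trivIrr G) = 1 := by
    have h1 := hd1 (trivIrr G)
    rw [htriv1] at h1
    exact_mod_cast h1.symm
  set S' := S.erase (trivIrr G) with hS'
  have hsq' : ∑ ζ ∈ S', (n ζ) ^ 2 = 3 := by
    have := Finset.add_sum_erase S (fun ζ => (n ζ) ^ 2) htrivS
    rw [hsq, hntriv] at this
    linarith
  have horth1' : 1 + ∑ ζ ∈ S', n ζ * (d ζ : ℤ) = 0 := by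
    have := Finset.add_sum_erase S (fun ζ => n ζ * (d ζ : ℤ)) htrivS
    rw [horth1, hntriv, hdtriv] at this
    simpa using this
  have hS'S : ∀ ζ ∈ S', ζ ∈ S := fun ζ hζ => Finset.mem_of_mem_erase hζ
  have hpm : ∀ ζ ∈ S', n ζ = 1 ∨ n ζ = -1 := by
    intro ζ hζ
    have h1 : (n ζ) ^ 2 ≤ ∑ ζ ∈ S', (n ζ) ^ 2 :=
      Finset.single_le_sum (f := fun ζ => (n ζ) ^ 2) (fun i _ => sq_nonneg _) hζ
    rw [hsq'] at h1
    have h0 := hne ζ (hS'S ζ hζ)
    have h2 : n ζ ≤ 1 := by nlinarith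
    have h3 : -1 ≤ n ζ := by nlinarith
    omega
  have hcard : S'.card = 3 := by
    have h1 : ∑ ζ ∈ S', (n ζ) ^ 2 = ∑ ζ ∈ S', (1 : ℤ) := by
      apply Finset.sum_congr rfl
      intro ζ hζ
      rcases hpm ζ hζ with h | h <;> rw [h] <;> norm_num
    rw [hsq', Finset.sum_const, nsmul_eq_mul, mul_one] at h1
    exact_mod_cast h1.symm
  -- existence of both signs
  have hexa : ∃ a ∈ S', n a = 1 := by
    by_contra hcon
    push Not at hcon
    have h1 : ∑ ζ ∈ S', n ζ * (d ζ : ℤ) ≤ ∑ ζ ∈ S', (-1 : ℤ) := by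
      apply Finset.sum_le_sum
      intro ζ hζ
      have h2 : n ζ = -1 := by
        rcases hpm ζ hζ with h | h
        · exact absurd h (hcon ζ hζ)
        · exact h
      rw [h2]
      have : (1 : ℤ) ≤ (d ζ : ℤ) := by exact_mod_cast hdpos ζ
      linarith
    rw [Finset.sum_const, hcard] at h1
    norm_num at h1
    linarith
  have hexc : ∃ c ∈ S', n c = -1 := by
    by_contra hcon
    push Not at hcon
    have h1 : 0 ≤ ∑ ζ ∈ S', n ζ * (d ζ : ℤ) := by
      apply Finset.sum_nonneg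
      intro ζ hζ
      have h2 : n ζ = 1 := by
        rcases hpm ζ hζ with h | h
        · exact h
        · exact absurd h (hcon ζ hζ)
      rw [h2]
      positivity
    linarith
  obtain ⟨a, haS', hna⟩ := hexa
  obtain ⟨c, hcS', hnc⟩ := hexc
  have hac : a ≠ c := by
    intro h
    rw [h, hnc] at hna
    omega
  have hcT : c ∈ S'.erase a := Finset.mem_erase.mpr ⟨Ne.symm hac, hcS'⟩
  have hcardT : ((S'.erase a).erase c).card = 1 := by
    rw [Finset.card_erase_of_mem hcT, Finset.card_erase_of_mem haS', hcard]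
  obtain ⟨b, hb⟩ := Finset.card_eq_one.mp hcardT
  have hbT : b ∈ (S'.erase a).erase c := by rw [hb]; exact Finset.mem_singleton_self b
  have hbc : b ≠ c := (Finset.mem_erase.mp hbT).1
  have hba : b ≠ a := (Finset.mem_erase.mp (Finset.mem_erase.mp hbT).2).1
  have hbS' : b ∈ S' := (Finset.mem_erase.mp (Finset.mem_erase.mp hbT).2).2
  have hmemS' : ∀ ζ, ζ ∈ S' ↔ (ζ = a ∨ ζ = b ∨ ζ = c) := by
    intro ζ
    constructor
    · intro hζ
      by_cases h1 : ζ = a
      · exact Or.inl h1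
      by_cases h2 : ζ = c
      · exact Or.inr (Or.inr h2)
      have : ζ ∈ (S'.erase a).erase c :=
        Finset.mem_erase.mpr ⟨h2, Finset.mem_erase.mpr ⟨h1, hζ⟩⟩
      rw [hb, Finset.mem_singleton] at this
      exact Or.inr (Or.inl this)
    · rintro (h | h | h)
      · rw [h]; exact haS'
      · rw [h]; exact hbS'
      · rw [h]; exact hcS'
  have hmem : ∀ χ : IrrCharacter G, χ ∈ B0 ↔ (χ = trivIrr G ∨ χ = a ∨ χ = b ∨ χ = c) := by
    intro χ
    rw [← hmemS]
    constructor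
    · intro hχ
      by_cases h1 : χ = trivIrr G
      · exact Or.inl h1
      · exact Or.inr ((hmemS' χ).mp (Finset.mem_erase.mpr ⟨h1, hχ⟩))
    · rintro (h | h)
      · rw [h]; exact htrivS
      · exact hS'S χ ((hmemS' χ).mpr h)
  have hsum4 : ∀ f : IrrCharacter G → ℂ, ∑ ζ ∈ S, f ζ = f (trivIrr G) + (f a + (f c + f b)) := by
    intro f
    rw [← Finset.add_sum_erase S f htrivS, ← Finset.add_sum_erase S' f haS',
      ← Finset.add_sum_erase (S'.erase a) f hcT, hb, Finset.sum_singleton]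
  have hdeg : ∀ ζ : IrrCharacter G, charDegree (ζ : G → ℂ) = d ζ :=
    fun ζ => charDegree_eq_of_apply_one (hd1 ζ)
  refine ⟨a, b, c, n b, hpm b hbS', (Finset.mem_erase.mp haS').1, (Finset.mem_erase.mp hbS').1,
    (Finset.mem_erase.mp hcS').1, Ne.symm hba, hac, hbc, hmem, ?_, hnz b, ?_, ?_, ?_, ?_, ?_⟩
  · rw [hnz a, hna]; simp
  · rw [hnz c, hnc]; simp
  · rw [hdeg a]
    have := h4 a
    rw [hna] at this
    exact this
  · rw [hdeg b]
    exact h4 b
  · rw [hdeg c]
    have := h4 c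
    rw [hnc] at this
    simpa using this
  · intro y hy
    have h1 := horth y hy
    rw [hsum4, hntriv, hna, hnc, htriv1] at h1
    rw [← h1]
    push_cast
    ring

end klein

end Cfsg.Agent.CharLib
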