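import Mathlib
import Cfsg.Agent.Lib.Lead.KleinBlock3
import Cfsg.Agent.Lib.Lead.SecondMain8
import Cfsg.Agent.Lib.Helper13.TwoGroupModels
import Cfsg.Prelude.Def_BlockRank

/-!
lead: the principal 2-block of a group with Klein four Sylow 2-subgroups and one class of
involutions has 2-regular rank 3.
-/

set_option autoImplicit false

namespace Cfsg.Agent.CharLib

open Cfsg Cfsg.Agent.Lib.Helper24 Cfsg.Agent.Lib.Helper6
open scoped ComplexConjugate

universe u

section klein

variable {G : Type u} [Group G] [Finite G]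

theorem pRegularPart_of_regular' (p : ℕ) (χ : G → ℂ) {g : G} (hg : IsPRegular p g) :
    pRegularPart p χ g = χ g := by
  unfold pRegularPart
  simp only [hg, if_true]

theorem pRegularPart_of_singular' (p : ℕ) (χ : G → ℂ) {g : G} (hg : ¬ IsPRegular p g) :
    pRegularPart p χ g = 0 := by
  unfold pRegularPart
  simp only [hg, if_false]

/-- Values of principal block characters on 2-singular elements. -/
theorem klein_apply_singular {M : Ideal AlgInt} (hM : IsPModular 2 M) (P : Sylow 2 G)
    (hP : IsKleinFour (P : Subgroup G))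
    (hone : ∀ s t : G, orderOf s = 2 → orderOf t = 2 → IsConj s t) (z : G) (hz2 : orderOf z = 2)
    (ζ : IrrCharacter G) (hζ : ζ ∈ principalBlock M G) (g : G) (hg : 2 ∣ orderOf g) :
    (ζ : G → ℂ) g = (ζ : G → ℂ) z := by
  haveI : Fact (Nat.Prime 2) := ⟨Nat.prime_two⟩
  have hcl : IsClassFunction G (ζ : G → ℂ) :=
    IsCharacter.isClassFunction (IsIrrCharacter.isCharacter ζ.2)
  obtain ⟨-, -, x, -, ⟨y, hxy, hcomm, ⟨k, hxk⟩, hyodd⟩, -⟩ := exists_ppart_data 2 g
  have hx1 : x ≠ 1 := by
    intro h
    rw [h, one_mul] at hxy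
    rw [← hxy] at hg
    exact hyodd hg
  obtain ⟨t, ht⟩ := Cfsg.Agent.Lib.Helper13.exists_conj_mem_sylow P (Subgroup.zpowers x)
    (Cfsg.Agent.Lib.Helper13.isPGroup_zpowers_of_orderOf 2 k x hxk)
  have hx'P : t * x * t⁻¹ ∈ (P : Subgroup G) := ht x (Subgroup.mem_zpowers x)
  have hx'1 : t * x * t⁻¹ ≠ 1 := by
    intro h
    apply hx1
    have : x = t⁻¹ * (t * x * t⁻¹) * t := by group
    rw [this, h]; group
  have hx'2 : orderOf (t * x * t⁻¹) = 2 := Cfsg.Agent.Lib.Helper2.klein_orderOf P hP hx'P hx'1
  have hy'C : t * y * t⁻¹ ∈ Subgroup.centralizer ({t * x * t⁻¹} : Set G) := by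
    rw [Subgroup.mem_centralizer_singleton_iff]
    calc t * y * t⁻¹ * (t * x * t⁻¹) = t * (y * x) * t⁻¹ := by group
      _ = t * (x * y) * t⁻¹ := by rw [hcomm.eq]
      _ = t * x * t⁻¹ * (t * y * t⁻¹) := by group
  have hk := exists_index_pPrimeCore_centralizer_klein P hP (t * x * t⁻¹) hx'P hx'1
  have hy'odd : ¬ 2 ∣ orderOf (⟨t * y * t⁻¹, hy'C⟩ :
      Subgroup.centralizer ({t * x * t⁻¹} : Set G)) := by
    rw [Subgroup.orderOf_mk, orderOf_conj_eq']
    exact hyodd
  have h1 := apply_section_of_pcomplement_aux hM (t * x * t⁻¹) ⟨1, by rw [hx'2, pow_one]⟩ _ rfl hk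
    ζ hζ ⟨t * y * t⁻¹, hy'C⟩ hy'odd
  have h2 : t * x * t⁻¹ * (t * y * t⁻¹) = t * g * t⁻¹ := by
    rw [← hxy]; group
  change (ζ : G → ℂ) (t * x * t⁻¹ * (t * y * t⁻¹)) = _ at h1
  rw [h2, hcl] at h1
  rw [h1]
  exact apply_eq_of_isConj hcl (hone _ _ hx'2 hz2)

/-- The principal 2-block has 2-regular rank 3. -/
theorem klein_blockRank {M : Ideal AlgInt} (hM : IsPModular 2 M) (P : Sylow 2 G)
    (hP : IsKleinFour (P : Subgroup G))
    (hone : ∀ s t : G, orderOf s = 2 → orderOf t = 2 → IsConj s t) :
    blockRank 2 (principalBlock M G) = 3 := by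
  classical
  let _ : Fintype G := Fintype.ofFinite G
  obtain ⟨z, -, hzP, -, hz1, -, -, -⟩ := Cfsg.Agent.Lib.Helper2.klein_exists_gens P hP
  have hz2 : orderOf z = 2 := Cfsg.Agent.Lib.Helper2.klein_orderOf P hP hzP hz1
  obtain ⟨a, b, c, ε, hε, ha1, hb1, hc1, hab, hac, hbc, hmem, haz, hbz, hcz, -, -, -, hy⟩ :=
    klein_principal_block_aux hM P hP hone z hzP hz1
  have htriv1 : ∀ g : G, ((trivIrr G : IrrCharacter G) : G → ℂ) g = 1 := fun g => rfl
  have hsing : ∀ ζ ∈ principalBlock M G, ∀ g : G, 2 ∣ orderOf g →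
      (ζ : G → ℂ) g = (ζ : G → ℂ) z :=
    fun ζ hζ g hg => klein_apply_singular hM P hP hone z hz2 ζ hζ g hg
  have haB : a ∈ principalBlock M G := (hmem a).mpr (Or.inr (Or.inl rfl))
  have hbB : b ∈ principalBlock M G := (hmem b).mpr (Or.inr (Or.inr (Or.inl rfl)))
  have hcB : c ∈ principalBlock M G := (hmem c).mpr (Or.inr (Or.inr (Or.inr rfl)))
  -- the family
  let v : IrrCharacter G → (G → ℂ) := fun χ => pRegularPart 2 (χ : G → ℂ)
  let w : Fin 3 → (G → ℂ) := ![v (trivIrr G), v a, v b]
  have hvc : v c = v (trivIrr G) + v a + (ε : ℂ) • v b := by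
    funext g
    simp only [v, Pi.add_apply, Pi.smul_apply, smul_eq_mul]
    by_cases hg : IsPRegular 2 g
    · rw [pRegularPart_of_regular' 2 _ hg, pRegularPart_of_regular' 2 _ hg,
        pRegularPart_of_regular' 2 _ hg, pRegularPart_of_regular' 2 _ hg, htriv1]
      have hodd : Odd (orderOf g) := by
        rw [← Nat.not_even_iff_odd, even_iff_two_dvd]
        exact hg
      have := hy g hodd
      linear_combination (-1 : ℂ) * this
    · rw [pRegularPart_of_singular' 2 _ hg, pRegularPart_of_singular' 2 _ hg,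
        pRegularPart_of_singular' 2 _ hg, pRegularPart_of_singular' 2 _ hg]
      ring
  have hspan : Submodule.span ℂ ((fun χ : IrrCharacter G => pRegularPart 2 (χ : G → ℂ)) ''
      principalBlock M G) = Submodule.span ℂ (Set.range w) := by
    apply le_antisymm
    · rw [Submodule.span_le]
      rintro _ ⟨χ, hχ, rfl⟩
      have hw0 : w 0 ∈ Submodule.span ℂ (Set.range w) := Submodule.subset_span ⟨0, rfl⟩
      have hw1 : w 1 ∈ Submodule.span ℂ (Set.range w) := Submodule.subset_span ⟨1, rfl⟩
      have hw2 : w 2 ∈ Submodule.span ℂ (Set.range w) := Submodule.subset_span ⟨2, rfl⟩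
      rcases (hmem χ).mp hχ with h | h | h | h
      · rw [h]; exact hw0
      · rw [h]; exact hw1
      · rw [h]; exact hw2
      · rw [h]
        change v c ∈ _
        rw [hvc]
        exact Submodule.add_mem _ (Submodule.add_mem _ hw0 hw1) (Submodule.smul_mem _ _ hw2)
    · rw [Submodule.span_le]
      rintro _ ⟨i, rfl⟩
      apply Submodule.subset_span
      fin_cases i
      · exact ⟨trivIrr G, (hmem _).mpr (Or.inl rfl), rfl⟩
      · exact ⟨a, haB, rfl⟩
      · exact ⟨b, hbB, rfl⟩
  -- linear independence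
  have hli : LinearIndependent ℂ w := by
    rw [Fintype.linearIndependent_iff]
    intro r hr
    rw [Fin.sum_univ_three] at hr
    change r 0 • v (trivIrr G) + r 1 • v a + r 2 • v b = 0 at hr
    -- the class function Θ
    set Θ : G → ℂ := r 0 • ((trivIrr G : IrrCharacter G) : G → ℂ) + r 1 • (a : G → ℂ) +
      r 2 • (b : G → ℂ) with hΘ
    set κ : ℂ := r 0 + r 1 + r 2 * (ε : ℂ) with hκ
    have hΘreg : ∀ g : G, IsPRegular 2 g → Θ g = 0 := by
      intro g hg
      have h1 := congrFun hr g
      simp only [v, Pi.add_apply, Pi.smul_apply, smul_eq_mul, Pi.zero_apply] at h1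
      rw [pRegularPart_of_regular' 2 _ hg, pRegularPart_of_regular' 2 _ hg,
        pRegularPart_of_regular' 2 _ hg] at h1
      simp only [hΘ, Pi.add_apply, Pi.smul_apply, smul_eq_mul]
      exact h1
    have hΘsing : ∀ g : G, ¬ IsPRegular 2 g → Θ g = κ := by
      intro g hg
      have hg' : 2 ∣ orderOf g := by
        by_contra h
        exact hg h
      simp only [hΘ, Pi.add_apply, Pi.smul_apply, smul_eq_mul]
      rw [hsing a haB g hg', hsing b hbB g hg', htriv1, haz, hbz, hκ]
      ring
    have hinner : ∀ χ : IrrCharacter G, classInner Θ (χ : G → ℂ) =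
        r 0 * (if trivIrr G = χ then 1 else 0) + r 1 * (if a = χ then 1 else 0) +
          r 2 * (if b = χ then 1 else 0) := by
      intro χ
      rw [hΘ, classInner_add_left, classInner_add_left, classInner_smul_left,
        classInner_smul_left, classInner_smul_left, classInner_irr', classInner_irr',
        classInner_irr']
    -- inner product with `c`
    have hc0 : classInner Θ (c : G → ℂ) = 0 := by
      rw [hinner c, if_neg (Ne.symm hc1), if_neg hac, if_neg hbc]
      ring
    have hκ0 : κ = 0 := by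
      unfold classInner at hc0
      have h1 : ∑ g : G, Θ g * conj ((c : G → ℂ) g) =
          ∑ g : G, (if IsPRegular 2 g then 0 else -κ) := by
        apply Finset.sum_congr rfl
        intro g _
        by_cases hg : IsPRegular 2 g
        · rw [if_pos hg, hΘreg g hg, zero_mul]
        · have hg' : 2 ∣ orderOf g := by
            by_contra h
            exact hg h
          rw [if_neg hg, hΘsing g hg, hsing c hcB g hg', hcz]
          simp
      rw [h1, Finset.sum_ite, Finset.sum_const_zero, zero_add, Finset.sum_const] at hc0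
      have hcard : (Finset.univ.filter (fun g : G => ¬ IsPRegular 2 g)).card ≠ 0 := by
        apply Finset.card_ne_zero_of_mem (a := z)
        rw [Finset.mem_filter]
        refine ⟨Finset.mem_univ _, ?_⟩
        intro h
        apply h
        rw [hz2]
      have hG0 : (Nat.card G : ℂ)⁻¹ ≠ 0 := inv_ne_zero (Nat.cast_ne_zero.mpr Nat.card_pos.ne')
      rcases mul_eq_zero.mp hc0 with h | h
      · exact absurd h hG0
      · rw [nsmul_eq_mul] at h
        rcases mul_eq_zero.mp h with h' | h'
        · exact absurd (Nat.cast_eq_zero.mp h') hcard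
        · exact neg_eq_zero.mp h'
    have hΘ0 : Θ = 0 := by
      funext g
      by_cases hg : IsPRegular 2 g
      · exact hΘreg g hg
      · rw [hΘsing g hg, hκ0]
        rfl
    have hr0 : r 0 = 0 := by
      have := hinner (trivIrr G)
      rw [hΘ0, if_pos rfl, if_neg ha1, if_neg hb1] at this
      simp only [classInner, Pi.zero_apply, zero_mul, Finset.sum_const_zero, mul_zero] at this
      linear_combination (-1 : ℂ) * this
    have hr1 : r 1 = 0 := by
      have := hinner a
      rw [hΘ0, if_neg (Ne.symm ha1), if_pos rfl, if_neg (Ne.symm hab)] at this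
      simp only [classInner, Pi.zero_apply, zero_mul, Finset.sum_const_zero, mul_zero] at this
      linear_combination (-1 : ℂ) * this
    have hr2 : r 2 = 0 := by
      have := hinner b
      rw [hΘ0, if_neg (Ne.symm hb1), if_neg hab, if_pos rfl] at this
      simp only [classInner, Pi.zero_apply, zero_mul, Finset.sum_const_zero, mul_zero] at this
      linear_combination (-1 : ℂ) * this
    intro i
    fin_cases i
    · exact hr0
    · exact hr1
    · exact hr2
  unfold blockRank
  rw [hspan, finrank_span_eq_card hli]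
  rfl

end klein

end Cfsg.Agent.CharLib
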