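import Mathlib
import Cfsg.Agent.Lib.Lead.Q8Facts
import Cfsg.Agent.Lib.Lead.KleinBlock4
import Cfsg.Agent.Lib.Lead.GalChar

/-!
lead: Brauer–Suzuki for `Q₈`, part A: the section of the element `u` of order four.
-/

set_option autoImplicit false

namespace Cfsg.Agent.CharLib

open Cfsg Cfsg.Agent.Lib.Helper24 Cfsg.Agent.Lib.Helper6
open scoped ComplexConjugate

universe u

section partA

variable {X : Type u} [Group X] [Finite X] {t u : X}

theorem QuatFacts.t_mul_self (h : QuatFacts X t u) : t * t = 1 := by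
  have := pow_orderOf_eq_one t
  rwa [h.orderOf_t, pow_two] at this

theorem QuatFacts.t_ne_one (h : QuatFacts X t u) : t ≠ 1 := by
  intro h1
  have := h.orderOf_t
  rw [h1, orderOf_one] at this
  omega

theorem QuatFacts.u_pow_four (h : QuatFacts X t u) : u ^ 4 = 1 := by
  calc u ^ 4 = (u * u) * (u * u) := by simp [pow_succ, mul_assoc]
    _ = 1 := by rw [h.sq_u, h.t_mul_self]

theorem QuatFacts.orderOf_u (h : QuatFacts X t u) : orderOf u = 4 := by
  have h2 : u ^ 2 ≠ 1 := by
    rw [pow_two, h.sq_u]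
    exact h.t_ne_one
  have := orderOf_eq_prime_pow (p := 2) (n := 1) (x := u) (by simpa using h2)
    (by simpa using h.u_pow_four)
  simpa using this

theorem QuatFacts.u_ne_one (h : QuatFacts X t u) : u ≠ 1 := by
  intro h1
  have := h.orderOf_u
  rw [h1, orderOf_one] at this
  omega

theorem QuatFacts.not_isConj_t_u (h : QuatFacts X t u) : ¬ IsConj t u := by
  intro hc
  obtain ⟨c, hc⟩ := isConj_iff.mp hc
  have h1 : orderOf (c * t * c⁻¹) = orderOf t := orderOf_conj_eq' c t
  rw [hc, h.orderOf_u, h.orderOf_t] at h1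
  omega

theorem QuatFacts.not_isConj_u_t (h : QuatFacts X t u) : ¬ IsConj u t :=
  fun hc => h.not_isConj_t_u hc.symm

theorem QuatFacts.u_inv (h : QuatFacts X t u) : u⁻¹ = u ^ 3 := by
  have : u ^ 3 * u = 1 := by
    rw [← pow_succ]
    exact h.u_pow_four
  exact inv_eq_of_mul_eq_one_left this

theorem QuatFacts.isConj_u_inv (h : QuatFacts X t u) : IsConj u⁻¹ u := by
  have ho : orderOf u⁻¹ = 4 := by rw [orderOf_inv]; exact h.orderOf_u
  rcases h.two_elt u⁻¹ ⟨2, by rw [ho]; norm_num⟩ with h1 | h1 | h1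
  · rw [h1, orderOf_one] at ho
    omega
  · exfalso
    obtain ⟨c, hc⟩ := isConj_iff.mp h1
    have h2 : orderOf (c * u⁻¹ * c⁻¹) = orderOf u⁻¹ := orderOf_conj_eq' c u⁻¹
    rw [hc, ho, h.orderOf_t] at h2
    omega
  · exact h1

/-- every odd power of `u` is conjugate to `u` -/
theorem QuatFacts.isConj_u_pow (h : QuatFacts X t u) (m : ℕ) (hm : Odd m) : IsConj u (u ^ m) := by
  have h4 := h.u_pow_four
  rw [pow_eq_pow_mod m h4]
  obtain ⟨k, hk⟩ := hm
  have : m % 4 = 1 ∨ m % 4 = 3 := by omega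
  rcases this with h1 | h1
  · rw [h1, pow_one]
  · rw [h1, ← h.u_inv]
    exact h.isConj_u_inv.symm

theorem QuatFacts.even_card (h : QuatFacts X t u) : 2 ∣ Nat.card X := by
  have := orderOf_dvd_natCard t
  rwa [h.orderOf_t] at this

/-- the values at `u` are rational integers -/
theorem QuatFacts.irr_apply_u_int (h : QuatFacts X t u) (χ : IrrCharacter X) :
    ∃ n : ℤ, (χ : X → ℂ) u = (n : ℂ) := by
  obtain ⟨n, ρ, hirr, hρ⟩ := χ.2
  have H : ∀ m : ℕ, m.Coprime (Nat.card X) → IsConj u (u ^ m) := by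
    intro m hm
    apply h.isConj_u_pow
    rw [← Nat.not_even_iff_odd]
    intro he
    have h2 : 2 ∣ Nat.gcd m (Nat.card X) := Nat.dvd_gcd he.two_dvd h.even_card
    rw [hm] at h2
    omega
  obtain ⟨q, hq⟩ := exists_rat_of_forall_isConj_pow ρ u H
  rw [hρ] at hq
  have hint : IsIntegral ℤ ((χ : X → ℂ) u) := irr_isIntegral χ u
  rw [hq] at hint
  have h2 : IsIntegral ℤ q := by
    apply (isIntegral_algebraMap_iff (algebraMap ℚ ℂ).injective (R := ℤ) (x := q)).mp
    simpa using hint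
  obtain ⟨k, hk⟩ := IsIntegrallyClosed.isIntegral_iff.mp h2
  refine ⟨k, ?_⟩
  rw [hq, ← hk]
  simp

variable {M : Ideal AlgInt}

/-- the sum of the squares of the values at `u` over the principal block is `4` -/
theorem QuatFacts.sum_sq_u (h : QuatFacts X t u) (hM : IsPModular 2 M) :
    ∑ᶠ χ ∈ principalBlock M X, (χ : X → ℂ) u * conj ((χ : X → ℂ) u) = 4 := by
  haveI : Fact (Nat.Prime 2) := ⟨Nat.prime_two⟩
  have hy1 : ¬ 2 ∣ orderOf (1 : Subgroup.centralizer ({u} : Set X)) := by
    rw [orderOf_one]; decide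
  have e1 := sum_principal_section_aux hM u ⟨2, by rw [h.orderOf_u]; norm_num⟩ _ rfl
    (1 : Subgroup.centralizer ({u} : Set X)) hy1
  have e2 := sum_principal_of_pcomplement hM h.pcompl_u
    (1 : Subgroup.centralizer ({u} : Set X)) hy1
  rw [Subgroup.coe_one, mul_one] at e1
  rw [e1, e2, h.card_cent_u]
  norm_num

/-- the characters of the principal block are constant on the section of `u` -/
theorem QuatFacts.apply_section_u (h : QuatFacts X t u) (hM : IsPModular 2 M)
    (χ : IrrCharacter X) (hχ : χ ∈ principalBlock M X) (y : X) (hyu : y * u = u * y)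
    (hy : ¬ 2 ∣ orderOf y) : (χ : X → ℂ) (u * y) = (χ : X → ℂ) u := by
  haveI : Fact (Nat.Prime 2) := ⟨Nat.prime_two⟩
  have hyC : y ∈ Subgroup.centralizer ({u} : Set X) := by
    rw [Subgroup.mem_centralizer_singleton_iff]
    exact hyu
  have hy' : ¬ 2 ∣ orderOf (⟨y, hyC⟩ : Subgroup.centralizer ({u} : Set X)) := by
    rw [Subgroup.orderOf_mk]
    exact hy
  exact apply_section_of_pcomplement_aux hM u ⟨2, by rw [h.orderOf_u]; norm_num⟩ _ rfl h.pcompl_u
    χ hχ ⟨y, hyC⟩ hy'

/-- the `2`-part of a `2`-singular element is conjugate to `t` or to `u` -/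
theorem QuatFacts.ppart_cases (h : QuatFacts X t u) (g : X) (hg : 2 ∣ orderOf g) :
    ∃ x : X, IsPPart 2 g x ∧ (IsConj x t ∨ IsConj x u) := by
  haveI : Fact (Nat.Prime 2) := ⟨Nat.prime_two⟩
  obtain ⟨-, -, x, -, hx, -⟩ := exists_ppart_data 2 g
  refine ⟨x, hx, ?_⟩
  obtain ⟨y, hxy, hcomm, hxk, hyodd⟩ := hx
  rcases h.two_elt x hxk with h1 | h1 | h1
  · exfalso
    rw [h1, one_mul] at hxy
    rw [← hxy] at hg
    exact hyodd hg
  · exact Or.inl h1
  · exact Or.inr h1

/-- values on `2`-singular elements -/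
theorem QuatFacts.apply_singular (h : QuatFacts X t u) (hM : IsPModular 2 M)
    (χ : IrrCharacter X) (hχ : χ ∈ principalBlock M X) (g : X) (hg : 2 ∣ orderOf g) :
    (∃ y : X, y * t = t * y ∧ ¬ 2 ∣ orderOf y ∧ (χ : X → ℂ) g = (χ : X → ℂ) (t * y)) ∨
      (χ : X → ℂ) g = (χ : X → ℂ) u := by
  have hcl : IsClassFunction X (χ : X → ℂ) :=
    IsCharacter.isClassFunction (IsIrrCharacter.isCharacter χ.2)
  obtain ⟨x, ⟨y, hxy, hcomm, hxk, hyodd⟩, hx⟩ := h.ppart_cases g hg
  rcases hx with hx | hx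
  · left
    obtain ⟨c, hc⟩ := isConj_iff.mp hx
    refine ⟨c * y * c⁻¹, ?_, ?_, ?_⟩
    · rw [← hc]
      calc c * y * c⁻¹ * (c * x * c⁻¹) = c * (y * x) * c⁻¹ := by group
        _ = c * (x * y) * c⁻¹ := by rw [hcomm.eq]
        _ = c * x * c⁻¹ * (c * y * c⁻¹) := by group
    · rw [orderOf_conj_eq']
      exact hyodd
    · rw [← hc]
      have : c * x * c⁻¹ * (c * y * c⁻¹) = c * g * c⁻¹ := by rw [← hxy]; group
      rw [this, hcl]
  · right
    obtain ⟨c, hc⟩ := isConj_iff.mp hx
    have h1 : (χ : X → ℂ) g = (χ : X → ℂ) (u * (c * y * c⁻¹)) := by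
      rw [← hc]
      have : c * x * c⁻¹ * (c * y * c⁻¹) = c * g * c⁻¹ := by rw [← hxy]; group
      rw [this, hcl]
    rw [h1]
    apply h.apply_section_u hM χ hχ
    · rw [← hc]
      calc c * y * c⁻¹ * (c * x * c⁻¹) = c * (y * x) * c⁻¹ := by group
        _ = c * (x * y) * c⁻¹ := by rw [hcomm.eq]
        _ = c * x * c⁻¹ * (c * y * c⁻¹) := by group
    · rw [orderOf_conj_eq']
      exact hyodd

theorem trivIrr_mem_principalBlock_q8 (hM : IsPModular 2 M) (Y : Type u) [Group Y] :
    trivIrr Y ∈ principalBlock M Y := by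
  intro g
  have : centralChar (fun _ : Y => (1 : ℂ)) g - centralChar ((trivIrr Y : IrrCharacter Y) : Y → ℂ) g
      = 0 := sub_self _
  rw [this]
  exact memLocalIdeal_zero (isPrime_of_isPModular hM).one_notMem

theorem trivIrr_apply_q8 (Y : Type u) [Group Y] (g : Y) :
    ((trivIrr Y : IrrCharacter Y) : Y → ℂ) g = 1 := rfl

/-- the values at `u` of the characters of the principal block are `0`, `1` or `-1`, and exactly
four of them are nonzero -/
theorem QuatFacts.apply_u_cases (h : QuatFacts X t u) (hM : IsPModular 2 M) :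
    (∀ χ : IrrCharacter X, χ ∈ principalBlock M X →
      ((χ : X → ℂ) u = 0 ∨ (χ : X → ℂ) u = 1 ∨ (χ : X → ℂ) u = -1)) ∧
    Set.ncard {χ : IrrCharacter X | χ ∈ principalBlock M X ∧ (χ : X → ℂ) u ≠ 0} = 4 := by
  classical
  let _ : Fintype X := Fintype.ofFinite X
  let _ : Fintype (IrrCharacter X) := Fintype.ofFinite _
  choose n hn using h.irr_apply_u_int
  set S : Finset (IrrCharacter X) := Finset.univ.filter (fun χ => χ ∈ principalBlock M X) with hS
  have hmemS : ∀ χ, χ ∈ S ↔ χ ∈ principalBlock M X := by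
    intro χ
    rw [hS, Finset.mem_filter]
    simp
  have hsum : ∑ χ ∈ S, (n χ) ^ 2 = 4 := by
    have h1 := h.sum_sq_u hM
    rw [finsum_mem_eq_sum_ite, ← Finset.sum_filter] at h1
    have h2 : ((∑ χ ∈ S, (n χ) ^ 2 : ℤ) : ℂ) = ((4 : ℤ) : ℂ) := by
      push_cast
      rw [← h1]
      apply Finset.sum_congr rfl
      intro χ _
      rw [hn χ, map_intCast, pow_two]
    exact_mod_cast h2
  have htrivS : trivIrr X ∈ S := (hmemS _).mpr (trivIrr_mem_principalBlock_q8 hM X)
  have hntriv : n (trivIrr X) = 1 := by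
    have h1 := hn (trivIrr X)
    rw [trivIrr_apply_q8] at h1
    exact_mod_cast h1.symm
  have hbound : ∀ χ ∈ S, n χ = 0 ∨ n χ = 1 ∨ n χ = -1 := by
    intro χ hχ
    by_cases hχ1 : χ = trivIrr X
    · right; left
      rw [hχ1, hntriv]
    · have h1 : (n χ) ^ 2 + (n (trivIrr X)) ^ 2 ≤ ∑ ψ ∈ S, (n ψ) ^ 2 := by
        have h2 : ({χ, trivIrr X} : Finset (IrrCharacter X)) ⊆ S := by
          intro ψ hψ
          rw [Finset.mem_insert, Finset.mem_singleton] at hψ
          rcases hψ with rfl | rfl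
          · exact hχ
          · exact htrivS
        have h3 := Finset.sum_le_sum_of_subset_of_nonneg (f := fun ψ => (n ψ) ^ 2) h2
          (fun ψ _ _ => sq_nonneg _)
        rw [Finset.sum_pair hχ1] at h3
        exact h3
      rw [hsum, hntriv] at h1
      have h2 : (n χ) ^ 2 ≤ 3 := by linarith
      have h3 : -1 ≤ n χ ∧ n χ ≤ 1 := by
        constructor <;> nlinarith
      omega
  constructor
  · intro χ hχ
    rcases hbound χ ((hmemS χ).mpr hχ) with h1 | h1 | h1
    · left; rw [hn χ, h1]; simp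
    · right; left; rw [hn χ, h1]; simp
    · right; right; rw [hn χ, h1]; simp
  · have hset : {χ : IrrCharacter X | χ ∈ principalBlock M X ∧ (χ : X → ℂ) u ≠ 0} =
        ((S.filter (fun χ => n χ ≠ 0) : Finset (IrrCharacter X)) : Set (IrrCharacter X)) := by
      ext χ
      simp only [Set.mem_ofPred_eq, Finset.coe_filter, hmemS]
      constructor
      · rintro ⟨h1, h2⟩
        refine ⟨h1, ?_⟩
        intro h3
        apply h2
        rw [hn χ, h3]; simp
      · rintro ⟨h1, h2⟩
        refine ⟨h1, ?_⟩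
        rw [hn χ]
        exact_mod_cast h2
    rw [hset, Set.ncard_coe_finset, Finset.card_filter]
    have h3 : ((∑ χ ∈ S, (if n χ ≠ 0 then 1 else 0) : ℕ) : ℤ) = 4 := by
      rw [← hsum]
      push_cast
      apply Finset.sum_congr rfl
      intro χ hχ
      rcases hbound χ hχ with h1 | h1 | h1 <;> rw [h1] <;> simp
    exact_mod_cast h3

end partA

end Cfsg.Agent.CharLib
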