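import Mathlib
import Cfsg.Agent.Lib.Lead.Q8Block1
import Cfsg.Agent.Lib.Helper6.DefectOrder

/-!
lead: Brauer–Suzuki for `Q₈`, generic lemmas on a finite group with a central involution.
-/

set_option autoImplicit false

namespace Cfsg.Agent.CharLib

open Cfsg Cfsg.Agent.Lib.Helper24 Cfsg.Agent.Lib.Helper6
open scoped ComplexConjugate

universe u

section central

variable {Y : Type u} [Group Y] [Finite Y]

/-- a central involution acts on an irreducible character by a sign -/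
theorem irr_central_invol_sign (t : Y) (ht : t * t = 1) (hc : ∀ y : Y, y * t = t * y)
    (ψ : IrrCharacter Y) :
    (∀ y : Y, (ψ : Y → ℂ) (t * y) = (ψ : Y → ℂ) y) ∨
      (∀ y : Y, (ψ : Y → ℂ) (t * y) = -(ψ : Y → ℂ) y) := by
  classical
  let _ : Fintype Y := Fintype.ofFinite Y
  set c := centralChar (ψ : Y → ℂ) t with hcdef
  have h1 : ∀ y : Y, (ψ : Y → ℂ) (t * y) = c * (ψ : Y → ℂ) y := by
    intro y
    rw [← hc y]
    exact irr_mul_central ψ t hc y
  obtain ⟨d, hdpos, hd⟩ := IsIrrCharacter.apply_one_pos ψ.2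
  have hd0 : (ψ : Y → ℂ) 1 ≠ 0 := by
    rw [hd]
    exact_mod_cast hdpos.ne'
  have h2 : c * c = 1 := by
    have e1 := h1 1
    have e2 := h1 t
    rw [mul_one] at e1
    rw [ht, e1] at e2
    have e3 : (ψ : Y → ℂ) 1 = c * c * (ψ : Y → ℂ) 1 := by
      rw [mul_assoc]; exact e2
    have e4 : (c * c - 1) * (ψ : Y → ℂ) 1 = 0 := by
      rw [sub_mul, one_mul, ← e3, sub_self]
    rcases mul_eq_zero.mp e4 with h | h
    · exact sub_eq_zero.mp h
    · exact absurd h hd0
  have h3 : c = 1 ∨ c = -1 := by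
    have : (c - 1) * (c + 1) = 0 := by ring_nf; rw [pow_two, h2]; ring
    rcases mul_eq_zero.mp this with h | h
    · left; exact sub_eq_zero.mp h
    · right; exact eq_neg_of_add_eq_zero_left h
  rcases h3 with h | h
  · left
    intro y
    rw [h1, h, one_mul]
  · right
    intro y
    rw [h1, h, neg_one_mul]

/-- the twist of a character by a central involution is a generalized character -/
theorem isGeneralizedCharacter_central_twist (t : Y) (ht : t * t = 1)
    (hc : ∀ y : Y, y * t = t * y) {χ : Y → ℂ} (hχ : IsCharacter Y χ) :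
    IsGeneralizedCharacter Y (fun y => χ (t * y)) := by
  classical
  let _ : Fintype Y := Fintype.ofFinite Y
  let _ : Fintype (IrrCharacter Y) := Fintype.ofFinite _
  obtain ⟨m, hm⟩ := IsCharacter.exists_decomp hχ
  rw [finsum_eq_sum_of_fintype] at hm
  set P : Finset (IrrCharacter Y) :=
    Finset.univ.filter (fun ψ => ∀ y : Y, (ψ : Y → ℂ) (t * y) = (ψ : Y → ℂ) y) with hP
  refine ⟨∑ ψ ∈ P, m ψ • (ψ : Y → ℂ), ∑ ψ ∈ Pᶜ, m ψ • (ψ : Y → ℂ), ?_, ?_, ?_⟩
  · exact IsCharacter.sum _ (fun ψ _ => IsCharacter.nsmul (IsIrrCharacter.isCharacter ψ.2) _)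
  · exact IsCharacter.sum _ (fun ψ _ => IsCharacter.nsmul (IsIrrCharacter.isCharacter ψ.2) _)
  · funext y
    rw [hm, Pi.sub_apply, Finset.sum_apply, Finset.sum_apply, Finset.sum_apply,
      ← Finset.sum_add_sum_compl P, sub_eq_add_neg, ← Finset.sum_neg_distrib]
    congr 1
    · apply Finset.sum_congr rfl
      intro ψ hψ
      rw [Pi.smul_apply, Pi.smul_apply, (Finset.mem_filter.mp hψ).2 y]
    · apply Finset.sum_congr rfl
      intro ψ hψ
      have hψ' : ¬ ∀ y : Y, (ψ : Y → ℂ) (t * y) = (ψ : Y → ℂ) y := by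
        intro h
        exact (Finset.mem_compl.mp hψ) (Finset.mem_filter.mpr ⟨Finset.mem_univ _, h⟩)
      rcases irr_central_invol_sign t ht hc ψ with h | h
      · exact absurd h hψ'
      · rw [Pi.smul_apply, Pi.smul_apply, h y, smul_neg]

variable {M : Ideal AlgInt}

/-- the principal block sum over `2`-regular elements is twice the sum over the characters with the
central involution `t` in the kernel -/
theorem sum_principal_central_split (hM : IsPModular 2 M) (t : Y) (ht2 : orderOf t = 2)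
    (hc : ∀ y : Y, y * t = t * y) (w y : Y) (hw : ¬ 2 ∣ orderOf w) (hy : ¬ 2 ∣ orderOf y) :
    ∑ᶠ ψ ∈ principalBlock M Y, (ψ : Y → ℂ) w * conj ((ψ : Y → ℂ) y) =
      2 * ∑ᶠ ψ ∈ {ψ : IrrCharacter Y | ψ ∈ principalBlock M Y ∧
        ∀ x : Y, (ψ : Y → ℂ) (t * x) = (ψ : Y → ℂ) x}, (ψ : Y → ℂ) w * conj ((ψ : Y → ℂ) y) := by
  classical
  haveI : Fact (Nat.Prime 2) := ⟨Nat.prime_two⟩
  let _ : Fintype Y := Fintype.ofFinite Y
  let _ : Fintype (IrrCharacter Y) := Fintype.ofFinite _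
  have ht : t * t = 1 := by
    have := pow_orderOf_eq_one t
    rwa [ht2, pow_two] at this
  have ht1 : t ≠ 1 := by
    intro h
    rw [h, orderOf_one] at ht2
    omega
  have htinv : t⁻¹ = t := inv_eq_of_mul_eq_one_right ht
  have hg : IsPPart 2 w 1 := by
    refine ⟨w, one_mul w, Commute.one_left w, ⟨0, by rw [orderOf_one, pow_zero]⟩, hw⟩
  have hh : IsPPart 2 (t * y) t := by
    refine ⟨y, rfl, ?_, ⟨1, by rw [ht2, pow_one]⟩, hy⟩
    exact (hc y).symm
  have hxy : ¬ IsConj (1 : Y) t := by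
    rw [isConj_one_right]
    exact ht1
  have h0 := block_orthogonality hM w (t * y) 1 t hg hh hxy (principalBlock M Y)
    (isPBlock_principalBlock M Y)
  have e1 : (t * y)⁻¹ = t * y⁻¹ := by
    rw [mul_inv_rev, htinv, hc y⁻¹]
  rw [e1] at h0
  set F : IrrCharacter Y → ℂ := fun ψ => (ψ : Y → ℂ) w * conj ((ψ : Y → ℂ) y) with hF
  set s : IrrCharacter Y → ℂ :=
    fun ψ => if ∀ x : Y, (ψ : Y → ℂ) (t * x) = (ψ : Y → ℂ) x then 1 else -1 with hs
  have h1 : ∀ ψ : IrrCharacter Y, (ψ : Y → ℂ) w * (ψ : Y → ℂ) (t * y⁻¹) = s ψ * F ψ := by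
    intro ψ
    rw [hs, hF]
    beta_reduce
    have hconj : conj ((ψ : Y → ℂ) y) = (ψ : Y → ℂ) y⁻¹ := (irr_apply_inv ψ y).symm
    by_cases hp : ∀ x : Y, (ψ : Y → ℂ) (t * x) = (ψ : Y → ℂ) x
    · rw [if_pos hp, hp y⁻¹, one_mul, hconj]
    · rw [if_neg hp]
      rcases irr_central_invol_sign t ht hc ψ with h | h
      · exact absurd h hp
      · rw [h y⁻¹, hconj]; ring
  have h2 : ∑ᶠ ψ ∈ principalBlock M Y, s ψ * F ψ = 0 := by
    rw [← h0]
    apply finsum_mem_congr rfl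
    intro ψ _
    exact (h1 ψ).symm
  rw [finsum_mem_eq_sum_ite] at h2
  rw [finsum_mem_eq_sum_ite, finsum_mem_eq_sum_ite, Finset.mul_sum]
  have h3 : ∀ ψ : IrrCharacter Y, (if ψ ∈ principalBlock M Y then F ψ else 0) =
      2 * (if ψ ∈ {ψ : IrrCharacter Y | ψ ∈ principalBlock M Y ∧
        ∀ x : Y, (ψ : Y → ℂ) (t * x) = (ψ : Y → ℂ) x} then F ψ else 0) -
      (if ψ ∈ principalBlock M Y then s ψ * F ψ else 0) := by
    intro ψ
    by_cases hb : ψ ∈ principalBlock M Y
    · by_cases hp : ∀ x : Y, (ψ : Y → ℂ) (t * x) = (ψ : Y → ℂ) x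
      · have : ψ ∈ {ψ : IrrCharacter Y | ψ ∈ principalBlock M Y ∧
            ∀ x : Y, (ψ : Y → ℂ) (t * x) = (ψ : Y → ℂ) x} := ⟨hb, hp⟩
        rw [if_pos hb, if_pos this, if_pos hb, hs]
        beta_reduce
        rw [if_pos hp]; ring
      · have : ψ ∉ {ψ : IrrCharacter Y | ψ ∈ principalBlock M Y ∧
            ∀ x : Y, (ψ : Y → ℂ) (t * x) = (ψ : Y → ℂ) x} := fun h => hp h.2
        rw [if_pos hb, if_neg this, if_pos hb, hs]
        beta_reduce
        rw [if_neg hp]; ring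
    · have : ψ ∉ {ψ : IrrCharacter Y | ψ ∈ principalBlock M Y ∧
          ∀ x : Y, (ψ : Y → ℂ) (t * x) = (ψ : Y → ℂ) x} := fun h => hb h.1
      rw [if_neg hb, if_neg this, if_neg hb]; ring
  rw [Finset.sum_congr rfl (fun ψ _ => h3 ψ), Finset.sum_sub_distrib, h2, sub_zero]

end central

end Cfsg.Agent.CharLib
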