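import Mathlib
import Cfsg.Agent.Lib.Lead.Q8Block2
import Cfsg.Agent.Lib.Lead.InvolSums1

/-!
lead: Brauer–Suzuki for `Q₈`: the class multiplication sum on `2`-singular elements, and a lemma
of linear algebra.
-/

set_option autoImplicit false

namespace Cfsg.Agent.CharLib

open Cfsg Cfsg.Agent.Lib.Helper24 Cfsg.Agent.Lib.Helper6
open scoped ComplexConjugate

universe u

section classmul

variable {G : Type u} [Group G] [Finite G] {M : Ideal AlgInt}

/-- If products of two conjugates of the involution `t` have odd order, then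
`∑_{χ ∈ B₀} χ(t)²/χ(1) χ(v) = 0` for every `2`-singular `v`. -/
theorem sum_principal_sq_div_singular (hM : IsPModular 2 M) (t : G)
    (hodd : ∀ a b : G, Odd (orderOf (a * t * a⁻¹ * (b * t * b⁻¹)))) (v : G)
    (hv : 2 ∣ orderOf v) :
    ∑ᶠ χ ∈ principalBlock M G,
      ((χ : G → ℂ) t * (χ : G → ℂ) t / (χ : G → ℂ) 1) * (χ : G → ℂ) v = 0 := by
  classical
  haveI : Fact (Nat.Prime 2) := ⟨Nat.prime_two⟩
  let _ : Fintype G := Fintype.ofFinite G
  let _ : Fintype (IrrCharacter G) := Fintype.ofFinite _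
  set Ψ : G → ℂ := ∑ χ : IrrCharacter G,
    ((χ : G → ℂ) t * (χ : G → ℂ) t / (χ : G → ℂ) 1) • (χ : G → ℂ) with hΨ
  have hΨcl : IsClassFunction G Ψ := by
    intro g k
    rw [hΨ, Finset.sum_apply, Finset.sum_apply]
    apply Finset.sum_congr rfl
    intro χ _
    rw [Pi.smul_apply, Pi.smul_apply,
      IsCharacter.isClassFunction (IsIrrCharacter.isCharacter χ.2) g k]
  -- `Ψ` vanishes on `2`-singular elements
  have hΨsing : ∀ g : G, 2 ∣ orderOf g → Ψ g = 0 := by
    intro g hg
    rw [hΨ, Finset.sum_apply]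
    have := sum_irr_classMul_eq_zero (G := G) t t g ?_
    · rw [← this]
      apply Finset.sum_congr rfl
      intro χ _
      rw [Pi.smul_apply, smul_eq_mul]
    · intro a b hconj
      obtain ⟨k, hk⟩ := isConj_iff.mp hconj
      have h1 : orderOf (k * (a * t * a⁻¹ * (b * t * b⁻¹)) * k⁻¹) =
          orderOf (a * t * a⁻¹ * (b * t * b⁻¹)) := orderOf_conj_eq' _ _
      rw [hk, orderOf_inv] at h1
      have h2 := hodd a b
      rw [← h1] at h2
      rcases h2 with ⟨m, hm⟩
      omega
  obtain ⟨-, -, x, -, hvx, -⟩ := exists_ppart_data 2 v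
  have hxk : ∃ k : ℕ, orderOf x = 2 ^ k := by
    obtain ⟨_, _, _, hk, _⟩ := hvx
    exact hk
  have hx1 : x ≠ 1 := by
    intro h
    obtain ⟨y, hxy, -, -, hyodd⟩ := hvx
    rw [h, one_mul] at hxy
    rw [← hxy] at hv
    exact hyodd hv
  have hvan : ∀ w z : G, IsPPart 2 w z → IsConj x z → Ψ w = 0 := by
    intro w z hw hxz
    apply hΨsing
    -- `w` is `2`-singular since its `2`-part `z ≠ 1`
    obtain ⟨y, hzy, hcomm, ⟨k, hzk⟩, hyodd⟩ := hw
    have hz1 : z ≠ 1 := by
      intro h
      rw [h, isConj_one_left] at hxz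
      exact hx1 hxz
    have hk0 : k ≠ 0 := by
      intro h
      rw [h, pow_zero] at hzk
      exact hz1 (orderOf_eq_one_iff.mp hzk)
    have h2z : 2 ∣ orderOf z := by
      rw [hzk]
      exact dvd_pow_self 2 hk0
    -- `z = w ^ m` for some `m`?  use: `z ^ (orderOf w) = 1`
    by_contra hnd
    have hcop : Nat.Coprime (orderOf w) 2 := by
      rw [Nat.coprime_comm]
      exact (Nat.Prime.coprime_iff_not_dvd Nat.prime_two).mpr hnd
    -- `z ^ (orderOf w) = y⁻¹ ^ (orderOf w)`
    have h3 : z ^ orderOf w * y ^ orderOf w = 1 := by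
      rw [← hcomm.mul_pow, hzy, pow_orderOf_eq_one]
    have h4 : z ^ orderOf w = (y ^ orderOf w)⁻¹ := eq_inv_of_mul_eq_one_left h3
    have h5 : orderOf (z ^ orderOf w) ∣ orderOf y := by
      rw [h4, orderOf_inv]
      exact orderOf_pow_dvd _
    have h6 : orderOf (z ^ orderOf w) ∣ 2 ^ k := by
      rw [← hzk]
      exact orderOf_pow_dvd _
    have h7 : orderOf (z ^ orderOf w) = 1 := by
      have hc2 : Nat.Coprime (orderOf y) (2 ^ k) := by
        apply Nat.Coprime.pow_right
        rw [Nat.coprime_comm]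
        exact (Nat.Prime.coprime_iff_not_dvd Nat.prime_two).mpr hyodd
      exact Nat.eq_one_of_dvd_coprimes hc2 h5 h6
    have h8 : z ^ orderOf w = 1 := orderOf_eq_one_iff.mp h7
    have h9 : orderOf z ∣ orderOf w := orderOf_dvd_of_pow_eq_one h8
    exact hnd (h2z.trans h9)
  have h1 := blockPart_eq_zero_on_section hM Ψ hΨcl x hxk hvan (principalBlock M G)
    (isPBlock_principalBlock M G) v x hvx (IsConj.refl x)
  rw [hΨ, blockPart_sum_irr] at h1
  exact h1

end classmul

section linalg

/-- Two-variable form of linear independence. -/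
theorem eq_zero_of_bilinear_indep {Y : Type*} (R : Set Y) (ψ : Fin 3 → Y → ℂ)
    (hind : ∀ c : Fin 3 → ℂ, (∀ y ∈ R, ∑ j, c j * ψ j y = 0) → c = 0)
    (A : Fin 3 → Fin 3 → ℂ)
    (hA : ∀ w ∈ R, ∀ y ∈ R, ∑ j, ∑ l, A j l * ψ j w * conj (ψ l y) = 0) : A = 0 := by
  have h1 : ∀ y ∈ R, ∀ j, ∑ l, A j l * conj (ψ l y) = 0 := by
    intro y hy
    have := hind (fun j => ∑ l, A j l * conj (ψ l y)) ?_
    · intro j
      exact congrFun this j
    · intro w hw
      rw [← hA w hw y hy]
      apply Finset.sum_congr rfl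
      intro j _
      rw [Finset.sum_mul]
      apply Finset.sum_congr rfl
      intro l _
      ring
  funext j l
  have h2 := hind (fun l => conj (A j l)) ?_
  · have h3 := congrFun h2 l
    simp only [Pi.zero_apply] at h3
    have h4 := congrArg conj h3
    rw [Complex.conj_conj, map_zero] at h4
    exact h4
  · intro y hy
    have h3 := congrArg conj (h1 y hy j)
    rw [map_sum, map_zero] at h3
    rw [← h3]
    apply Finset.sum_congr rfl
    intro l _
    rw [map_mul, Complex.conj_conj]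

end linalg

end Cfsg.Agent.CharLib
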