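import Mathlib
import Cfsg.Agent.Lib.Lead.Q8Block3

/-!
lead: Brauer–Suzuki for `Q₈`: integrality of the expansion of a generalized character on the
`2`-regular elements, block by block (central involution case).
-/

set_option autoImplicit false

namespace Cfsg.Agent.CharLib

open Cfsg Cfsg.Agent.Lib.Helper24 Cfsg.Agent.Lib.Helper6
open scoped ComplexConjugate

universe u

section integrality

variable {Y : Type u} [Group Y] [Finite Y] {M : Ideal AlgInt}

theorem exists_isPPart_two (g : Y) : ∃ x : Y, IsPPart 2 g x := by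
  haveI : Fact (Nat.Prime 2) := ⟨Nat.prime_two⟩
  obtain ⟨-, -, x, -, hx, -⟩ := exists_ppart_data 2 g
  exact ⟨x, hx⟩

/-- multiplying by a central involution multiplies the `2`-part by it -/
theorem isPPart_central_mul (t : Y) (ht : t * t = 1) (hc : ∀ y : Y, y * t = t * y) {g a : Y}
    (h : IsPPart 2 g a) : IsPPart 2 (t * g) (t * a) := by
  obtain ⟨y, hay, hcomm, ⟨k, hk⟩, hy⟩ := h
  refine ⟨y, by rw [mul_assoc, hay], ?_, ?_, hy⟩
  · have : Commute t y := (hc y).symm
    exact this.mul_left hcomm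
  · have hcta : Commute t a := (hc a).symm
    have h1 : (t * a) ^ (2 ^ (k + 1)) = 1 := by
      have e1 : a ^ (2 ^ (k + 1)) = 1 := by
        rw [pow_succ, pow_mul, ← hk, pow_orderOf_eq_one, one_pow]
      have e2 : t ^ (2 ^ (k + 1)) = 1 := by
        rw [pow_succ, mul_comm, pow_mul, pow_two, ht, one_pow]
      rw [hcta.mul_pow, e1, e2, one_mul]
    obtain ⟨j, -, hj⟩ := (Nat.dvd_prime_pow Nat.prime_two).mp (orderOf_dvd_of_pow_eq_one h1)
    exact ⟨j, hj⟩

/-- **Integrality**: if `g ↦ θ (g_{2'})` is a generalized character for every generalized character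
`θ`, the block parts of a generalized character `Θ` are, on `2`-regular elements, integral
combinations of the irreducible characters of the block on which the central involution `t` acts
trivially. -/
theorem exists_int_blockPart_regular (hM : IsPModular 2 M) (t : Y) (ht2 : orderOf t = 2)
    (hc : ∀ y : Y, y * t = t * y)
    (hPP : ∀ θ : Y → ℂ, IsGeneralizedCharacter Y θ → ∀ θ' : Y → ℂ,
      (∀ g a : Y, IsPPart 2 g a → θ' g = θ (a⁻¹ * g)) → IsGeneralizedCharacter Y θ')
    (Θ : Y → ℂ) (hΘ : IsGeneralizedCharacter Y Θ) :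
    ∃ n : IrrCharacter Y → ℤ,
      (∀ ψ : IrrCharacter Y, (∀ y : Y, (ψ : Y → ℂ) (t * y) = -(ψ : Y → ℂ) y) → n ψ = 0) ∧
      ∀ (ψ₀ : IrrCharacter Y) (ρ : Y), ¬ 2 ∣ orderOf ρ →
        blockPart (blockOf M (ψ₀ : Y → ℂ)) Θ ρ =
          ∑ᶠ ψ ∈ blockOf M (ψ₀ : Y → ℂ), (n ψ : ℂ) * (ψ : Y → ℂ) ρ := by
  classical
  haveI : Fact (Nat.Prime 2) := ⟨Nat.prime_two⟩
  let _ : Fintype Y := Fintype.ofFinite Y
  have ht : t * t = 1 := by
    have := pow_orderOf_eq_one t
    rwa [ht2, pow_two] at this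
  choose a ha using (exists_isPPart_two (Y := Y))
  set Θ' : Y → ℂ := fun g => Θ ((a g)⁻¹ * g) with hΘ'
  have hspec : ∀ g b : Y, IsPPart 2 g b → Θ' g = Θ (b⁻¹ * g) := by
    intro g b hb
    rw [hΘ']
    beta_reduce
    rw [isPPart_unique (ha g) hb]
  have hgen : IsGeneralizedCharacter Y Θ' := hPP Θ hΘ Θ' hspec
  have hreg : ∀ c : Y, ¬ 2 ∣ orderOf c → Θ c = Θ' c := by
    intro c hc'
    have h1 : IsPPart 2 c 1 :=
      ⟨c, one_mul c, Commute.one_left c, ⟨0, by rw [orderOf_one, pow_zero]⟩, hc'⟩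
    rw [hspec c 1 h1, inv_one, one_mul]
  have htw : ∀ g : Y, Θ' (t * g) = Θ' g := by
    intro g
    have h1 := isPPart_central_mul t ht hc (ha g)
    rw [hspec (t * g) (t * a g) h1, hΘ']
    beta_reduce
    congr 1
    have hinv : t⁻¹ = t := inv_eq_of_mul_eq_one_right ht
    rw [mul_inv_rev, hinv, mul_assoc, ← mul_assoc t t g, ht, one_mul]
  -- the integers
  have hint : ∀ ψ : IrrCharacter Y, ∃ n : ℤ, classInner Θ' (ψ : Y → ℂ) = (n : ℂ) := by
    intro ψ
    obtain ⟨χ₁, χ₂, h1, h2, h12⟩ := hgen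
    obtain ⟨n₁, hn₁⟩ := IsCharacter.classInner_nat h1 (IsIrrCharacter.isCharacter ψ.2)
    obtain ⟨n₂, hn₂⟩ := IsCharacter.classInner_nat h2 (IsIrrCharacter.isCharacter ψ.2)
    refine ⟨(n₁ : ℤ) - (n₂ : ℤ), ?_⟩
    rw [h12, classInner_sub_left, hn₁, hn₂]
    push_cast
    ring
  choose n hn using hint
  refine ⟨n, ?_, ?_⟩
  · intro ψ hψ
    have h1 : classInner Θ' (ψ : Y → ℂ) = -classInner Θ' (ψ : Y → ℂ) := by
      unfold classInner
      rw [← mul_neg]
      congr 1
      have e1 : ∑ g : Y, Θ' g * conj ((ψ : Y → ℂ) g) =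
          ∑ g : Y, Θ' (t * g) * conj ((ψ : Y → ℂ) (t * g)) :=
        (Equiv.sum_comp (Equiv.mulLeft t) (fun g => Θ' g * conj ((ψ : Y → ℂ) g))).symm
      refine e1.trans ?_
      rw [← Finset.sum_neg_distrib]
      apply Finset.sum_congr rfl
      intro g _
      rw [htw, hψ g, map_neg, mul_neg]
    have h2 : classInner Θ' (ψ : Y → ℂ) = 0 := by
      have : (2 : ℂ) * classInner Θ' (ψ : Y → ℂ) = 0 := by linear_combination h1
      rcases mul_eq_zero.mp this with h | h
      · norm_num at h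
      · exact h
    rw [hn ψ] at h2
    exact_mod_cast h2
  · intro ψ₀ ρ hρ
    rw [blockPart_congr_regular hM ψ₀ hreg ρ hρ, blockPart_apply]
    apply finsum_mem_congr rfl
    intro ψ _
    rw [hn ψ]

end integrality

end Cfsg.Agent.CharLib
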