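import Mathlib
import Cfsg.Agent.Lib.Lead.Q8Block4

/-!
lead: Brauer–Suzuki for `Q₈`: the data of the principal block of `C = C_G(t)` and the expansion of
the characters of the principal block of `G` on the section of `t`.
-/

set_option autoImplicit false

namespace Cfsg.Agent.CharLib

open Cfsg Cfsg.Agent.Lib.Helper24 Cfsg.Agent.Lib.Helper6
open scoped ComplexConjugate

universe u

/-- The principal `2`-block of a group `Y` with central involution `t` and `Y ⧸ ⟨t⟩` with Klein four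
Sylow `2`-subgroups (output of `quat_central_block`). -/
structure QuatCentData (Y : Type u) [Group Y] (M : Ideal AlgInt) (t : Y) where
  /-- three characters with `t` in the kernel -/
  ψ : Fin 3 → IrrCharacter Y
  /-- the fourth one -/
  ψ₃ : IrrCharacter Y
  /-- the sign -/
  ε : ℤ
  hε : ε = 1 ∨ ε = -1
  h0 : ψ 0 = trivIrr Y
  hmem : ∀ j, ψ j ∈ principalBlock M Y
  hmem₃ : ψ₃ ∈ principalBlock M Y
  hker : ∀ j x, (ψ j : Y → ℂ) (t * x) = (ψ j : Y → ℂ) x
  hker₃ : ∀ x, (ψ₃ : Y → ℂ) (t * x) = (ψ₃ : Y → ℂ) x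
  hinj : Function.Injective ψ
  hne₃ : ∀ j, ψ j ≠ ψ₃
  hcl : ∀ φ ∈ principalBlock M Y, (∃ j, φ = ψ j) ∨ φ = ψ₃ ∨
    ∀ x, (φ : Y → ℂ) (t * x) = -(φ : Y → ℂ) x
  hrel : ∀ y : Y, Odd (orderOf y) → (ψ₃ : Y → ℂ) y =
    (ψ 0 : Y → ℂ) y + (ψ 1 : Y → ℂ) y + (ε : ℂ) * (ψ 2 : Y → ℂ) y
  hind : ∀ c : Fin 3 → ℂ, (∀ y : Y, Odd (orderOf y) → ∑ j, c j * (ψ j : Y → ℂ) y = 0) → c = 0
  hodd : ∀ j, Odd (charDegree (ψ j : Y → ℂ))

namespace QuatCentData

variable {Y : Type u} [Group Y] [Finite Y] {M : Ideal AlgInt} {t : Y}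

/-- the vector `h = (1, 1, ε)` -/
def hvec (D : QuatCentData Y M t) : Fin 3 → ℤ := ![1, 1, D.ε]

theorem hvec_sq (D : QuatCentData Y M t) (j : Fin 3) : D.hvec j = 1 ∨ D.hvec j = -1 := by
  fin_cases j
  · left; rfl
  · left; rfl
  · exact D.hε

theorem rel' (D : QuatCentData Y M t) (y : Y) (hy : ¬ 2 ∣ orderOf y) :
    (D.ψ₃ : Y → ℂ) y = ∑ j, (D.hvec j : ℂ) * (D.ψ j : Y → ℂ) y := by
  have hodd : Odd (orderOf y) := by
    rw [← Nat.not_even_iff_odd, even_iff_two_dvd]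
    exact hy
  rw [D.hrel y hodd, Fin.sum_univ_three]
  simp [hvec]

theorem ind' (D : QuatCentData Y M t) (c : Fin 3 → ℂ)
    (h : ∀ y : Y, ¬ 2 ∣ orderOf y → ∑ j, c j * (D.ψ j : Y → ℂ) y = 0) : c = 0 := by
  apply D.hind
  intro y hy
  apply h
  intro h2
  rcases hy with ⟨k, hk⟩
  omega

/-- a sum over the principal block of a function supported on the four characters -/
theorem finsum_principal (D : QuatCentData Y M t) (F : IrrCharacter Y → ℂ)
    (hF : ∀ φ ∈ principalBlock M Y, (∀ x, (φ : Y → ℂ) (t * x) = -(φ : Y → ℂ) x) → F φ = 0) :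
    ∑ᶠ φ ∈ principalBlock M Y, F φ = ∑ j, F (D.ψ j) + F D.ψ₃ := by
  classical
  let _ : Fintype (IrrCharacter Y) := Fintype.ofFinite _
  set T : Finset (IrrCharacter Y) := insert D.ψ₃ (Finset.univ.image D.ψ) with hT
  have hsub : ∀ φ, φ ∈ T → φ ∈ principalBlock M Y := by
    intro φ hφ
    rw [hT, Finset.mem_insert, Finset.mem_image] at hφ
    rcases hφ with rfl | ⟨j, -, rfl⟩
    · exact D.hmem₃
    · exact D.hmem j
  have h1 : ∑ᶠ φ ∈ principalBlock M Y, F φ = ∑ φ ∈ T, F φ := by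
    rw [finsum_mem_eq_sum_ite]
    symm
    rw [← Finset.sum_filter]
    apply Finset.sum_subset
    · intro φ hφ
      exact Finset.mem_filter.mpr ⟨Finset.mem_univ _, hsub φ hφ⟩
    · intro φ hφ hφT
      have hφB := (Finset.mem_filter.mp hφ).2
      rcases D.hcl φ hφB with ⟨j, rfl⟩ | rfl | h
      · exfalso
        apply hφT
        rw [hT, Finset.mem_insert]
        right
        exact Finset.mem_image_of_mem _ (Finset.mem_univ j)
      · exfalso
        apply hφT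
        rw [hT]
        exact Finset.mem_insert_self _ _
      · exact hF φ hφB h
  rw [h1, hT, Finset.sum_insert, Finset.sum_image, add_comm]
  · intro i _ j _ hij
    exact D.hinj hij
  · intro h
    obtain ⟨j, -, hj⟩ := Finset.mem_image.mp h
    exact D.hne₃ j hj

end QuatCentData

end Cfsg.Agent.CharLib
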