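import Mathlib
import Cfsg.Agent.Lib.Lead.Q8Block5

/-!
lead: Brauer–Suzuki for `Q₈`: two-variable section formula for principal blocks; the Gram
relation at the level of `C_G(t)`.
-/

set_option autoImplicit false

namespace Cfsg.Agent.CharLib

open Cfsg Cfsg.Agent.Lib.Helper24 Cfsg.Agent.Lib.Helper6
open scoped ComplexConjugate

universe u

section section2

variable {G : Type u} [Group G] [Finite G] {M : Ideal AlgInt}

/-- Second and third main theorems for the principal block: on the section of the `p`-element `z`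
a character of the principal block is the principal block part of its twist. -/
theorem apply_section_eq_blockPart_principal {p : ℕ} [hpp : Fact p.Prime] (hM : IsPModular p M)
    (z : G) (hz : ∃ k : ℕ, orderOf z = p ^ k) (C : Subgroup G)
    (hC : C = Subgroup.centralizer ({z} : Set G))
    (ζ : IrrCharacter G) (hζ : ζ ∈ principalBlock M G) (w : C) (hw : ¬ p ∣ orderOf w) :
    (ζ : G → ℂ) (z * (w : G)) =
      blockPart (principalBlock M C) (fun c : C => (ζ : G → ℂ) (z * (c : G))) w := by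
  classical
  have hprime : M.IsPrime := isPrime_of_isPModular hM
  let _ : Fintype G := Fintype.ofFinite G
  let _ : Fintype C := Fintype.ofFinite C
  let _ : Fintype (IrrCharacter C) := Fintype.ofFinite _
  have hcomm' : ∀ c : C, (c : G) * z = z * (c : G) := by
    intro c
    have hc : (c : G) ∈ Subgroup.centralizer ({z} : Set G) := hC ▸ c.2
    rw [Subgroup.mem_centralizer_iff] at hc
    exact (hc z rfl).symm
  have hcl : IsClassFunction G (ζ : G → ℂ) :=
    IsCharacter.isClassFunction (IsIrrCharacter.isCharacter ζ.2)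
  have htw : IsClassFunction C (fun c : C => (ζ : G → ℂ) (z * (c : G))) := by
    intro c k
    change (ζ : G → ℂ) (z * ((k : G) * (c : G) * (k : G)⁻¹)) = (ζ : G → ℂ) (z * (c : G))
    have e : z * ((k : G) * (c : G) * (k : G)⁻¹) = (k : G) * (z * (c : G)) * (k : G)⁻¹ := by
      have := hcomm' k
      calc z * ((k : G) * (c : G) * (k : G)⁻¹) = (z * (k : G)) * (c : G) * (k : G)⁻¹ := by group
        _ = ((k : G) * z) * (c : G) * (k : G)⁻¹ := by rw [this]
        _ = (k : G) * (z * (c : G)) * (k : G)⁻¹ := by group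
    rw [e]
    exact hcl _ _
  set b₀ := principalBlock M C with hb₀
  have hb₀mem : b₀ ∈ Finset.univ.image (fun ψ : IrrCharacter C => blockOf M (ψ : C → ℂ)) :=
    Finset.mem_image.mpr ⟨trivIrr C, Finset.mem_univ _, rfl⟩
  have e2 := apply_eq_sum_blockPart (M := M) htw w
  rw [Finset.sum_eq_single_of_mem b₀ hb₀mem] at e2
  · exact e2
  · intro b' hb' hne
    obtain ⟨ψ, -, rfl⟩ := Finset.mem_image.mp hb'
    have hnot : ¬ IsInducedBlock M C (blockOf M (ψ : C → ℂ)) (principalBlock M G) :=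
      fun h => hne ((isInducedBlock_principal_centralizer_iff hM z hz C hC ψ).mp h)
    subst hC
    exact blockPart_eq_zero_of_not_induced hM z hz (principalBlock M G)
      (isPBlock_principalBlock M G) ζ hζ _ ⟨ψ, rfl⟩ hnot w hw

/-- **Brauer**: two-variable orthogonality on a section for principal blocks. -/
theorem sum_principal_section_two {p : ℕ} [hpp : Fact p.Prime] (hM : IsPModular p M)
    (z : G) (hz : ∃ k : ℕ, orderOf z = p ^ k) (C : Subgroup G)
    (hC : C = Subgroup.centralizer ({z} : Set G)) (w : C) (hw : ¬ p ∣ orderOf w) (y : C)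
    (hy : ¬ p ∣ orderOf y) :
    ∑ᶠ ζ ∈ principalBlock M G, (ζ : G → ℂ) (z * (w : G)) * conj ((ζ : G → ℂ) (z * (y : G))) =
      ∑ᶠ ψ ∈ principalBlock M C, (ψ : C → ℂ) w * conj ((ψ : C → ℂ) y) := by
  have hind : IsInducedBlock M C (blockOf M ((trivIrr C : IrrCharacter C) : C → ℂ))
      (principalBlock M G) :=
    (isInducedBlock_principal_centralizer_iff hM z hz C hC (trivIrr C)).mpr rfl
  have h1 := sum_block_section hM z hz C hC (principalBlock M G) (isPBlock_principalBlock M G)
    (trivIrr C) hind w hw y hy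
  have h2 : blockOf M ((trivIrr C : IrrCharacter C) : C → ℂ) = principalBlock M C := rfl
  rw [h2] at h1
  rw [← h1]
  apply finsum_mem_congr rfl
  intro ζ hζ
  rw [apply_section_eq_blockPart_principal hM z hz C hC ζ hζ w hw,
    apply_section_eq_blockPart_principal hM z hz C hC ζ hζ y hy]

end section2

namespace QuatCentData

variable {Y : Type u} [Group Y] [Finite Y] {M : Ideal AlgInt} {t : Y}

/-- the principal block sum on `2`-regular elements in terms of `ψ 0, ψ 1, ψ 2` -/
theorem sum_principal_eq (D : QuatCentData Y M t) (hM : IsPModular 2 M) (ht2 : orderOf t = 2)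
    (hc : ∀ y : Y, y * t = t * y) (w y : Y) (hw : ¬ 2 ∣ orderOf w) (hy : ¬ 2 ∣ orderOf y) :
    ∑ᶠ ψ ∈ principalBlock M Y, (ψ : Y → ℂ) w * conj ((ψ : Y → ℂ) y) =
      ∑ j, ∑ l, (2 * ((if j = l then 1 else 0) + (D.hvec j : ℂ) * (D.hvec l : ℂ))) *
        (D.ψ j : Y → ℂ) w * conj ((D.ψ l : Y → ℂ) y) := by
  classical
  let _ : Fintype (IrrCharacter Y) := Fintype.ofFinite _
  rw [sum_principal_central_split hM t ht2 hc w y hw hy]
  set F : IrrCharacter Y → ℂ := fun ψ => (ψ : Y → ℂ) w * conj ((ψ : Y → ℂ) y) with hF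
  set F' : IrrCharacter Y → ℂ :=
    fun ψ => if ∀ x : Y, (ψ : Y → ℂ) (t * x) = (ψ : Y → ℂ) x then F ψ else 0 with hF'
  have h1 : ∑ᶠ ψ ∈ {ψ : IrrCharacter Y | ψ ∈ principalBlock M Y ∧
        ∀ x : Y, (ψ : Y → ℂ) (t * x) = (ψ : Y → ℂ) x}, F ψ =
      ∑ᶠ ψ ∈ principalBlock M Y, F' ψ := by
    rw [finsum_mem_eq_sum_ite, finsum_mem_eq_sum_ite]
    apply Finset.sum_congr rfl
    intro ψ _
    rw [hF']
    beta_reduce
    by_cases hb : ψ ∈ principalBlock M Y
    · by_cases hp : ∀ x : Y, (ψ : Y → ℂ) (t * x) = (ψ : Y → ℂ) x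
      · have : ψ ∈ {ψ : IrrCharacter Y | ψ ∈ principalBlock M Y ∧
            ∀ x : Y, (ψ : Y → ℂ) (t * x) = (ψ : Y → ℂ) x} := ⟨hb, hp⟩
        rw [if_pos this, if_pos hb, if_pos hp]
      · have : ψ ∉ {ψ : IrrCharacter Y | ψ ∈ principalBlock M Y ∧
            ∀ x : Y, (ψ : Y → ℂ) (t * x) = (ψ : Y → ℂ) x} := fun h => hp h.2
        rw [if_neg this, if_pos hb, if_neg hp]
    · have : ψ ∉ {ψ : IrrCharacter Y | ψ ∈ principalBlock M Y ∧
          ∀ x : Y, (ψ : Y → ℂ) (t * x) = (ψ : Y → ℂ) x} := fun h => hb h.1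
      rw [if_neg this, if_neg hb]
  have h2 : ∑ᶠ ψ ∈ principalBlock M Y, F' ψ = ∑ j, F' (D.ψ j) + F' D.ψ₃ := by
    apply D.finsum_principal
    intro φ _ hφ
    rw [hF']
    beta_reduce
    rw [if_neg]
    intro hp
    have e1 := hφ 1
    rw [hp 1] at e1
    have e2 : (φ : Y → ℂ) 1 = 0 := by
      have : (2 : ℂ) * (φ : Y → ℂ) 1 = 0 := by linear_combination e1
      rcases mul_eq_zero.mp this with h | h
      · norm_num at h
      · exact h
    exact irr_apply_one_ne_zero φ e2
  have h3 : ∀ j, F' (D.ψ j) = F (D.ψ j) := by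
    intro j
    rw [hF']
    beta_reduce
    rw [if_pos (D.hker j)]
  have h4 : F' D.ψ₃ = F D.ψ₃ := by
    rw [hF']
    beta_reduce
    rw [if_pos D.hker₃]
  rw [h1, h2, h4, Finset.sum_congr rfl (fun j _ => h3 j), hF]
  beta_reduce
  rw [D.rel' w hw, D.rel' y hy, map_sum, Finset.sum_mul_sum]
  simp only [Fin.sum_univ_three, map_mul, map_intCast]
  simp only [Fin.isValue, ↓reduceIte, Fin.reduceEq, one_ne_zero, zero_ne_one]
  ring

end QuatCentData

end Cfsg.Agent.CharLib
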