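import Mathlib
import Cfsg.Agent.Lib.Lead.Q8Block6

/-!
lead: Brauer–Suzuki for `Q₈`: the generalized decomposition numbers of the section of `t`.
-/

set_option autoImplicit false

namespace Cfsg.Agent.CharLib

open Cfsg Cfsg.Agent.Lib.Helper24 Cfsg.Agent.Lib.Helper6
open scoped ComplexConjugate

universe u

section glevel

variable {G : Type u} [Group G] [Finite G] {M : Ideal AlgInt}

/-- `t` as an element of its centralizer -/
def tCent (t : G) : Subgroup.centralizer ({t} : Set G) :=
  ⟨t, Subgroup.mem_centralizer_singleton_iff.mpr rfl⟩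

theorem tCent_coe (t : G) : ((tCent t : Subgroup.centralizer ({t} : Set G)) : G) = t := rfl

theorem tCent_central (t : G) (y : Subgroup.centralizer ({t} : Set G)) :
    y * tCent t = tCent t * y := by
  apply Subtype.ext
  have := Subgroup.mem_centralizer_singleton_iff.mp y.2
  exact this

theorem orderOf_tCent (t : G) : orderOf (tCent t) = orderOf t := by
  unfold tCent
  rw [Subgroup.orderOf_mk]

/-- **Generalized decomposition numbers** of the section of `t` with respect to `ψ 0, ψ 1, ψ 2`:
they are rational integers. -/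
theorem exists_int_expansion (hM : IsPModular 2 M) (t : G) (ht2 : orderOf t = 2)
    (D : QuatCentData (Subgroup.centralizer ({t} : Set G)) M (tCent t))
    (hPP : ∀ θ : Subgroup.centralizer ({t} : Set G) → ℂ,
      IsGeneralizedCharacter (Subgroup.centralizer ({t} : Set G)) θ →
      ∀ θ' : Subgroup.centralizer ({t} : Set G) → ℂ,
      (∀ g a : Subgroup.centralizer ({t} : Set G), IsPPart 2 g a → θ' g = θ (a⁻¹ * g)) →
        IsGeneralizedCharacter (Subgroup.centralizer ({t} : Set G)) θ')
    (χ : IrrCharacter G) (hχ : χ ∈ principalBlock M G) :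
    ∃ d : Fin 3 → ℤ, ∀ ρ : Subgroup.centralizer ({t} : Set G), ¬ 2 ∣ orderOf ρ →
      (χ : G → ℂ) (t * (ρ : G)) = ∑ j, (d j : ℂ) * (D.ψ j : Subgroup.centralizer ({t} : Set G) → ℂ) ρ := by
  classical
  haveI : Fact (Nat.Prime 2) := ⟨Nat.prime_two⟩
  set C := Subgroup.centralizer ({t} : Set G) with hC
  have ht2' : orderOf (tCent t) = 2 := by rw [orderOf_tCent, ht2]
  have htt : tCent t * tCent t = 1 := by
    have := pow_orderOf_eq_one (tCent t)
    rwa [ht2', pow_two] at this
  set Θ : C → ℂ := fun c => (χ : G → ℂ) (t * (c : G)) with hΘ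
  have hΘgen : IsGeneralizedCharacter C Θ := by
    have h1 := isGeneralizedCharacter_central_twist (tCent t) htt (tCent_central t)
      (isCharacter_resFun C (IsIrrCharacter.isCharacter χ.2))
    exact h1
  obtain ⟨n, hn0, hn⟩ := exists_int_blockPart_regular hM (tCent t) ht2' (tCent_central t) hPP Θ hΘgen
  refine ⟨fun j => n (D.ψ j) + D.hvec j * n D.ψ₃, ?_⟩
  intro ρ hρ
  have e1 := apply_section_eq_blockPart_principal hM t ⟨1, by rw [ht2, pow_one]⟩ C hC χ hχ ρ hρ
  have e2 := hn (trivIrr C) ρ hρ
  have e3 : blockOf M ((trivIrr C : IrrCharacter C) : C → ℂ) = principalBlock M C := rfl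
  rw [e3] at e2
  rw [e1, e2, D.finsum_principal (fun ψ => (n ψ : ℂ) * (ψ : C → ℂ) ρ), D.rel' ρ hρ, Finset.mul_sum,
    ← Finset.sum_add_distrib]
  · apply Finset.sum_congr rfl
    intro j _
    push_cast
    ring
  · intro φ _ hφ
    beta_reduce
    rw [hn0 φ hφ]
    simp

end glevel

end Cfsg.Agent.CharLib
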