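import Mathlib
import Cfsg.Agent.Lib.Lead.Q8Block7

/-!
lead: Brauer–Suzuki for `Q₈`: linear relations for the generalized decomposition numbers.
-/

set_option autoImplicit false

namespace Cfsg.Agent.CharLib

open Cfsg Cfsg.Agent.Lib.Helper24 Cfsg.Agent.Lib.Helper6
open scoped ComplexConjugate

universe u

section relations

variable {G : Type u} [Group G] [Finite G] {M : Ideal AlgInt} {t u : G}

/-- the hypothesis on the matrix `d` -/
def IsDecompMatrix (M : Ideal AlgInt) (t : G)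
    (D : QuatCentData (Subgroup.centralizer ({t} : Set G)) M (tCent t))
    (d : IrrCharacter G → Fin 3 → ℤ) : Prop :=
  ∀ χ : IrrCharacter G, χ ∈ principalBlock M G →
    ∀ ρ : Subgroup.centralizer ({t} : Set G), ¬ 2 ∣ orderOf ρ →
      (χ : G → ℂ) (t * (ρ : G)) =
        ∑ j, (d χ j : ℂ) * (D.ψ j : Subgroup.centralizer ({t} : Set G) → ℂ) ρ

variable {D : QuatCentData (Subgroup.centralizer ({t} : Set G)) M (tCent t)}
  {d : IrrCharacter G → Fin 3 → ℤ}

/-- a relation on the section of `t` gives a relation for the columns of `d` -/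
theorem IsDecompMatrix.coeff_eq_zero (hd : IsDecompMatrix M t D d) (c : IrrCharacter G → ℂ)
    (h : ∀ ρ : Subgroup.centralizer ({t} : Set G), ¬ 2 ∣ orderOf ρ →
      ∑ᶠ χ ∈ principalBlock M G, c χ * (χ : G → ℂ) (t * (ρ : G)) = 0) (j : Fin 3) :
    ∑ᶠ χ ∈ principalBlock M G, c χ * (d χ j : ℂ) = 0 := by
  classical
  let _ : Fintype (IrrCharacter G) := Fintype.ofFinite _
  have key := D.ind' (fun j => ∑ᶠ χ ∈ principalBlock M G, c χ * (d χ j : ℂ)) ?_
  · exact congrFun key j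
  · intro ρ hρ
    rw [← h ρ hρ]
    simp only [finsum_mem_eq_sum_ite]
    simp only [Finset.sum_mul]
    rw [Finset.sum_comm]
    apply Finset.sum_congr rfl
    intro χ _
    by_cases hχ : χ ∈ principalBlock M G
    · simp only [if_pos hχ]
      rw [hd χ hχ ρ hρ, Finset.mul_sum]
      apply Finset.sum_congr rfl
      intro j _
      ring
    · simp only [if_neg hχ, zero_mul, Finset.sum_const_zero]

theorem isPPart_t_mul (ht2 : orderOf t = 2) (ρ : Subgroup.centralizer ({t} : Set G))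
    (hρ : ¬ 2 ∣ orderOf ρ) : IsPPart 2 (t * (ρ : G)) t := by
  refine ⟨(ρ : G), rfl, ?_, ⟨1, by rw [ht2, pow_one]⟩, ?_⟩
  · exact (Subgroup.mem_centralizer_singleton_iff.mp ρ.2).symm
  · rw [Subgroup.orderOf_coe]
    exact hρ

theorem t_mul_inv (ht2 : orderOf t = 2) (ρ : Subgroup.centralizer ({t} : Set G)) :
    (t * ((ρ⁻¹ : Subgroup.centralizer ({t} : Set G)) : G))⁻¹ = t * (ρ : G) := by
  have ht : t * t = 1 := by
    have := pow_orderOf_eq_one t
    rwa [ht2, pow_two] at this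
  have htinv : t⁻¹ = t := inv_eq_of_mul_eq_one_right ht
  rw [mul_inv_rev, htinv, Subgroup.coe_inv, inv_inv]
  exact Subgroup.mem_centralizer_singleton_iff.mp ρ.2

/-- `∑ χ(1) d_{χ j} = 0` -/
theorem IsDecompMatrix.sum_deg (hd : IsDecompMatrix M t D d) (hM : IsPModular 2 M)
    (ht2 : orderOf t = 2) (j : Fin 3) :
    ∑ᶠ χ ∈ principalBlock M G, (χ : G → ℂ) 1 * (d χ j : ℂ) = 0 := by
  haveI : Fact (Nat.Prime 2) := ⟨Nat.prime_two⟩
  apply hd.coeff_eq_zero
  intro ρ hρ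
  have ht1 : t ≠ 1 := by
    intro h
    rw [h, orderOf_one] at ht2
    omega
  have hg : IsPPart 2 (1 : G) 1 :=
    ⟨1, mul_one 1, Commute.one_right 1, ⟨0, by rw [orderOf_one, pow_zero]⟩,
      by rw [orderOf_one]; decide⟩
  have hh := isPPart_t_mul ht2 ρ⁻¹ (by rw [orderOf_inv]; exact hρ)
  have hxy : ¬ IsConj (1 : G) t := by
    rw [isConj_one_right]
    exact ht1
  have h0 := block_orthogonality hM 1 _ 1 t hg hh hxy (principalBlock M G)
    (isPBlock_principalBlock M G)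
  rw [t_mul_inv ht2] at h0
  exact h0

/-- `∑ χ(u) d_{χ j} = 0` -/
theorem IsDecompMatrix.sum_u (hd : IsDecompMatrix M t D d) (hM : IsPModular 2 M)
    (hG : QuatFacts G t u) (j : Fin 3) :
    ∑ᶠ χ ∈ principalBlock M G, (χ : G → ℂ) u * (d χ j : ℂ) = 0 := by
  haveI : Fact (Nat.Prime 2) := ⟨Nat.prime_two⟩
  apply hd.coeff_eq_zero
  intro ρ hρ
  have ht2 := hG.orderOf_t
  have hg : IsPPart 2 u u :=
    ⟨1, mul_one u, Commute.one_right u, ⟨2, by rw [hG.orderOf_u]; norm_num⟩,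
      by rw [orderOf_one]; decide⟩
  have hh := isPPart_t_mul ht2 ρ⁻¹ (by rw [orderOf_inv]; exact hρ)
  have h0 := block_orthogonality hM u _ u t hg hh hG.not_isConj_u_t (principalBlock M G)
    (isPBlock_principalBlock M G)
  rw [t_mul_inv ht2] at h0
  exact h0

/-- `∑ χ(t)²/χ(1) d_{χ j} = 0` -/
theorem IsDecompMatrix.sum_sq_div (hd : IsDecompMatrix M t D d) (hM : IsPModular 2 M)
    (hG : QuatFacts G t u) (j : Fin 3) :
    ∑ᶠ χ ∈ principalBlock M G,
      ((χ : G → ℂ) t * (χ : G → ℂ) t / (χ : G → ℂ) 1) * (d χ j : ℂ) = 0 := by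
  apply hd.coeff_eq_zero
  intro ρ hρ
  apply sum_principal_sq_div_singular hM t hG.prod_odd
  -- `t ρ` is `2`-singular
  have hcomm : Commute t (ρ : G) := (Subgroup.mem_centralizer_singleton_iff.mp ρ.2).symm
  have hρ' : ¬ 2 ∣ orderOf (ρ : G) := by rw [Subgroup.orderOf_coe]; exact hρ
  have hcop : Nat.Coprime (orderOf t) (orderOf (ρ : G)) := by
    rw [hG.orderOf_t]
    exact (Nat.Prime.coprime_iff_not_dvd Nat.prime_two).mpr hρ'
  rw [hcomm.orderOf_mul_eq_mul_orderOf_of_coprime hcop, hG.orderOf_t]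
  exact dvd_mul_right 2 _

/-- `∑ χ(1) χ(u) = 0` -/
theorem sum_deg_u (hM : IsPModular 2 M) (hG : QuatFacts G t u) :
    ∑ᶠ χ ∈ principalBlock M G, (χ : G → ℂ) 1 * (χ : G → ℂ) u = 0 := by
  haveI : Fact (Nat.Prime 2) := ⟨Nat.prime_two⟩
  have hg : IsPPart 2 (1 : G) 1 :=
    ⟨1, mul_one 1, Commute.one_right 1, ⟨0, by rw [orderOf_one, pow_zero]⟩,
      by rw [orderOf_one]; decide⟩
  have hh : IsPPart 2 u⁻¹ u⁻¹ :=
    ⟨1, mul_one _, Commute.one_right _, ⟨2, by rw [orderOf_inv, hG.orderOf_u]; norm_num⟩,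
      by rw [orderOf_one]; decide⟩
  have hxy : ¬ IsConj (1 : G) u⁻¹ := by
    rw [isConj_one_right]
    intro h
    exact hG.u_ne_one (inv_eq_one.mp h)
  have h0 := block_orthogonality hM 1 u⁻¹ 1 u⁻¹ hg hh hxy (principalBlock M G)
    (isPBlock_principalBlock M G)
  rw [inv_inv] at h0
  exact h0

/-- `∑ χ(t)²/χ(1) χ(u) = 0` -/
theorem sum_sq_div_u (hM : IsPModular 2 M) (hG : QuatFacts G t u) :
    ∑ᶠ χ ∈ principalBlock M G,
      ((χ : G → ℂ) t * (χ : G → ℂ) t / (χ : G → ℂ) 1) * (χ : G → ℂ) u = 0 := by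
  apply sum_principal_sq_div_singular hM t hG.prod_odd
  rw [hG.orderOf_u]
  norm_num

end relations

end Cfsg.Agent.CharLib
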