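import Mathlib
import Cfsg.Agent.Lib.Lead.Q8Block8

/-!
lead: Brauer–Suzuki for `Q₈`: the Gram relation for the generalized decomposition numbers, the
trivial row, and the values at `t`.
-/

set_option autoImplicit false

namespace Cfsg.Agent.CharLib

open Cfsg Cfsg.Agent.Lib.Helper24 Cfsg.Agent.Lib.Helper6
open scoped ComplexConjugate

universe u

section gram

variable {G : Type u} [Group G] [Finite G] {M : Ideal AlgInt} {t u : G}
  {D : QuatCentData (Subgroup.centralizer ({t} : Set G)) M (tCent t)}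
  {d : IrrCharacter G → Fin 3 → ℤ}

/-- the Gram relation `∑ d_{χ j} d_{χ l} = 2 (δ_{jl} + h_j h_l)` -/
theorem IsDecompMatrix.gram (hd : IsDecompMatrix M t D d) (hM : IsPModular 2 M)
    (ht2 : orderOf t = 2) (j l : Fin 3) :
    ∑ᶠ χ ∈ principalBlock M G, (d χ j : ℂ) * (d χ l : ℂ) =
      2 * ((if j = l then 1 else 0) + (D.hvec j : ℂ) * (D.hvec l : ℂ)) := by
  classical
  haveI : Fact (Nat.Prime 2) := ⟨Nat.prime_two⟩
  let _ : Fintype (IrrCharacter G) := Fintype.ofFinite _
  set C := Subgroup.centralizer ({t} : Set G) with hC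
  set A : Fin 3 → Fin 3 → ℂ := fun j l =>
    ∑ᶠ χ ∈ principalBlock M G, (d χ j : ℂ) * (d χ l : ℂ) -
      2 * ((if j = l then 1 else 0) + (D.hvec j : ℂ) * (D.hvec l : ℂ)) with hA
  have key := eq_zero_of_bilinear_indep {y : C | ¬ 2 ∣ orderOf y}
    (fun j => (D.ψ j : C → ℂ)) (fun c hc => D.ind' c hc) A ?_
  · have := congrFun (congrFun key j) l
    rw [hA] at this
    simp only [Pi.zero_apply] at this
    exact sub_eq_zero.mp this
  · intro w hw y hy
    have hw' : ¬ 2 ∣ orderOf w := hw
    have hy' : ¬ 2 ∣ orderOf y := hy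
    have ht2' : orderOf (tCent t) = 2 := by rw [orderOf_tCent, ht2]
    have e1 := sum_principal_section_two hM t ⟨1, by rw [ht2, pow_one]⟩ C hC w hw' y hy'
    have e2 := D.sum_principal_eq hM ht2' (tCent_central t) w y hw' hy'
    rw [e2] at e1
    rw [← sub_eq_zero] at e1
    rw [← e1, hA]
    simp only [sub_mul, Finset.sum_sub_distrib]
    congr 1
    have e3 : ∀ χ : IrrCharacter G, χ ∈ principalBlock M G →
        (χ : G → ℂ) (t * (w : G)) * conj ((χ : G → ℂ) (t * (y : G))) =
          ∑ j, ∑ l, (d χ j : ℂ) * (d χ l : ℂ) * (D.ψ j : C → ℂ) w * conj ((D.ψ l : C → ℂ) y) := by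
      intro χ hχ
      rw [hd χ hχ w hw', hd χ hχ y hy', map_sum, Finset.sum_mul_sum]
      apply Finset.sum_congr rfl
      intro j _
      apply Finset.sum_congr rfl
      intro l _
      rw [map_mul, map_intCast]
      ring
    rw [finsum_mem_congr rfl e3]
    simp only [finsum_mem_eq_sum_ite, Finset.sum_mul]
    set T : IrrCharacter G → Fin 3 → Fin 3 → ℂ := fun χ j l =>
      (if χ ∈ principalBlock M G then (d χ j : ℂ) * (d χ l : ℂ) else 0) * (D.ψ j : C → ℂ) w *
        conj ((D.ψ l : C → ℂ) y) with hT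
    have step0 : ∑ j : Fin 3, ∑ l : Fin 3, ∑ χ : IrrCharacter G, T χ j l =
        ∑ j : Fin 3, ∑ χ : IrrCharacter G, ∑ l : Fin 3, T χ j l := by
      apply Finset.sum_congr rfl
      intro j _
      exact Finset.sum_comm
    change ∑ j : Fin 3, ∑ l : Fin 3, ∑ χ : IrrCharacter G, T χ j l = _
    rw [step0, Finset.sum_comm]
    apply Finset.sum_congr rfl
    intro χ _
    rw [hT]
    beta_reduce
    by_cases hχ : χ ∈ principalBlock M G
    · simp only [if_pos hχ]
    · simp only [if_neg hχ, zero_mul, Finset.sum_const_zero]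

/-- the row of the trivial character is `(1, 0, 0)` -/
theorem IsDecompMatrix.triv_row (hd : IsDecompMatrix M t D d) (hM : IsPModular 2 M) :
    d (trivIrr G) = ![1, 0, 0] := by
  have key := D.ind' (fun j => ((d (trivIrr G) j : ℤ) : ℂ) - ((![1, 0, 0] : Fin 3 → ℤ) j : ℂ)) ?_
  · funext j
    have := congrFun key j
    simp only [Pi.zero_apply] at this
    have h2 := sub_eq_zero.mp this
    exact_mod_cast h2
  · intro ρ hρ
    have h1 := hd (trivIrr G) (trivIrr_mem_principalBlock_q8 hM G) ρ hρ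
    rw [trivIrr_apply_q8] at h1
    simp only [sub_mul, Finset.sum_sub_distrib]
    rw [← h1, Fin.sum_univ_three, D.h0]
    simp [trivIrr_apply_q8]

end gram

end Cfsg.Agent.CharLib
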