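import Mathlib
import Cfsg.Agent.Lib.Lead.Q8Block8
import Cfsg.Agent.Lib.Helper6.Knoerr
import Cfsg.Agent.S0914

set_option autoImplicit false

namespace Cfsg.Agent.CharLib

open Cfsg Cfsg.Agent.Lib.Helper24 Cfsg.Agent.Lib.Helper6
open scoped ComplexConjugate

universe u

variable {G : Type u} [Group G] [Finite G] {M : Ideal AlgInt} {t u : G}
  {D : QuatCentData (Subgroup.centralizer ({t} : Set G)) M (tCent t)}
  {d : IrrCharacter G → Fin 3 → ℤ}

/-- a character of the principal block vanishing at `u` has a nonzero row -/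
theorem IsDecompMatrix.row_ne_zero (hd : IsDecompMatrix M t D d) (hM : IsPModular 2 M)
    (hG : QuatFacts G t u) (χ : IrrCharacter G) (hχ : χ ∈ principalBlock M G)
    (hχu : (χ : G → ℂ) u = 0) : d χ ≠ 0 := by
  haveI : Fact (Nat.Prime 2) := ⟨Nat.prime_two⟩
  have hprime : M.IsPrime := isPrime_of_isPModular hM
  intro hd0
  -- `χ` vanishes on `2`-singular elements
  have hvan : ∀ g : G, 2 ∣ orderOf g → (χ : G → ℂ) g = 0 := by
    intro g hg
    rcases hG.apply_singular hM χ hχ g hg with ⟨y, hyt, hy, h1⟩ | h1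
    · rw [h1]
      have hyC : y ∈ Subgroup.centralizer ({t} : Set G) :=
        Subgroup.mem_centralizer_singleton_iff.mpr hyt
      have h2 := hd χ hχ ⟨y, hyC⟩ (by rw [Subgroup.orderOf_mk]; exact hy)
      rw [hd0] at h2
      simpa using h2
    · rw [h1, hχu]
  have h1 := factorization_charDegree_eq_of_vanishing 2 χ
    (fun g hg => hvan g (by rw [hg]))
  -- hence `χ` is alone in its block
  have hdvd := irr_charDegree_dvd_card χ
  have hdpos := irr_charDegree_pos χ
  have h2 : ¬ 2 ∣ Nat.card G / charDegree (χ : G → ℂ) := by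
    intro h
    have hne : Nat.card G / charDegree (χ : G → ℂ) ≠ 0 := by
      apply Nat.ne_of_gt
      exact Nat.div_pos (Nat.le_of_dvd Nat.card_pos hdvd) hdpos
    have h3 : 1 ≤ (Nat.card G / charDegree (χ : G → ℂ)).factorization 2 :=
      (Nat.Prime.dvd_iff_one_le_factorization Nat.prime_two hne).mp h
    rw [Nat.factorization_div hdvd] at h3
    simp only [Finsupp.coe_tsub, Pi.sub_apply] at h3
    omega
  have h3 := (Cfsg.Agent.S0914.result 2 M hM χ).mp h2
  have h4 : trivIrr G ∈ blockOf M (χ : G → ℂ) := sameBlock_symm hχ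
  rw [h3, Set.mem_singleton_iff] at h4
  have h5 := hχu
  rw [← h4, trivIrr_apply_q8] at h5
  exact one_ne_zero h5

end Cfsg.Agent.CharLib
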