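import Mathlib
import Cfsg.Agent.Lib.Lead.Q8Block9
import Cfsg.Agent.Lib.Helper19.Q8Core
import Cfsg.Agent.Lib.Helper22.Q8Parity
import Cfsg.Agent.Lib.Lead.Q8Row
import Cfsg.Agent.Lib.Helper24.Q8Central
import Cfsg.Agent.Lib.Helper29.Q8Klein
import Cfsg.Agent.Lib.Helper2.PPrimePart

/-!
lead: Brauer–Suzuki for `Q₈`: the main character-theoretic theorem.  If `G` and `C_G(t)` satisfy
`QuatFacts`, the principal `2`-block of `G` has exactly seven irreducible characters and contains a
non-principal character `χ` with `χ(t) = ± χ(1)`.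
-/

set_option autoImplicit false

namespace Cfsg.Agent.CharLib

open Cfsg Cfsg.Agent.Lib.Helper24 Cfsg.Agent.Lib.Helper6
open scoped ComplexConjugate

universe u

section main

variable {G : Type u} [Group G] [Finite G] {M : Ideal AlgInt}

theorem finsum_mem_eq_sum_coe_filter [Fintype (IrrCharacter G)] (B : Set (IrrCharacter G))
    [DecidablePred (· ∈ B)] (F : IrrCharacter G → ℂ) :
    ∑ᶠ χ ∈ B, F χ = ∑ i : ↥(Finset.univ.filter (fun χ : IrrCharacter G => χ ∈ B)), F i.1 := by
  rw [finsum_mem_eq_sum_ite, ← Finset.sum_filter]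
  exact (Finset.sum_coe_sort (Finset.univ.filter (fun χ : IrrCharacter G => χ ∈ B)) F).symm

/-- the data of the principal block of the centralizer -/
theorem nonempty_quatCentData (hM : IsPModular 2 M) (t : G)
    (uC : Subgroup.centralizer ({t} : Set G))
    (hC : QuatFacts (Subgroup.centralizer ({t} : Set G)) (tCent t) uC) :
    Nonempty (QuatCentData (Subgroup.centralizer ({t} : Set G)) M (tCent t)) := by
  have hc := tCent_central t
  haveI hN : (Subgroup.zpowers (tCent t)).Normal := ⟨fun n hn g => by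
    have : g * n * g⁻¹ = n := by
      obtain ⟨k, rfl⟩ := Subgroup.mem_zpowers_iff.mp hn
      have hcomm : Commute g (tCent t ^ k) := (show Commute g (tCent t) from hc g).zpow_right k
      rw [hcomm.eq, mul_inv_cancel_right]
    rw [this]; exact hn⟩
  obtain ⟨⟨P, hP⟩, hone⟩ := Cfsg.Agent.Lib.Helper29.Q8Klein.klein_quotient_of_quatFacts hC hc
  obtain ⟨ψ, ψ₃, ε, hε, h0, hmem, hmem₃, hker, hker₃, hinj, hne₃, hcl, hrel, hind, hodd⟩ :=
    quat_central_block hM (tCent t) hC.orderOf_t hc P hP hone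
  exact ⟨⟨ψ, ψ₃, ε, hε, h0, hmem, hmem₃, hker, hker₃, hinj, hne₃, hcl, hrel, hind, hodd⟩⟩

/-- **Main theorem** (Brauer): the principal `2`-block of a group with quaternion Sylow
`2`-subgroups of order `8` and no normal `2`-complement. -/
theorem quat_principal_block_aux (hM : IsPModular 2 M) (t u : G) (hG : QuatFacts G t u)
    (uC : Subgroup.centralizer ({t} : Set G))
    (hC : QuatFacts (Subgroup.centralizer ({t} : Set G)) (tCent t) uC) :
    Nat.card (principalBlock M G) = 7 ∧
    ∃ χ : IrrCharacter G, χ ∈ principalBlock M G ∧ χ ≠ trivIrr G ∧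
      ((χ : G → ℂ) t = (χ : G → ℂ) 1 ∨ (χ : G → ℂ) t = -(χ : G → ℂ) 1) := by
  classical
  haveI : Fact (Nat.Prime 2) := ⟨Nat.prime_two⟩
  let _ : Fintype (IrrCharacter G) := Fintype.ofFinite _
  obtain ⟨D⟩ := nonempty_quatCentData hM t uC hC
  set C := Subgroup.centralizer ({t} : Set G) with hCdef
  have ht2 := hG.orderOf_t
  have hPP : ∀ θ : C → ℂ, IsGeneralizedCharacter C θ → ∀ θ' : C → ℂ,
      (∀ g a : C, IsPPart 2 g a → θ' g = θ (a⁻¹ * g)) → IsGeneralizedCharacter C θ' :=
    fun θ hθ θ' h => Cfsg.Agent.Lib.Helper2.isGeneralizedCharacter_pPrimePart 2 hθ θ' h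
  -- the matrix `d`
  have hex : ∀ χ : IrrCharacter G, ∃ dχ : Fin 3 → ℤ, χ ∈ principalBlock M G →
      ∀ ρ : C, ¬ 2 ∣ orderOf ρ →
        (χ : G → ℂ) (t * (ρ : G)) = ∑ j, (dχ j : ℂ) * (D.ψ j : C → ℂ) ρ := by
    intro χ
    by_cases hχ : χ ∈ principalBlock M G
    · obtain ⟨dχ, h⟩ := exists_int_expansion hM t ht2 D hPP χ hχ
      exact ⟨dχ, fun _ => h⟩
    · exact ⟨0, fun h => absurd h hχ⟩
  choose d hd' using hex
  have hd : IsDecompMatrix M t D d := fun χ hχ => hd' χ hχ
  -- the vector `a`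
  choose a ha using hG.irr_apply_u_int
  obtain ⟨hacases, hacard⟩ := hG.apply_u_cases hM
  -- index set
  set S : Finset (IrrCharacter G) :=
    Finset.univ.filter (fun χ : IrrCharacter G => χ ∈ principalBlock M G) with hS
  have hmemS : ∀ χ, χ ∈ S ↔ χ ∈ principalBlock M G := by
    intro χ
    rw [hS, Finset.mem_filter]
    simp
  have hconv : ∀ F : IrrCharacter G → ℂ,
      ∑ᶠ χ ∈ principalBlock M G, F χ = ∑ i : ↥S, F i.1 :=
    fun F => finsum_mem_eq_sum_coe_filter (principalBlock M G) F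
  have htrivS : trivIrr G ∈ S := (hmemS _).mpr (trivIrr_mem_principalBlock_q8 hM G)
  set f : Fin 3 → ℤ := fun j => (charDegree (D.ψ j : C → ℂ) : ℤ) with hf
  set x : ↥S → ℝ := fun i => (charDegree (i.1 : G → ℂ) : ℝ) with hx
  have hdeg : ∀ χ : IrrCharacter G, (χ : G → ℂ) 1 = ((charDegree (χ : G → ℂ) : ℝ) : ℂ) := by
    intro χ
    rw [irr_apply_one]
    push_cast
    rfl
  have hapt : ∀ i : ↥S, (i.1 : G → ℂ) t = (((∑ l, d i.1 l * f l : ℤ) : ℝ) : ℂ) := by
    intro i
    rw [hd.apply_t i.1 ((hmemS _).mp i.2)]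
    push_cast
    rfl
  have hcore := Cfsg.Agent.Lib.Q8Core.brauer_q8_core (ι := ↥S) (fun i => d i.1) (fun i => a i.1) x f
    D.hvec ⟨trivIrr G, htrivS⟩ ?_ D.hvec_sq ?_ ?_ ?_ ?_ ?_ ?_ ?_ ?_ ?_ ?_ ?_ ?_ ?_ ?_
  · obtain ⟨hcard, i, hi0, hia, hix⟩ := hcore
    constructor
    · rw [Nat.card_coe_set_eq]
      have : principalBlock M G = (S : Set (IrrCharacter G)) := by
        ext χ
        rw [Finset.mem_coe, hmemS]
      rw [this, Set.ncard_coe_finset, ← Fintype.card_coe]
      exact hcard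
    · refine ⟨i.1, (hmemS _).mp i.2, ?_, ?_⟩
      · intro h
        apply hi0
        exact Subtype.ext h
      · rw [hapt i, hdeg i.1]
        have hx' : (charDegree (i.1 : G → ℂ) : ℝ) = |((∑ l, d i.1 l * f l : ℤ) : ℝ)| := hix
        rw [hx']
        rcases abs_choice ((∑ l, d i.1 l * f l : ℤ) : ℝ) with h | h
        · left; rw [h]
        · right
          rw [h]
          push_cast
          ring
  -- `f 0 = 1`
  · rw [hf]
    beta_reduce
    rw [D.h0]
    have : charDegree ((trivIrr C : IrrCharacter C) : C → ℂ) = 1 :=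
      charDegree_eq_of_apply_one (by rw [trivIrr_apply_q8]; simp)
    rw [this]
    rfl
  -- `d i₀`
  · exact hd.triv_row hM
  -- `a i₀ = 1`
  · have h1 := ha (trivIrr G)
    rw [trivIrr_apply_q8] at h1
    exact_mod_cast h1.symm
  -- `x i₀ = 1`
  · rw [hx]
    beta_reduce
    have : charDegree ((trivIrr G : IrrCharacter G) : G → ℂ) = 1 :=
      charDegree_eq_of_apply_one (by rw [trivIrr_apply_q8]; simp)
    rw [this]
    simp
  -- Gram
  · intro j l
    have h1 := hd.gram hM ht2 j l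
    rw [hconv] at h1
    have h2 : ((∑ i : ↥S, d i.1 j * d i.1 l : ℤ) : ℂ) =
        ((2 * ((if j = l then 1 else 0) + D.hvec j * D.hvec l) : ℤ) : ℂ) := by
      push_cast
      rw [h1]
    exact_mod_cast h2
  -- values of `a`
  · intro i
    rcases hacases i.1 ((hmemS _).mp i.2) with h | h | h
    · left
      rw [ha i.1] at h
      exact_mod_cast h
    · right; left
      rw [ha i.1] at h
      exact_mod_cast h
    · right; right
      rw [ha i.1] at h
      exact_mod_cast h
  -- four nonzero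
  · have hset : {χ : IrrCharacter G | χ ∈ principalBlock M G ∧ (χ : G → ℂ) u ≠ 0} =
        (((Finset.univ.filter (fun i : ↥S => a i.1 ≠ 0)).map
          ⟨Subtype.val, Subtype.val_injective⟩ : Finset (IrrCharacter G)) :
            Set (IrrCharacter G)) := by
      ext χ
      simp only [Set.mem_ofPred_eq, Finset.coe_map, Function.Embedding.coeFn_mk, Set.mem_image,
        Finset.mem_coe, Finset.mem_filter, Finset.mem_univ, true_and]
      constructor
      · rintro ⟨h1, h2⟩
        refine ⟨⟨χ, (hmemS χ).mpr h1⟩, ?_, rfl⟩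
        intro h3
        apply h2
        rw [ha χ, h3]
        simp
      · rintro ⟨i, h1, rfl⟩
        refine ⟨(hmemS _).mp i.2, ?_⟩
        rw [ha i.1]
        exact_mod_cast h1
    rw [hset, Set.ncard_coe_finset, Finset.card_map] at hacard
    exact hacard
  -- `∑ a d = 0`
  · intro j
    have h1 := hd.sum_u hM hG j
    rw [hconv] at h1
    have h2 : ((∑ i : ↥S, a i.1 * d i.1 j : ℤ) : ℂ) = ((0 : ℤ) : ℂ) := by
      push_cast
      rw [← h1]
      apply Finset.sum_congr rfl
      intro i _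
      rw [ha i.1]
    exact_mod_cast h2
  -- parity
  · intro i
    rw [← hd.parity hM hG i.1 ((hmemS _).mp i.2), ha i.1]
    simp
  -- nonzero rows
  · intro i hi
    apply hd.row_ne_zero hM hG i.1 ((hmemS _).mp i.2)
    rw [ha i.1]
    have : a i.1 = 0 := hi
    rw [this]
    simp
  -- positivity
  · intro i
    rw [hx]
    beta_reduce
    exact_mod_cast irr_charDegree_pos i.1
  -- `∑ x d = 0`
  · intro j
    have h1 := hd.sum_deg hM ht2 j
    rw [hconv] at h1
    have h2 : ((∑ i : ↥S, x i * (d i.1 j : ℝ) : ℝ) : ℂ) = ((0 : ℝ) : ℂ) := by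
      push_cast
      rw [← h1]
      apply Finset.sum_congr rfl
      intro i _
      rw [hdeg i.1]
    exact_mod_cast h2
  -- `∑ x a = 0`
  · have h1 := sum_deg_u hM hG
    rw [hconv] at h1
    have h2 : ((∑ i : ↥S, x i * (a i.1 : ℝ) : ℝ) : ℂ) = ((0 : ℝ) : ℂ) := by
      push_cast
      rw [← h1]
      apply Finset.sum_congr rfl
      intro i _
      rw [hdeg i.1, ha i.1]
    exact_mod_cast h2
  -- `∑ v d = 0`
  · intro j
    have h1 := hd.sum_sq_div hM hG j
    rw [hconv] at h1
    have h2 : ((∑ i : ↥S, ((∑ l, d i.1 l * f l : ℤ) : ℝ) ^ 2 / x i * (d i.1 j : ℝ) : ℝ) : ℂ) =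
        ((0 : ℝ) : ℂ) := by
      rw [Complex.ofReal_sum, Complex.ofReal_zero, ← h1]
      apply Finset.sum_congr rfl
      intro i _
      have hxi : x i = (charDegree (i.1 : G → ℂ) : ℝ) := rfl
      rw [hapt i, hdeg i.1, hxi]
      push_cast
      ring
    exact_mod_cast h2
  -- `∑ v a = 0`
  · have h1 := sum_sq_div_u hM hG
    rw [hconv] at h1
    have h2 : ((∑ i : ↥S, ((∑ l, d i.1 l * f l : ℤ) : ℝ) ^ 2 / x i * (a i.1 : ℝ) : ℝ) : ℂ) =
        ((0 : ℝ) : ℂ) := by
      rw [Complex.ofReal_sum, Complex.ofReal_zero, ← h1]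
      apply Finset.sum_congr rfl
      intro i _
      have hxi : x i = (charDegree (i.1 : G → ℂ) : ℝ) := rfl
      rw [hapt i, hdeg i.1, ha i.1, hxi]
      push_cast
      ring
    exact_mod_cast h2

/-- **Main theorem** (Brauer), in the form announced to the team. -/
theorem quat_principal_block (hM : IsPModular 2 M) (t u : G) (hG : QuatFacts G t u)
    (C : Subgroup G) (hCdef : C = Subgroup.centralizer ({t} : Set G)) (tC uC : C)
    (htC : (tC : G) = t) (_huC : (uC : G) = u) (hC : QuatFacts C tC uC) :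
    Nat.card (principalBlock M G) = 7 ∧
    ∃ χ : IrrCharacter G, χ ∈ principalBlock M G ∧ χ ≠ trivIrr G ∧
      ((χ : G → ℂ) t = (χ : G → ℂ) 1 ∨ (χ : G → ℂ) t = -(χ : G → ℂ) 1) := by
  subst hCdef
  have h1 : tC = tCent t := Subtype.ext htC
  subst h1
  exact quat_principal_block_aux hM t u hG uC hC

end main

end Cfsg.Agent.CharLib
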