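import Mathlib
import Cfsg.Agent.Lib.Lead.BrLeo13

/-!
lead: Brauer–Leonard (S4709 cluster), part 14: the set-up exposed as a reusable existence theorem
(`exists_blRep`), with canonical value and coefficient functions `blX`, `blC`.
-/

set_option autoImplicit false

namespace Cfsg.Agent.CharLib

open Cfsg Cfsg.Agent.Lib.Helper24 Cfsg.Agent.Lib.Helper6
open scoped ComplexConjugate

universe u

section setup

variable {G : Type u} [Group G] [Finite G] {p : ℕ} [hpp : Fact p.Prime]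

/-- The values of the principal block characters on `P`. -/
noncomputable def blX (M : Ideal AlgInt) (P : Sylow p G) :
    ↥(principalBlock M G) → ↥(P : Subgroup G) → ℂ := fun χ y => (χ.1 : G → ℂ) (y : G)

/-- The coefficient matrix. -/
noncomputable def blC (M : Ideal AlgInt) (P : Sylow p G) [Fintype ↥(P : Subgroup G)] :
    ↥(principalBlock M G) → (↥(P : Subgroup G) →* ℂˣ) → ℤ :=
  fun χ ψ => ⌊(multP (blX M P χ) ψ - multP (blX M P χ) 1).re⌋

theorem multP_blX_nat (M : Ideal AlgInt) (P : Sylow p G) [Fintype ↥(P : Subgroup G)]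
    (χ : ↥(principalBlock M G)) (ψ : ↥(P : Subgroup G) →* ℂˣ) :
    ∃ n : ℕ, multP (blX M P χ) ψ = n := by
  obtain ⟨n, hn⟩ := IsCharacter.classInner_nat
    (IsCharacter.restrict (IsIrrCharacter.isCharacter χ.1.2) (P : Subgroup G))
    (isCharacter_of_hom ψ)
  refine ⟨n, ?_⟩
  rw [← hn]
  unfold multP classInner blX
  rw [Nat.card_eq_fintype_card]

theorem blC_spec (M : Ideal AlgInt) (P : Sylow p G) [Fintype ↥(P : Subgroup G)]
    (χ : ↥(principalBlock M G)) (ψ : ↥(P : Subgroup G) →* ℂˣ) :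
    (blC M P χ ψ : ℂ) = multP (blX M P χ) ψ - multP (blX M P χ) 1 := by
  obtain ⟨n, hn⟩ := multP_blX_nat M P χ ψ
  obtain ⟨n', hn'⟩ := multP_blX_nat M P χ 1
  unfold blC
  rw [hn, hn']
  have h1 : ((n : ℂ) - (n' : ℂ)) = (((n : ℤ) - (n' : ℤ) : ℤ) : ℂ) := by push_cast; ring
  rw [h1]
  have h2 : ((((n : ℤ) - (n' : ℤ) : ℤ) : ℂ)).re = (((n : ℤ) - (n' : ℤ) : ℤ) : ℝ) := by
    simp
  rw [h2, Int.floor_intCast]

theorem sum_regular_blX {M : Ideal AlgInt} (hM : IsPModular p M) (P : Sylow p G)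
    [Fintype ↥(principalBlock M G)] (g : G) (hg : ¬ p ∣ orderOf g) (y : ↥(P : Subgroup G))
    (hy : y ≠ 1) :
    ∑ χ : ↥(principalBlock M G), (χ.1 : G → ℂ) g * blX M P χ y = 0 :=
  sum_regular_mul_sylow hM P g hg (y : G) y.2 (fun h => hy (Subtype.ext h))

set_option maxHeartbeats 800000 in
theorem exists_blRep (M : Ideal Cfsg.AlgInt)
    (hM : Cfsg.IsPModular p M) (P : Sylow p G) (hab : IsMulCommutative P)
    (m : ℕ) (hm1 : 1 < m) (hm2 : m + 1 < Nat.card P)
    (hCN : (Subgroup.centralizer ((P : Subgroup G) : Set G)).relIndex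
      (Subgroup.normalizer ((P : Subgroup G) : Set G)) = m)
    (hcyc : ∃ g : G, g ∈ Subgroup.normalizer ((P : Subgroup G) : Set G) ∧
      Subgroup.centralizer ((P : Subgroup G) : Set G) ⊔ Subgroup.zpowers g =
        Subgroup.normalizer ((P : Subgroup G) : Set G))
    (hfrob : BLFrob P) [Fintype ↥(P : Subgroup G)] [Fintype (↥(P : Subgroup G) →* ℂˣ)]
    [Fintype ↥(principalBlock M G)] [DecidableEq ↥(principalBlock M G)] :
    ∃ (β : ↥(P : Subgroup G) ≃* ↥(P : Subgroup G)) (δ d : ℤ) (a : ↥(principalBlock M G) → ℤ)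
      (e : (↥(P : Subgroup G) →* ℂˣ) → ↥(principalBlock M G)), FreeAut β m ∧
      (∀ n : G, n ∈ Subgroup.normalizer ((P : Subgroup G) : Set G) → ∃ k : ℕ,
        ∀ w : ↥(P : Subgroup G), (((β ^ k) w : ↥(P : Subgroup G)) : G) = n * w * n⁻¹) ∧
      (∀ k : ℕ, ∃ n : G, n ∈ Subgroup.normalizer ((P : Subgroup G) : Set G) ∧
        ∀ w : ↥(P : Subgroup G), (((β ^ k) w : ↥(P : Subgroup G)) : G) = n * w * n⁻¹) ∧
      BLRep β m (blC M P) δ d a e := by
  have hm0 : 0 < m := by omega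
  obtain ⟨β, hfree, hdictN, hdictK⟩ := exists_freeAut P hab m hm0 hCN hcyc hfrob
  have hm2' : m + 1 < Fintype.card ↥(P : Subgroup G) := by
    rw [← Nat.card_eq_fintype_card]; exact hm2
  have hne : ∀ y : ↥(P : Subgroup G), y ≠ 1 → (y : G) ≠ 1 := by
    intro y hy h
    exact hy (Subtype.ext h)
  have hconj : ∀ y y' : ↥(P : Subgroup G), IsConj (y : G) (y' : G) ↔
      ∃ k : ℕ, y' = (β ^ k) y := by
    intro y y'
    constructor
    · intro hyy
      obtain ⟨n, hn, hn'⟩ := exists_normalizer_conj_of_isConj P hab (y : G) (y' : G) y.2 y'.2 hyy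
      obtain ⟨k, hk⟩ := hdictN n hn
      exact ⟨k, Subtype.ext (by rw [hk y, hn'])⟩
    · rintro ⟨k, hk⟩
      obtain ⟨n, -, hn'⟩ := hdictK k
      rw [isConj_iff]
      exact ⟨n, by rw [hk, hn' y]⟩
  have horth : ∀ y y' : ↥(P : Subgroup G), y ≠ 1 → y' ≠ 1 →
      ∑ χ : ↥(principalBlock M G), blX M P χ y * conj (blX M P χ y') =
      (Fintype.card ↥(P : Subgroup G) : ℂ) *
        ∑ k ∈ Finset.range m, @ite ℂ (y' = (β ^ k) y) (Classical.propDecidable _) 1 0 := by
    intro y y' hy hy'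
    rw [hfree.sum_range_ite hm0 y y' hy]
    have h1 := hfrob.column_orthogonality hM hab (y : G) (y' : G) y.2 (hne y hy) y'.2
    have h2 := sum_principalBlock_subtype M
      (fun χ : IrrCharacter G => (χ : G → ℂ) (y : G) * conj ((χ : G → ℂ) (y' : G)))
    rw [h1] at h2
    have h3 : ∑ χ : ↥(principalBlock M G), blX M P χ y * conj (blX M P χ y') =
        ∑ χ : ↥(principalBlock M G), (χ.1 : G → ℂ) (y : G) * conj ((χ.1 : G → ℂ) (y' : G)) := rfl
    rw [h3, h2, Nat.card_eq_fintype_card]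
    by_cases hyy : IsConj (y : G) (y' : G)
    · rw [if_pos hyy, if_pos ((hconj y y').mp hyy), mul_one]
    · rw [if_neg hyy, if_neg (fun h => hyy ((hconj y y').mpr h)), mul_zero]
  have hone : ¬ p ∣ orderOf (1 : G) := by
    rw [orderOf_one]
    exact fun h => hpp.out.one_lt.ne' (Nat.dvd_one.mp h)
  have hf : ∀ χ : ↥(principalBlock M G), 0 < (charDegree (χ.1 : G → ℂ) : ℤ) := by
    intro χ
    exact_mod_cast irr_charDegree_pos χ.1
  have hZf : ∀ y : ↥(P : Subgroup G), y ≠ 1 →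
      ∑ χ : ↥(principalBlock M G), (((charDegree (χ.1 : G → ℂ) : ℤ)) : ℂ) * blX M P χ y = 0 := by
    intro y hy
    rw [← sum_regular_blX hM P 1 hone y hy]
    apply Finset.sum_congr rfl
    intro χ _
    rw [irr_apply_one χ.1]
    push_cast
    rfl
  obtain ⟨δ, d, a, e, hrep⟩ := bl_rep β m hfree hm1 hm2' (blX M P) (blC M P) (blC_spec M P) horth
    (fun χ => (charDegree (χ.1 : G → ℂ) : ℤ)) hf hZf
  exact ⟨β, δ, d, a, e, hfree, hdictN, hdictK, hrep⟩

end setup

end Cfsg.Agent.CharLib
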