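import Mathlib
import Cfsg.Agent.Lib.Lead.BrLeo14

/-!
lead: Brauer–Leonard (S4721), part 15: normalisation of the representation when `m = 3`.
-/

set_option autoImplicit false

namespace Cfsg.Agent.CharLib

open Cfsg Cfsg.Agent.Lib.Helper24 Cfsg.Agent.Lib.Helper6
open scoped ComplexConjugate

universe u v

theorem not_prime_pow_ten (p k : ℕ) (hp : p.Prime) : p ^ k ≠ 10 := by
  intro h
  have h2 : 2 ∣ p ^ k := by rw [h]; norm_num
  have h5 : 5 ∣ p ^ k := by rw [h]; norm_num
  have h2' := (Nat.prime_dvd_prime_iff_eq Nat.prime_two hp).mp (Nat.Prime.dvd_of_dvd_pow Nat.prime_two h2)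
  have h5' := (Nat.prime_dvd_prime_iff_eq Nat.prime_five hp).mp (Nat.Prime.dvd_of_dvd_pow Nat.prime_five h5)
  omega

section three

variable {B : Type v} [DecidableEq B]

/-- A set of non-zero integers containing a `1` with squares summing to `3` consists of three
signs. -/
theorem card_eq_three_of_sum_sq (a : B → ℤ) (S : Finset B) (χ₁ : B) (hχ₁ : χ₁ ∈ S)
    (ha1 : a χ₁ = 1) (ha : ∀ χ ∈ S, a χ ≠ 0) (hsum : ∑ χ ∈ S, a χ ^ 2 = 3) :
    S.card = 3 ∧ ∀ χ ∈ S, a χ = 1 ∨ a χ = -1 := by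
  have h1 : ∑ χ ∈ S.erase χ₁, a χ ^ 2 = 2 := by
    have := Finset.add_sum_erase S (fun χ => a χ ^ 2) hχ₁
    rw [ha1, hsum] at this
    linarith
  have h2 : ∀ χ ∈ S.erase χ₁, a χ = 1 ∨ a χ = -1 := by
    intro χ hχ
    have h3 : a χ ^ 2 ≤ ∑ χ ∈ S.erase χ₁, a χ ^ 2 :=
      Finset.single_le_sum (f := fun χ => a χ ^ 2) (fun i _ => sq_nonneg (a i)) hχ
    rw [h1] at h3
    have h4 := ha χ (Finset.mem_of_mem_erase hχ)
    have h5 : a χ ≤ 1 := by nlinarith
    have h6 : -1 ≤ a χ := by nlinarith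
    omega
  have h3 : ∑ χ ∈ S.erase χ₁, a χ ^ 2 = ((S.erase χ₁).card : ℤ) := by
    rw [Finset.card_eq_sum_ones]
    push_cast
    apply Finset.sum_congr rfl
    intro χ hχ
    rcases h2 χ hχ with h | h <;> rw [h] <;> norm_num
  have h4 : (S.erase χ₁).card = 2 := by
    have : ((S.erase χ₁).card : ℤ) = 2 := by rw [← h3, h1]
    exact_mod_cast this
  rw [Finset.card_erase_of_mem hχ₁] at h4
  have hpos : 0 < S.card := Finset.card_pos.mpr ⟨χ₁, hχ₁⟩
  refine ⟨by omega, ?_⟩
  intro χ hχ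
  by_cases hχ' : χ = χ₁
  · rw [hχ', ha1]; exact Or.inl rfl
  · exact h2 χ (Finset.mem_erase.mpr ⟨hχ', hχ⟩)

end three

section normalize

variable {A : Type u} [Group A] [Fintype A] [Fintype (A →* ℂˣ)]
variable {B : Type v} [Fintype B] [DecidableEq B]
variable {β : A ≃* A} {c : B → (A →* ℂˣ) → ℤ} {δ d : ℤ} {a : B → ℤ}
  {e : (A →* ℂˣ) → B}

set_option maxHeartbeats 800000 in
open Classical in
theorem BLRep.normalize3 (h : BLRep β 3 c δ d a e) (hfree : FreeAut β 3)
    (hcardA : 4 < Fintype.card A) (hpp : ∃ p k : ℕ, p.Prime ∧ Fintype.card A = p ^ k)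
    (χ₁ : B) (hχ₁ : χ₁ ∉ blY e) (haχ₁ : a χ₁ = 1)
    (ha : ∀ χ ∈ Finset.univ \ blY e, a χ ≠ 0)
    (f : B → ℤ) (hf : ∀ χ, 0 < f χ) (hfχ₁ : f χ₁ = 1)
    (hZf : ∀ ψ : A →* ℂˣ, ψ ≠ 1 → (((blY e).card : ℤ) * d - δ) * f (e ψ) +
      ∑ χ ∈ Finset.univ \ blY e, a χ * f χ = 0) :
    ∃ (δ' : ℤ) (a' : B → ℤ) (e' : (A →* ℂˣ) → B), BLRep β 3 c δ' 0 a' e' ∧ blY e' = blY e ∧
      (Finset.univ \ blY e').card = 3 ∧ (∀ χ ∈ Finset.univ \ blY e', a' χ = 1 ∨ a' χ = -1) ∧
      (∀ χ ∈ Finset.univ \ blY e', a' χ = a χ) := by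
  have hm0 : 0 < 3 := by norm_num
  have hcardY := h.card_blY hfree hm0
  have hnorm := h.norm'
  have hχ₁X : χ₁ ∈ Finset.univ \ blY e := Finset.mem_sdiff.mpr ⟨Finset.mem_univ _, hχ₁⟩
  have hX1 : 1 ≤ ∑ χ ∈ Finset.univ \ blY e, a χ ^ 2 := by
    have h3 : a χ₁ ^ 2 ≤ ∑ χ ∈ Finset.univ \ blY e, a χ ^ 2 :=
      Finset.single_le_sum (f := fun χ => a χ ^ 2) (fun i _ => sq_nonneg (a i)) hχ₁X
    rw [haχ₁] at h3
    linarith
  have hδ2 := h.delta_sq
  have hr2 : 2 ≤ (blY e).card := by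
    by_contra hcon
    have h1 : (blY e).card ≤ 1 := by omega
    omega
  have hr2' : (2 : ℤ) ≤ ((blY e).card : ℤ) := by exact_mod_cast hr2
  by_cases hd : d = 0
  · -- the case `d = 0`
    subst hd
    have hsum : ∑ χ ∈ Finset.univ \ blY e, a χ ^ 2 = 3 := by
      have : (0 - δ) ^ 2 = 1 := by rw [← hδ2]; ring
      rw [this] at hnorm
      push_cast at hnorm
      linarith
    obtain ⟨h3, h4⟩ := card_eq_three_of_sum_sq a _ χ₁ hχ₁X haχ₁ ha hsum
    exact ⟨δ, a, e, h, rfl, h3, h4, fun _ _ => rfl⟩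
  · -- the case `d ≠ 0`
    have hd2 : 1 ≤ d ^ 2 := by
      have : 0 < d ^ 2 := by positivity
      omega
    have hbound : (d - δ) ^ 2 + (((blY e).card : ℤ) - 1) * d ^ 2 ≤ 3 := by
      push_cast at hnorm
      linarith
    have hd3 : d ^ 2 ≤ 3 := by nlinarith [sq_nonneg (d - δ)]
    have hd1 : d = 1 ∨ d = -1 := by
      have h5 : d ≤ 1 := by nlinarith
      have h6 : -1 ≤ d := by nlinarith
      omega
    have hdδ : d = δ := by
      rcases hd1 with h1 | h1 <;> rcases h.hδ with h2 | h2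
      · rw [h1, h2]
      · exfalso; rw [h1, h2] at hbound; nlinarith
      · exfalso; rw [h1, h2] at hbound; nlinarith
      · rw [h1, h2]
    subst hdδ
    have hsum4 : (((blY e).card : ℤ) - 1) + ∑ χ ∈ Finset.univ \ blY e, a χ ^ 2 = 4 := by
      have : (d - d) ^ 2 = 0 := by ring
      rw [this, hδ2] at hnorm
      push_cast at hnorm
      linarith
    have hr4 : (blY e).card ≤ 4 := by
      have : ((blY e).card : ℤ) ≤ 4 := by linarith
      exact_mod_cast this
    -- a non-trivial character exists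
    have hcard : 1 < Fintype.card (A →* ℂˣ) := by
      rw [card_dual hfree.comm]; omega
    obtain ⟨ψ₀, hψ₀⟩ := Fintype.exists_ne_of_one_lt_card hcard (1 : A →* ℂˣ)
    have hrcases : (blY e).card = 2 ∨ (blY e).card = 3 ∨ (blY e).card = 4 := by omega
    rcases hrcases with hr | hr | hr
    · -- `r = 2`: swap the two exceptional characters
      have hsum : ∑ χ ∈ Finset.univ \ blY e, a χ ^ 2 = 3 := by
        rw [hr] at hsum4
        push_cast at hsum4
        linarith
      obtain ⟨h3, h4⟩ := card_eq_three_of_sum_sq a _ χ₁ hχ₁X haχ₁ ha hsum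
      obtain ⟨η₁, η₂, hη, hY⟩ := Finset.card_eq_two.mp hr
      have hmemY : ∀ χ, χ ∈ blY e ↔ χ = η₁ ∨ χ = η₂ := by
        intro χ
        rw [hY, Finset.mem_insert, Finset.mem_singleton]
      have heY : ∀ ψ : A →* ℂˣ, ψ ≠ 1 → e ψ = η₁ ∨ e ψ = η₂ := by
        intro ψ hψ
        exact (hmemY _).mp ((mem_blY e (e ψ)).mpr ⟨ψ, hψ, rfl⟩)
      let e' : (A →* ℂˣ) → B := fun ψ => if e ψ = η₁ then η₂ else η₁
      let a' : B → ℤ := fun χ => if χ ∈ blY e then 0 else a χ
      have he'1 : ∀ ψ, e ψ = η₁ → e' ψ = η₂ := fun ψ hψ => if_pos hψ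
      have he'2 : ∀ ψ, e ψ = η₂ → e' ψ = η₁ := fun ψ hψ =>
        if_neg (by rw [hψ]; exact Ne.symm hη)
      have hYe' : blY e' = blY e := by
        ext χ
        rw [mem_blY, hmemY]
        constructor
        · rintro ⟨ψ, hψ, rfl⟩
          rcases heY ψ hψ with h5 | h5
          · exact Or.inr (he'1 ψ h5)
          · exact Or.inl (he'2 ψ h5)
        · rintro (rfl | rfl)
          · obtain ⟨ψ, hψ, hψe⟩ := (mem_blY e η₂).mp ((hmemY η₂).mpr (Or.inr rfl))
            exact ⟨ψ, hψ, he'2 ψ hψe⟩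
          · obtain ⟨ψ, hψ, hψe⟩ := (mem_blY e η₁).mp ((hmemY η₁).mpr (Or.inl rfl))
            exact ⟨ψ, hψ, he'1 ψ hψe⟩
      have hrep' : BLRep β 3 c (-d) 0 a' e' := by
        refine ⟨?_, ?_, ?_, ?_, ?_⟩
        · rcases h.hδ with h5 | h5 <;> rw [h5] <;> norm_num
        · intro ψ ψ' hψ hψ'
          rw [← h.erel ψ ψ' hψ hψ']
          rcases heY ψ hψ with h5 | h5 <;> rcases heY ψ' hψ' with h6 | h6
          · rw [he'1 ψ h5, he'1 ψ' h6, h5, h6]
            exact ⟨fun _ => rfl, fun _ => rfl⟩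
          · rw [he'1 ψ h5, he'2 ψ' h6, h5, h6]
            exact ⟨fun h7 => h7.symm, fun h7 => h7.symm⟩
          · rw [he'2 ψ h5, he'1 ψ' h6, h5, h6]
            exact ⟨fun h7 => h7.symm, fun h7 => h7.symm⟩
          · rw [he'2 ψ h5, he'2 ψ' h6, h5, h6]
            exact ⟨fun _ => rfl, fun _ => rfl⟩
        · intro ψ hψ χ
          rw [h.rep ψ hψ χ]
          by_cases hχ : χ ∈ blY e
          · have haχ : a χ = d := by
              obtain ⟨ψ', hψ', rfl⟩ := (mem_blY e χ).mp hχ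
              exact h.ad ψ' hψ'
            simp only [a']
            rw [if_pos hχ, haχ]
            rcases (hmemY χ).mp hχ with h5 | h5 <;> rcases heY ψ hψ with h6 | h6
            · rw [he'1 ψ h6, h5, h6, if_pos rfl, if_neg hη]; ring
            · rw [he'2 ψ h6, h5, h6, if_neg hη, if_pos rfl]; ring
            · rw [he'1 ψ h6, h5, h6, if_neg (Ne.symm hη), if_pos rfl]; ring
            · rw [he'2 ψ h6, h5, h6, if_pos rfl, if_neg (Ne.symm hη)]; ring
          · simp only [a']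
            rw [if_neg hχ]
            have h7 : χ ≠ e ψ := by
              intro h8
              exact hχ ((mem_blY e χ).mpr ⟨ψ, hψ, h8.symm⟩)
            have h8 : χ ≠ e' ψ := by
              intro h9
              apply hχ
              rw [← hYe']
              exact (mem_blY e' χ).mpr ⟨ψ, hψ, h9.symm⟩
            rw [if_neg h7, if_neg h8]
        · intro ψ hψ
          simp only [a']
          rw [if_pos]
          rw [← hYe']
          exact (mem_blY e' _).mpr ⟨ψ, hψ, rfl⟩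
        · have h5 : ∑ χ : B, a' χ ^ 2 = ∑ χ ∈ Finset.univ \ blY e, a χ ^ 2 := by
            rw [← Finset.sum_sdiff (Finset.subset_univ (blY e))]
            have h6 : ∑ χ ∈ blY e, a' χ ^ 2 = 0 := by
              apply Finset.sum_eq_zero
              intro χ hχ
              simp only [a']
              rw [if_pos hχ]
              ring
            rw [h6, add_zero]
            apply Finset.sum_congr rfl
            intro χ hχ
            simp only [a']
            rw [if_neg (Finset.mem_sdiff.mp hχ).2]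
          rw [h5, hsum]
          push_cast
          ring
      refine ⟨-d, a', e', hrep', hYe', ?_, ?_, ?_⟩
      · rw [hYe']; exact h3
      · intro χ hχ
        rw [hYe'] at hχ
        simp only [a']
        rw [if_neg (Finset.mem_sdiff.mp hχ).2]
        exact h4 χ hχ
      · intro χ hχ
        rw [hYe'] at hχ
        simp only [a']
        rw [if_neg (Finset.mem_sdiff.mp hχ).2]
    · -- `r = 3`: `|A| = 10` is not a prime power
      exfalso
      obtain ⟨p, k, hp, hpk⟩ := hpp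
      rw [hr] at hcardY
      have : Fintype.card A = 10 := by omega
      rw [this] at hpk
      exact not_prime_pow_ten p k hp hpk.symm
    · -- `r = 4`: degrees
      exfalso
      have hsum : ∑ χ ∈ Finset.univ \ blY e, a χ ^ 2 = 1 := by
        rw [hr] at hsum4
        push_cast at hsum4
        linarith
      have h5 : ∑ χ ∈ (Finset.univ \ blY e).erase χ₁, a χ ^ 2 = 0 := by
        have := Finset.add_sum_erase (Finset.univ \ blY e) (fun χ => a χ ^ 2) hχ₁X
        rw [haχ₁, hsum] at this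
        linarith
      have h6 : (Finset.univ \ blY e).erase χ₁ = ∅ := by
        rw [Finset.eq_empty_iff_forall_notMem]
        intro χ hχ
        have h7 := (Finset.sum_eq_zero_iff_of_nonneg (fun i _ => sq_nonneg (a i))).mp h5 χ hχ
        exact ha χ (Finset.mem_of_mem_erase hχ) ((pow_eq_zero_iff (two_ne_zero)).mp h7)
      have h7 : ∑ χ ∈ Finset.univ \ blY e, a χ * f χ = 1 := by
        rw [← Finset.add_sum_erase _ _ hχ₁X, h6, Finset.sum_empty, haχ₁, hfχ₁]
        norm_num
      have h8 := hZf ψ₀ hψ₀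
      rw [h7, hr] at h8
      push_cast at h8
      rcases h.hδ with h9 | h9 <;> rw [h9] at h8 <;> omega

end normalize

end Cfsg.Agent.CharLib
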