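import Mathlib
import Cfsg.Agent.Lib.Lead.SecondMain8
import Cfsg.Agent.Lib.Helper24.ClassMul

/-!
lead: character-theoretic part of Brauer's order formula for Klein four Sylow 2-subgroups (S4479):
sums over the normal `p`-complement of a centralizer, and the class multiplication function.
-/

set_option autoImplicit false

namespace Cfsg.Agent.CharLib

open Cfsg Cfsg.Agent.Lib.Helper24 Cfsg.Agent.Lib.Helper6
open scoped ComplexConjugate

universe u

section pcompl

variable {X : Type u} [Group X] [Finite X] {M : Ideal AlgInt}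

/-- If `X` has a normal `p`-complement `K`, the principal block part of a class function at `1`
is its average over `K`. -/
theorem blockPart_principal_one_of_pcomplement {p : ℕ} [hpp : Fact p.Prime] (hM : IsPModular p M)
    (hk : ∃ k : ℕ, (pPrimeCore p X).index = p ^ k) (f : X → ℂ) (hf : IsClassFunction X f) :
    blockPart (principalBlock M X) f 1 =
      (Nat.card (pPrimeCore p X) : ℂ)⁻¹ * ∑ᶠ n : pPrimeCore p X, f (n : X) := by
  classical
  let _ : Fintype X := Fintype.ofFinite X
  let _ : Fintype (IrrCharacter X) := Fintype.ofFinite _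
  obtain ⟨k, hk⟩ := hk
  set K := pPrimeCore p X with hKdef
  haveI hKn : K.Normal := Cfsg.Agent.Lib.Helper1.pPrimeCore_normal p X
  let _ : Fintype K := Fintype.ofFinite K
  have hcop : (Nat.card K).Coprime p := Cfsg.Agent.Lib.Helper12.pPrimeCore_coprime p
  have hpK : ¬ p ∣ Nat.card K := by
    intro h
    have := Nat.Coprime.eq_one_of_dvd hcop.symm h
    exact hpp.out.one_lt.ne' this
  have hQ : IsPGroup p (X ⧸ K) := by
    apply IsPGroup.of_card (n := k)
    rw [← Subgroup.index_eq_card, hk]
  have hmem : ∀ χ : IrrCharacter X, χ ∈ principalBlock M X ↔ TrivOn K (χ : X → ℂ) := by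
    intro χ
    constructor
    · intro h n
      exact le_ker_of_sameBlock_one hM K hpK χ h n n.2
    · intro h
      exact sameBlock_one_of_le_ker hM K hQ χ (fun n hn => h ⟨n, hn⟩)
  rw [blockPart_apply, finsum_mem_eq_sum_ite, finsum_eq_sum_of_fintype]
  have h1 := classInner_res_one_eq_sum K hf
  have h2 : classInner (resFun K f) (1 : K → ℂ) = (Nat.card K : ℂ)⁻¹ * ∑ n : K, f (n : X) := by
    unfold classInner
    congr 1
    apply Finset.sum_congr rfl
    intro n _
    rw [resFun_apply]
    simp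
  rw [← h2, h1]
  apply Finset.sum_congr rfl
  intro χ _
  by_cases hχ : TrivOn K (χ : X → ℂ)
  · rw [if_pos ((hmem χ).mpr hχ), classInner_res_one_of_trivOn K hχ]
  · rw [if_neg (fun h => hχ ((hmem χ).mp h))]
    have h0 : classInner (resFun K (χ : X → ℂ)) (1 : K → ℂ) = 0 := by
      by_contra hne
      exact hχ (trivOn_of_classInner_res_one_ne_zero K χ hne)
    rw [h0, mul_zero]

end pcompl

section section_sums

variable {G : Type u} [Group G] [Finite G] {M : Ideal AlgInt}

/-- For `ζ` in the principal block the sum over the section `z K` is `|K| ζ(z)`. -/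
theorem sum_core_section_of_mem {p : ℕ} [hpp : Fact p.Prime] (hM : IsPModular p M)
    (z : G) (hz : ∃ k : ℕ, orderOf z = p ^ k)
    (hk : ∃ k : ℕ, (pPrimeCore p (Subgroup.centralizer ({z} : Set G))).index = p ^ k)
    (ζ : IrrCharacter G) (hζ : ζ ∈ principalBlock M G) :
    ∑ᶠ n : pPrimeCore p (Subgroup.centralizer ({z} : Set G)),
        (ζ : G → ℂ) (z * ((n : Subgroup.centralizer ({z} : Set G)) : G)) =
      (Nat.card (pPrimeCore p (Subgroup.centralizer ({z} : Set G))) : ℂ) * (ζ : G → ℂ) z := by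
  classical
  set C := Subgroup.centralizer ({z} : Set G) with hC
  set K := pPrimeCore p C with hK
  let _ : Fintype K := Fintype.ofFinite K
  have hcop : (Nat.card K).Coprime p := Cfsg.Agent.Lib.Helper12.pPrimeCore_coprime p
  rw [finsum_eq_sum_of_fintype]
  have h1 : ∀ n : K, (ζ : G → ℂ) (z * ((n : C) : G)) = (ζ : G → ℂ) z := by
    intro n
    apply apply_section_of_pcomplement_aux hM z hz C hC hk ζ hζ (n : C)
    intro hdvd
    have h2 : orderOf (n : C) ∣ Nat.card K := by
      rw [Subgroup.orderOf_coe]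
      exact orderOf_dvd_natCard n
    have h3 : p ∣ Nat.card K := dvd_trans hdvd h2
    have := Nat.Coprime.eq_one_of_dvd hcop.symm h3
    exact hpp.out.one_lt.ne' this
  rw [Finset.sum_congr rfl (fun n _ => h1 n), Finset.sum_const, Finset.card_univ, nsmul_eq_mul,
    Nat.card_eq_fintype_card]

/-- For `χ` outside the principal block the sum over the section `z K` vanishes. -/
theorem sum_core_section_of_not_mem {p : ℕ} [hpp : Fact p.Prime] (hM : IsPModular p M)
    (z : G) (hz : ∃ k : ℕ, orderOf z = p ^ k)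
    (hk : ∃ k : ℕ, (pPrimeCore p (Subgroup.centralizer ({z} : Set G))).index = p ^ k)
    (χ : IrrCharacter G) (hχ : χ ∉ principalBlock M G) :
    ∑ᶠ n : pPrimeCore p (Subgroup.centralizer ({z} : Set G)),
        (χ : G → ℂ) (z * ((n : Subgroup.centralizer ({z} : Set G)) : G)) = 0 := by
  classical
  have hprime : M.IsPrime := isPrime_of_isPModular hM
  set C := Subgroup.centralizer ({z} : Set G) with hC
  set K := pPrimeCore p C with hK
  have hcomm' : ∀ c : C, (c : G) * z = z * (c : G) := by
    intro c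
    have hc : (c : G) ∈ Subgroup.centralizer ({z} : Set G) := c.2
    rw [Subgroup.mem_centralizer_iff] at hc
    exact (hc z rfl).symm
  have hcl : IsClassFunction G (χ : G → ℂ) :=
    IsCharacter.isClassFunction (IsIrrCharacter.isCharacter χ.2)
  have htw : IsClassFunction C (fun c : C => (χ : G → ℂ) (z * (c : G))) := by
    intro c k
    change (χ : G → ℂ) (z * ((k : G) * (c : G) * (k : G)⁻¹)) = (χ : G → ℂ) (z * (c : G))
    have e : z * ((k : G) * (c : G) * (k : G)⁻¹) = (k : G) * (z * (c : G)) * (k : G)⁻¹ := by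
      have := hcomm' k
      calc z * ((k : G) * (c : G) * (k : G)⁻¹) = (z * (k : G)) * (c : G) * (k : G)⁻¹ := by group
        _ = ((k : G) * z) * (c : G) * (k : G)⁻¹ := by rw [this]
        _ = (k : G) * (z * (c : G)) * (k : G)⁻¹ := by group
    rw [e]
    exact hcl _ _
  have hb₀ : blockOf M ((trivIrr C : IrrCharacter C) : C → ℂ) = principalBlock M C := rfl
  have hind : IsInducedBlock M C (principalBlock M C) (principalBlock M G) := by
    have := (isInducedBlock_principal_centralizer_iff hM z hz C hC (trivIrr C)).mpr hb₀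
    rwa [hb₀] at this
  have hnot : ¬ IsInducedBlock M C (principalBlock M C) (blockOf M (χ : G → ℂ)) := by
    intro h
    have := isInducedBlock_unique hind h
    apply hχ
    rw [this]
    exact mem_blockOf_self χ
  have h0 := blockPart_eq_zero_of_not_induced hM z hz (blockOf M (χ : G → ℂ)) ⟨χ, rfl⟩ χ
    (mem_blockOf_self χ) (principalBlock M C) (isPBlock_principalBlock M C) hnot 1
    (by rw [orderOf_one]; exact hpp.out.one_lt.ne' ∘ Nat.dvd_one.mp)
  rw [blockPart_principal_one_of_pcomplement hM hk _ htw] at h0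
  have hne : (Nat.card K : ℂ)⁻¹ ≠ 0 := by
    apply inv_ne_zero
    exact_mod_cast (Nat.card_pos (α := K)).ne'
  exact (mul_eq_zero.mp h0).resolve_left hne

end section_sums

section pairfun

variable {G : Type u} [Group G] [Fintype G]

open Classical in
/-- The number of pairs `(a, b)` with `(a⁻¹ J a) (b⁻¹ J b) = g`. -/
noncomputable def pairFun (J g : G) : ℂ :=
  ∑ a : G, ∑ b : G, if a⁻¹ * J * a * (b⁻¹ * J * b) = g then 1 else 0

theorem pairFun_isClassFunction (J : G) : IsClassFunction G (pairFun J) := by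
  classical
  intro g k
  unfold pairFun
  rw [← Equiv.sum_comp (Equiv.mulRight k⁻¹)]
  apply Finset.sum_congr rfl
  intro a _
  rw [← Equiv.sum_comp (Equiv.mulRight k⁻¹)]
  apply Finset.sum_congr rfl
  intro b _
  simp only [Equiv.coe_mulRight]
  have e : (a * k⁻¹)⁻¹ * J * (a * k⁻¹) * ((b * k⁻¹)⁻¹ * J * (b * k⁻¹)) =
      k * (a⁻¹ * J * a * (b⁻¹ * J * b)) * k⁻¹ := by group
  apply if_congr _ rfl rfl
  rw [e]
  constructor
  · intro h2
    calc a⁻¹ * J * a * (b⁻¹ * J * b) = k⁻¹ * (k * (a⁻¹ * J * a * (b⁻¹ * J * b)) * k⁻¹) * k := by group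
      _ = k⁻¹ * (k * g * k⁻¹) * k := by rw [h2]
      _ = g := by group
  · intro h
    rw [h]

theorem classInner_pairFun (J : G) (χ : IrrCharacter G) :
    classInner (pairFun J) (χ : G → ℂ) =
      (Nat.card G : ℂ) * conj ((χ : G → ℂ) J) ^ 2 / (χ : G → ℂ) 1 := by
  classical
  obtain ⟨n, ρ, hirr, hρ⟩ := χ.2
  haveI := hirr
  have hcm := sum_sum_char_conj_mul ρ J J
  rw [hρ] at hcm
  have hdeg : (χ : G → ℂ) 1 = (Module.finrank ℂ (Fin n → ℂ) : ℂ) := by
    rw [← hρ]; exact Representation.char_one ρ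
  rw [← hdeg] at hcm
  have h1 : ∑ g : G, pairFun J g * conj ((χ : G → ℂ) g) =
      ∑ a : G, ∑ b : G, conj ((χ : G → ℂ) (a⁻¹ * J * a * (b⁻¹ * J * b))) := by
    unfold pairFun
    simp_rw [Finset.sum_mul]
    rw [Finset.sum_comm]
    apply Finset.sum_congr rfl
    intro a _
    rw [Finset.sum_comm]
    apply Finset.sum_congr rfl
    intro b _
    simp_rw [ite_mul, one_mul, zero_mul]
    rw [Finset.sum_ite_eq]
    simp
  have h2 : ∑ a : G, ∑ b : G, (χ : G → ℂ) (a⁻¹ * J * a * (b⁻¹ * J * b)) =
      ∑ a : G, ∑ b : G, (χ : G → ℂ) (a * J * a⁻¹ * (b * J * b⁻¹)) := by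
    rw [← Equiv.sum_comp (Equiv.inv G)]
    apply Finset.sum_congr rfl
    intro a _
    rw [← Equiv.sum_comp (Equiv.inv G)]
    apply Finset.sum_congr rfl
    intro b _
    simp
  have h3 : ∑ a : G, ∑ b : G, conj ((χ : G → ℂ) (a⁻¹ * J * a * (b⁻¹ * J * b))) =
      conj (∑ a : G, ∑ b : G, (χ : G → ℂ) (a⁻¹ * J * a * (b⁻¹ * J * b))) := by
    rw [map_sum]
    apply Finset.sum_congr rfl
    intro a _
    rw [map_sum]
  unfold classInner
  rw [h1, h3, h2, hcm]
  obtain ⟨d, hdpos, hd⟩ := IsIrrCharacter.apply_one_pos χ.2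
  have hG : (Nat.card G : ℂ) ≠ 0 := by exact_mod_cast (Nat.card_pos (α := G)).ne'
  have hd0 : (d : ℂ) ≠ 0 := by exact_mod_cast hdpos.ne'
  rw [hd, Nat.card_eq_fintype_card]
  simp only [map_div₀, map_mul, map_pow, Complex.conj_natCast]
  have hG' : (Fintype.card G : ℂ) ≠ 0 := by rw [← Nat.card_eq_fintype_card]; exact hG
  field_simp

open Classical in
/-- Summing the pair function over a coset `J K` counts the pairs with product in `J K`. -/
theorem sum_pairFun_eq_count (J : G) (C : Subgroup G) (K : Subgroup C) :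
    ∑ᶠ n : K, pairFun J (J * ((n : C) : G)) =
      ∑ a : G, ∑ b : G,
        (if ∃ k ∈ K.map C.subtype, a⁻¹ * J * a * (b⁻¹ * J * b) = J * k then (1 : ℂ) else 0) := by
  let _ : Fintype K := Fintype.ofFinite K
  rw [finsum_eq_sum_of_fintype]
  unfold pairFun
  rw [Finset.sum_comm]
  apply Finset.sum_congr rfl
  intro a _
  rw [Finset.sum_comm]
  apply Finset.sum_congr rfl
  intro b _
  by_cases h : ∃ k ∈ K.map C.subtype, a⁻¹ * J * a * (b⁻¹ * J * b) = J * k
  · rw [if_pos h]
    obtain ⟨k, hk, hab⟩ := h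
    obtain ⟨c, hc, rfl⟩ := Subgroup.mem_map.mp hk
    rw [Finset.sum_eq_single (⟨c, hc⟩ : K)]
    · rw [if_pos]
      exact hab
    · intro n _ hne
      rw [if_neg]
      intro h2
      apply hne
      rw [hab] at h2
      have h3 : ((c : G)) = ((n : C) : G) := mul_left_cancel h2
      exact Subtype.ext (Subtype.ext h3.symm)
    · intro h2
      exact absurd (Finset.mem_univ _) h2
  · rw [if_neg h]
    apply Finset.sum_eq_zero
    intro n _
    rw [if_neg]
    intro h2
    exact h ⟨((n : C) : G), Subgroup.mem_map.mpr ⟨(n : C), n.2, rfl⟩, h2⟩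

/-- The pair function summed over the section `J K`, via the principal block. -/
theorem sum_pairFun_section {M : Ideal AlgInt} {p : ℕ} [hpp : Fact p.Prime] (hM : IsPModular p M)
    (J : G) (hz : ∃ k : ℕ, orderOf J = p ^ k)
    (hk : ∃ k : ℕ, (pPrimeCore p (Subgroup.centralizer ({J} : Set G))).index = p ^ k) :
    ∑ᶠ n : pPrimeCore p (Subgroup.centralizer ({J} : Set G)),
        pairFun J (J * ((n : Subgroup.centralizer ({J} : Set G)) : G)) =
      (Nat.card G : ℂ) * (Nat.card (pPrimeCore p (Subgroup.centralizer ({J} : Set G))) : ℂ) *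
        ∑ᶠ χ ∈ principalBlock M G,
          conj ((χ : G → ℂ) J) ^ 2 * (χ : G → ℂ) J / (χ : G → ℂ) 1 := by
  classical
  let _ : Fintype (IrrCharacter G) := Fintype.ofFinite _
  set C := Subgroup.centralizer ({J} : Set G) with hC
  set K := pPrimeCore p C with hK
  let _ : Fintype K := Fintype.ofFinite K
  have hexp := classFunction_eq_sum (pairFun_isClassFunction J)
  have h1 : ∀ n : K, pairFun J (J * ((n : C) : G)) =
      ∑ χ : IrrCharacter G, classInner (pairFun J) (χ : G → ℂ) * (χ : G → ℂ) (J * ((n : C) : G)) := by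
    intro n
    have := congrFun hexp (J * ((n : C) : G))
    rw [Finset.sum_apply] at this
    rw [this]
    apply Finset.sum_congr rfl
    intro χ _
    rw [Pi.smul_apply, smul_eq_mul]
  rw [finsum_eq_sum_of_fintype, Finset.sum_congr rfl (fun n _ => h1 n), Finset.sum_comm,
    finsum_mem_eq_sum_ite, Finset.mul_sum]
  apply Finset.sum_congr rfl
  intro χ _
  rw [← Finset.mul_sum]
  have h2 : ∑ n : K, (χ : G → ℂ) (J * ((n : C) : G)) =
      ∑ᶠ n : K, (χ : G → ℂ) (J * ((n : C) : G)) := (finsum_eq_sum_of_fintype _).symm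
  rw [h2]
  by_cases hχ : χ ∈ principalBlock M G
  · rw [if_pos hχ, sum_core_section_of_mem hM J hz hk χ hχ, classInner_pairFun]
    ring
  · rw [if_neg hχ, sum_core_section_of_not_mem hM J hz hk χ hχ]
    ring

end pairfun

end Cfsg.Agent.CharLib
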