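import Mathlib
import Cfsg.Agent.Lib.Lead.BrLeo15
import Cfsg.Agent.Lib.Lead.KleinOrder2
import Cfsg.Agent.Lib.Lead.CharBurnside

/-!
lead: Brauer–Leonard (S4721), part 16: general tools for the involution formula:
integrality of character values at involutions, kernels, and the pair-count on a `p`-section.
-/

set_option autoImplicit false

namespace Cfsg.Agent.CharLib

open Cfsg Cfsg.Agent.Lib.Helper24 Cfsg.Agent.Lib.Helper6
open scoped ComplexConjugate

universe u

section involution_values

variable {G : Type u} [Group G] [Finite G]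

/-- Character values at involutions are rational integers. -/
theorem IsCharacter.apply_involution_int {χ : G → ℂ} (hχ : IsCharacter G χ) (t : G)
    (ht : orderOf t = 2) : ∃ n : ℤ, χ t = n := by
  classical
  have hcl : IsClassFunction G χ := IsCharacter.isClassFunction hχ
  let _ : Fintype (Subgroup.zpowers t) := Fintype.ofFinite _
  have hcardZ : Nat.card (Subgroup.zpowers t) = 2 := by rw [Nat.card_zpowers, ht]
  have hZ : ∀ x ∈ Subgroup.zpowers t, x ≠ 1 → IsConj x t := by
    intro x hx hx1
    have h1 := Subgroup.orderOf_dvd_natCard _ hx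
    rw [hcardZ] at h1
    have h2 : orderOf x = 2 := by
      rcases (Nat.dvd_prime Nat.prime_two).mp h1 with h | h
      · exact absurd (orderOf_eq_one_iff.mp h) hx1
      · exact h
    obtain ⟨k, rfl⟩ := Subgroup.mem_zpowers_iff.mp hx
    -- `t ^ k` is `1` or `t`
    have h3 : t ^ k = t ^ (k % 2) := by
      have := (zpow_mod_orderOf t k).symm
      rw [ht] at this
      exact this
    have h4 : k % 2 = 0 ∨ k % 2 = 1 := by omega
    rcases h4 with h4 | h4
    · rw [h3, h4, zpow_zero] at hx1
      exact absurd rfl hx1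
    · rw [h3, h4, zpow_one]
  have s1 := sum_subgroup_of_conj (Subgroup.zpowers t) χ hcl t hZ
  obtain ⟨a, ha⟩ := exists_nat_sum_subgroup (Subgroup.zpowers t) hχ
  obtain ⟨d, hd⟩ := IsCharacter.apply_one hχ
  rw [ha, hcardZ, hd] at s1
  refine ⟨2 * (a : ℤ) - (d : ℤ), ?_⟩
  push_cast
  push_cast at s1
  linear_combination (-1 : ℂ) * s1

/-- An irreducible character taking its degree at an element lying in no proper normal subgroup
is trivial. -/
theorem apply_ne_apply_one_of_normal_closure (χ : IrrCharacter G)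
    (hχ : (χ : G → ℂ) ≠ fun _ => 1) (t : G)
    (ht : ∀ K : Subgroup G, K.Normal → t ∈ K → K = ⊤) : (χ : G → ℂ) t ≠ (χ : G → ℂ) 1 := by
  intro heq
  obtain ⟨n, ρ, hirr, hρ⟩ := χ.2
  haveI := hirr
  have hdeg : (χ : G → ℂ) 1 = (Module.finrank ℂ (Fin n → ℂ) : ℂ) := by
    rw [← hρ]; exact Representation.char_one ρ
  have hnorm : ‖ρ.character t‖ = (Module.finrank ℂ (Fin n → ℂ) : ℝ) := by
    rw [hρ, heq, hdeg, Complex.norm_natCast]
  obtain ⟨ω, hω⟩ := exists_scalar_of_norm_char_eq ρ t hnorm
  have hV : Nontrivial (Fin n → ℂ) := Cfsg.Agent.Lib.Helper24.nontrivial_of_isIrreducible ρ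
  have hfr : (Module.finrank ℂ (Fin n → ℂ) : ℂ) ≠ 0 := by
    have : 0 < Module.finrank ℂ (Fin n → ℂ) := Module.finrank_pos
    exact_mod_cast this.ne'
  have hω1 : ω = 1 := by
    have h1 : ρ.character t = ω * (Module.finrank ℂ (Fin n → ℂ) : ℂ) := by
      unfold Representation.character
      rw [hω, map_smul, LinearMap.trace_id, smul_eq_mul]
    rw [hρ, heq, hdeg] at h1
    have h2 : (ω - 1) * (Module.finrank ℂ (Fin n → ℂ) : ℂ) = 0 := by linear_combination -h1
    rcases mul_eq_zero.mp h2 with h3 | h3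
    · exact sub_eq_zero.mp h3
    · exact absurd h3 hfr
  have htker : t ∈ MonoidHom.ker ρ := by
    rw [MonoidHom.mem_ker, hω, hω1, one_smul]
    rfl
  have htop := ht (MonoidHom.ker ρ) (MonoidHom.normal_ker ρ) htker
  have hall : ∀ g : G, ρ g = 1 := by
    intro g
    have : g ∈ MonoidHom.ker ρ := by rw [htop]; exact Subgroup.mem_top g
    exact MonoidHom.mem_ker.mp this
  have hone := finrank_eq_one_of_forall_eq_one ρ hall
  apply hχ
  funext g
  rw [← hρ]
  unfold Representation.character
  rw [hall g]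
  have : LinearMap.trace ℂ (Fin n → ℂ) (1 : Module.End ℂ (Fin n → ℂ)) =
      (Module.finrank ℂ (Fin n → ℂ) : ℂ) := LinearMap.trace_one ℂ (Fin n → ℂ)
  rw [this, hone, Nat.cast_one]

end involution_values

section pairfun

variable {G : Type u} [Group G] [Fintype G]

open Classical in
/-- Summing the pair function over a coset `y K` counts the pairs with product in `y K`. -/
theorem sum_pairFun_eq_count' (J y : G) (C : Subgroup G) (K : Subgroup C) :
    ∑ᶠ n : K, pairFun J (y * ((n : C) : G)) =
      ∑ a : G, ∑ b : G,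
        (if ∃ k ∈ K.map C.subtype, a⁻¹ * J * a * (b⁻¹ * J * b) = y * k then (1 : ℂ) else 0) := by
  let _ : Fintype K := Fintype.ofFinite K
  rw [finsum_eq_sum_of_fintype]
  unfold pairFun
  rw [Finset.sum_comm]
  apply Finset.sum_congr rfl
  intro a _
  rw [Finset.sum_comm]
  apply Finset.sum_congr rfl
  intro b _
  by_cases h : ∃ k ∈ K.map C.subtype, a⁻¹ * J * a * (b⁻¹ * J * b) = y * k
  · rw [if_pos h]
    obtain ⟨k, hk, hab⟩ := h
    obtain ⟨c, hc, rfl⟩ := Subgroup.mem_map.mp hk
    rw [Finset.sum_eq_single (⟨c, hc⟩ : K)]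
    · rw [if_pos]
      exact hab
    · intro n _ hne
      rw [if_neg]
      intro h2
      apply hne
      rw [hab] at h2
      have h3 : ((c : G)) = ((n : C) : G) := mul_left_cancel h2
      exact Subtype.ext (Subtype.ext h3.symm)
    · intro h2
      exact absurd (Finset.mem_univ _) h2
  · rw [if_neg h]
    apply Finset.sum_eq_zero
    intro n _
    rw [if_neg]
    intro h2
    exact h ⟨((n : C) : G), Subgroup.mem_map.mpr ⟨(n : C), n.2, rfl⟩, h2⟩

/-- The pair function of `J` summed over the section `y K`, via the principal block. -/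
theorem sum_pairFun_section' {M : Ideal AlgInt} {p : ℕ} [hpp : Fact p.Prime] (hM : IsPModular p M)
    (J y : G) (hz : ∃ k : ℕ, orderOf y = p ^ k)
    (hk : ∃ k : ℕ, (pPrimeCore p (Subgroup.centralizer ({y} : Set G))).index = p ^ k) :
    ∑ᶠ n : pPrimeCore p (Subgroup.centralizer ({y} : Set G)),
        pairFun J (y * ((n : Subgroup.centralizer ({y} : Set G)) : G)) =
      (Nat.card G : ℂ) * (Nat.card (pPrimeCore p (Subgroup.centralizer ({y} : Set G))) : ℂ) *
        ∑ᶠ χ ∈ principalBlock M G,
          conj ((χ : G → ℂ) J) ^ 2 * (χ : G → ℂ) y / (χ : G → ℂ) 1 := by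
  classical
  let _ : Fintype (IrrCharacter G) := Fintype.ofFinite _
  set C := Subgroup.centralizer ({y} : Set G) with hC
  set K := pPrimeCore p C with hK
  let _ : Fintype K := Fintype.ofFinite K
  have hexp := classFunction_eq_sum (pairFun_isClassFunction J)
  have h1 : ∀ n : K, pairFun J (y * ((n : C) : G)) =
      ∑ χ : IrrCharacter G, classInner (pairFun J) (χ : G → ℂ) * (χ : G → ℂ) (y * ((n : C) : G)) := by
    intro n
    have := congrFun hexp (y * ((n : C) : G))
    rw [Finset.sum_apply] at this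
    rw [this]
    apply Finset.sum_congr rfl
    intro χ _
    rw [Pi.smul_apply, smul_eq_mul]
  rw [finsum_eq_sum_of_fintype, Finset.sum_congr rfl (fun n _ => h1 n), Finset.sum_comm,
    finsum_mem_eq_sum_ite, Finset.mul_sum]
  apply Finset.sum_congr rfl
  intro χ _
  rw [← Finset.mul_sum]
  have h2 : ∑ n : K, (χ : G → ℂ) (y * ((n : C) : G)) =
      ∑ᶠ n : K, (χ : G → ℂ) (y * ((n : C) : G)) := (finsum_eq_sum_of_fintype _).symm
  rw [h2]
  by_cases hχ : χ ∈ principalBlock M G
  · rw [if_pos hχ, sum_core_section_of_mem hM y hz hk χ hχ, classInner_pairFun]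
    ring
  · rw [if_neg hχ, sum_core_section_of_not_mem hM y hz hk χ hχ]
    ring

/-- If no product of two conjugates of `J` lies in the section `y K`, then the corresponding
principal block sum vanishes. -/
theorem sum_block_pair_eq_zero {M : Ideal AlgInt} {p : ℕ} [hpp : Fact p.Prime]
    (hM : IsPModular p M) (J y : G) (hz : ∃ k : ℕ, orderOf y = p ^ k)
    (hk : ∃ k : ℕ, (pPrimeCore p (Subgroup.centralizer ({y} : Set G))).index = p ^ k)
    (hno : ∀ a b : G, ∀ k ∈ (pPrimeCore p (Subgroup.centralizer ({y} : Set G))).map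
      (Subgroup.centralizer ({y} : Set G)).subtype, a⁻¹ * J * a * (b⁻¹ * J * b) ≠ y * k) :
    ∑ᶠ χ ∈ principalBlock M G,
      conj ((χ : G → ℂ) J) ^ 2 * (χ : G → ℂ) y / (χ : G → ℂ) 1 = 0 := by
  classical
  have h1 := sum_pairFun_section' hM J y hz hk
  rw [sum_pairFun_eq_count'] at h1
  have h2 : ∑ a : G, ∑ b : G,
      (if ∃ k ∈ (pPrimeCore p (Subgroup.centralizer ({y} : Set G))).map
        (Subgroup.centralizer ({y} : Set G)).subtype,
        a⁻¹ * J * a * (b⁻¹ * J * b) = y * k then (1 : ℂ) else 0) = 0 := by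
    apply Finset.sum_eq_zero
    intro a _
    apply Finset.sum_eq_zero
    intro b _
    rw [if_neg]
    rintro ⟨k, hk', h⟩
    exact hno a b k hk' h
  rw [h2] at h1
  have hG : (Nat.card G : ℂ) ≠ 0 := by exact_mod_cast (Nat.card_pos (α := G)).ne'
  have hK : (Nat.card (pPrimeCore p (Subgroup.centralizer ({y} : Set G))) : ℂ) ≠ 0 := by
    exact_mod_cast (Nat.card_pos (α := pPrimeCore p (Subgroup.centralizer ({y} : Set G)))).ne'
  rcases mul_eq_zero.mp h1.symm with h3 | h3
  · exact absurd h3 (mul_ne_zero hG hK)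
  · exact h3

end pairfun

end Cfsg.Agent.CharLib
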