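import Mathlib
import Cfsg.Agent.Lib.Lead.CharFS
/-! Degrees divide the index of the centre (and of any subgroup acting by scalars). -/
set_option autoImplicit false
open Representation Module
open scoped ComplexConjugate
namespace Cfsg.Agent.CharLib
universe u v
variable {G : Type u} [Group G]
variable {V : Type v} [AddCommGroup V] [Module ℂ V] [FiniteDimensional ℂ V]

/-- Sum over a group as a double sum over cosets of a subgroup and the subgroup. -/
theorem sum_eq_sum_quotient_mul {M : Type*} [AddCommMonoid M] [Fintype G] (Z : Subgroup G)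
    [Fintype (G ⧸ Z)] [Fintype Z] (f : G → M) :
    ∑ g : G, f g = ∑ q : G ⧸ Z, ∑ z : Z, f (q.out * z) := by
  have hbij : Function.Bijective (fun p : (G ⧸ Z) × Z => p.1.out * (p.2 : G)) := by
    constructor
    · rintro ⟨q, z⟩ ⟨q', z'⟩ h
      simp only at h
      have hq : q = q' := by
        have h1 := congrArg (QuotientGroup.mk (s := Z)) h
        rw [QuotientGroup.mk_mul_of_mem _ z.2, QuotientGroup.mk_mul_of_mem _ z'.2,
          QuotientGroup.out_eq', QuotientGroup.out_eq'] at h1
        exact h1
      subst hq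
      have hz : (z : G) = z' := mul_left_cancel h
      exact Prod.ext rfl (Subtype.ext hz)
    · intro g
      obtain ⟨h, hh⟩ := QuotientGroup.mk_out_eq_mul Z g
      refine ⟨(QuotientGroup.mk g, h⁻¹), ?_⟩
      simp only [hh, Subgroup.coe_inv, mul_inv_cancel_right]
  rw [← Fintype.sum_prod_type', ← Equiv.sum_comp (Equiv.ofBijective _ hbij)]
  rfl

/-- The degree of an irreducible representation divides the index of any subgroup acting by scalars. -/
theorem finrank_dvd_index_of_scalar [Finite G] (ρ : Representation ℂ G V) [hirr : ρ.IsIrreducible]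
    (Z : Subgroup G) (hscal : ∀ z : Z, ∃ c : ℂ, ρ (z : G) = c • (1 : Module.End ℂ V)) :
    finrank ℂ V ∣ Z.index := by
  classical
  let _ := Fintype.ofFinite G
  have hnt := Cfsg.Agent.Lib.Helper24.nontrivial_of_isIrreducible ρ
  have hpos := Cfsg.Agent.Lib.Helper24.finrank_pos_of_isIrreducible ρ
  have hn : (finrank ℂ V : ℂ) ≠ 0 := by exact_mod_cast hpos.ne'
  have hZc : (Nat.card Z : ℂ) ≠ 0 := card_ne_zero_complex_of_finite
  choose lam hlam using hscal
  -- key identity for the terms
  have hterm : ∀ (t : G) (z : Z), ρ.character (t * z)⁻¹ • ρ (t * z) = ρ.character t⁻¹ • ρ t := by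
    intro t z
    have h1 : ρ (t * z) = lam z • ρ t := by
      rw [map_mul, hlam z, mul_smul_comm, mul_one]
    have h2 : ρ.character (t * z)⁻¹ = lam z⁻¹ * ρ.character t⁻¹ := by
      unfold Representation.character
      rw [mul_inv_rev, map_mul]
      have : ρ ((z : G)⁻¹) = lam z⁻¹ • (1 : Module.End ℂ V) := by
        have := hlam z⁻¹
        simpa using this
      rw [this, smul_mul_assoc, one_mul, map_smul, smul_eq_mul]
    have h3 : lam z⁻¹ * lam z = 1 := by
      have h4 : ρ ((z⁻¹ : Z) : G) * ρ (z : G) = 1 := by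
        rw [← map_mul]; simp
      rw [hlam z⁻¹, hlam z, smul_mul_smul_comm, mul_one] at h4
      have h5 : (lam z⁻¹ * lam z - 1) • (1 : Module.End ℂ V) = 0 := by
        rw [sub_smul, h4, one_smul, sub_self]
      rcases smul_eq_zero.mp h5 with h6 | h6
      · exact sub_eq_zero.mp h6
      · exact absurd h6 one_ne_zero
    rw [h1, h2, smul_smul, mul_right_comm, h3, one_mul]
  -- the full sum is a scalar
  have hcf : ∀ g k : G, (fun b => ρ.character b⁻¹) (k * g * k⁻¹) = (fun b => ρ.character b⁻¹) g := by
    intro g k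
    simp only
    have : (k * g * k⁻¹)⁻¹ = k * g⁻¹ * k⁻¹ := by group
    rw [this, char_conj]
  have hfull := Cfsg.Agent.Lib.Helper24.coeffSum_eq_omega_smul ρ (fun b => ρ.character b⁻¹) hcf
  have hω : Cfsg.Agent.Lib.Helper24.omega ρ (fun b => ρ.character b⁻¹) =
      (Nat.card G : ℂ) / (finrank ℂ V : ℂ) := by
    unfold Cfsg.Agent.Lib.Helper24.omega
    congr 1
    have hirrc : IsIrrCharacter G ρ.character := isIrrCharacter_of_rep ρ hirr
    have := classInner_irr hirrc hirrc
    rw [if_pos rfl] at this
    simp only [classInner] at this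
    have hG : (Nat.card G : ℂ) ≠ 0 := card_ne_zero_complex
    have h2 : ∑ g : G, ρ.character g * conj (ρ.character g) = (Nat.card G : ℂ) := by
      field_simp at this
      linear_combination this
    rw [← h2]
    apply Finset.sum_congr rfl
    intro g _
    show ρ.character g⁻¹ * ρ.character g = _
    rw [char_inv, mul_comm]
  -- the transversal sum
  let a' : G → ℂ := fun g => if (QuotientGroup.mk g : G ⧸ Z).out = g then ρ.character g⁻¹ else 0
  have hint : ∀ g, IsIntegral ℤ (a' g) := by
    intro g
    simp only [a']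
    split_ifs
    · exact isIntegral_char ρ g⁻¹
    · exact isIntegral_zero
  have hc' := Cfsg.Agent.Lib.Helper24.isIntegral_coeffSum ρ a' hint
  have hrel : Cfsg.Agent.Lib.Helper24.coeffSum ρ (fun b => ρ.character b⁻¹) =
      (Nat.card Z : ℂ) • Cfsg.Agent.Lib.Helper24.coeffSum ρ a' := by
    unfold Cfsg.Agent.Lib.Helper24.coeffSum
    rw [sum_eq_sum_quotient_mul Z, sum_eq_sum_quotient_mul Z (fun g => a' g • ρ g), Finset.smul_sum]
    apply Finset.sum_congr rfl
    intro q _
    have h1 : ∀ z : Z, ρ.character (q.out * z)⁻¹ • ρ (q.out * z) = ρ.character q.out⁻¹ • ρ q.out :=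
      fun z => hterm q.out z
    rw [Finset.sum_congr rfl (fun z _ => h1 z), Finset.sum_const, Finset.card_univ,
      ← Nat.card_eq_fintype_card, ← Nat.cast_smul_eq_nsmul ℂ]
    congr 1
    rw [Finset.sum_eq_single (1 : Z)]
    · simp only [a', OneMemClass.coe_one, mul_one, QuotientGroup.out_eq', if_true]
    · intro z _ hz
      have : ¬ ((QuotientGroup.mk (q.out * (z : G)) : G ⧸ Z).out = q.out * z) := by
        rw [QuotientGroup.mk_mul_of_mem _ z.2, QuotientGroup.out_eq']
        intro h
        apply hz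
        have : (z : G) = 1 := by
          have := mul_left_cancel (a := q.out) (b := (1 : G)) (c := (z : G)) (by rw [mul_one]; exact h)
          exact this.symm
        exact Subtype.ext this
      simp only [a', if_neg this, zero_smul]
    · intro h; exact absurd (Finset.mem_univ _) h
  -- conclude integrality
  have hscalar : Cfsg.Agent.Lib.Helper24.coeffSum ρ a' =
      ((Nat.card G : ℂ) / (finrank ℂ V : ℂ) / (Nat.card Z : ℂ)) • (1 : Module.End ℂ V) := by
    have : (Nat.card Z : ℂ) • Cfsg.Agent.Lib.Helper24.coeffSum ρ a' =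
        ((Nat.card G : ℂ) / (finrank ℂ V : ℂ)) • (1 : Module.End ℂ V) := by
      rw [← hrel, hfull, hω]
    rw [div_eq_inv_mul _ (Nat.card Z : ℂ), ← smul_smul, ← this, smul_smul, inv_mul_cancel₀ hZc, one_smul]
  rw [hscalar] at hc'
  have hint2 := Cfsg.Agent.Lib.Helper24.isIntegral_of_isIntegral_smul_one (V := V) _ hc'
  -- rational algebraic integer
  have hidx : Nat.card G = Z.index * Nat.card Z := (Subgroup.index_mul_card Z).symm
  have hq : ((Nat.card G : ℂ) / (finrank ℂ V : ℂ) / (Nat.card Z : ℂ)) =
      (((Z.index : ℚ) / (finrank ℂ V : ℚ) : ℚ) : ℂ) := by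
    rw [hidx]
    push_cast
    field_simp
  rw [hq] at hint2
  have h2 : IsIntegral ℤ ((Z.index : ℚ) / (finrank ℂ V : ℚ)) :=
    (isIntegral_algebraMap_iff (algebraMap ℚ ℂ).injective (R := ℤ)
      (x := ((Z.index : ℚ) / (finrank ℂ V : ℚ)))).mp hint2
  obtain ⟨k, hk⟩ := IsIntegrallyClosed.isIntegral_iff.mp h2
  have h3 : (Z.index : ℚ) = (k : ℚ) * (finrank ℂ V : ℚ) := by
    have hne : (finrank ℂ V : ℚ) ≠ 0 := by exact_mod_cast hpos.ne'
    rw [eq_div_iff hne] at hk
    simpa using hk.symm
  have h4 : (Z.index : ℤ) = k * (finrank ℂ V : ℤ) := by exact_mod_cast h3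
  have h5 : (finrank ℂ V : ℤ) ∣ (Z.index : ℤ) := ⟨k, by rw [h4]; ring⟩
  exact_mod_cast h5

/-- The degree of an irreducible representation divides the index of the centre (S0179). -/
theorem finrank_dvd_index_center [Finite G] (ρ : Representation ℂ G V) [hirr : ρ.IsIrreducible] :
    finrank ℂ V ∣ (Subgroup.center G).index := by
  apply finrank_dvd_index_of_scalar ρ
  intro z
  apply Cfsg.Agent.Lib.Helper24.exists_eq_smul_one_of_comm ρ
  intro h
  rw [← Module.End.mul_eq_comp, ← Module.End.mul_eq_comp, ← map_mul, ← map_mul]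
  congr 1
  exact (Subgroup.mem_center_iff.mp z.2 h).symm

end Cfsg.Agent.CharLib
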