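import Mathlib
import Cfsg.Agent.Lib.Lead.CharMore
import Cfsg.Agent.Lib.Helper24.GaloisNorm
import Cfsg.Agent.Lib.Helper2.Ito
/-! k(G) ≤ |P| for a normal abelian Sylow subgroup with a regular orbit (S0861); characters of p-prime degree do not vanish at p-elements. -/
set_option autoImplicit false
open Polynomial Representation Module
open scoped ComplexConjugate
namespace Cfsg.Agent.CharLib
universe u

theorem sum_ppow_roots_ne_zero {ι : Type*} [Fintype ι] (p a : ℕ) [hp : Fact p.Prime] (μ : ι → ℂ)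
    (hμ : ∀ i, μ i ^ (p ^ a) = 1) (hd : ¬ p ∣ Fintype.card ι) : ∑ i, μ i ≠ 0 := by
  classical
  intro h0
  rcases Nat.eq_zero_or_pos a with ha | ha
  · subst ha
    simp only [pow_zero, pow_one] at hμ
    rw [Finset.sum_congr rfl (fun i _ => hμ i)] at h0
    simp only [Finset.sum_const, Finset.card_univ, nsmul_eq_mul, mul_one] at h0
    have : Fintype.card ι = 0 := by exact_mod_cast h0
    exact hd (this ▸ dvd_zero p)
  · obtain ⟨a', rfl⟩ := Nat.exists_eq_succ_of_ne_zero ha.ne'
    have hn : 0 < p ^ (a' + 1) := pow_pos hp.out.pos _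
    have hne : NeZero (p ^ (a' + 1)) := ⟨hn.ne'⟩
    set ζ : ℂ := Complex.exp (2 * Real.pi * Complex.I / ((p ^ (a' + 1) : ℕ) : ℂ)) with hζdef
    have hζ : IsPrimitiveRoot ζ (p ^ (a' + 1)) := Complex.isPrimitiveRoot_exp _ hn.ne'
    have hk : ∀ i, ∃ k : ℕ, k < p ^ (a' + 1) ∧ ζ ^ k = μ i := fun i =>
      hζ.eq_pow_of_pow_eq_one (hμ i)
    choose k hk1 hk2 using hk
    set f : ℤ[X] := ∑ i, X ^ k i with hf
    have hf0 : aeval ζ f = 0 := by
      rw [hf, map_sum]
      simp only [map_pow, aeval_X, hk2]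
      exact h0
    have hint : IsIntegral ℤ ζ := hζ.isIntegral hn
    have hdvd : minpoly ℤ ζ ∣ f := minpoly.isIntegrallyClosed_dvd hint hf0
    rw [← Polynomial.cyclotomic_eq_minpoly hζ hn] at hdvd
    obtain ⟨q, hq⟩ := hdvd
    have h1 := congrArg (Polynomial.eval 1) hq
    rw [Polynomial.eval_mul, Polynomial.eval_one_cyclotomic_prime_pow, hf, Polynomial.eval_finsetSum] at h1
    simp only [eval_pow, eval_X, one_pow, Finset.sum_const, Finset.card_univ, nsmul_eq_mul, mul_one] at h1
    apply hd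
    have : (p : ℤ) ∣ (Fintype.card ι : ℤ) := ⟨_, h1⟩
    exact_mod_cast this

/-- A character of degree prime to `p` does not vanish at a `p`-element. -/
theorem character_ne_zero_of_pElement {G : Type u} [Group G] [Finite G] {V : Type*} [AddCommGroup V]
    [Module ℂ V] [FiniteDimensional ℂ V] (ρ : Representation ℂ G V) (p a : ℕ) [Fact p.Prime] (g : G)
    (hg : orderOf g = p ^ a) (hd : ¬ p ∣ finrank ℂ V) : ρ.character g ≠ 0 := by
  obtain ⟨ι, hι, μ, h1, h2, h3, h4⟩ := Cfsg.Agent.Lib.Helper24.exists_roots_char_pow ρ g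
  have := h4 1
  simp only [pow_one] at this
  rw [this]
  apply sum_ppow_roots_ne_zero p a μ
  · intro i; rw [← hg]; exact h1 i
  · rw [h3]; exact hd

theorem sum_irr_normSq {G : Type u} [Group G] [Fintype G] [Fintype (IrrCharacter G)] (h : G) :
    ∑ χ : IrrCharacter G, ‖(χ : G → ℂ) h‖ ^ 2 = (Nat.card (Subgroup.centralizer ({h} : Set G)) : ℝ) := by
  have := sum_irr_mul_conj h h
  have hci : classIndicator h h = 1 := by
    classical
    simp only [classIndicator]
    rw [if_pos (IsConj.refl h)]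
  rw [hci, one_mul] at this
  simp only [Complex.mul_conj'] at this
  exact_mod_cast this


theorem card_irr_le_card_sylow {G : Type u} [Group G] [Finite G] (p : ℕ) [Fact p.Prime] (P : Sylow p G)
    [(P : Subgroup G).Normal] (hab : ∀ a ∈ P, ∀ b ∈ P, a * b = b * a) (g : G) (hg : g ∈ P)
    (hC : Subgroup.centralizer ({g} : Set G) = P) :
    Nat.card (IrrCharacter G) ≤ Nat.card P ∧
      (Nat.card (IrrCharacter G) = Nat.card P → commutator G ≤ P) := by
  classical
  let _ := Fintype.ofFinite G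
  let _ := fintypeIrr G
  obtain ⟨a, ha⟩ : ∃ a, orderOf g = p ^ a := by
    obtain ⟨k, hk⟩ := (IsPGroup.iff_orderOf.mp P.2) ⟨g, hg⟩
    exact ⟨k, by rw [← hk, Subgroup.orderOf_mk]⟩
  set n := orderOf g with hn
  have hnpos : 0 < n := orderOf_pos g
  have : NeZero n := ⟨hnpos.ne'⟩
  have hgn : g ^ n = 1 := pow_orderOf_eq_one g
  have hcent : ∀ k : (ZMod n)ˣ, Subgroup.centralizer ({g ^ (k : ZMod n).val} : Set G) = P := by
    intro k
    rw [← hC]
    apply le_antisymm
    · intro x hx
      rw [Subgroup.mem_centralizer_singleton_iff] at hx ⊢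
      have hgk : (g ^ (k : ZMod n).val) ^ ((k⁻¹ : (ZMod n)ˣ) : ZMod n).val = g := by
        rw [← pow_mul]
        conv_rhs => rw [← pow_one g]
        rw [pow_eq_pow_iff_modEq, ← hn, ← ZMod.natCast_eq_natCast_iff]
        push_cast
        rw [ZMod.natCast_zmod_val, ZMod.natCast_zmod_val]
        simp
      rw [← hgk]
      exact (Commute.pow_right hx _)
    · intro x hx
      rw [Subgroup.mem_centralizer_singleton_iff] at hx ⊢
      exact Commute.pow_right hx _
  have hterm : ∀ χ : IrrCharacter G,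
      0 ≤ ∑ k : (ZMod n)ˣ, (‖(χ : G → ℂ) (g ^ (k : ZMod n).val)‖ ^ 2 - 1) := by
    intro χ
    obtain ⟨m, ρ, hirr, hρ⟩ := χ.2
    have hdvd : finrank ℂ (Fin m → ℂ) ∣ (P : Subgroup G).index := by
      have := hirr
      exact Cfsg.Agent.Lib.Helper2.ito ρ (P : Subgroup G) hab
    have hnd : ¬ p ∣ finrank ℂ (Fin m → ℂ) := fun h => P.not_dvd_index (h.trans hdvd)
    have hne := character_ne_zero_of_pElement ρ p a g ha hnd
    have := (Cfsg.Agent.Lib.Helper24.char_pow_units_sum_nonneg ρ g n hgn hne).2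
    rw [hρ] at this
    exact this
  have hφ : (0 : ℝ) < (Fintype.card (ZMod n)ˣ : ℝ) := by
    exact_mod_cast Fintype.card_pos
  have htotal : ∑ χ : IrrCharacter G, ∑ k : (ZMod n)ˣ,
      (‖(χ : G → ℂ) (g ^ (k : ZMod n).val)‖ ^ 2 - 1)
      = (Fintype.card (ZMod n)ˣ : ℝ) * ((Nat.card P : ℝ) - (Nat.card (IrrCharacter G) : ℝ)) := by
    rw [Finset.sum_comm]
    simp only [Finset.sum_sub_distrib, sum_irr_normSq, hcent]
    simp [Finset.sum_const, Nat.card_eq_fintype_card]
    ring
  have hnn : 0 ≤ ∑ χ : IrrCharacter G, ∑ k : (ZMod n)ˣ,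
      (‖(χ : G → ℂ) (g ^ (k : ZMod n).val)‖ ^ 2 - 1) := Finset.sum_nonneg (fun χ _ => hterm χ)
  constructor
  · rw [htotal] at hnn
    have h1 : (0 : ℝ) ≤ (Nat.card P : ℝ) - (Nat.card (IrrCharacter G) : ℝ) := by
      by_contra hlt
      push Not at hlt
      have := mul_neg_of_pos_of_neg hφ hlt
      linarith
    have h2 : (Nat.card (IrrCharacter G) : ℝ) ≤ (Nat.card P : ℝ) := by linarith
    exact_mod_cast h2
  · intro heq
    have hzero : ∑ χ : IrrCharacter G, ∑ k : (ZMod n)ˣ,
        (‖(χ : G → ℂ) (g ^ (k : ZMod n).val)‖ ^ 2 - 1) = 0 := by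
      rw [htotal, heq, sub_self, mul_zero]
    have hall := (Finset.sum_eq_zero_iff_of_nonneg (fun χ _ => hterm χ)).mp hzero
    have hcomm : ∀ x y : G ⧸ (P : Subgroup G), x * y = y * x := by
      rw [comm_iff_forall_irr_apply_one]
      intro ψ
      obtain ⟨m, ρ', hirr', hρ'⟩ := ψ.2
      let ρ : Representation ℂ G (Fin m → ℂ) := MonoidHom.comp ρ' (QuotientGroup.mk' (P : Subgroup G))
      have hirr : ρ.IsIrreducible :=
        isIrreducible_comp_of_surjective ρ' hirr' _ (QuotientGroup.mk'_surjective _)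
      let χ : IrrCharacter G := ⟨ρ.character, ⟨m, ρ, hirr, rfl⟩⟩
      have hχ := hall χ (Finset.mem_univ _)
      have hval : ∀ k : (ZMod n)ˣ, (χ : G → ℂ) (g ^ (k : ZMod n).val) = (m : ℂ) := by
        intro k
        show ρ.character (g ^ (k : ZMod n).val) = (m : ℂ)
        have hmem : g ^ (k : ZMod n).val ∈ (P : Subgroup G) := Subgroup.pow_mem _ hg _
        have h1 : (QuotientGroup.mk' (P : Subgroup G)) (g ^ (k : ZMod n).val) = 1 := by
          rw [QuotientGroup.mk'_apply, QuotientGroup.eq_one_iff]; exact hmem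
        simp only [Representation.character, ρ, MonoidHom.comp_apply, h1, map_one]
        simp
      simp only [hval] at hχ
      simp only [Finset.sum_const, Finset.card_univ, nsmul_eq_mul] at hχ
      have hm2 : ((m : ℝ)) ^ 2 - 1 = 0 := by
        rcases mul_eq_zero.mp hχ with h | h
        · exact absurd h hφ.ne'
        · simpa using h
      have hm1 : m = 1 := by
        have h3 : ((m : ℝ) - 1) * ((m : ℝ) + 1) = 0 := by ring_nf; ring_nf at hm2; linarith
        rcases mul_eq_zero.mp h3 with h | h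
        · have : (m : ℝ) = 1 := by linarith
          exact_mod_cast this
        · have : (0 : ℝ) ≤ (m : ℝ) := Nat.cast_nonneg m
          linarith
      rw [← hρ', Representation.char_one]
      simp [hm1]
    let _ : CommGroup (G ⧸ (P : Subgroup G)) := { (inferInstance : Group (G ⧸ (P : Subgroup G))) with mul_comm := hcomm }
    have := Abelianization.commutator_subset_ker (QuotientGroup.mk' (P : Subgroup G))
    rwa [QuotientGroup.ker_mk'] at this

end Cfsg.Agent.CharLib
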