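import Mathlib
import Cfsg.Agent.Lib.Lead.CharFS
/-! Irreducible characters of a direct product. -/
set_option autoImplicit false
open Representation Module
open scoped ComplexConjugate
namespace Cfsg.Agent.CharLib
universe u v
variable {G : Type u} [Group G] {H : Type v} [Group H]

/-- The inner product of external products factors. -/
theorem classInner_prod [Fintype G] [Fintype H] (f₁ g₁ : G → ℂ) (f₂ g₂ : H → ℂ) :
    classInner (fun x : G × H => f₁ x.1 * f₂ x.2) (fun x : G × H => g₁ x.1 * g₂ x.2) =
      classInner f₁ g₁ * classInner f₂ g₂ := by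
  simp only [classInner, Nat.card_prod, Nat.cast_mul, map_mul, Fintype.sum_prod_type]
  rw [mul_inv, mul_mul_mul_comm, Finset.sum_mul_sum]
  congr 1
  apply Finset.sum_congr rfl; intro g _
  apply Finset.sum_congr rfl; intro h _
  ring

/-- External product of irreducible characters is irreducible. -/
theorem IsIrrCharacter.prod [Finite G] [Finite H] {φ : G → ℂ} {ψ : H → ℂ}
    (hφ : IsIrrCharacter G φ) (hψ : IsIrrCharacter H ψ) :
    IsIrrCharacter (G × H) (fun x => φ x.1 * ψ x.2) := by
  classical
  let _ := Fintype.ofFinite G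
  let _ := Fintype.ofFinite H
  have h1 : IsCharacter (G × H) (fun x => φ x.1 * ψ x.2) :=
    IsCharacter.mul (IsCharacter.comp_hom (IsIrrCharacter.isCharacter hφ) (MonoidHom.fst G H))
      (IsCharacter.comp_hom (IsIrrCharacter.isCharacter hψ) (MonoidHom.snd G H))
  apply Cfsg.Agent.Lib.Helper6.isIrrCharacter_of_classInner_self_eq_one h1
  rw [classInner_prod, classInner_irr hφ hφ, classInner_irr hψ hψ, if_pos rfl, if_pos rfl, mul_one]

/-- Every irreducible character of `G × H` is an external product. -/
theorem IsIrrCharacter.exists_prod [Finite G] [Finite H] {θ : G × H → ℂ}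
    (hθ : IsIrrCharacter (G × H) θ) :
    ∃ (φ : G → ℂ) (ψ : H → ℂ), IsIrrCharacter G φ ∧ IsIrrCharacter H ψ ∧
      θ = fun x => φ x.1 * ψ x.2 := by
  classical
  let _ := Fintype.ofFinite G
  let _ := Fintype.ofFinite H
  by_contra hcon
  push Not at hcon
  have hGc : (Nat.card G : ℂ) ≠ 0 := card_ne_zero_complex
  have hHc : (Nat.card H : ℂ) ≠ 0 := card_ne_zero_complex
  have hcf := IsCharacter.isClassFunction (IsIrrCharacter.isCharacter hθ)
  have h0 : ∀ (φ : IrrCharacter G) (ψ : IrrCharacter H),
      classInner θ (fun x : G × H => (φ : G → ℂ) x.1 * (ψ : H → ℂ) x.2) = 0 := by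
    intro φ ψ
    rw [classInner_irr hθ (IsIrrCharacter.prod φ.2 ψ.2), if_neg (hcon _ _ φ.2 ψ.2)]
  -- A_φ(h) = ⟨θ(·,h), φ⟩
  have hA : ∀ (φ : IrrCharacter G) (h : H), classInner (fun g => θ (g, h)) (φ : G → ℂ) = 0 := by
    intro φ
    have hAcf : IsClassFunction H (fun h => classInner (fun g => θ (g, h)) (φ : G → ℂ)) := by
      intro h k
      simp only [classInner]
      congr 1
      apply Finset.sum_congr rfl
      intro g _
      have := hcf (g, h) (1, k)
      simp only [Prod.mk_mul_mk, Prod.inv_mk, one_mul, inv_one, mul_one] at this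
      rw [this]
    have := eq_zero_of_classInner_irr_eq_zero hAcf (fun ψ => by
      have h1 := h0 φ ψ
      simp only [classInner, Nat.card_prod, Nat.cast_mul, map_mul, Fintype.sum_prod_type] at h1 ⊢
      rw [Finset.sum_comm] at h1
      rw [← h1, mul_inv, Finset.mul_sum, Finset.mul_sum]
      apply Finset.sum_congr rfl; intro h _
      rw [Finset.mul_sum, Finset.sum_mul, Finset.mul_sum, Finset.mul_sum]
      apply Finset.sum_congr rfl; intro g _
      ring)
    intro h
    exact congrFun this h
  have hθ0 : θ = 0 := by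
    funext ⟨g, h⟩
    have hcf' : IsClassFunction G (fun g => θ (g, h)) := by
      intro g k
      have := hcf (g, h) (k, 1)
      simp only [Prod.mk_mul_mk, Prod.inv_mk, one_mul, inv_one, mul_one] at this
      exact this
    have := eq_zero_of_classInner_irr_eq_zero hcf' (fun φ => hA φ h)
    exact congrFun this g
  obtain ⟨n, hn, h1⟩ := IsIrrCharacter.apply_one_pos hθ
  rw [hθ0] at h1
  have : (n : ℂ) = 0 := h1.symm
  have : n = 0 := by exact_mod_cast this
  omega

end Cfsg.Agent.CharLib
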