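import Mathlib
/-! Power maps `x ↦ x^k` with `k` inverting odd-order elements: 2-power order, centralizers. -/
namespace Cfsg.Agent.CharLib
universe u

section
variable {G : Type u} [Group G] [Finite G]

/-- If `k` is coprime to `|G|` and inverts the elements of odd order, then the power map `x ↦ x^k`
has order dividing `2^(a+1)`, `2^a` the 2-part of `|G|`. -/
theorem pow_pow_two_pow_eq (k : ℕ) (hk : Nat.Coprime k (Nat.card G))
    (hk₂ : ∀ g : G, Odd (orderOf g) → g ^ k = g⁻¹) (x : G) :
    x ^ (k ^ (2 ^ ((Nat.card G).factorization 2 + 1))) = x := by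
  set a := (Nat.card G).factorization 2 with ha
  obtain ⟨b, m, hm, ho⟩ := Nat.exists_eq_two_pow_mul_odd (orderOf_pos x).ne'
  have hcop : Nat.Coprime (2 ^ b) m := by
    apply Nat.Coprime.pow_left
    rw [Nat.coprime_two_left]
    exact hm
  have h2b : 2 ^ b ∣ Nat.card G := by
    have : 2 ^ b ∣ orderOf x := ⟨m, ho⟩
    exact this.trans (orderOf_dvd_natCard x)
  have hba : b ≤ a :=
    (Nat.Prime.pow_dvd_iff_le_factorization Nat.prime_two Nat.card_pos.ne').mp h2b
  have hmod : k ^ (2 ^ (a + 1)) ≡ 1 [MOD orderOf x] := by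
    rw [ho]
    apply (Nat.modEq_and_modEq_iff_modEq_mul hcop).mp
    constructor
    · -- modulo 2^b
      rcases Nat.eq_zero_or_pos b with hb0 | hbpos
      · rw [hb0, pow_zero]; exact Nat.modEq_one
      · have hck : Nat.Coprime k (2 ^ b) := Nat.Coprime.coprime_dvd_right h2b hk
        have he := Nat.ModEq.pow_totient hck
        rw [Nat.totient_prime_pow Nat.prime_two hbpos] at he
        have hsplit : 2 ^ (a + 1) = (2 ^ (b - 1) * (2 - 1)) * 2 ^ (a + 1 - (b - 1)) := by
          rw [show (2 - 1 : ℕ) = 1 from rfl, mul_one, ← pow_add]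
          congr 1
          omega
        rw [hsplit, pow_mul]
        have := he.pow (2 ^ (a + 1 - (b - 1)))
        rwa [one_pow] at this
    · -- modulo m
      set g := x ^ (2 ^ b) with hg
      have hgm : g ^ m = 1 := by
        rw [hg, ← pow_mul, ← ho]; exact pow_orderOf_eq_one x
      have hgodd : Odd (orderOf g) := Odd.of_dvd_nat hm (orderOf_dvd_of_pow_eq_one hgm)
      have hgk : g ^ (k + 1) = 1 := by
        rw [pow_succ, hk₂ g hgodd]; exact inv_mul_cancel g
      have hdvd : m ∣ k + 1 := by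
        rw [hg, ← pow_mul] at hgk
        have h1 : orderOf x ∣ 2 ^ b * (k + 1) := orderOf_dvd_of_pow_eq_one hgk
        rw [ho] at h1
        exact Nat.dvd_of_mul_dvd_mul_left (pow_pos (by norm_num) b) h1
      have hz : ((k : ℕ) : ZMod m) = -1 := by
        have h1 : (((k + 1 : ℕ)) : ZMod m) = 0 := (ZMod.natCast_eq_zero_iff _ _).mpr hdvd
        push_cast at h1
        exact eq_neg_of_add_eq_zero_left h1
      apply (ZMod.natCast_eq_natCast_iff _ _ _).mp
      push_cast
      rw [hz]
      apply Even.neg_one_pow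
      rw [pow_succ]
      exact even_two.mul_left _
  have := (pow_eq_pow_iff_modEq (x := x)).mpr hmod
  rwa [pow_one] at this

/-- The power map by `k` preserves centralizers. -/
theorem centralizer_singleton_pow (k : ℕ) (hk : Nat.Coprime k (Nat.card G))
    (hk₂ : ∀ g : G, Odd (orderOf g) → g ^ k = g⁻¹) (x : G) :
    Subgroup.centralizer ({x ^ k} : Set G) = Subgroup.centralizer ({x} : Set G) := by
  ext y
  simp only [Subgroup.mem_centralizer_iff, Set.mem_singleton_iff, forall_eq]
  constructor
  · intro h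
    have hc : Commute (x ^ k) y := h
    have hx := pow_pow_two_pow_eq k hk hk₂ x
    have hN : 2 ^ ((Nat.card G).factorization 2 + 1) =
        (2 ^ ((Nat.card G).factorization 2 + 1) - 1) + 1 := by
      have : 0 < 2 ^ ((Nat.card G).factorization 2 + 1) := pow_pos (by norm_num) _
      omega
    rw [hN, pow_succ', pow_mul] at hx
    have := hc.pow_left (k ^ (2 ^ ((Nat.card G).factorization 2 + 1) - 1))
    rw [hx] at this
    exact this
  · intro h
    have hc : Commute x y := h
    exact hc.pow_left k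

/-- The power map as a permutation. -/
noncomputable def powPerm (k : ℕ) (hk : Nat.Coprime k (Nat.card G)) : Equiv.Perm G :=
  powCoprime hk.symm

theorem powPerm_apply (k : ℕ) (hk : Nat.Coprime k (Nat.card G)) (x : G) :
    powPerm k hk x = x ^ k := rfl

theorem powPerm_pow_apply (k : ℕ) (hk : Nat.Coprime k (Nat.card G)) (j : ℕ) (x : G) :
    (powPerm k hk ^ j) x = x ^ (k ^ j) := by
  induction j generalizing x with
  | zero => simp
  | succ j ih =>
    rw [pow_succ, Equiv.Perm.mul_apply, powPerm_apply, ih, ← pow_mul, pow_succ']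

theorem powPerm_pow_two_pow (k : ℕ) (hk : Nat.Coprime k (Nat.card G))
    (hk₂ : ∀ g : G, Odd (orderOf g) → g ^ k = g⁻¹) :
    powPerm k hk ^ (2 ^ ((Nat.card G).factorization 2 + 1)) = 1 := by
  ext x
  rw [powPerm_pow_apply, pow_pow_two_pow_eq k hk hk₂ x]
  rfl

/-- An element fixed by the power map is a 2-element. -/
theorem pow_two_pow_eq_one_of_pow_eq (k : ℕ)
    (hk₂ : ∀ g : G, Odd (orderOf g) → g ^ k = g⁻¹) (x : G) (hx : x ^ k = x) :
    x ^ (2 ^ ((Nat.card G).factorization 2)) = 1 := by
  set a := (Nat.card G).factorization 2 with ha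
  set g := x ^ (2 ^ a) with hg
  have hcard : Nat.card G = 2 ^ a * (Nat.card G / 2 ^ a) :=
    (Nat.ordProj_mul_ordCompl_eq_self (Nat.card G) 2).symm
  have hmodd : Odd (Nat.card G / 2 ^ a) := by
    rw [← Nat.not_even_iff_odd, even_iff_two_dvd]
    exact Nat.not_dvd_ordCompl Nat.prime_two Nat.card_pos.ne'
  have hgm : g ^ (Nat.card G / 2 ^ a) = 1 := by
    rw [hg, ← pow_mul, ← hcard]; exact pow_card_eq_one'
  have hgodd : Odd (orderOf g) := Odd.of_dvd_nat hmodd (orderOf_dvd_of_pow_eq_one hgm)
  have h1 : g ^ k = g⁻¹ := hk₂ g hgodd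
  have h2 : g ^ k = g := by
    rw [hg, ← pow_mul, mul_comm, pow_mul, hx]
  have h3 : g ^ 2 = 1 := by
    rw [pow_two]
    nth_rewrite 1 [← h2, h1]
    exact inv_mul_cancel g
  have h4 : orderOf g ∣ 2 := orderOf_dvd_of_pow_eq_one h3
  rcases (Nat.dvd_prime Nat.prime_two).mp h4 with h | h
  · exact orderOf_eq_one_iff.mp h
  · rw [h] at hgodd
    exact absurd hgodd (by decide)

end

end Cfsg.Agent.CharLib
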