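import Mathlib
import Cfsg.Agent.Lib.Lead.BlockInvol
import Cfsg.Agent.Lib.Lead.RealOddBlock
import Cfsg.Agent.Lib.Lead.PowTwist
import Cfsg.Agent.Lib.Lead.FrobSchur
/-! A 2-block of full defect which is stable under a Galois twist inverting odd-order roots of
unity is the principal 2-block (S4517). -/
open Cfsg Cfsg.Agent.Lib.Helper24 Cfsg.Agent.Lib.Helper6
open scoped ComplexConjugate
namespace Cfsg.Agent.CharLib
universe u

theorem index_centralizer_conj {G : Type u} [Group G] (g h : G) :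
    (Subgroup.centralizer ({h * g * h⁻¹} : Set G)).index =
      (Subgroup.centralizer ({g} : Set G)).index := by
  have : Subgroup.centralizer ({h * g * h⁻¹} : Set G) =
      (Subgroup.centralizer ({g} : Set G)).map ((MulAut.conj h : G ≃* G) : G →* G) := by
    ext x
    rw [Subgroup.mem_map]
    simp only [Subgroup.mem_centralizer_iff, Set.mem_singleton_iff, forall_eq]
    constructor
    · intro hx
      refine ⟨h⁻¹ * x * h, ?_, ?_⟩
      · calc g * (h⁻¹ * x * h) = h⁻¹ * ((h * g * h⁻¹) * x) * h := by group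
          _ = h⁻¹ * (x * (h * g * h⁻¹)) * h := by rw [hx]
          _ = h⁻¹ * x * h * g := by group
      · change h * (h⁻¹ * x * h) * h⁻¹ = x
        group
    · rintro ⟨y, hy, rfl⟩
      change h * g * h⁻¹ * (h * y * h⁻¹) = h * y * h⁻¹ * (h * g * h⁻¹)
      calc h * g * h⁻¹ * (h * y * h⁻¹) = h * (g * y) * h⁻¹ := by group
        _ = h * (y * g) * h⁻¹ := by rw [hy]
        _ = h * y * h⁻¹ * (h * g * h⁻¹) := by group
  rw [this, Subgroup.index_map_equiv]

/-- Invariance of block idempotent coefficients under a twist stabilizing the block. -/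
theorem blockCoeff_twist_invariant {G : Type u} [Group G] [Finite G] (B : Set (IrrCharacter G))
    (t : G → G) (ht : Function.Surjective t) (ht1 : t 1 = 1)
    (hstab : ∀ χ ∈ B, ∃ ψ ∈ B, ∀ g : G, (ψ : G → ℂ) g = (χ : G → ℂ) (t g)) (x : G) :
    blockCoeff B (t x) = blockCoeff B x := by
  classical
  let _ := fintypeIrr G
  rw [blockCoeff_eq_sum, blockCoeff_eq_sum]
  congr 1
  rw [← Finset.sum_filter, ← Finset.sum_filter]
  set Bf := Finset.univ.filter (fun χ : IrrCharacter G => χ ∈ B) with hBf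
  have hmemBf : ∀ χ, χ ∈ Bf ↔ χ ∈ B := fun χ => by simp [hBf]
  let tw : IrrCharacter G → IrrCharacter G := fun χ =>
    if h : χ ∈ B then Classical.choose (hstab χ h) else χ
  have htw_mem : ∀ χ ∈ B, tw χ ∈ B := by
    intro χ h
    simp only [tw, dif_pos h]
    exact (Classical.choose_spec (hstab χ h)).1
  have htw_val : ∀ χ ∈ B, ∀ g, ((tw χ : IrrCharacter G) : G → ℂ) g = (χ : G → ℂ) (t g) := by
    intro χ h
    simp only [tw, dif_pos h]
    exact (Classical.choose_spec (hstab χ h)).2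
  have hinj : Set.InjOn tw (Bf : Set (IrrCharacter G)) := by
    intro χ hχ χ' hχ' heq
    have h1 := (hmemBf χ).mp hχ
    have h2 := (hmemBf χ').mp hχ'
    apply Subtype.ext
    funext g
    obtain ⟨g', rfl⟩ := ht g
    rw [← htw_val χ h1, ← htw_val χ' h2, heq]
  have himage : Bf.image tw = Bf := by
    apply Finset.eq_of_subset_of_card_le
    · intro ψ hψ
      rw [Finset.mem_image] at hψ
      obtain ⟨χ, hχ, rfl⟩ := hψ
      exact (hmemBf _).mpr (htw_mem χ ((hmemBf χ).mp hχ))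
    · rw [Finset.card_image_of_injOn hinj]
  have h1 : ∑ χ ∈ Bf, (χ : G → ℂ) 1 * conj ((χ : G → ℂ) (t x)) =
      ∑ χ ∈ Bf, ((tw χ : IrrCharacter G) : G → ℂ) 1 * conj (((tw χ : IrrCharacter G) : G → ℂ) x) := by
    apply Finset.sum_congr rfl
    intro χ hχ
    have hB := (hmemBf χ).mp hχ
    rw [htw_val χ hB, htw_val χ hB, ht1]
  rw [h1, ← Finset.sum_image hinj (f := fun ψ : IrrCharacter G =>
    (ψ : G → ℂ) 1 * conj ((ψ : G → ℂ) x)), himage]

/-- Off the classes of odd size, a class function with local-integer values sums to an element of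
the local ideal at 2. -/
theorem sum_sub_sum_odd_index_memLocalIdeal {G : Type u} [Group G] [Fintype G] [DecidableEq G]
    {M : Ideal AlgInt} (hM : IsPModular 2 M) {F : G → ℂ} (hF : IsClassFunction G F)
    (hFR : ∀ x, MemLocalRing M (F x)) :
    MemLocalIdeal M (∑ x : G, F x - ∑ x ∈ Finset.univ.filter
      (fun x : G => ¬ 2 ∣ (Subgroup.centralizer ({x} : Set G)).index), F x) := by
  classical
  let _ : Fintype (ConjClasses G) := Fintype.ofFinite _
  have hp : M.IsPrime := isPrime_of_isPModular hM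
  have hM1 := one_not_mem_of_isPModular hM
  rw [Finset.sum_filter, ← Finset.sum_sub_distrib]
  set F' : G → ℂ := fun x => F x -
    (if ¬ 2 ∣ (Subgroup.centralizer ({x} : Set G)).index then F x else 0) with hF'
  have hF'cls : IsClassFunction G F' := by
    intro g h
    simp only [hF']
    rw [hF g h, index_centralizer_conj]
  rw [sum_eq_sum_conjClasses hF'cls]
  apply sum_memLocalIdeal
  intro C _
  simp only [hF']
  split_ifs with h
  · rw [sub_zero]
    exact memLocalIdeal_mul_right (memLocalIdeal_natCast_of_dvd hM h) (hFR _)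
  · rw [sub_self, mul_zero]; exact memLocalIdeal_zero hM1

/-- Key step for S4517. -/
theorem trivIrr_mem_of_full_defect_stable {G : Type u} [Group G] [Finite G] {M : Ideal AlgInt}
    (hM : IsPModular 2 M) (k : ℕ) (hk : Nat.Coprime k (Nat.card G))
    (hk₂ : ∀ g : G, Odd (orderOf g) → g ^ k = g⁻¹) (χ₁ χ₀ : IrrCharacter G)
    (hχ₀ : χ₀ ∈ blockOf M (χ₁ : G → ℂ)) (d : ℕ) (hd : (χ₀ : G → ℂ) 1 = d) (hdodd : Odd d)
    (hstab : ∀ χ ∈ blockOf M (χ₁ : G → ℂ), ∃ ψ ∈ blockOf M (χ₁ : G → ℂ),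
      ∀ g : G, (ψ : G → ℂ) g = (χ : G → ℂ) (g ^ k)) :
    trivIrr G ∈ blockOf M (χ₁ : G → ℂ) := by
  classical
  let _ := Fintype.ofFinite G
  let _ := fintypeIrr G
  haveI : Fact (Nat.Prime 2) := ⟨Nat.prime_two⟩
  have hp : M.IsPrime := isPrime_of_isPModular hM
  have hM1 := one_not_mem_of_isPModular hM
  have h2 := two_memLocalIdeal hM
  set B := blockOf M (χ₁ : G → ℂ) with hBdef
  set f := blockCoeff B with hf
  set a := (Nat.card G).factorization 2 with ha
  have hfR : ∀ x, MemLocalRing M (f x) := fun x => memLocalRing_blockCoeff_blockOf χ₁ x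
  have hfτ : ∀ x, f (x ^ k) = f x := fun x =>
    blockCoeff_twist_invariant B (fun x => x ^ k) (powCoprime hk.symm).surjective (one_pow k)
      hstab x
  have hfcls : IsClassFunction G f := blockCoeff_isClassFunction B
  have hc₀ := IsIrrCharacter.isCharacter χ₀.2
  have hχcls : IsClassFunction G (χ₀ : G → ℂ) := IsCharacter.isClassFunction hc₀
  have hχR : ∀ x, MemLocalRing M ((χ₀ : G → ℂ) x) := fun x => memLocalRing_char hc₀ x
  have hd0 : (d : ℂ) ≠ 0 := by
    rw [Nat.cast_ne_zero]; rintro rfl; exact absurd hdodd (by decide)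
  set Ω : Finset G := Finset.univ.filter
    (fun x : G => ¬ 2 ∣ (Subgroup.centralizer ({x} : Set G)).index) with hΩ
  set π := powPerm k hk with hπdef
  have hπ : π ^ (2 ^ (a + 1)) = 1 := powPerm_pow_two_pow k hk hk₂
  have hπapp : ∀ x, π x = x ^ k := fun x => rfl
  have hΩstab : ∀ x ∈ Ω, π x ∈ Ω := by
    intro x hx
    rw [hΩ, Finset.mem_filter] at hx ⊢
    refine ⟨Finset.mem_univ _, ?_⟩
    rw [hπapp, centralizer_singleton_pow k hk hk₂ x]
    exact hx.2
  -- the twist of χ₀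
  obtain ⟨ψ₀, hψ₀B, hψ₀⟩ := hstab χ₀ hχ₀
  have hcong : ∀ x ∈ Ω, MemLocalIdeal M ((χ₀ : G → ℂ) (x ^ k) - (χ₀ : G → ℂ) x) := by
    intro x hx
    rw [hΩ, Finset.mem_filter] at hx
    have h1 : MemLocalIdeal M (centralChar (χ₁ : G → ℂ) x - centralChar (χ₀ : G → ℂ) x) := hχ₀ x
    have h2' : MemLocalIdeal M (centralChar (χ₁ : G → ℂ) x - centralChar (ψ₀ : G → ℂ) x) :=
      hψ₀B x
    have h3 := memLocalIdeal_sub h1 h2'
    have hψ1 : (ψ₀ : G → ℂ) 1 = d := by rw [hψ₀, one_pow, hd]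
    set i := (Subgroup.centralizer ({x} : Set G)).index with hi
    have hi0 : (i : ℂ) ≠ 0 := by
      rw [Nat.cast_ne_zero]; rintro h0; rw [h0] at hx; exact hx.2 (dvd_zero 2)
    have h4 : (χ₀ : G → ℂ) (x ^ k) - (χ₀ : G → ℂ) x =
        ((d : ℂ) * (i : ℂ)⁻¹) * (centralChar (χ₁ : G → ℂ) x - centralChar (χ₀ : G → ℂ) x -
          (centralChar (χ₁ : G → ℂ) x - centralChar (ψ₀ : G → ℂ) x)) := by
      unfold centralChar
      rw [hψ1, hd, hψ₀, ← hi]
      field_simp
      ring
    rw [h4]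
    apply memLocalIdeal_mul_left _ h3
    exact memLocalRing_mul (memLocalRing_natCast d) (memLocalRing_inv_natCast_of_not_dvd hM hx.2)
  -- orbit counting on Ω
  have hA := sum_sub_sum_fixed_memLocalIdeal (M := M) h2 (fun x => f x * (χ₀ : G → ℂ) x) (a + 1)
    π Ω hΩstab hπ (fun x _ => memLocalRing_mul (hfR x) (hχR x))
    (fun x hx => by
      change MemLocalIdeal M (f (x ^ k) * (χ₀ : G → ℂ) (x ^ k) - f x * (χ₀ : G → ℂ) x)
      rw [hfτ, ← mul_sub]
      exact memLocalIdeal_mul_left (hfR x) (hcong x hx))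
  have hA' := sum_sub_sum_fixed_memLocalIdeal (M := M) h2 (fun x => f x) (a + 1)
    π Ω hΩstab hπ (fun x _ => hfR x)
    (fun x _ => by
      change MemLocalIdeal M (f (x ^ k) - f x)
      rw [hfτ, sub_self]; exact memLocalIdeal_zero hM1)
  -- fixed points are 2-elements
  have hfix : MemLocalIdeal M
      (∑ x ∈ Ω.filter (fun x : G => π x = x), f x * (χ₀ : G → ℂ) x -
        (χ₀ : G → ℂ) 1 * ∑ x ∈ Ω.filter (fun x : G => π x = x), f x) := by
    rw [Finset.mul_sum, ← Finset.sum_sub_distrib]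
    apply sum_memLocalIdeal
    intro x hx
    rw [Finset.mem_filter] at hx
    have hx2 : x ^ (2 ^ a) = 1 := pow_two_pow_eq_one_of_pow_eq k hk₂ x hx.2
    have h3 := memLocalIdeal_char_sub_of_pow_eq_one hM hc₀ x a hx2
    have h4 : f x * (χ₀ : G → ℂ) x - (χ₀ : G → ℂ) 1 * f x =
        f x * ((χ₀ : G → ℂ) x - (χ₀ : G → ℂ) 1) := by ring
    rw [h4]
    exact memLocalIdeal_mul_left (hfR x) h3
  -- off Ω
  have hoff := sum_sub_sum_odd_index_memLocalIdeal hM
    (F := fun x => f x * (χ₀ : G → ℂ) x)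
    (fun g h => by
      change f (h * g * h⁻¹) * (χ₀ : G → ℂ) (h * g * h⁻¹) = f g * (χ₀ : G → ℂ) g
      rw [hfcls g h, hχcls g h])
    (fun x => memLocalRing_mul (hfR x) (hχR x))
  have hoff' := sum_sub_sum_odd_index_memLocalIdeal hM (F := fun x => f x) hfcls hfR
  rw [← hΩ] at hoff hoff'
  -- combine
  have hcomb : MemLocalIdeal M
      (∑ x : G, f x * (χ₀ : G → ℂ) x - (χ₀ : G → ℂ) 1 * ∑ x : G, f x) := by
    have h5 := memLocalIdeal_mul_left (hχR 1) (memLocalIdeal_add hoff' hA')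
    have h6 := memLocalIdeal_sub (memLocalIdeal_add (memLocalIdeal_add hoff hA) hfix) h5
    have h7 : (∑ x : G, f x * (χ₀ : G → ℂ) x - (χ₀ : G → ℂ) 1 * ∑ x : G, f x) =
        ((∑ x : G, f x * (χ₀ : G → ℂ) x - ∑ x ∈ Ω, f x * (χ₀ : G → ℂ) x) +
          (∑ x ∈ Ω, f x * (χ₀ : G → ℂ) x -
            ∑ x ∈ Ω.filter (fun x : G => π x = x), f x * (χ₀ : G → ℂ) x) +
          (∑ x ∈ Ω.filter (fun x : G => π x = x), f x * (χ₀ : G → ℂ) x -
            (χ₀ : G → ℂ) 1 * ∑ x ∈ Ω.filter (fun x : G => π x = x), f x)) -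
        (χ₀ : G → ℂ) 1 * ((∑ x : G, f x - ∑ x ∈ Ω, f x) +
          (∑ x ∈ Ω, f x - ∑ x ∈ Ω.filter (fun x : G => π x = x), f x)) := by ring
    rw [h7]
    exact h6
  -- evaluate with omegaFun
  have hχ0 : (χ₀ : G → ℂ) 1 ≠ 0 := by rw [hd]; exact hd0
  have hωχ : ∑ x : G, f x * (χ₀ : G → ℂ) x = (χ₀ : G → ℂ) 1 := by
    have := omegaFun_blockCoeff B χ₀
    rw [if_pos hχ₀] at this
    unfold omegaFun at this
    rw [div_eq_one_iff_eq hχ0] at this
    exact this
  by_contra h1B
  have hω1 : ∑ x : G, f x = 0 := by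
    have := omegaFun_blockCoeff B (trivIrr G)
    rw [if_neg h1B] at this
    unfold omegaFun at this
    have h11 : ∀ g, ((trivIrr G : IrrCharacter G) : G → ℂ) g = 1 := fun _ => rfl
    simp only [h11, mul_one, div_one] at this
    exact this
  rw [hωχ, hω1, mul_zero, sub_zero, hd] at hcomb
  exact not_memLocalIdeal_of_odd hM hdodd hcomb

end Cfsg.Agent.CharLib
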