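import Mathlib
import Cfsg.Agent.Lib.Lead.BlockInvol
import Cfsg.Agent.Lib.Lead.RealOddBlock
import Cfsg.Agent.Lib.Lead.RealBlockFull
import Cfsg.Agent.Lib.Lead.PowTwist
import Cfsg.Agent.Lib.Lead.PowTwist2
import Cfsg.Agent.Lib.Helper6.Clifford
/-! Principal blocks and normal subgroups: central characters of `χ` on `G`-invariant class
functions of a normal subgroup agree with those of a constituent `θ`; principal block of `G`
lies over the principal block of `N`; odd index and Galois-fixed characters (S4520). -/
open Cfsg Cfsg.Agent.Lib.Helper24 Cfsg.Agent.Lib.Helper6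
open scoped ComplexConjugate
namespace Cfsg.Agent.CharLib
universe u

section conjN
variable {G : Type u} [Group G] (N : Subgroup G) [hN : N.Normal]

/-- conjugation by `g` on the normal subgroup, as a function -/
def conjN (g : G) (n : N) : N := ⟨g * n * g⁻¹, hN.conj_mem n n.2 g⟩

theorem conjN_eq (g : G) (n : N) : conjN N g n = MulAut.conjNormal g n := by
  apply Subtype.ext
  rw [MulAut.conjNormal_apply]
  rfl

theorem conjN_surjective (g : G) : Function.Surjective (conjN N g) := by
  intro m
  refine ⟨conjN N g⁻¹ m, ?_⟩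
  apply Subtype.ext
  simp [conjN]
  group

theorem conjN_one (g : G) : conjN N g 1 = 1 := by
  apply Subtype.ext
  simp [conjN]

end conjN

section clifford
variable {G : Type u} [Group G] [Fintype G] (N : Subgroup G) [hN : N.Normal] [Fintype N]

theorem sum_conjN {β : Type*} [AddCommMonoid β] (g : G) (F : N → β) :
    ∑ n : N, F (conjN N g n) = ∑ n : N, F n := by
  have := Equiv.sum_comp (MulAut.conjNormal g : N ≃* N).toEquiv F
  rw [← this]
  apply Finset.sum_congr rfl
  intro n _
  rw [conjN_eq]
  rfl

/-- The central character of `χ` on a `G`-invariant function on `N` equals that of a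
constituent `θ` of the restriction. -/
theorem omega_restrict_eq {χ : G → ℂ} (hχ : IsIrrCharacter G χ) {θ : N → ℂ}
    (hθ : IsIrrCharacter N θ) (hover : classInner (resFun N χ) θ ≠ 0) (a : N → ℂ)
    (ha : ∀ (g : G) (n : N), a (conjN N g n) = a n) :
    (∑ n : N, a n * χ n) / χ 1 = (∑ n : N, a n * θ n) / θ 1 := by
  classical
  have hcl := clifford N hχ hθ hover
  have hdeg := clifford_degree N hχ hθ hover
  set e := classInner (resFun N χ) θ with he
  have horb : ∀ ψ ∈ conjOrbit N θ, ∑ n : N, a n * ψ n = ∑ n : N, a n * θ n := by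
    intro ψ hψ
    obtain ⟨g, rfl⟩ := (mem_conjOrbit N).mp hψ
    rw [← sum_conjN N g (fun n => a n * θ n)]
    apply Finset.sum_congr rfl
    intro n _
    rw [ha g n]
    rfl
  have hsum : ∑ n : N, a n * χ n = e * ((conjOrbit N θ).card : ℂ) * ∑ n : N, a n * θ n := by
    have h1 : ∀ n : N, χ n = e * ∑ ψ ∈ conjOrbit N θ, ψ n := by
      intro n
      have := congrFun hcl n
      rw [resFun_apply, Pi.smul_apply, Finset.sum_apply, smul_eq_mul] at this
      exact this
    have h3 : ∑ n : N, a n * χ n = ∑ ψ ∈ conjOrbit N θ, ∑ n : N, a n * (e * ψ n) := by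
      rw [Finset.sum_comm]
      apply Finset.sum_congr rfl
      intro n _
      rw [h1 n, Finset.mul_sum, Finset.mul_sum]
    have h2 : ∀ ψ ∈ conjOrbit N θ, ∑ n : N, a n * (e * ψ n) = e * ∑ n : N, a n * θ n := by
      intro ψ hψ
      rw [← horb ψ hψ, Finset.mul_sum]
      apply Finset.sum_congr rfl
      intro n _
      ring
    rw [h3, Finset.sum_congr rfl h2, Finset.sum_const, nsmul_eq_mul]
    ring
  obtain ⟨d, hdpos, hd⟩ := IsIrrCharacter.apply_one_pos hθ
  have hθ0 : θ 1 ≠ 0 := by rw [hd]; exact Nat.cast_ne_zero.mpr hdpos.ne'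
  have hcard0 : ((conjOrbit N θ).card : ℂ) ≠ 0 := by
    rw [Nat.cast_ne_zero]
    exact Finset.card_ne_zero.mpr ⟨θ, self_mem_conjOrbit N θ⟩
  have hc0 : e * ((conjOrbit N θ).card : ℂ) ≠ 0 := mul_ne_zero hover hcard0
  rw [hsum, hdeg, mul_div_mul_left _ _ hc0]

end clifford

section stable
variable {G : Type u} [Group G] (N : Subgroup G) [hN : N.Normal]

theorem centralizer_singleton_map_equiv {H H' : Type*} [Group H] [Group H'] (φ : H ≃* H') (n : H) :
    Subgroup.centralizer ({φ n} : Set H') =
      (Subgroup.centralizer ({n} : Set H)).map (φ : H →* H') := by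
  ext x
  rw [Subgroup.mem_map]
  simp only [Subgroup.mem_centralizer_iff, Set.mem_singleton_iff, forall_eq]
  constructor
  · intro hx
    refine ⟨φ.symm x, ?_, by simp⟩
    apply φ.injective
    rw [map_mul, map_mul, MulEquiv.apply_symm_apply]
    exact hx
  · rintro ⟨y, hy, rfl⟩
    change φ n * φ y = φ y * φ n
    rw [← map_mul, ← map_mul, hy]

theorem index_centralizer_conjN (g : G) (n : N) :
    (Subgroup.centralizer ({conjN N g n} : Set N)).index =
      (Subgroup.centralizer ({n} : Set N)).index := by
  rw [conjN_eq, centralizer_singleton_map_equiv, Subgroup.index_map_equiv]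

theorem centralChar_conjFun (g : G) (ψ : N → ℂ) (n : N) :
    centralChar (conjFun N g ψ) n = centralChar ψ (conjN N g n) := by
  unfold centralChar
  rw [index_centralizer_conjN, conjFun_apply_one]
  rfl

variable [Finite G]

/-- the principal block of a normal subgroup is stable under conjugation -/
theorem conj_mem_principalBlock (M : Ideal AlgInt) (g : G) (ψ : IrrCharacter N)
    (hψ : ψ ∈ principalBlock M N) :
    (⟨conjFun N g (ψ : N → ℂ), isIrrCharacter_conjFun N ψ.2 g⟩ : IrrCharacter N) ∈
      principalBlock M N := by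
  intro n
  have h1 := hψ (conjN N g n)
  change MemLocalIdeal M (centralChar (fun _ : N => (1 : ℂ)) n -
    centralChar (conjFun N g (ψ : N → ℂ)) n)
  rw [centralChar_conjFun]
  have h2 : centralChar (fun _ : N => (1 : ℂ)) n =
      centralChar (fun _ : N => (1 : ℂ)) (conjN N g n) := by
    unfold centralChar
    rw [index_centralizer_conjN]
  rw [h2]
  exact h1

/-- the idempotent coefficients of the principal block of `N` are `G`-invariant -/
theorem blockCoeff_principal_conjN (M : Ideal AlgInt) (g : G) (n : N) :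
    blockCoeff (principalBlock M N) (conjN N g n) = blockCoeff (principalBlock M N) n := by
  apply blockCoeff_twist_invariant (principalBlock M N) (conjN N g) (conjN_surjective N g)
    (conjN_one N g)
  intro ψ hψ
  exact ⟨_, conj_mem_principalBlock N M g ψ hψ, fun n => rfl⟩

end stable

section main
variable {G : Type u} [Group G] [Fintype G] (N : Subgroup G) [hN : N.Normal] [Fintype N]

/-- extension by zero of a function on `N` -/
noncomputable def extN (a : N → ℂ) : G → ℂ := by
  classical
  exact fun g => if h : g ∈ N then a ⟨g, h⟩ else 0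

omit [Fintype G] [Fintype N] in
theorem extN_apply_mem (a : N → ℂ) (n : N) : extN N a (n : G) = a n := by
  classical
  unfold extN
  rw [dif_pos n.2]

omit [Fintype G] [Fintype N] in
theorem extN_apply_not_mem (a : N → ℂ) {g : G} (hg : g ∉ N) : extN N a g = 0 := by
  classical
  unfold extN
  rw [dif_neg hg]

omit [Fintype G] [Fintype N] in
theorem extN_isClassFunction {a : N → ℂ} (ha : ∀ (g : G) (n : N), a (conjN N g n) = a n) :
    IsClassFunction G (extN N a) := by
  intro g h
  by_cases hg : g ∈ N
  · have h1 : h * g * h⁻¹ = ((conjN N h ⟨g, hg⟩ : N) : G) := rfl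
    rw [h1, extN_apply_mem, ha]
    exact (extN_apply_mem N a ⟨g, hg⟩).symm
  · have h1 : h * g * h⁻¹ ∉ N := by
      intro hc
      apply hg
      have := hN.conj_mem _ hc h⁻¹
      simpa [mul_assoc] using this
    rw [extN_apply_not_mem N a hg, extN_apply_not_mem N a h1]

theorem sum_extN_mul (a : N → ℂ) (F : G → ℂ) :
    ∑ g : G, extN N a g * F g = ∑ n : N, a n * F n := by
  classical
  have h1 : ∑ g : G, extN N a g * F g =
      ∑ g ∈ Finset.univ.filter (fun g : G => g ∈ N), extN N a g * F g := by
    symm
    apply Finset.sum_subset (Finset.filter_subset _ _)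
    intro g _ hg
    rw [Finset.mem_filter] at hg
    push Not at hg
    rw [extN_apply_not_mem N a (hg (Finset.mem_univ _)), zero_mul]
  rw [h1, Finset.sum_subtype (Finset.univ.filter (fun g : G => g ∈ N)) (p := fun g => g ∈ N)
    (by simp) (fun g => extN N a g * F g)]
  apply Finset.sum_congr rfl
  intro n _
  rw [extN_apply_mem]

theorem omegaFun_extN (χ : G → ℂ) (a : N → ℂ) :
    omegaFun χ (extN N a) = (∑ n : N, a n * χ n) / χ 1 := by
  unfold omegaFun
  rw [sum_extN_mul]

/-- If `χ` lies in the principal block of `G`, its constituents on a normal subgroup `N` lie in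
the principal block of `N`. -/
theorem mem_principalBlock_of_over {M : Ideal AlgInt} {p : ℕ} (hM : IsPModular p M)
    (χ : IrrCharacter G) (θ : IrrCharacter N)
    (hover : classInner (fun n : N => (χ : G → ℂ) n) (θ : N → ℂ) ≠ 0)
    (hχ : χ ∈ principalBlock M G) : θ ∈ principalBlock M N := by
  classical
  have hp : M.IsPrime := isPrime_of_isPModular hM
  have hM1 := one_not_mem_of_isPModular hM
  have hBN : principalBlock M N = blockOf M ((trivIrr N : IrrCharacter N) : N → ℂ) := rfl
  set a := blockCoeff (principalBlock M N) with ha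
  have hainv : ∀ (g : G) (n : N), a (conjN N g n) = a n :=
    fun g n => blockCoeff_principal_conjN N M g n
  have haR : ∀ n, MemLocalRing M (a n) := by
    intro n
    rw [ha, hBN]
    exact memLocalRing_blockCoeff_blockOf (trivIrr N) n
  have hAcls := extN_isClassFunction N hainv
  have hAR : ∀ g, MemLocalRing M (extN N a g) := by
    intro g
    by_cases hg : g ∈ N
    · have := extN_apply_mem N a ⟨g, hg⟩
      rw [show ((⟨g, hg⟩ : N) : G) = g from rfl] at this
      rw [this]; exact haR _
    · rw [extN_apply_not_mem N a hg]; exact memLocalRing_zero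
  have hχ' : ∀ g, MemLocalIdeal M (centralChar ((trivIrr G : IrrCharacter G) : G → ℂ) g -
      centralChar (χ : G → ℂ) g) := hχ
  have key := memLocalIdeal_omegaFun_sub (M := M) (trivIrr G) χ hχ' hAcls hAR
  -- the trivial characters
  have h1N : trivIrr N ∈ principalBlock M N := by
    intro n
    change MemLocalIdeal M (centralChar ((trivIrr N : IrrCharacter N) : N → ℂ) n -
      centralChar ((trivIrr N : IrrCharacter N) : N → ℂ) n)
    rw [sub_self]
    exact memLocalIdeal_zero hM1
  have hω1 : omegaFun ((trivIrr G : IrrCharacter G) : G → ℂ) (extN N a) = 1 := by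
    rw [omegaFun_extN]
    have := omegaFun_blockCoeff (principalBlock M N) (trivIrr N)
    rw [if_pos h1N] at this
    unfold omegaFun at this
    rw [← this]
    rfl
  have hωχ : omegaFun (χ : G → ℂ) (extN N a) =
      if θ ∈ principalBlock M N then 1 else 0 := by
    rw [omegaFun_extN, omega_restrict_eq N χ.2 θ.2 hover a hainv]
    exact omegaFun_blockCoeff (principalBlock M N) θ
  by_contra hθ
  rw [hω1, hωχ, if_neg hθ, sub_zero] at key
  exact not_memLocalIdeal_one key

/-- For `x ∈ N` and `θ` in the principal block of `N`, the central character of `χ` at `x` is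
congruent to the class size. -/
theorem centralChar_sub_index_of_principal {M : Ideal AlgInt} {p : ℕ} (hM : IsPModular p M)
    (χ : IrrCharacter G) (θ : IrrCharacter N)
    (hover : classInner (fun n : N => (χ : G → ℂ) n) (θ : N → ℂ) ≠ 0)
    (hθ : θ ∈ principalBlock M N) (x : G) (hx : x ∈ N) :
    MemLocalIdeal M (centralChar (χ : G → ℂ) x -
      ((Subgroup.centralizer ({x} : Set G)).index : ℂ)) := by
  classical
  have hp : M.IsPrime := isPrime_of_isPModular hM
  set a : N → ℂ := fun n => classInd x (n : G) with ha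
  have hainv : ∀ (g : G) (n : N), a (conjN N g n) = a n := by
    intro g n
    exact classInd_conj x (n : G) g
  have hext : extN N a = classInd x := by
    funext g
    by_cases hg : g ∈ N
    · have := extN_apply_mem N a ⟨g, hg⟩
      exact this
    · rw [extN_apply_not_mem N a hg]
      unfold classInd
      rw [if_neg]
      intro hc
      apply hg
      obtain ⟨c, hc⟩ := isConj_iff.mp hc
      rw [← hc]
      exact hN.conj_mem x hx c
  -- general formula
  have hR : ∀ (ψ : IrrCharacter G) (η : IrrCharacter N),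
      classInner (fun n : N => (ψ : G → ℂ) n) (η : N → ℂ) ≠ 0 →
      centralChar (ψ : G → ℂ) x = omegaFun (η : N → ℂ) a := by
    intro ψ η hov
    rw [← omegaFun_classInd, ← hext, omegaFun_extN, omega_restrict_eq N ψ.2 η.2 hov a hainv]
    rfl
  have h11 : classInner (fun n : N => ((trivIrr G : IrrCharacter G) : G → ℂ) n)
      ((trivIrr N : IrrCharacter N) : N → ℂ) ≠ 0 := by
    have := classInner_irr (trivIrr N).2 (trivIrr N).2
    rw [if_pos rfl] at this
    have h2 : (fun n : N => ((trivIrr G : IrrCharacter G) : G → ℂ) n) =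
        ((trivIrr N : IrrCharacter N) : N → ℂ) := rfl
    rw [h2, this]
    exact one_ne_zero
  have h1 := hR χ θ hover
  have h2 := hR (trivIrr G) (trivIrr N) h11
  have h3 : centralChar ((trivIrr G : IrrCharacter G) : G → ℂ) x =
      ((Subgroup.centralizer ({x} : Set G)).index : ℂ) := by
    unfold centralChar
    have : ((trivIrr G : IrrCharacter G) : G → ℂ) x = 1 := rfl
    rw [this]
    have : ((trivIrr G : IrrCharacter G) : G → ℂ) 1 = 1 := rfl
    rw [this, mul_one, div_one]
  have hacls : IsClassFunction N a := by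
    intro n h
    exact classInd_conj x (n : G) (h : G)
  have haR : ∀ n, MemLocalRing M (a n) := fun n => memLocalRing_classInd x (n : G)
  have hθ' : ∀ n, MemLocalIdeal M (centralChar ((trivIrr N : IrrCharacter N) : N → ℂ) n -
      centralChar (θ : N → ℂ) n) := hθ
  have key := memLocalIdeal_omegaFun_sub (M := M) (trivIrr N) θ hθ' hacls haR
  rw [← h3, h1, h2]
  have := memLocalIdeal_neg key
  rwa [neg_sub] at this

end main

section classperm
variable {G : Type u} [Group G]

/-- the power map on conjugacy classes -/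
def powClass (k : ℕ) : ConjClasses G → ConjClasses G :=
  Quotient.map (fun x => x ^ k) (fun _ _ h => IsConj.pow k h)

theorem powClass_mk (k : ℕ) (x : G) : powClass k (ConjClasses.mk x) = ConjClasses.mk (x ^ k) := rfl

theorem powClass_iterate_mk (k j : ℕ) (x : G) :
    (powClass k)^[j] (ConjClasses.mk x) = ConjClasses.mk (x ^ (k ^ j)) := by
  induction j with
  | zero => simp
  | succ j ih =>
    rw [Function.iterate_succ_apply', ih, powClass_mk, ← pow_mul, pow_succ]

/-- the power map as a permutation of the conjugacy classes, when some `2^e`-th iterate of it is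
the identity -/
def powClassPerm (k e : ℕ) (hid : ∀ x : G, x ^ (k ^ (2 ^ e)) = x) : Equiv.Perm (ConjClasses G) where
  toFun := powClass k
  invFun := (powClass k)^[2 ^ e - 1]
  left_inv C := by
    obtain ⟨x, rfl⟩ := ConjClasses.mk_surjective C
    rw [← Function.iterate_succ_apply, powClass_iterate_mk]
    have : (2 ^ e - 1).succ = 2 ^ e := by
      have : 0 < 2 ^ e := pow_pos (by norm_num) e
      omega
    rw [this, hid]
  right_inv C := by
    obtain ⟨x, rfl⟩ := ConjClasses.mk_surjective C
    have h1 : powClass k ((powClass k)^[2 ^ e - 1] (ConjClasses.mk x)) =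
        (powClass k)^[(2 ^ e - 1).succ] (ConjClasses.mk x) :=
      (Function.iterate_succ_apply' (powClass k) (2 ^ e - 1) (ConjClasses.mk x)).symm
    rw [h1, powClass_iterate_mk]
    have : (2 ^ e - 1).succ = 2 ^ e := by
      have : 0 < 2 ^ e := pow_pos (by norm_num) e
      omega
    rw [this, hid]

theorem powClassPerm_apply (k e : ℕ) (hid : ∀ x : G, x ^ (k ^ (2 ^ e)) = x) (C : ConjClasses G) :
    powClassPerm k e hid C = powClass k C := rfl

theorem powClassPerm_pow (k e : ℕ) (hid : ∀ x : G, x ^ (k ^ (2 ^ e)) = x) :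
    powClassPerm k e hid ^ (2 ^ e) = 1 := by
  ext C
  rw [← Equiv.Perm.iterate_eq_pow]
  obtain ⟨x, rfl⟩ := ConjClasses.mk_surjective C
  have : (⇑(powClassPerm k e hid))^[2 ^ e] = (powClass k)^[2 ^ e] := rfl
  rw [this, powClass_iterate_mk, hid]
  rfl

theorem isConj_out_powClassPerm (k e : ℕ) (hid : ∀ x : G, x ^ (k ^ (2 ^ e)) = x)
    (C : ConjClasses G) : IsConj (Quotient.out (powClassPerm k e hid C)) ((Quotient.out C) ^ k) := by
  apply ConjClasses.mk_eq_mk_iff_isConj.mp
  have h1 : ConjClasses.mk (Quotient.out (powClassPerm k e hid C)) = powClassPerm k e hid C :=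
    Quotient.out_eq _
  rw [h1, powClassPerm_apply]
  have h2 : ConjClasses.mk (Quotient.out C) = C := Quotient.out_eq _
  nth_rewrite 1 [← h2]
  exact powClass_mk k _

/-- In a group of odd order only the identity is conjugate to its inverse. -/
theorem eq_one_of_conj_inv_of_odd {Q : Type*} [Group Q] [Finite Q] (hodd : Odd (Nat.card Q))
    (q t : Q) (h : t * q⁻¹ * t⁻¹ = q) : q = 1 := by
  have h1 : t * q * t⁻¹ = q⁻¹ := by
    have := congrArg (fun z => z⁻¹) h
    simp only [mul_inv_rev, inv_inv] at this
    rw [← this]; group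
  have h2 : Commute (t ^ 2) q := by
    change t ^ 2 * q = q * t ^ 2
    calc t ^ 2 * q = t * (t * q * t⁻¹) * t⁻¹ * t ^ 2 := by
          rw [pow_two]; group
      _ = t * q⁻¹ * t⁻¹ * t ^ 2 := by rw [h1]
      _ = q * t ^ 2 := by rw [h]
  have htodd : Odd (orderOf t) := Odd.of_dvd_nat hodd (orderOf_dvd_natCard t)
  obtain ⟨r, hr⟩ := htodd
  have h3 : (t ^ 2) ^ (r + 1) = t := by
    rw [← pow_mul]
    have : 2 * (r + 1) = orderOf t + 1 := by omega
    rw [this, pow_succ, pow_orderOf_eq_one, one_mul]
  have h4 : Commute t q := by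
    rw [← h3]; exact h2.pow_left _
  have h5 : q = q⁻¹ := by
    rw [← h1, h4.eq]; group
  have h6 : q ^ 2 = 1 := by
    rw [pow_two]
    nth_rewrite 1 [h5]
    exact inv_mul_cancel q
  have hqodd : Odd (orderOf q) := Odd.of_dvd_nat hodd (orderOf_dvd_natCard q)
  rcases (Nat.dvd_prime Nat.prime_two).mp (orderOf_dvd_of_pow_eq_one h6) with h | h
  · exact orderOf_eq_one_iff.mp h
  · rw [h] at hqodd; exact absurd hqodd (by decide)

/-- A class fixed by the inverting power map lies in every normal subgroup of odd index. -/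
theorem mem_of_isConj_pow_of_odd_index [Finite G] (N : Subgroup G) [hN : N.Normal]
    (hidx : Odd N.index) (k : ℕ) (hk₂ : ∀ g : G, Odd (orderOf g) → g ^ k = g⁻¹) (x : G)
    (hx : IsConj (x ^ k) x) : x ∈ N := by
  set a := (Nat.card G).factorization 2 with ha
  set y := x ^ (2 ^ a) with hy
  have hcard : Nat.card G = 2 ^ a * (Nat.card G / 2 ^ a) :=
    (Nat.ordProj_mul_ordCompl_eq_self (Nat.card G) 2).symm
  have hmodd : Odd (Nat.card G / 2 ^ a) := by
    rw [← Nat.not_even_iff_odd, even_iff_two_dvd]
    exact Nat.not_dvd_ordCompl Nat.prime_two Nat.card_pos.ne'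
  have hym : y ^ (Nat.card G / 2 ^ a) = 1 := by
    rw [hy, ← pow_mul, ← hcard]; exact pow_card_eq_one'
  have hyodd : Odd (orderOf y) := Odd.of_dvd_nat hmodd (orderOf_dvd_of_pow_eq_one hym)
  have hyk : y ^ k = y⁻¹ := hk₂ y hyodd
  obtain ⟨c, hc⟩ := isConj_iff.mp hx
  have hcy : c * y⁻¹ * c⁻¹ = y := by
    rw [← hyk, hy, ← pow_mul, mul_comm, pow_mul, ← conj_pow, hc]
  have hQodd : Odd (Nat.card (G ⧸ N)) := hidx
  have hq : ((y : G) : G ⧸ N) = 1 := by
    apply eq_one_of_conj_inv_of_odd hQodd ((y : G) : G ⧸ N) ((c : G) : G ⧸ N)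
    have := congrArg (fun z : G => (z : G ⧸ N)) hcy
    simpa using this
  have hxq : ((x : G) : G ⧸ N) ^ (2 ^ a) = 1 := by
    rw [← QuotientGroup.mk_pow]; exact hq
  have h1 : orderOf ((x : G) : G ⧸ N) ∣ 2 ^ a := orderOf_dvd_of_pow_eq_one hxq
  have h2 : orderOf ((x : G) : G ⧸ N) ∣ Nat.card (G ⧸ N) := orderOf_dvd_natCard _
  have hcop : Nat.Coprime (2 ^ a) (Nat.card (G ⧸ N)) := by
    apply Nat.Coprime.pow_left
    rw [Nat.coprime_two_left]
    exact hQodd
  have h3 : orderOf ((x : G) : G ⧸ N) = 1 := Nat.eq_one_of_dvd_coprimes hcop h1 h2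
  have h4 : ((x : G) : G ⧸ N) = 1 := orderOf_eq_one_iff.mp h3
  exact (QuotientGroup.eq_one_iff x).mp h4

end classperm

section oddindex
variable {G : Type u} [Group G] [Fintype G] (N : Subgroup G) [hN : N.Normal] [Fintype N]

theorem centralChar_isClassFunction {χ : G → ℂ} (hχ : IsClassFunction G χ) :
    IsClassFunction G (centralChar χ) := by
  intro g h
  unfold centralChar
  rw [index_centralizer_conj, hχ g h]

/-- Key step for S4520: a Galois-fixed character over a member of the principal 2-block of a
normal subgroup of odd index lies in the principal 2-block. -/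
theorem trivIrr_mem_block_of_odd_index {M : Ideal AlgInt} (hM : IsPModular 2 M)
    (hidx : Odd N.index) (k e : ℕ) (hk : Nat.Coprime k (Nat.card G))
    (hke : k ^ (2 ^ e) ≡ 1 [MOD Nat.card G]) (hk₂ : ∀ g : G, Odd (orderOf g) → g ^ k = g⁻¹)
    (θ : IrrCharacter N) (χ : IrrCharacter G)
    (hχ : ∀ g : G, (χ : G → ℂ) (g ^ k) = (χ : G → ℂ) g)
    (hover : classInner (fun n : N => (χ : G → ℂ) n) (θ : N → ℂ) ≠ 0)
    (hθ : θ ∈ principalBlock M N) : trivIrr G ∈ blockOf M (χ : G → ℂ) := by
  classical
  let _ : Fintype (ConjClasses G) := Fintype.ofFinite _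
  let _ := fintypeIrr G
  have hp : M.IsPrime := isPrime_of_isPModular hM
  have hM1 := one_not_mem_of_isPModular hM
  have h2 := two_memLocalIdeal hM
  have hid : ∀ x : G, x ^ (k ^ (2 ^ e)) = x := by
    intro x
    have h1 : k ^ (2 ^ e) ≡ 1 [MOD orderOf x] := hke.of_dvd (orderOf_dvd_natCard x)
    have := (pow_eq_pow_iff_modEq (x := x)).mpr h1
    rwa [pow_one] at this
  set B := blockOf M (χ : G → ℂ) with hBdef
  have hχB : χ ∈ B := by
    intro g
    rw [sub_self]
    exact memLocalIdeal_zero hM1
  have hcent : ∀ x : G, Subgroup.centralizer ({x ^ k} : Set G) = Subgroup.centralizer ({x} : Set G) :=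
    fun x => centralizer_singleton_pow k hk hk₂ x
  have hχcls : IsClassFunction G (χ : G → ℂ) :=
    IsCharacter.isClassFunction (IsIrrCharacter.isCharacter χ.2)
  have hcccls := centralChar_isClassFunction hχcls
  have hccτ : ∀ x : G, centralChar (χ : G → ℂ) (x ^ k) = centralChar (χ : G → ℂ) x := by
    intro x
    unfold centralChar
    rw [hcent, hχ]
  -- the block is stable under the twist
  have hstab : ∀ ψ ∈ B, ∃ ψ' ∈ B, ∀ g : G, (ψ' : G → ℂ) g = (ψ : G → ℂ) (g ^ k) := by
    intro ψ hψ
    refine ⟨twIrr k hk ψ, ?_, fun g => rfl⟩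
    intro g
    have h1 := hψ (g ^ k)
    have h3 : centralChar ((twIrr k hk ψ : IrrCharacter G) : G → ℂ) g =
        centralChar (ψ : G → ℂ) (g ^ k) := by
      unfold centralChar
      rw [hcent]
      have h4 : ((twIrr k hk ψ : IrrCharacter G) : G → ℂ) 1 = (ψ : G → ℂ) 1 := by
        change (ψ : G → ℂ) (1 ^ k) = _
        rw [one_pow]
      rw [h4]
      rfl
    rw [h3, ← hccτ g]
    exact h1
  set f := blockCoeff B with hf
  have hfR : ∀ x, MemLocalRing M (f x) := fun x => memLocalRing_blockCoeff_blockOf χ x
  have hfτ : ∀ x, f (x ^ k) = f x := fun x =>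
    blockCoeff_twist_invariant B (fun x => x ^ k) (powCoprime hk.symm).surjective (one_pow k)
      hstab x
  have hfcls : IsClassFunction G f := blockCoeff_isClassFunction B
  -- the permutation of the classes
  set π := powClassPerm k e hid with hπdef
  have hπ : π ^ (2 ^ e) = 1 := powClassPerm_pow k e hid
  have hout : ∀ C : ConjClasses G, IsConj (Quotient.out (π C)) ((Quotient.out C) ^ k) :=
    fun C => isConj_out_powClassPerm k e hid C
  have hfπ : ∀ C : ConjClasses G, f (Quotient.out (π C)) = f (Quotient.out C) := by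
    intro C
    rw [IsClassFunction.of_isConj hfcls (hout C), hfτ]
  have hccπ : ∀ C : ConjClasses G, centralChar (χ : G → ℂ) (Quotient.out (π C)) =
      centralChar (χ : G → ℂ) (Quotient.out C) := by
    intro C
    rw [IsClassFunction.of_isConj hcccls (hout C), hccτ]
  have h1cls : IsClassFunction G ((trivIrr G : IrrCharacter G) : G → ℂ) := fun _ _ => rfl
  have hc1cls := centralChar_isClassFunction h1cls
  have hc1π : ∀ C : ConjClasses G,
      centralChar ((trivIrr G : IrrCharacter G) : G → ℂ) (Quotient.out (π C)) =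
      centralChar ((trivIrr G : IrrCharacter G) : G → ℂ) (Quotient.out C) := by
    intro C
    rw [IsClassFunction.of_isConj hc1cls (hout C)]
    unfold centralChar
    rw [hcent]
    rfl
  have hc1 : ∀ x : G, centralChar ((trivIrr G : IrrCharacter G) : G → ℂ) x =
      ((Subgroup.centralizer ({x} : Set G)).index : ℂ) := by
    intro x
    unfold centralChar
    have h3 : ((trivIrr G : IrrCharacter G) : G → ℂ) x = 1 := rfl
    have h4 : ((trivIrr G : IrrCharacter G) : G → ℂ) 1 = 1 := rfl
    rw [h3, h4, mul_one, div_one]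
  have hc1R : ∀ x : G, MemLocalRing M (centralChar ((trivIrr G : IrrCharacter G) : G → ℂ) x) :=
    fun x => memLocalRing_centralChar (trivIrr G) x
  -- orbit counting
  have hA := sum_sub_sum_fixed_memLocalIdeal (M := M) h2
    (fun C : ConjClasses G => f (Quotient.out C) * centralChar (χ : G → ℂ) (Quotient.out C)) e
    π Finset.univ (fun _ _ => Finset.mem_univ _) hπ
    (fun C _ => memLocalRing_mul (hfR _) (memLocalRing_centralChar χ _))
    (fun C _ => by
      change MemLocalIdeal M (f (Quotient.out (π C)) * centralChar (χ : G → ℂ) (Quotient.out (π C)) -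
        f (Quotient.out C) * centralChar (χ : G → ℂ) (Quotient.out C))
      rw [hfπ, hccπ, sub_self]; exact memLocalIdeal_zero hM1)
  have hA' := sum_sub_sum_fixed_memLocalIdeal (M := M) h2
    (fun C : ConjClasses G => f (Quotient.out C) *
      centralChar ((trivIrr G : IrrCharacter G) : G → ℂ) (Quotient.out C)) e
    π Finset.univ (fun _ _ => Finset.mem_univ _) hπ
    (fun C _ => memLocalRing_mul (hfR _) (hc1R _))
    (fun C _ => by
      change MemLocalIdeal M (f (Quotient.out (π C)) *
        centralChar ((trivIrr G : IrrCharacter G) : G → ℂ) (Quotient.out (π C)) -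
        f (Quotient.out C) * centralChar ((trivIrr G : IrrCharacter G) : G → ℂ) (Quotient.out C))
      rw [hfπ, hc1π, sub_self]; exact memLocalIdeal_zero hM1)
  -- on the fixed classes the two central characters agree modulo the local ideal
  have hfix : MemLocalIdeal M
      (∑ C ∈ Finset.univ.filter (fun C : ConjClasses G => π C = C),
        f (Quotient.out C) * centralChar (χ : G → ℂ) (Quotient.out C) -
       ∑ C ∈ Finset.univ.filter (fun C : ConjClasses G => π C = C),
        f (Quotient.out C) * centralChar ((trivIrr G : IrrCharacter G) : G → ℂ) (Quotient.out C)) := by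
    rw [← Finset.sum_sub_distrib]
    apply sum_memLocalIdeal
    intro C hC
    rw [Finset.mem_filter] at hC
    have hconj : IsConj ((Quotient.out C) ^ k) (Quotient.out C) := by
      have := hout C
      rw [hC.2] at this
      exact this.symm
    have hmem : Quotient.out C ∈ N :=
      mem_of_isConj_pow_of_odd_index N hidx k hk₂ _ hconj
    have h3 := centralChar_sub_index_of_principal N hM χ θ hover hθ (Quotient.out C) hmem
    rw [← mul_sub, hc1]
    exact memLocalIdeal_mul_left (hfR _) h3
  -- evaluate the sums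
  have hS1 : ∑ C : ConjClasses G, f (Quotient.out C) * centralChar (χ : G → ℂ) (Quotient.out C) = 1 := by
    have := sum_blockCoeff_mul_centralChar B χ
    rw [if_pos hχB] at this
    exact this
  by_contra h1B
  have hS2 : ∑ C : ConjClasses G, f (Quotient.out C) *
      centralChar ((trivIrr G : IrrCharacter G) : G → ℂ) (Quotient.out C) = 0 := by
    have := sum_blockCoeff_mul_centralChar B (trivIrr G)
    rw [if_neg h1B] at this
    exact this
  rw [hS1] at hA
  rw [hS2] at hA'
  -- 1 = (1 - Σfix g₁) + (Σfix g₁ - Σfix g₂) - (0 - Σfix g₂)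
  have h5 := memLocalIdeal_sub (memLocalIdeal_add hA hfix) hA'
  have h6 : (1 - ∑ C ∈ Finset.univ.filter (fun C : ConjClasses G => π C = C),
        f (Quotient.out C) * centralChar (χ : G → ℂ) (Quotient.out C)) +
      (∑ C ∈ Finset.univ.filter (fun C : ConjClasses G => π C = C),
        f (Quotient.out C) * centralChar (χ : G → ℂ) (Quotient.out C) -
       ∑ C ∈ Finset.univ.filter (fun C : ConjClasses G => π C = C),
        f (Quotient.out C) * centralChar ((trivIrr G : IrrCharacter G) : G → ℂ) (Quotient.out C)) -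
      (0 - ∑ C ∈ Finset.univ.filter (fun C : ConjClasses G => π C = C),
        f (Quotient.out C) * centralChar ((trivIrr G : IrrCharacter G) : G → ℂ) (Quotient.out C)) =
      1 := by ring
  rw [h6] at h5
  exact not_memLocalIdeal_one h5

end oddindex

end Cfsg.Agent.CharLib
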