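import Mathlib
import Cfsg.Prelude.Def_BrauerPairs
import Cfsg.Agent.Lib.Helper6.BrauerMap
import Cfsg.Agent.Lib.Helper6.InducedDefect
import Cfsg.Agent.Lib.Helper6.FirstMain

/-!
lead: a Brauer pair `(Q, e)` of the block `B` (with `Q` abelian) gives a block `e` of `C_G(Q)`
inducing `B`.
-/

set_option autoImplicit false

namespace Cfsg.Agent.CharLib

open Cfsg Cfsg.Agent.Lib.Helper24 Cfsg.Agent.Lib.Helper6
open scoped ComplexConjugate

universe u

section bridge

variable {G : Type u} [Group G] [Finite G] {M : Ideal AlgInt}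

theorem brauerOmega_eq_omegaFun [Fintype G] (Q : Subgroup G)
    [Fintype (Subgroup.centralizer (Q : Set G))] (β : G → ℂ)
    (ξ : Subgroup.centralizer (Q : Set G) → ℂ) :
    brauerOmega Q β ξ = omegaFun ξ (resFun (Subgroup.centralizer (Q : Set G)) β) := by
  unfold brauerOmega omegaFun
  rw [finsum_eq_sum_of_fintype, Finset.sum_div]
  rfl

/-- A Brauer pair `(Q, e)` of `B` with `Q` commutative: `e` induces `B`. -/
theorem isInducedBlock_of_isBrauerPairOf {p : ℕ} [hpp : Fact p.Prime] (hM : IsPModular p M)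
    (B : Set (IrrCharacter G)) (Q : Subgroup G)
    (hQab : Q ≤ Subgroup.centralizer (Q : Set G))
    (e : Set (IrrCharacter (Subgroup.centralizer (Q : Set G))))
    (h : IsBrauerPairOf p M B Q e) :
    IsInducedBlock M (Subgroup.centralizer (Q : Set G)) e B := by
  classical
  let _ : Fintype G := Fintype.ofFinite G
  let _ : Fintype (Subgroup.centralizer (Q : Set G)) := Fintype.ofFinite _
  have hprime : M.IsPrime := isPrime_of_isPModular hM
  obtain ⟨⟨hQp, he⟩, hB, hom⟩ := h
  obtain ⟨B', hB'⟩ := inducedBlockDefined_of_le_normalizer hM Q (Subgroup.centralizer (Q : Set G))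
    hQp hQab le_rfl (Subgroup.centralizer_le_normalizer _) e he
  obtain ⟨ξ₀, rfl⟩ := he
  obtain ⟨χ', hχ'⟩ := hB'.2.1
  obtain ⟨χ₀, hχ₀⟩ := hB
  have hξ₀ : ξ₀ ∈ blockOf M (ξ₀ : Subgroup.centralizer (Q : Set G) → ℂ) := mem_blockOf_self ξ₀
  have hχ'mem : χ' ∈ B' := by rw [hχ']; exact mem_blockOf_self χ'
  have h1 := memLocalIdeal_omegaFun_resFun_sub_of_induced (M := M)
    (Subgroup.centralizer (Q : Set G)) hB' hξ₀ hχ'mem (blockCoeff_isClassFunction B)
    (fun x => by rw [hχ₀]; exact memLocalRing_blockCoeff_blockOf χ₀ x)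
  rw [omegaFun_blockCoeff, ← brauerOmega_eq_omegaFun] at h1
  have h2 := hom ξ₀ hξ₀
  by_cases hmem : χ' ∈ B
  · have : B' = B := isPBlock_eq_of_mem hB'.2.1 ⟨χ₀, hχ₀⟩ hχ'mem hmem
    rw [← this]
    exact hB'
  · exfalso
    rw [if_neg hmem, sub_zero] at h1
    have h3 := memLocalIdeal_sub h1 h2
    rw [sub_sub_cancel] at h3
    exact not_memLocalIdeal_one h3

end bridge

end Cfsg.Agent.CharLib
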