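import Mathlib
import Cfsg.Agent.Lib.Helper24.ClassMul
import Cfsg.Agent.Lib.Helper24.IrrFacts
import Cfsg.Agent.Lib.Lead.CharOrtho

/-!
lead: groups `G = D C_G(D)`: normality of `D`, and the central product formula
`χ (d y) = χ d * χ y / χ 1` for `d ∈ D`, `y ∈ C_G(D)`.
-/

set_option autoImplicit false

namespace Cfsg.Agent.CharLib

open Cfsg Cfsg.Agent.Lib.Helper24
open scoped ComplexConjugate

universe u

section cp

variable {G : Type u} [Group G]

/-- If `G = D C_G(D)` then `D` is normal. -/
theorem cp_normal (D : Subgroup G) (hG : D ⊔ Subgroup.centralizer (D : Set G) = ⊤) : D.Normal := by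
  rw [← Subgroup.normalizer_eq_top_iff]
  rw [eq_top_iff, ← hG]
  apply sup_le
  · exact Subgroup.le_normalizer
  · intro c hc
    rw [Subgroup.mem_normalizer_iff]
    intro h
    have key : ∀ x ∈ D, c * x * c⁻¹ = x := by
      intro x hx
      have := Subgroup.mem_centralizer_iff.mp hc x hx
      rw [← this]; group
    constructor
    · intro hh
      rw [key h hh]; exact hh
    · intro hh
      have h2 : c * h * c⁻¹ * c = c * (c * h * c⁻¹) :=
        Subgroup.mem_centralizer_iff.mp hc _ hh
      have h3 : h = c * h * c⁻¹ := by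
        calc h = c⁻¹ * (c * h * c⁻¹ * c) := by group
          _ = c⁻¹ * (c * (c * h * c⁻¹)) := by rw [h2]
          _ = c * h * c⁻¹ := by group
      rw [h3]; exact hh

/-- Every element of `G = D C_G(D)` is a product. -/
theorem cp_decomp (D : Subgroup G) (hG : D ⊔ Subgroup.centralizer (D : Set G) = ⊤) (g : G) :
    ∃ d ∈ D, ∃ c ∈ Subgroup.centralizer (D : Set G), d * c = g := by
  haveI := cp_normal D hG
  have : g ∈ D ⊔ Subgroup.centralizer (D : Set G) := by rw [hG]; exact Subgroup.mem_top g
  exact Subgroup.mem_sup_of_normal_left.mp this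

end cp

end Cfsg.Agent.CharLib
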