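import Mathlib
import Cfsg.Agent.Lib.Lead.CentralProdBlock1

/-!
lead: the central product formula `χ (d y) = χ d * χ y / χ 1` for `d ∈ D`, `y ∈ C_G(D)` when
`G = D C_G(D)`.
-/

set_option autoImplicit false

namespace Cfsg.Agent.CharLib

open Cfsg Cfsg.Agent.Lib.Helper24
open scoped ComplexConjugate

universe u

section cp

variable {G : Type u} [Group G] [Finite G]

theorem cp_conj_mul (D : Subgroup G) (hG : D ⊔ Subgroup.centralizer (D : Set G) = ⊤)
    {d y : G} (hd : d ∈ D) (hy : y ∈ Subgroup.centralizer (D : Set G)) (a : G) :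
    ∃ b : G, a * d * a⁻¹ * y = b * (d * y) * b⁻¹ := by
  obtain ⟨d', hd', c, hc, rfl⟩ := cp_decomp D hG a
  refine ⟨d', ?_⟩
  have h1 : c * d = d * c := (Subgroup.mem_centralizer_iff.mp hc d hd).symm
  have h2 : d'⁻¹ * y = y * d'⁻¹ := (Subgroup.mem_centralizer_iff.mp hy d'⁻¹ (D.inv_mem hd'))
  calc d' * c * d * (d' * c)⁻¹ * y = d' * (c * d) * c⁻¹ * d'⁻¹ * y := by group
    _ = d' * (d * c) * c⁻¹ * d'⁻¹ * y := by rw [h1]
    _ = d' * d * (d'⁻¹ * y) := by group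
    _ = d' * d * (y * d'⁻¹) := by rw [h2]
    _ = d' * (d * y) * d'⁻¹ := by group

/-- Central product formula. -/
theorem cp_mul_formula (D : Subgroup G) (hG : D ⊔ Subgroup.centralizer (D : Set G) = ⊤)
    (χ : IrrCharacter G) {d y : G} (hd : d ∈ D) (hy : y ∈ Subgroup.centralizer (D : Set G)) :
    (χ : G → ℂ) (d * y) * (χ : G → ℂ) 1 = (χ : G → ℂ) d * (χ : G → ℂ) y := by
  classical
  letI : Fintype G := Fintype.ofFinite G
  obtain ⟨n, ρ, hirr, hρ⟩ := χ.2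
  haveI := hirr
  have h1 := sum_conj_eq_smul_one ρ d
  have h2 := congrArg (fun T => LinearMap.trace ℂ (Fin n → ℂ) (T * ρ y)) h1
  beta_reduce at h2
  rw [Finset.sum_mul, map_sum, smul_mul_assoc, one_mul, map_smul, smul_eq_mul] at h2
  have h3 : ∀ a : G, LinearMap.trace ℂ (Fin n → ℂ) (ρ (a * d * a⁻¹) * ρ y) = (χ : G → ℂ) (d * y) := by
    intro a
    rw [← map_mul]
    obtain ⟨b, hb⟩ := cp_conj_mul D hG hd hy a
    rw [hb]
    have : LinearMap.trace ℂ (Fin n → ℂ) (ρ (b * (d * y) * b⁻¹)) = ρ.character (b * (d * y) * b⁻¹) := rfl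
    rw [this, hρ]
    exact irr_conj χ (d * y) b
  rw [Finset.sum_congr rfl (fun a _ => h3 a), Finset.sum_const, Finset.card_univ, nsmul_eq_mul] at h2
  have h4 : LinearMap.trace ℂ (Fin n → ℂ) (ρ y) = (χ : G → ℂ) y := by
    have : LinearMap.trace ℂ (Fin n → ℂ) (ρ y) = ρ.character y := rfl
    rw [this, hρ]
  have h5 : ρ.character d = (χ : G → ℂ) d := by rw [hρ]
  have h6 : (Module.finrank ℂ (Fin n → ℂ) : ℂ) = (χ : G → ℂ) 1 := by
    rw [← hρ, Representation.char_one]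
  rw [h4, h5, h6] at h2
  have hne : (χ : G → ℂ) 1 ≠ 0 := irr_apply_one_ne_zero χ
  have hcard : (Fintype.card G : ℂ) ≠ 0 := by
    have : 0 < Fintype.card G := Fintype.card_pos
    exact_mod_cast this.ne'
  have h7 : (Fintype.card G : ℂ) * ((χ : G → ℂ) (d * y) * (χ : G → ℂ) 1) =
      (Fintype.card G : ℂ) * ((χ : G → ℂ) d * (χ : G → ℂ) y) := by
    calc (Fintype.card G : ℂ) * ((χ : G → ℂ) (d * y) * (χ : G → ℂ) 1)
        = ((Fintype.card G : ℂ) * (χ : G → ℂ) (d * y)) * (χ : G → ℂ) 1 := by ring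
      _ = ((Fintype.card G : ℂ) * (χ : G → ℂ) d / (χ : G → ℂ) 1 * (χ : G → ℂ) y) * (χ : G → ℂ) 1 := by rw [h2]
      _ = (Fintype.card G : ℂ) * ((χ : G → ℂ) d * (χ : G → ℂ) y) := by field_simp
  exact mul_left_cancel₀ hcard h7

end cp

end Cfsg.Agent.CharLib
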