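import Mathlib
import Cfsg.Agent.Lib.Lead.CentralProdBlock2
import Cfsg.Agent.Lib.Helper23.RankQuotApp
import Cfsg.Agent.Lib.Helper23.QuotDefectAux

/-!
lead: blocks of `G = D C_G(D)` with defect group `D`: the canonical character.
-/

set_option autoImplicit false

namespace Cfsg.Agent.CharLib

open Cfsg Cfsg.Agent.Lib.Helper24 Cfsg.Agent.Lib.Helper6 Cfsg.Agent.Lib.Helper25
  Cfsg.Agent.Lib.Helper23
open scoped ComplexConjugate

universe u

section canon

variable {G : Type u} [Group G] [Fintype G] {M : Ideal AlgInt} {p : ℕ} [hpp : Fact p.Prime]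

/-- The canonical character of a block of `G = D C_G(D)` with defect group `D`; the block has
`p`-regular rank one. -/
theorem cp_canonical (hM : IsPModular p M) (D : Subgroup G) (hDp : IsPGroup p D)
    (hG : D ⊔ Subgroup.centralizer (D : Set G) = ⊤) (B : Set (IrrCharacter G))
    (hB : IsPBlock M B) (hBD : IsDefectGroup p M B D) :
    blockRank p B = 1 ∧ ∃ θ ∈ B, (∀ x ∈ D, (θ : G → ℂ) x = (θ : G → ℂ) 1) ∧
      (∀ θ' ∈ B, (∀ x ∈ D, (θ' : G → ℂ) x = (θ' : G → ℂ) 1) → θ' = θ) ∧
      (charDegree (θ : G → ℂ)).factorization p = D.index.factorization p := by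
  classical
  haveI hDn : D.Normal := cp_normal D hG
  have hC := index_centralizer_of_sup_eq_top D hDp hG
  obtain ⟨ψ₀, rfl⟩ := hB
  have hrank := blockRank_eq_blockRank_quotient D hM hDp hC ψ₀
  obtain ⟨hblock, hdef⟩ := quotient_block_eq hM D hDp hC ψ₀
  set Bbar := {γ : IrrCharacter (G ⧸ D) | inflateIrr D γ ∈ blockOf M (ψ₀ : G → ℂ)} with hBbar
  have hbot : IsDefectGroup p M Bbar ⊥ := by
    rw [hdef]
    refine ⟨D, hBD, ?_⟩
    symm
    rw [eq_bot_iff]
    rintro _ ⟨n, hn, rfl⟩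
    rw [Subgroup.mem_bot]
    exact (QuotientGroup.eq_one_iff n).mpr hn
  have hcard := card_defectGroup_eq hM Bbar hblock ⊥ hbot
  have hd0 : blockDefect p Bbar = 0 := by
    rw [Subgroup.card_bot] at hcard
    by_contra hne
    have h2 : 1 < p ^ blockDefect p Bbar :=
      Nat.one_lt_pow hne (Fact.out : p.Prime).one_lt
    omega
  obtain ⟨hc1, hr1⟩ := (Cfsg.Agent.S4733.result p M hM Bbar hblock).2.1.mp hd0
  refine ⟨by rw [hrank]; exact hr1, ?_⟩
  haveI : Finite Bbar := Nat.finite_of_card_ne_zero (by rw [hc1]; exact one_ne_zero)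
  obtain ⟨⟨γ, hγ⟩, hγu⟩ := (Nat.card_eq_one_iff_exists.mp hc1)
  have hγu' : ∀ γ' ∈ Bbar, γ' = γ := by
    intro γ' hγ'
    have := hγu ⟨γ', hγ'⟩
    exact congrArg Subtype.val this
  refine ⟨inflateIrr D γ, hγ, fun x hx => inflateIrr_mem_ker D γ x hx, ?_, ?_⟩
  · intro θ' hθ' hker
    obtain ⟨γ', rfl⟩ := exists_inflateIrr_eq D θ' hker
    rw [hγu' γ' hθ']
  · have hBs : Bbar = {γ} := by
      ext γ'
      constructor
      · intro h; exact hγu' γ' h
      · intro h; rw [Set.mem_singleton_iff] at h; rw [h]; exact hγ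
    have hdeg : charDegree (inflateIrr D γ : G → ℂ) = charDegree (γ : G ⧸ D → ℂ) := by
      unfold charDegree
      rw [inflateIrr_apply, QuotientGroup.mk_one]
    rw [hdeg]
    unfold blockDefect at hd0
    rw [hBs, Set.image_singleton, csInf_singleton] at hd0
    have hdvd : charDegree (γ : G ⧸ D → ℂ) ∣ Nat.card (G ⧸ D) := irr_charDegree_dvd_card γ
    have hle : (charDegree (γ : G ⧸ D → ℂ)).factorization p ≤ (Nat.card (G ⧸ D)).factorization p := by
      apply (Nat.factorization_le_iff_dvd (irr_charDegree_pos γ).ne' Nat.card_pos.ne').mpr hdvd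
    have hidx : D.index = Nat.card (G ⧸ D) := rfl
    rw [hidx]
    omega

end canon

end Cfsg.Agent.CharLib
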