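import Mathlib
import Cfsg.Agent.Lib.Lead.CentralProdBlock3
import Cfsg.Agent.Lib.Lead.SecondMain3
import Cfsg.Agent.Lib.Helper6.Clifford
import Cfsg.Agent.Lib.Helper23.Covering

/-!
lead: blocks of `G = D C_G(D)` with defect group `D`: proportionality on `p`-regular elements,
vanishing off the sections of `D`, Clifford for `D`, the pre-formula.
-/

set_option autoImplicit false

namespace Cfsg.Agent.CharLib

open Cfsg Cfsg.Agent.Lib.Helper24 Cfsg.Agent.Lib.Helper6 Cfsg.Agent.Lib.Helper25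
  Cfsg.Agent.Lib.Helper23
open scoped ComplexConjugate

universe u

section prop

variable {G : Type u} [Group G] [Fintype G] {M : Ideal AlgInt} {p : ℕ} [hpp : Fact p.Prime]

/-- In a block of `p`-regular rank one all characters are proportional on `p`-regular elements. -/
theorem cp_regular_prop (B : Set (IrrCharacter G)) (hr : blockRank p B = 1)
    (θ χ : IrrCharacter G) (hθ : θ ∈ B) (hχ : χ ∈ B) (y : G) (hy : ¬ p ∣ orderOf y) :
    (χ : G → ℂ) y * (θ : G → ℂ) 1 = (χ : G → ℂ) 1 * (θ : G → ℂ) y := by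
  classical
  unfold blockRank at hr
  set V := Submodule.span ℂ ((fun χ : IrrCharacter G => pRegularPart p (χ : G → ℂ)) '' B) with hV
  have hθV : pRegularPart p (θ : G → ℂ) ∈ V := Submodule.subset_span ⟨θ, hθ, rfl⟩
  have hχV : pRegularPart p (χ : G → ℂ) ∈ V := Submodule.subset_span ⟨χ, hχ, rfl⟩
  have h1reg : ¬ p ∣ orderOf (1 : G) := by
    rw [orderOf_one]; exact hpp.out.not_dvd_one
  have hnz : (⟨pRegularPart p (θ : G → ℂ), hθV⟩ : V) ≠ 0 := by
    intro h
    have h2 := congrArg (fun v : V => (v : G → ℂ) 1) h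
    simp only at h2
    rw [pRegularPart_apply, if_pos h1reg] at h2
    exact irr_apply_one_ne_zero θ h2
  obtain ⟨c, hc⟩ := (finrank_eq_one_iff_of_nonzero' _ hnz).mp hr ⟨pRegularPart p (χ : G → ℂ), hχV⟩
  have hc' : c • pRegularPart p (θ : G → ℂ) = pRegularPart p (χ : G → ℂ) :=
    congrArg Subtype.val hc
  have e1 := congrFun hc' 1
  have ey := congrFun hc' y
  rw [Pi.smul_apply, pRegularPart_apply, pRegularPart_apply, if_pos h1reg, if_pos h1reg,
    smul_eq_mul] at e1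
  rw [Pi.smul_apply, pRegularPart_apply, pRegularPart_apply, if_pos hy, if_pos hy,
    smul_eq_mul] at ey
  rw [← e1, ← ey]; ring

/-- Vanishing off the sections of the (normal) defect group. -/
theorem cp_vanish (hM : IsPModular p M) (D : Subgroup G) [hDn : D.Normal]
    (B : Set (IrrCharacter G)) (hB : IsPBlock M B) (hBD : IsDefectGroup p M B D)
    (χ : IrrCharacter G) (hχ : χ ∈ B) (g x : G) (hx : IsPPart p g x) (hxD : x ∉ D) :
    (χ : G → ℂ) g = 0 := by
  have hprime : M.IsPrime := isPrime_of_isPModular hM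
  have hBeq : B = blockOf M (χ : G → ℂ) :=
    isPBlock_eq_of_mem hB ⟨χ, rfl⟩ hχ (mem_blockOf_self χ)
  apply irr_eq_zero_of_ppart_not_mem_defectGroup hM χ g x hx
  intro E hE
  rw [← hBeq] at hE
  obtain ⟨c, hc⟩ := isDefectGroup_conj_of_isDefectGroup hM hB hBD hE
  have hED : E = D := by
    rw [hc]
    ext z
    rw [Subgroup.mem_map]
    constructor
    · rintro ⟨w, hw, rfl⟩
      exact hDn.conj_mem w hw c
    · intro hz
      refine ⟨c⁻¹ * z * c, ?_, ?_⟩
      · have := hDn.conj_mem z hz c⁻¹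
        rwa [inv_inv] at this
      · change c * (c⁻¹ * z * c) * c⁻¹ = z
        group
  rw [hED]
  exact hxD

/-- Clifford for `D` in `G = D C_G(D)`: the restriction to `D` is a multiple of one irreducible. -/
theorem cp_clifford (D : Subgroup G) (hG : D ⊔ Subgroup.centralizer (D : Set G) = ⊤)
    (χ : IrrCharacter G) :
    ∃ μ : IrrCharacter D, ∀ d : D, (χ : G → ℂ) d * (μ : D → ℂ) 1 = (χ : G → ℂ) 1 * (μ : D → ℂ) d := by
  classical
  haveI hDn : D.Normal := cp_normal D hG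
  obtain ⟨μ, hμ⟩ := exists_constituent_res (N := D) χ
  refine ⟨μ, ?_⟩
  have hinv : ∀ g : G, conjFun D g (μ : D → ℂ) = (μ : D → ℂ) := by
    intro g
    obtain ⟨d', hd', c, hc, rfl⟩ := cp_decomp D hG g
    funext h
    rw [conjFun_apply]
    have h1 : c * (h : G) = (h : G) * c := (Subgroup.mem_centralizer_iff.mp hc h h.2).symm
    have h2 : (⟨d' * c * (h : G) * (d' * c)⁻¹, hDn.conj_mem h h.2 (d' * c)⟩ : D) =
        (⟨d', hd'⟩ : D) * h * (⟨d', hd'⟩ : D)⁻¹ := by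
      apply Subtype.ext
      change d' * c * (h : G) * (d' * c)⁻¹ = d' * (h : G) * d'⁻¹
      calc d' * c * (h : G) * (d' * c)⁻¹ = d' * (c * (h : G)) * c⁻¹ * d'⁻¹ := by group
        _ = d' * ((h : G) * c) * c⁻¹ * d'⁻¹ := by rw [h1]
        _ = d' * (h : G) * d'⁻¹ := by group
    rw [h2]
    exact irr_conj μ h ⟨d', hd'⟩
  have hcl := clifford_of_invariant (H := D) χ.2 μ.2 hμ hinv
  have e1 := congrFun hcl 1
  rw [resFun_apply, Pi.smul_apply, smul_eq_mul] at e1
  intro d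
  have ed := congrFun hcl d
  rw [resFun_apply, Pi.smul_apply, smul_eq_mul] at ed
  rw [ed]
  have : ((1 : D) : G) = 1 := rfl
  rw [this] at e1
  rw [e1]; ring

/-- The pre-formula `χ(dy) λ(1) θ(1) = χ(1) λ(d) θ(y)`. -/
theorem cp_formula_pre (hM : IsPModular p M) (D : Subgroup G) (hDp : IsPGroup p D)
    (hG : D ⊔ Subgroup.centralizer (D : Set G) = ⊤) (B : Set (IrrCharacter G))
    (hr : blockRank p B = 1) (θ χ : IrrCharacter G) (hθ : θ ∈ B) (hχ : χ ∈ B)
    (μ : IrrCharacter D)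
    (hμ : ∀ d : D, (χ : G → ℂ) d * (μ : D → ℂ) 1 = (χ : G → ℂ) 1 * (μ : D → ℂ) d)
    (d : D) (y : G) (hy : ¬ p ∣ orderOf y) :
    (χ : G → ℂ) ((d : G) * y) * ((μ : D → ℂ) 1 * (θ : G → ℂ) 1) =
      (χ : G → ℂ) 1 * ((μ : D → ℂ) d * (θ : G → ℂ) y) := by
  haveI hDn : D.Normal := cp_normal D hG
  have hC := index_centralizer_of_sup_eq_top D hDp hG
  have hyC : y ∈ Subgroup.centralizer (D : Set G) := mem_centralizer_of_pRegular D hC hy
  have h1 := cp_mul_formula D hG χ d.2 hyC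
  have h2 := cp_regular_prop B hr θ χ hθ hχ y hy
  have h3 := hμ d
  have hne : (χ : G → ℂ) 1 ≠ 0 := irr_apply_one_ne_zero χ
  apply mul_left_cancel₀ hne
  calc (χ : G → ℂ) 1 * ((χ : G → ℂ) ((d : G) * y) * ((μ : D → ℂ) 1 * (θ : G → ℂ) 1))
      = ((χ : G → ℂ) ((d : G) * y) * (χ : G → ℂ) 1) * ((μ : D → ℂ) 1 * (θ : G → ℂ) 1) := by ring
    _ = ((χ : G → ℂ) d * (χ : G → ℂ) y) * ((μ : D → ℂ) 1 * (θ : G → ℂ) 1) := by rw [h1]
    _ = ((χ : G → ℂ) d * (μ : D → ℂ) 1) * ((χ : G → ℂ) y * (θ : G → ℂ) 1) := by ring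
    _ = ((χ : G → ℂ) 1 * (μ : D → ℂ) d) * ((χ : G → ℂ) 1 * (θ : G → ℂ) y) := by rw [h2, h3]
    _ = (χ : G → ℂ) 1 * ((χ : G → ℂ) 1 * ((μ : D → ℂ) d * (θ : G → ℂ) y)) := by ring

end prop

end Cfsg.Agent.CharLib
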