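import Mathlib
import Cfsg.Agent.Lib.Lead.CentralProdBlock4
import Cfsg.Agent.Lib.Lead.SecondMain2

/-!
lead: sums over `G` of functions vanishing off the `p`-sections of a normal `p`-subgroup `D`
centralised by all `p`-regular elements.
-/

set_option autoImplicit false

namespace Cfsg.Agent.CharLib

open Cfsg Cfsg.Agent.Lib.Helper24 Cfsg.Agent.Lib.Helper6 Cfsg.Agent.Lib.Helper25
  Cfsg.Agent.Lib.Helper23
open scoped ComplexConjugate

universe u

section sums

variable {G : Type u} [Group G] [Fintype G] {p : ℕ} [hpp : Fact p.Prime]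

theorem cp_isPPart (D : Subgroup G) (hDp : IsPGroup p D)
    (hcen : ∀ y : G, ¬ p ∣ orderOf y → y ∈ Subgroup.centralizer (D : Set G))
    (d : D) (y : G) (hy : ¬ p ∣ orderOf y) : IsPPart p ((d : G) * y) (d : G) := by
  refine ⟨y, rfl, ?_, ?_, hy⟩
  · exact Subgroup.mem_centralizer_iff.mp (hcen y hy) d d.2
  · obtain ⟨k, hk⟩ := IsPGroup.iff_orderOf.mp hDp d
    exact ⟨k, by rw [← hk, Subgroup.orderOf_coe]⟩

theorem cp_sum_sections (D : Subgroup G) [Fintype D] (hDp : IsPGroup p D)
    (hcen : ∀ y : G, ¬ p ∣ orderOf y → y ∈ Subgroup.centralizer (D : Set G))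
    (F : G → ℂ) (hF : ∀ g x : G, IsPPart p g x → x ∉ D → F g = 0) :
    ∑ g : G, F g =
      ∑ d : D, ∑ y ∈ Finset.univ.filter (fun y : G => ¬ p ∣ orderOf y), F ((d : G) * y) := by
  classical
  set R := Finset.univ.filter (fun y : G => ¬ p ∣ orderOf y) with hR
  rw [← Finset.sum_product' (Finset.univ : Finset D) R (fun d y => F ((d : G) * y))]
  have hinj : Set.InjOn (fun z : D × G => (z.1 : G) * z.2)
      ((Finset.univ ×ˢ R : Finset (D × G)) : Set (D × G)) := by
    rintro ⟨d, y⟩ hz ⟨d', y'⟩ hz' heq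
    simp only [Finset.coe_product, Set.mem_prod, Finset.mem_coe, Finset.mem_univ, true_and, hR,
      Finset.mem_filter] at hz hz'
    simp only at heq
    have h1 := cp_isPPart D hDp hcen d y hz
    have h2 := cp_isPPart D hDp hcen d' y' hz'
    rw [← heq] at h2
    have h3 : (d : G) = (d' : G) := isPPart_unique h1 h2
    have h4 : y = y' := by
      rw [h3] at heq
      exact mul_left_cancel heq
    have h5 : d = d' := Subtype.ext h3
    rw [h4, h5]
  have himg := Finset.sum_image (f := F) hinj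
  rw [← himg]
  symm
  apply Finset.sum_subset (Finset.subset_univ _)
  intro g _ hg
  obtain ⟨c, s, x, -, hx, -⟩ := exists_ppart_data p g
  apply hF g x hx
  intro hxD
  apply hg
  obtain ⟨y, hxy, hcomm, hk, hy⟩ := hx
  rw [Finset.mem_image]
  refine ⟨(⟨x, hxD⟩, y), ?_, hxy⟩
  rw [Finset.mem_product]
  exact ⟨Finset.mem_univ _, by rw [hR, Finset.mem_filter]; exact ⟨Finset.mem_univ _, hy⟩⟩

end sums

end Cfsg.Agent.CharLib
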