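import Mathlib
import Cfsg.Agent.Lib.Lead.CentralProdBlock5
import Cfsg.Agent.Lib.Lead.BlockBasic

/-!
lead: blocks of `G = D C_G(D)` with defect group `D`: the norm computation and the exact formula
`χ (d y) = μ d * θ y`.
-/

set_option autoImplicit false

namespace Cfsg.Agent.CharLib

open Cfsg Cfsg.Agent.Lib.Helper24 Cfsg.Agent.Lib.Helper6 Cfsg.Agent.Lib.Helper25
  Cfsg.Agent.Lib.Helper23
open scoped ComplexConjugate

universe u

section norm

variable {G : Type u} [Group G] [Fintype G] {M : Ideal AlgInt} {p : ℕ} [hpp : Fact p.Prime]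

theorem sum_irr_mul_conj_self {X : Type u} [Group X] [Fintype X] (χ : IrrCharacter X) :
    ∑ g : X, (χ : X → ℂ) g * conj ((χ : X → ℂ) g) = (Nat.card X : ℂ) := by
  have h1 : classInner (χ : X → ℂ) (χ : X → ℂ) = 1 := by
    rw [classInner_irr', if_pos rfl]
  unfold classInner at h1
  have hne : (Nat.card X : ℂ) ≠ 0 := card_ne_zero_complex
  field_simp at h1
  exact h1

theorem cp_norm (D : Subgroup G) [Fintype D] (hDp : IsPGroup p D)
    (hcen : ∀ y : G, ¬ p ∣ orderOf y → y ∈ Subgroup.centralizer (D : Set G))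
    (χ : IrrCharacter G) (hvan : ∀ g x : G, IsPPart p g x → x ∉ D → (χ : G → ℂ) g = 0)
    (k : ℂ) (μ : IrrCharacter D) (ψ : G → ℂ)
    (hf : ∀ (d : D) (y : G), ¬ p ∣ orderOf y →
      (χ : G → ℂ) ((d : G) * y) = k * ((μ : D → ℂ) d * ψ y)) :
    (Nat.card G : ℂ) = k * conj k * ((Nat.card D : ℂ) *
      ∑ y ∈ Finset.univ.filter (fun y : G => ¬ p ∣ orderOf y), ψ y * conj (ψ y)) := by
  classical
  have h1 := sum_irr_mul_conj_self χ
  have h2 := sum_irr_mul_conj_self μ
  rw [cp_sum_sections D hDp hcen (fun g => (χ : G → ℂ) g * conj ((χ : G → ℂ) g))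
    (by intro g x hx hxD; beta_reduce; rw [hvan g x hx hxD, zero_mul])] at h1
  rw [← h1, ← h2, Finset.sum_mul_sum, Finset.mul_sum]
  apply Finset.sum_congr rfl
  intro d _
  rw [Finset.mul_sum]
  apply Finset.sum_congr rfl
  intro y hy
  rw [Finset.mem_filter] at hy
  beta_reduce
  rw [hf d y hy.2, map_mul, map_mul]
  ring

/-- The exact formula. -/
theorem cp_formula (hM : IsPModular p M) (D : Subgroup G) (hDp : IsPGroup p D)
    (hG : D ⊔ Subgroup.centralizer (D : Set G) = ⊤) (B : Set (IrrCharacter G))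
    (hB : IsPBlock M B) (hBD : IsDefectGroup p M B D)
    (θ χ : IrrCharacter G) (hθ : θ ∈ B) (hθD : ∀ x ∈ D, (θ : G → ℂ) x = (θ : G → ℂ) 1)
    (hχ : χ ∈ B) (μ : IrrCharacter D)
    (hμ : ∀ d : D, (χ : G → ℂ) d * (μ : D → ℂ) 1 = (χ : G → ℂ) 1 * (μ : D → ℂ) d) :
    (χ : G → ℂ) 1 = (μ : D → ℂ) 1 * (θ : G → ℂ) 1 ∧
    ∀ (d : D) (y : G), ¬ p ∣ orderOf y →
      (χ : G → ℂ) ((d : G) * y) = (μ : D → ℂ) d * (θ : G → ℂ) y := by
  classical
  letI : Fintype D := Fintype.ofFinite D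
  haveI hDn : D.Normal := cp_normal D hG
  have hC := index_centralizer_of_sup_eq_top D hDp hG
  have hcen : ∀ y : G, ¬ p ∣ orderOf y → y ∈ Subgroup.centralizer (D : Set G) :=
    fun y hy => mem_centralizer_of_pRegular D hC hy
  have hr : blockRank p B = 1 := (cp_canonical hM D hDp hG B hB hBD).1
  have hχ1 := irr_apply_one_ne_zero χ
  have hμ1 := irr_apply_one_ne_zero μ
  have hθ1 := irr_apply_one_ne_zero θ
  have hden : (μ : D → ℂ) 1 * (θ : G → ℂ) 1 ≠ 0 := mul_ne_zero hμ1 hθ1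
  set k : ℂ := (χ : G → ℂ) 1 / ((μ : D → ℂ) 1 * (θ : G → ℂ) 1) with hk
  have hpre : ∀ (d : D) (y : G), ¬ p ∣ orderOf y →
      (χ : G → ℂ) ((d : G) * y) = k * ((μ : D → ℂ) d * (θ : G → ℂ) y) := by
    intro d y hy
    have := cp_formula_pre hM D hDp hG B hr θ χ hθ hχ μ hμ d y hy
    rw [hk, div_mul_eq_mul_div, eq_div_iff hden]
    exact this
  have hθf : ∀ (d : D) (y : G), ¬ p ∣ orderOf y →
      (θ : G → ℂ) ((d : G) * y) = 1 * (((trivIrr D : IrrCharacter D) : D → ℂ) d * (θ : G → ℂ) y) := by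
    intro d y hy
    have h1 := cp_mul_formula D hG θ d.2 (hcen y hy)
    rw [hθD d d.2, mul_comm] at h1
    have h2 := mul_left_cancel₀ hθ1 h1
    rw [h2]
    have : ((trivIrr D : IrrCharacter D) : D → ℂ) d = 1 := rfl
    rw [this, one_mul, one_mul]
  have hvanχ : ∀ g x : G, IsPPart p g x → x ∉ D → (χ : G → ℂ) g = 0 :=
    fun g x hx hxD => cp_vanish hM D B hB hBD χ hχ g x hx hxD
  have hvanθ : ∀ g x : G, IsPPart p g x → x ∉ D → (θ : G → ℂ) g = 0 :=
    fun g x hx hxD => cp_vanish hM D B hB hBD θ hθ g x hx hxD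
  have N1 := cp_norm D hDp hcen χ hvanχ k μ (θ : G → ℂ) hpre
  have N2 := cp_norm D hDp hcen θ hvanθ 1 (trivIrr D) (θ : G → ℂ) hθf
  rw [map_one, mul_one, one_mul] at N2
  rw [← N2] at N1
  have hGne : (Nat.card G : ℂ) ≠ 0 := card_ne_zero_complex
  have hkk : k * conj k = 1 := by
    have : (Nat.card G : ℂ) * 1 = (Nat.card G : ℂ) * (k * conj k) := by
      rw [mul_one, mul_comm]; exact N1
    exact (mul_left_cancel₀ hGne this).symm
  -- `k` is a positive rational
  have ea := irr_apply_one χ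
  have eb := irr_apply_one μ
  have ec := irr_apply_one θ
  set a := charDegree (χ : G → ℂ) with ha
  set b := charDegree (μ : D → ℂ) with hb
  set c := charDegree (θ : G → ℂ) with hc
  have hconj : conj k = k := by
    rw [hk, ea, eb, ec, map_div₀, map_mul, Complex.conj_natCast, Complex.conj_natCast,
      Complex.conj_natCast]
  rw [hconj] at hkk
  have hbc : ((b : ℂ) * (c : ℂ)) ≠ 0 := by rw [← eb, ← ec]; exact hden
  have hk' : k = (a : ℂ) / ((b : ℂ) * (c : ℂ)) := by rw [hk, ea, eb, ec]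
  have hsq : (a : ℂ) * (a : ℂ) = ((b : ℂ) * (c : ℂ)) * ((b : ℂ) * (c : ℂ)) := by
    rw [hk', div_mul_div_comm, div_eq_one_iff_eq (mul_ne_zero hbc hbc)] at hkk
    exact hkk
  have hsqn : a * a = (b * c) * (b * c) := by exact_mod_cast hsq
  have habc : a = b * c := by
    have := Nat.mul_self_inj.mp hsqn
    exact this
  have hk1 : k = 1 := by
    rw [hk', habc]
    push_cast
    exact div_self hbc
  constructor
  · rw [ea, eb, ec, habc]; push_cast; ring
  · intro d y hy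
    rw [hpre d y hy, hk1, one_mul]

end norm

end Cfsg.Agent.CharLib
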