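import Mathlib
import Cfsg.Agent.Lib.Lead.CentralProdBlock6
import Cfsg.Agent.Lib.Helper6.Osima2

/-!
lead: blocks of `G = D C_G(D)` with defect group `D`: the bijection with `Irr(D)`.
-/

set_option autoImplicit false

namespace Cfsg.Agent.CharLib

open Cfsg Cfsg.Agent.Lib.Helper24 Cfsg.Agent.Lib.Helper6 Cfsg.Agent.Lib.Helper25
  Cfsg.Agent.Lib.Helper23
open scoped ComplexConjugate

universe u

section bij

variable {G : Type u} [Group G] [Fintype G] {M : Ideal AlgInt} {p : ℕ} [hpp : Fact p.Prime]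

/-- A function given by the product formula on the sections of `D` and vanishing elsewhere is
determined. -/
theorem cp_ext (D : Subgroup G) (f f' : G → ℂ) (μ : D → ℂ) (ψ : G → ℂ)
    (hf : ∀ (d : D) (y : G), ¬ p ∣ orderOf y → Commute (d : G) y → f ((d : G) * y) = μ d * ψ y)
    (hv : ∀ z : G, (∀ x : G, IsPPart p z x → x ∉ D) → f z = 0)
    (hf' : ∀ (d : D) (y : G), ¬ p ∣ orderOf y → Commute (d : G) y → f' ((d : G) * y) = μ d * ψ y)
    (hv' : ∀ z : G, (∀ x : G, IsPPart p z x → x ∉ D) → f' z = 0) : f = f' := by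
  funext g
  obtain ⟨c, s, x, -, hx, -⟩ := exists_ppart_data p g
  by_cases hxD : x ∈ D
  · obtain ⟨y, hxy, hcomm, hk, hy⟩ := hx
    rw [← hxy]
    exact (hf ⟨x, hxD⟩ y hy hcomm).trans (hf' ⟨x, hxD⟩ y hy hcomm).symm
  · have h1 : ∀ x' : G, IsPPart p g x' → x' ∉ D := by
      intro x' hx'
      rw [isPPart_unique hx' hx]
      exact hxD
    rw [hv g h1, hv' g h1]

theorem cp_vanish' (hM : IsPModular p M) (D : Subgroup G) [hDn : D.Normal]
    (B : Set (IrrCharacter G)) (hB : IsPBlock M B) (hBD : IsDefectGroup p M B D)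
    (χ : IrrCharacter G) (hχ : χ ∈ B) (z : G) (hz : ∀ x : G, IsPPart p z x → x ∉ D) :
    (χ : G → ℂ) z = 0 := by
  obtain ⟨c, s, x, -, hx, -⟩ := exists_ppart_data p z
  exact cp_vanish hM D B hB hBD χ hχ z x hx (hz x hx)

/-- Every irreducible character of `D` occurs. -/
theorem cp_surj (hM : IsPModular p M) (D : Subgroup G) (hDp : IsPGroup p D)
    (hG : D ⊔ Subgroup.centralizer (D : Set G) = ⊤) (B : Set (IrrCharacter G))
    (hB : IsPBlock M B) (hBD : IsDefectGroup p M B D)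
    (θ : IrrCharacter G) (hθ : θ ∈ B) (hθD : ∀ x ∈ D, (θ : G → ℂ) x = (θ : G → ℂ) 1)
    (ζ : IrrCharacter D) :
    ∃ χ ∈ B, ∀ (d : D) (y : G), ¬ p ∣ orderOf y →
      (χ : G → ℂ) ((d : G) * y) = (ζ : D → ℂ) d * (θ : G → ℂ) y := by
  classical
  letI : Fintype D := Fintype.ofFinite D
  letI := fintypeIrr G
  have h1reg : ¬ p ∣ orderOf (1 : G) := by
    rw [orderOf_one]; exact hpp.out.not_dvd_one
  -- choose the Clifford constituents
  choose lam hlam using cp_clifford D hG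
  have hform : ∀ χ ∈ B, (χ : G → ℂ) 1 = (lam χ : D → ℂ) 1 * (θ : G → ℂ) 1 ∧
      ∀ (d : D) (y : G), ¬ p ∣ orderOf y →
      (χ : G → ℂ) ((d : G) * y) = (lam χ : D → ℂ) d * (θ : G → ℂ) y :=
    fun χ hχ => cp_formula hM D hDp hG B hB hBD θ χ hθ hθD hχ (lam χ) (hlam χ)
  by_contra hcon
  have hne : ∀ χ ∈ B, lam χ ≠ ζ := by
    intro χ hχ heq
    apply hcon
    refine ⟨χ, hχ, ?_⟩
    rw [← heq]
    exact (hform χ hχ).2
  have hval : ∀ χ ∈ B, ∀ d : D, (χ : G → ℂ) (d : G) = (lam χ : D → ℂ) d * (θ : G → ℂ) 1 := by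
    intro χ hχ d
    have := (hform χ hχ).2 d 1 h1reg
    rwa [mul_one] at this
  -- weak block orthogonality
  have hW : ∀ d : D, d ≠ 1 →
      ∑ χ : IrrCharacter G, (if χ ∈ B then (χ : G → ℂ) 1 * conj ((χ : G → ℂ) (d : G)) else 0) = 0 := by
    intro d hd
    obtain ⟨χ₀, rfl⟩ := hB
    have hdp : p ∣ orderOf (d : G) := by
      obtain ⟨k, hk⟩ := IsPGroup.iff_orderOf.mp hDp d
      rw [Subgroup.orderOf_coe, hk]
      rcases Nat.eq_zero_or_pos k with rfl | hk0
      · exfalso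
        rw [pow_zero, orderOf_eq_one_iff] at hk
        exact hd hk
      · exact dvd_pow_self p hk0.ne'
    have := weak_block_orthogonality hM χ₀ 1 (d : G) h1reg hdp
    rw [finsum_mem_eq_sum_ite] at this
    exact this
  -- the double sum
  set S : ℂ := ∑ d : D, (∑ χ : IrrCharacter G,
    (if χ ∈ B then (χ : G → ℂ) 1 * conj ((χ : G → ℂ) (d : G)) else 0)) * (ζ : D → ℂ) d with hS
  have hSa : S = (∑ χ : IrrCharacter G,
      (if χ ∈ B then (χ : G → ℂ) 1 * conj ((χ : G → ℂ) ((1 : D) : G)) else 0)) * (ζ : D → ℂ) 1 := by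
    rw [hS]
    apply Finset.sum_eq_single (1 : D)
    · intro d _ hd
      rw [hW d hd, zero_mul]
    · intro h; exact absurd (Finset.mem_univ _) h
  have hSb : S = 0 := by
    rw [hS]
    simp_rw [Finset.sum_mul]
    rw [Finset.sum_comm]
    apply Finset.sum_eq_zero
    intro χ _
    by_cases hχ : χ ∈ B
    · simp_rw [if_pos hχ]
      have h1 : ∀ d : D, (χ : G → ℂ) 1 * conj ((χ : G → ℂ) (d : G)) * (ζ : D → ℂ) d =
          ((χ : G → ℂ) 1 * conj ((θ : G → ℂ) 1)) *
            ((ζ : D → ℂ) d * conj ((lam χ : D → ℂ) d)) := by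
        intro d
        rw [hval χ hχ d, map_mul]; ring
      rw [Finset.sum_congr rfl (fun d _ => h1 d), ← Finset.mul_sum]
      have h2 : classInner (ζ : D → ℂ) (lam χ : D → ℂ) = 0 := by
        rw [classInner_irr', if_neg (fun h => hne χ hχ h.symm)]
      unfold classInner at h2
      have hDne : ((Nat.card D : ℂ))⁻¹ ≠ 0 := inv_ne_zero card_ne_zero_complex
      rcases mul_eq_zero.mp h2 with h3 | h3
      · exact absurd h3 hDne
      · rw [h3, mul_zero]
    · simp_rw [if_neg hχ, zero_mul]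
      exact Finset.sum_const_zero
  rw [hSb] at hSa
  have hζ1 := irr_apply_one_ne_zero ζ
  have hsum0 : (∑ χ : IrrCharacter G,
      (if χ ∈ B then (χ : G → ℂ) 1 * conj ((χ : G → ℂ) ((1 : D) : G)) else 0)) = 0 := by
    rcases mul_eq_zero.mp hSa.symm with h | h
    · exact h
    · exact absurd h hζ1
  have hcast : (∑ χ : IrrCharacter G,
      (if χ ∈ B then (χ : G → ℂ) 1 * conj ((χ : G → ℂ) ((1 : D) : G)) else 0)) =
      ((∑ χ : IrrCharacter G, (if χ ∈ B then charDegree (χ : G → ℂ) * charDegree (χ : G → ℂ) else 0) : ℕ) : ℂ) := by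
    rw [Nat.cast_sum]
    apply Finset.sum_congr rfl
    intro χ _
    by_cases hχ : χ ∈ B
    · rw [if_pos hχ, if_pos hχ]
      have : ((1 : D) : G) = 1 := rfl
      rw [this, irr_apply_one χ, Complex.conj_natCast]
      push_cast; ring
    · rw [if_neg hχ, if_neg hχ, Nat.cast_zero]
  rw [hcast] at hsum0
  have hsum0' : (∑ χ : IrrCharacter G, (if χ ∈ B then charDegree (χ : G → ℂ) * charDegree (χ : G → ℂ) else 0)) = 0 := by
    exact_mod_cast hsum0
  have h4 := (Finset.sum_eq_zero_iff.mp hsum0') θ (Finset.mem_univ _)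
  rw [if_pos hθ] at h4
  have h5 := irr_charDegree_pos θ
  have h6 : 0 < charDegree (θ : G → ℂ) * charDegree (θ : G → ℂ) := Nat.mul_pos h5 h5
  omega

end bij

end Cfsg.Agent.CharLib
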