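import Mathlib
import Cfsg.Agent.Lib.Lead.CentralProdBlock7

/-!
lead: blocks of `G = D C_G(D)` with defect group `D`: cardinality, and the final statement for
`Finite` groups.
-/

set_option autoImplicit false

namespace Cfsg.Agent.CharLib

open Cfsg Cfsg.Agent.Lib.Helper24 Cfsg.Agent.Lib.Helper6 Cfsg.Agent.Lib.Helper25
  Cfsg.Agent.Lib.Helper23
open scoped ComplexConjugate

universe u

section card

variable {G : Type u} [Group G] [Fintype G] {M : Ideal AlgInt} {p : ℕ} [hpp : Fact p.Prime]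

/-- Membership in `B` of an irreducible character given by the formula. -/
theorem cp_mem_of_formula (hM : IsPModular p M) (D : Subgroup G) (hDp : IsPGroup p D)
    (hG : D ⊔ Subgroup.centralizer (D : Set G) = ⊤) (B : Set (IrrCharacter G))
    (hB : IsPBlock M B) (hBD : IsDefectGroup p M B D)
    (θ : IrrCharacter G) (hθ : θ ∈ B) (hθD : ∀ x ∈ D, (θ : G → ℂ) x = (θ : G → ℂ) 1)
    (ζ : IrrCharacter D) (χ : IrrCharacter G)
    (hf : ∀ (d : D) (y : G), ¬ p ∣ orderOf y → Commute (d : G) y →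
      (χ : G → ℂ) ((d : G) * y) = (ζ : D → ℂ) d * (θ : G → ℂ) y)
    (hv : ∀ z : G, (∀ x : G, IsPPart p z x → x ∉ D) → (χ : G → ℂ) z = 0) : χ ∈ B := by
  haveI hDn : D.Normal := cp_normal D hG
  obtain ⟨χ', hχ', hf'⟩ := cp_surj hM D hDp hG B hB hBD θ hθ hθD ζ
  have : (χ : G → ℂ) = (χ' : G → ℂ) :=
    cp_ext D (χ : G → ℂ) (χ' : G → ℂ) (ζ : D → ℂ) (θ : G → ℂ) hf hv
      (fun d y hy _ => hf' d y hy) (fun z hz => cp_vanish' hM D B hB hBD χ' hχ' z hz)
  rw [Subtype.ext this]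
  exact hχ'

theorem cp_card (hM : IsPModular p M) (D : Subgroup G) (hDp : IsPGroup p D)
    (hG : D ⊔ Subgroup.centralizer (D : Set G) = ⊤) (B : Set (IrrCharacter G))
    (hB : IsPBlock M B) (hBD : IsDefectGroup p M B D) :
    Nat.card B = Nat.card (IrrCharacter D) := by
  classical
  haveI hDn : D.Normal := cp_normal D hG
  obtain ⟨-, θ, hθ, hθD, -, -⟩ := cp_canonical hM D hDp hG B hB hBD
  have h1reg : ¬ p ∣ orderOf (1 : G) := by
    rw [orderOf_one]; exact hpp.out.not_dvd_one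
  choose f hfB hf using cp_surj hM D hDp hG B hB hBD θ hθ hθD
  symm
  apply Nat.card_congr
  refine Equiv.ofBijective (fun ζ => (⟨f ζ, hfB ζ⟩ : B)) ⟨?_, ?_⟩
  · intro ζ ζ' h
    have h' : f ζ = f ζ' := congrArg Subtype.val h
    apply Subtype.ext
    funext d
    have e1 := hf ζ d 1 h1reg
    have e2 := hf ζ' d 1 h1reg
    rw [h'] at e1
    rw [e1] at e2
    exact mul_right_cancel₀ (irr_apply_one_ne_zero θ) e2
  · rintro ⟨χ, hχ⟩
    obtain ⟨μ, hμ⟩ := cp_clifford D hG χ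
    have hform := (cp_formula hM D hDp hG B hB hBD θ χ hθ hθD hχ μ hμ).2
    refine ⟨μ, ?_⟩
    apply Subtype.ext
    apply Subtype.ext
    exact cp_ext D (f μ : G → ℂ) (χ : G → ℂ) (μ : D → ℂ) (θ : G → ℂ)
      (fun d y hy _ => hf μ d y hy) (fun z hz => cp_vanish' hM D B hB hBD (f μ) (hfB μ) z hz)
      (fun d y hy _ => hform d y hy) (fun z hz => cp_vanish' hM D B hB hBD χ hχ z hz)

end card

end Cfsg.Agent.CharLib
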