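import Mathlib
import Cfsg.Agent.Lib.Helper15.QuadClass
import Cfsg.Agent.Lib.Helper18.OSubF12

/-!
# S5700 leaves G1, G2, G3 (helper1's market): hyperbolic pairs orthogonal to a short list of vectors,
and spanning of `l^⊥` by its singular vectors (outside a subspace).
-/

set_option autoImplicit false
set_option linter.unusedSectionVars false
set_option linter.unusedVariables false

namespace Cfsg.Agent.Lib.Lead.C3OLeaf
open Module QuadraticMap Cfsg.Agent.Lib.Helper15

variable {ι : Type} [Fintype ι] [DecidableEq ι] {F : Type*} [Field F] [Fintype F]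
  {Q : QuadraticForm F (ι → F)}

theorem polar_self_sing {e : ι → F} (he : Q e = 0) : polar Q e e = 0 := by
  rw [QuadraticMap.polar_self, he, smul_zero]

theorem Q_add' (x y : ι → F) : Q (x + y) = Q x + Q y + polar Q x y := by
  unfold polar
  ring

/-- G1 (HP) : a hyperbolic pair orthogonal to a short list of vectors -/
theorem exists_hyp_perp_list (hQ : (polarBilin Q).Nondegenerate) (l : List (ι → F))
    (hl : 2 * l.length + 3 ≤ Fintype.card ι) :
    ∃ e f : ι → F, Q e = 0 ∧ Q f = 0 ∧ polar Q e f = 1 ∧ (∀ y ∈ l, polar Q y e = 0) ∧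
      (∀ y ∈ l, polar Q y f = 0) := by
  classical
  obtain ⟨W, hWnd, hWperp, hWfr⟩ :=
    Cfsg.Agent.Lib.Helper18.OSubLeaf.exists_nd_perp Q hQ
      (Submodule.span F ((l.toFinset : Finset (ι → F)) : Set (ι → F)))
  have h1 : finrank F (Submodule.span F ((l.toFinset : Finset (ι → F)) : Set (ι → F))) ≤ l.length :=
    (finrank_span_finset_le_card (R := F) l.toFinset).trans (List.toFinset_card_le l)
  rw [Module.finrank_fintype_fun_eq_card] at hWfr
  have h3 : 3 ≤ finrank F W := by omega
  obtain ⟨e, heW, he0, hQe⟩ := exists_singular_in Q W h3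
  obtain ⟨f, hfW, hQf, hef⟩ := exists_hyp_partner Q W hWnd heW he0 hQe
  have hmem : ∀ y ∈ l, y ∈ Submodule.span F ((l.toFinset : Finset (ι → F)) : Set (ι → F)) := by
    intro y hy
    apply Submodule.subset_span
    simpa using hy
  exact ⟨e, f, hQe, hQf, hef, fun y hy => hWperp y (hmem y hy) e heW,
    fun y hy => hWperp y (hmem y hy) f hfW⟩

/-- G2 : the singular vectors of `l^⊥` span `l^⊥` -/
theorem mem_span_sing_perp_list (hQ : (polarBilin Q).Nondegenerate) (l : List (ι → F))
    (hl : 2 * l.length + 3 ≤ Fintype.card ι) {x : ι → F} (hx : ∀ y ∈ l, polar Q y x = 0) :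
    x ∈ Submodule.span F {s : ι → F | Q s = 0 ∧ ∀ y ∈ l, polar Q y s = 0} := by
  obtain ⟨e, f, hQe, hQf, hef, hle, hlf⟩ := exists_hyp_perp_list hQ l hl
  set S : Set (ι → F) := {s : ι → F | Q s = 0 ∧ ∀ y ∈ l, polar Q y s = 0} with hS
  have heS : e ∈ Submodule.span F S := Submodule.subset_span ⟨hQe, hle⟩
  have hfS : f ∈ Submodule.span F S := Submodule.subset_span ⟨hQf, hlf⟩
  have hfe : polar Q f e = 1 := by rw [polar_comm]; exact hef
  -- the part of `x` orthogonal to `e, f`
  obtain ⟨x', hx'⟩ : ∃ x', x' = x - polar Q x f • e - polar Q x e • f := ⟨_, rfl⟩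
  have hx'e : polar Q x' e = 0 := by
    rw [hx', polar_sub_left, polar_sub_left, polar_smul_left, polar_smul_left, polar_self_sing hQe,
      hfe]
    simp
  have hx'f : polar Q x' f = 0 := by
    rw [hx', polar_sub_left, polar_sub_left, polar_smul_left, polar_smul_left, polar_self_sing hQf,
      hef]
    simp
  have hx'l : ∀ y ∈ l, polar Q y x' = 0 := by
    intro y hy
    rw [hx', polar_sub_right, polar_sub_right, polar_smul_right, polar_smul_right, hx y hy,
      hle y hy, hlf y hy]
    simp
  -- the singular vector `x' - Q x' • e + f`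
  obtain ⟨s₁, hs₁⟩ : ∃ s₁, s₁ = x' - Q x' • e + f := ⟨_, rfl⟩
  have hQs₁ : Q s₁ = 0 := by
    have e1 : s₁ = x' + (-(Q x') • e + f) := by rw [hs₁]; module
    have e2 : Q (-(Q x') • e + f) = -(Q x') := by
      have := Q_add' (Q := Q) (-(Q x') • e) f
      rw [this, QuadraticMap.map_smul, hQe, hQf, polar_smul_left, hef]
      simp
    have e3 : polar Q x' (-(Q x') • e + f) = 0 := by
      rw [polar_add_right, polar_smul_right, hx'e, hx'f]
      simp
    rw [e1, Q_add', e2, e3]
    ring
  have hs₁l : ∀ y ∈ l, polar Q y s₁ = 0 := by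
    intro y hy
    rw [hs₁, polar_add_right, polar_sub_right, polar_smul_right, hx'l y hy, hle y hy, hlf y hy]
    simp
  have hs₁S : s₁ ∈ Submodule.span F S := Submodule.subset_span ⟨hQs₁, hs₁l⟩
  have e4 : x = s₁ + (Q x' + polar Q x f) • e + (polar Q x e - 1) • f := by
    rw [hs₁, hx']
    module
  rw [e4]
  exact Submodule.add_mem _ (Submodule.add_mem _ hs₁S (Submodule.smul_mem _ _ heS))
    (Submodule.smul_mem _ _ hfS)

/-- G3 (SPAN) : the singular vectors of `l^⊥` outside a subspace `N ⊉ l^⊥` span `l^⊥` -/
theorem mem_span_sing_perp_not_mem (hQ : (polarBilin Q).Nondegenerate) (hn : 13 ≤ Fintype.card ι)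
    (l : List (ι → F)) (hl : l.length ≤ 3) (N : Submodule F (ι → F))
    (hN : ∃ x₀ : ι → F, (∀ y ∈ l, polar Q y x₀ = 0) ∧ x₀ ∉ N) {x : ι → F}
    (hx : ∀ y ∈ l, polar Q y x = 0) :
    x ∈ Submodule.span F {s : ι → F | Q s = 0 ∧ (∀ y ∈ l, polar Q y s = 0) ∧ s ∉ N} := by
  set S : Set (ι → F) := {s : ι → F | Q s = 0 ∧ (∀ y ∈ l, polar Q y s = 0) ∧ s ∉ N} with hS
  -- `S` is nonempty
  obtain ⟨s₀, hs₀⟩ : ∃ s₀, s₀ ∈ S := by
    obtain ⟨x₀, hx₀l, hx₀N⟩ := hN
    by_contra hcon
    push Not at hcon
    apply hx₀N
    have h1 := mem_span_sing_perp_list hQ l (by omega) hx₀l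
    refine (Submodule.span_le.2 ?_) h1
    rintro s ⟨hQs, hsl⟩
    by_contra hsN
    exact hcon s ⟨hQs, hsl, hsN⟩
  -- enough: singular vectors of `l^⊥`
  have key : ∀ z : ι → F, Q z = 0 → (∀ y ∈ l, polar Q y z = 0) → z ∈ Submodule.span F S := by
    intro z hQz hzl
    by_cases hzN : z ∈ N
    swap
    · exact Submodule.subset_span ⟨hQz, hzl, hzN⟩
    by_cases hcase : ∃ s, Q s = 0 ∧ (∀ y ∈ z :: l, polar Q y s = 0) ∧ s ∉ N
    · obtain ⟨s, hQs, hsl, hsN⟩ := hcase
      have hzs : polar Q z s = 0 := hsl z (List.mem_cons_self ..)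
      have hsl' : ∀ y ∈ l, polar Q y s = 0 := fun y hy => hsl y (List.mem_cons_of_mem _ hy)
      have h1 : s ∈ Submodule.span F S := Submodule.subset_span ⟨hQs, hsl', hsN⟩
      have h2 : z + s ∈ Submodule.span F S := by
        apply Submodule.subset_span
        refine ⟨?_, ?_, ?_⟩
        · rw [Q_add', hQz, hQs, hzs]; simp
        · intro y hy
          rw [polar_add_right, hzl y hy, hsl' y hy]; simp
        · intro h
          apply hsN
          have := N.sub_mem h hzN
          rwa [add_sub_cancel_left] at this
      have := Submodule.sub_mem _ h2 h1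
      rwa [add_sub_cancel_right] at this
    · push Not at hcase
      -- every vector orthogonal to `z :: l` lies in `N`
      have hperpN : ∀ w : ι → F, (∀ y ∈ z :: l, polar Q y w = 0) → w ∈ N := by
        intro w hw
        have h1 := mem_span_sing_perp_list hQ (z :: l) (by simp; omega) hw
        refine (Submodule.span_le.2 ?_) h1
        rintro s ⟨hQs, hsl⟩
        by_contra hsN
        exact hsN (hcase s hQs hsl)
      obtain ⟨hQs₀, hs₀l, hs₀N⟩ := hs₀
      have hzs₀ : polar Q z s₀ ≠ 0 := by
        intro h
        apply hs₀N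
        apply hperpN
        intro y hy
        rcases List.mem_cons.1 hy with rfl | hy
        · exact h
        · exact hs₀l y hy
      obtain ⟨s, hs⟩ : ∃ s, s = (polar Q z s₀)⁻¹ • s₀ := ⟨_, rfl⟩
      have hQs : Q s = 0 := by rw [hs, QuadraticMap.map_smul, hQs₀, smul_zero]
      have hsl : ∀ y ∈ l, polar Q y s = 0 := by
        intro y hy
        rw [hs, polar_smul_right, hs₀l y hy, smul_zero]
      have hsN : s ∉ N := by
        intro h
        apply hs₀N
        have := N.smul_mem (polar Q z s₀) h
        rwa [hs, smul_smul, mul_inv_cancel₀ hzs₀, one_smul] at this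
      have hzs : polar Q z s = 1 := by
        rw [hs, polar_smul_right, smul_eq_mul, inv_mul_cancel₀ hzs₀]
      have hsS : s ∈ Submodule.span F S := Submodule.subset_span ⟨hQs, hsl, hsN⟩
      obtain ⟨e, f, hQe, hQf, hef, hle, hlf⟩ :=
        exists_hyp_perp_list hQ (s :: z :: l) (by simp; omega)
      have hse : polar Q s e = 0 := hle s (List.mem_cons_self ..)
      have hsf : polar Q s f = 0 := hlf s (List.mem_cons_self ..)
      have hze : polar Q z e = 0 := hle z (List.mem_cons_of_mem _ (List.mem_cons_self ..))
      have hzf : polar Q z f = 0 := hlf z (List.mem_cons_of_mem _ (List.mem_cons_self ..))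
      have hle' : ∀ y ∈ l, polar Q y e = 0 := fun y hy =>
        hle y (List.mem_cons_of_mem _ (List.mem_cons_of_mem _ hy))
      have hlf' : ∀ y ∈ l, polar Q y f = 0 := fun y hy =>
        hlf y (List.mem_cons_of_mem _ (List.mem_cons_of_mem _ hy))
      have heN : e ∈ N := by
        apply hperpN
        intro y hy
        rcases List.mem_cons.1 hy with rfl | hy
        · exact hze
        · exact hle' y hy
      have hfN : f ∈ N := by
        apply hperpN
        intro y hy
        rcases List.mem_cons.1 hy with rfl | hy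
        · exact hzf
        · exact hlf' y hy
      -- `s + e`, `s + f` are in `S`
      have hseS : s + e ∈ Submodule.span F S := by
        apply Submodule.subset_span
        refine ⟨?_, ?_, ?_⟩
        · rw [Q_add', hQs, hQe, hse]; simp
        · intro y hy
          rw [polar_add_right, hsl y hy, hle' y hy]; simp
        · intro h
          apply hsN
          have := N.sub_mem h heN
          rwa [add_sub_cancel_right] at this
      have hsfS : s + f ∈ Submodule.span F S := by
        apply Submodule.subset_span
        refine ⟨?_, ?_, ?_⟩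
        · rw [Q_add', hQs, hQf, hsf]; simp
        · intro y hy
          rw [polar_add_right, hsl y hy, hlf' y hy]; simp
        · intro h
          apply hsN
          have := N.sub_mem h hfN
          rwa [add_sub_cancel_right] at this
      have heS : e ∈ Submodule.span F S := by
        have := Submodule.sub_mem _ hseS hsS
        rwa [add_sub_cancel_left] at this
      have hfS : f ∈ Submodule.span F S := by
        have := Submodule.sub_mem _ hsfS hsS
        rwa [add_sub_cancel_left] at this
      -- `v = z + s + (e - f)` is in `S`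
      have hQef : Q (e - f) = -1 := by
        have e1 : e - f = e + (-1 : F) • f := by module
        rw [e1, Q_add', QuadraticMap.map_smul, hQe, hQf, polar_smul_right, hef]
        simp
      have hvS : z + s + (e - f) ∈ Submodule.span F S := by
        apply Submodule.subset_span
        refine ⟨?_, ?_, ?_⟩
        · rw [Q_add', Q_add', hQz, hQs, hzs, hQef, polar_add_left,
            polar_sub_right, polar_sub_right, hze, hzf, hse, hsf]
          ring
        · intro y hy
          rw [polar_add_right, polar_add_right, polar_sub_right, hzl y hy, hsl y hy, hle' y hy,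
            hlf' y hy]
          simp
        · intro h
          apply hsN
          have h1 : z + s + (e - f) - z - (e - f) ∈ N :=
            N.sub_mem (N.sub_mem h hzN) (N.sub_mem heN hfN)
          have e1 : z + s + (e - f) - z - (e - f) = s := by abel
          rwa [e1] at h1
      have e2 : z = z + s + (e - f) - s - (e - f) := by abel
      rw [e2]
      exact Submodule.sub_mem _ (Submodule.sub_mem _ hvS hsS) (Submodule.sub_mem _ heS hfS)
  have h1 := mem_span_sing_perp_list hQ l (by omega) hx
  refine (Submodule.span_le.2 ?_) h1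
  rintro s ⟨hQs, hsl⟩
  exact key s hQs hsl

end Cfsg.Agent.Lib.Lead.C3OLeaf
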