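import Mathlib
import Cfsg.Agent.Lib.Lead.FrobSchur
/-! Invariant bilinear form of a real irreducible character (matrix version), S4475. -/
set_option autoImplicit false
open Module Representation
open scoped ComplexConjugate
namespace Cfsg.Agent.CharLib

theorem stdBasis_repr_apply' {n : Type*} [Fintype n] [DecidableEq n] (M : Matrix n n ℂ) (i j : n) :
    (Matrix.stdBasis ℂ n n).repr M (i, j) = M i j := by
  simp [Matrix.stdBasis]

theorem trace_matrix_end {n : Type*} [Fintype n] [DecidableEq n] (f : Module.End ℂ (Matrix n n ℂ)) :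
    LinearMap.trace ℂ _ f = ∑ i, ∑ j, f (Matrix.single i j 1) i j := by
  rw [LinearMap.trace_eq_matrix_trace ℂ (Matrix.stdBasis ℂ n n)]
  simp only [Matrix.trace, Matrix.diag_apply, LinearMap.toMatrix_apply, Fintype.sum_prod_type,
    Matrix.stdBasis_eq_single, stdBasis_repr_apply']

theorem entry_mul_single_mul {n : Type*} [Fintype n] [DecidableEq n] (P Q : Matrix n n ℂ) (i j a b : n) :
    (P * Matrix.single i j (1:ℂ) * Q) a b = P a i * Q j b := by
  rw [Matrix.mul_apply]
  simp [Matrix.mul_apply, Matrix.single_apply, Finset.sum_ite_eq, Finset.sum_mul, ite_and]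

theorem trace_sandwich {n : Type*} [Fintype n] [DecidableEq n] (P Q : Matrix n n ℂ) :
    LinearMap.trace ℂ _ ((LinearMap.mulLeft ℂ P.transpose) ∘ₗ (LinearMap.mulRight ℂ Q)) =
      P.trace * Q.trace := by
  rw [trace_matrix_end]
  simp only [LinearMap.comp_apply, LinearMap.mulLeft_apply, LinearMap.mulRight_apply, ← mul_assoc,
    entry_mul_single_mul, Matrix.transpose_apply, Matrix.trace, Matrix.diag_apply, Finset.sum_mul_sum]

/-- transpose as a linear map -/
def transposeLM (n : Type*) [Fintype n] : Matrix n n ℂ →ₗ[ℂ] Matrix n n ℂ where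
  toFun := Matrix.transpose
  map_add' := Matrix.transpose_add
  map_smul' := fun c M => Matrix.transpose_smul c M

@[simp] theorem transposeLM_apply {n : Type*} [Fintype n] (M : Matrix n n ℂ) :
    transposeLM n M = M.transpose := rfl

theorem trace_transpose_sandwich {n : Type*} [Fintype n] [DecidableEq n] (P Q : Matrix n n ℂ) :
    LinearMap.trace ℂ _ ((transposeLM n) ∘ₗ
      (LinearMap.mulLeft ℂ P.transpose) ∘ₗ (LinearMap.mulRight ℂ Q)) =
      (P * Q).trace := by
  rw [trace_matrix_end]
  simp only [LinearMap.comp_apply, LinearMap.mulLeft_apply, LinearMap.mulRight_apply, ← mul_assoc,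
    transposeLM_apply, Matrix.transpose_apply, entry_mul_single_mul]
  simp only [Matrix.trace, Matrix.diag_apply, Matrix.mul_apply]

theorem fs_form {G : Type*} [Group G] [Fintype G] (n : ℕ) (ρ : Representation ℂ G (Fin n → ℂ))
    (hirr : ρ.IsIrreducible) (hreal : ∀ g : G, (ρ.character g).im = 0) :
    (∃ M : Matrix (Fin n) (Fin n) ℂ, M ≠ 0 ∧ ∀ g : G,
      (LinearMap.toMatrix' (ρ g)).transpose * M * LinearMap.toMatrix' (ρ g) = M) ∧
    ∀ M : Matrix (Fin n) (Fin n) ℂ, (∀ g : G,
      (LinearMap.toMatrix' (ρ g)).transpose * M * LinearMap.toMatrix' (ρ g) = M) →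
      M.transpose = ((Nat.card G : ℂ)⁻¹ * ∑ s : G, ρ.character (s * s)) • M := by
  classical
  have hG : (Nat.card G : ℂ) ≠ 0 := card_ne_zero_complex
  set X : G → Matrix (Fin n) (Fin n) ℂ := fun g => LinearMap.toMatrix' (ρ g) with hX
  have hXmul : ∀ g h, X (g * h) = X g * X h := by
    intro g h
    simp only [hX, map_mul, Module.End.mul_eq_comp, LinearMap.toMatrix'_comp]
  have hXtr : ∀ g, (X g).trace = ρ.character g := by
    intro g
    simp only [hX, Representation.character]
    rw [LinearMap.trace_eq_matrix_trace ℂ (Pi.basisFun ℂ (Fin n)), LinearMap.toMatrix_eq_toMatrix']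
  set L : G → Module.End ℂ (Matrix (Fin n) (Fin n) ℂ) := fun g =>
    (LinearMap.mulLeft ℂ (X g).transpose) ∘ₗ (LinearMap.mulRight ℂ (X g)) with hL
  have hLapp : ∀ g A, L g A = (X g).transpose * A * X g := by
    intro g A
    simp only [hL, LinearMap.comp_apply, LinearMap.mulLeft_apply, LinearMap.mulRight_apply, mul_assoc]
  set T := transposeLM (Fin n) with hT
  let I : Submodule ℂ (Matrix (Fin n) (Fin n) ℂ) :=
    { carrier := {M | ∀ g, L g M = M}
      add_mem' := fun {a b} ha hb g => by rw [map_add, ha g, hb g]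
      zero_mem' := fun g => map_zero _
      smul_mem' := fun c x hx g => by rw [map_smul, hx g] }
  have hImem : ∀ M, M ∈ I ↔ ∀ g, L g M = M := fun M => Iff.rfl
  set P : Module.End ℂ (Matrix (Fin n) (Fin n) ℂ) := (Nat.card G : ℂ)⁻¹ • ∑ g : G, L g with hP
  have hLL : ∀ g h A, L h (L g A) = L (g * h) A := by
    intro g h A
    simp only [hLapp, hXmul, Matrix.transpose_mul, mul_assoc]
  have hTT : ∀ x, T (T x) = x := fun x => by simp [hT]
  have hTL : ∀ g x, T (L g x) = L g (T x) := by
    intro g x
    simp only [hT, hLapp, transposeLM_apply, Matrix.transpose_mul, Matrix.transpose_transpose, mul_assoc]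
  have hP1 : ∀ x, P x ∈ I := by
    intro x h
    simp only [hP, LinearMap.smul_apply, LinearMap.sum_apply, map_smul, map_sum]
    congr 1
    rw [← Equiv.sum_comp (Equiv.mulRight h) (fun g => L g x)]
    apply Finset.sum_congr rfl
    intro g _
    rw [hLL, Equiv.coe_mulRight]
  have hP2 : ∀ x ∈ I, P x = x := by
    intro x hx
    simp only [hP, LinearMap.smul_apply, LinearMap.sum_apply]
    rw [Finset.sum_congr rfl (fun g _ => hx g), Finset.sum_const, Finset.card_univ,
      ← Nat.card_eq_fintype_card, ← Nat.cast_smul_eq_nsmul ℂ, smul_smul, inv_mul_cancel₀ hG, one_smul]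
  have hproj : LinearMap.IsProj I P := ⟨hP1, hP2⟩
  have htrP : LinearMap.trace ℂ _ P = (finrank ℂ I : ℂ) := hproj.trace
  have htrP' : LinearMap.trace ℂ _ P = (Nat.card G : ℂ)⁻¹ * ∑ g : G, ρ.character g * ρ.character g := by
    rw [hP, map_smul, map_sum, smul_eq_mul]
    congr 1
    apply Finset.sum_congr rfl
    intro g _
    rw [hL]
    simp only
    rw [trace_sandwich, hXtr]
  have htrTP : LinearMap.trace ℂ _ (T ∘ₗ P) = (Nat.card G : ℂ)⁻¹ * ∑ s : G, ρ.character (s * s) := by
    rw [← Module.End.mul_eq_comp, hP, mul_smul_comm, Finset.mul_sum, map_smul, map_sum, smul_eq_mul]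
    congr 1
    apply Finset.sum_congr rfl
    intro g _
    rw [Module.End.mul_eq_comp, hL, hT]
    simp only
    rw [trace_transpose_sandwich, ← hXmul, hXtr]
  have hTI : ∀ x ∈ I, T x ∈ I := by
    intro x hx g
    rw [← hTL, hx g]
  have hirrc : IsIrrCharacter G ρ.character := isIrrCharacter_of_rep ρ hirr
  have hirrc' : IsIrrCharacter G (fun g => conj (ρ.character g)) := IsIrrCharacter.conj' hirrc
  have hrealf : ρ.character = (fun g => conj (ρ.character g)) := by
    funext s
    exact (Complex.conj_eq_iff_im.mpr (hreal s)).symm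
  have hm : (finrank ℂ I : ℂ) = 1 := by
    rw [← htrP, htrP']
    have := classInner_irr hirrc hirrc'
    rw [if_pos hrealf] at this
    rw [← this]
    simp only [classInner, Complex.conj_conj]
  have hm1 : finrank ℂ I = 1 := by exact_mod_cast hm
  obtain ⟨⟨w, hwI⟩, hw0, hw⟩ := finrank_eq_one_iff'.mp hm1
  obtain ⟨c, hc⟩ := hw ⟨T w, hTI w hwI⟩
  have hc' : T w = c • w := by
    have := congrArg Subtype.val hc
    simpa using this.symm
  have hw0' : w ≠ 0 := fun h => hw0 (Subtype.ext h)
  have hTP : T ∘ₗ P = c • P := by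
    apply LinearMap.ext
    intro x
    obtain ⟨a, ha⟩ := hw ⟨P x, hP1 x⟩
    have ha' : P x = a • w := by
      have := congrArg Subtype.val ha
      simpa using this.symm
    show T (P x) = c • P x
    rw [ha', map_smul, hc', smul_comm]
  have hν : (Nat.card G : ℂ)⁻¹ * ∑ s : G, ρ.character (s * s) = c := by
    rw [← htrTP, hTP, map_smul, htrP, hm, smul_eq_mul, mul_one]
  refine ⟨⟨w, hw0', fun g => ?_⟩, fun M hM => ?_⟩
  · rw [← hLapp]; exact hwI g
  · have hMI : M ∈ I := fun g => by rw [hLapp]; exact hM g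
    obtain ⟨a, ha⟩ := hw ⟨M, hMI⟩
    have ha' : M = a • w := by
      have := congrArg Subtype.val ha
      simpa using this.symm
    rw [hν]
    have : T M = c • M := by rw [ha', map_smul, hc', smul_comm]
    simpa [hT] using this

end Cfsg.Agent.CharLib
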