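import Mathlib
import Cfsg.Agent.Lib.Helper6.IndFun

/-!
lead: counting pairs of involutions in the centralizer of an involution with normal 2-complement
(group-theoretic part of Brauer's order formula for Klein four Sylow 2-subgroups, S4479).
-/

set_option autoImplicit false

namespace Cfsg.Agent.CharLib

universe u

section invcount

variable {G : Type u} [Group G] [Fintype G]

omit [Fintype G] in
/-- An element of odd order whose square is trivial is trivial. -/
theorem ko_eq_one_of_sq_of_odd {x : G} (K : Subgroup G) (hodd : Odd (Nat.card K)) (hx : x ∈ K)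
    (h2 : x * x = 1) : x = 1 := by
  have h3 : orderOf x ∣ 2 := orderOf_dvd_of_pow_eq_one (by rw [pow_two]; exact h2)
  have h4 : orderOf x ∣ Nat.card K := by
    have := orderOf_dvd_natCard (⟨x, hx⟩ : K)
    rwa [Subgroup.orderOf_mk] at this
  have h5 : orderOf x ∣ Nat.gcd 2 (Nat.card K) := Nat.dvd_gcd h3 h4
  rw [Nat.coprime_two_left.mpr hodd, Nat.dvd_one] at h5
  exact orderOf_eq_one_iff.mp h5

open Classical in
/-- Involutions in a coset `s K` of an odd order subgroup normalized by the involution `s`: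
they are all `K`-conjugate to `s`. -/
theorem ko_invol_coset_count (K : Subgroup G) (hodd : Odd (Nat.card K)) (s : G) (hs : s * s = 1)
    (hnorm : ∀ k ∈ K, s * k * s⁻¹ ∈ K) :
    (Finset.univ.filter (fun u : G => u * u = 1 ∧ ∃ k ∈ K, u = s * k)).card *
      Nat.card (K ⊓ Subgroup.centralizer ({s} : Set G) : Subgroup G) = Nat.card K := by
  classical
  have hsinv : s⁻¹ = s := inv_eq_of_mul_eq_one_right hs
  set S := Finset.univ.filter (fun u : G => u * u = 1 ∧ ∃ k ∈ K, u = s * k) with hS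
  let φ : K → G := fun k => (k : G) * s * (k : G)⁻¹
  have hφS : ∀ k ∈ (Finset.univ : Finset K), φ k ∈ S := by
    intro k _
    rw [hS, Finset.mem_filter]
    refine ⟨Finset.mem_univ _, ?_, ?_⟩
    · show (k : G) * s * (k : G)⁻¹ * ((k : G) * s * (k : G)⁻¹) = 1
      calc (k : G) * s * (k : G)⁻¹ * ((k : G) * s * (k : G)⁻¹)
          = (k : G) * (s * s) * (k : G)⁻¹ := by group
        _ = 1 := by rw [hs]; group
    · refine ⟨s * (k : G) * s⁻¹ * (k : G)⁻¹, K.mul_mem (hnorm k k.2) (K.inv_mem k.2), ?_⟩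
      show (k : G) * s * (k : G)⁻¹ = s * (s * (k : G) * s⁻¹ * (k : G)⁻¹)
      calc (k : G) * s * (k : G)⁻¹ = (s * s) * (k : G) * s * (k : G)⁻¹ := by rw [hs]; group
        _ = s * (s * (k : G) * s⁻¹ * (k : G)⁻¹) := by rw [hsinv]; group
  have hcard := Finset.card_eq_sum_card_fiberwise hφS
  -- surjectivity
  have hsurj : ∀ u ∈ S, ∃ k : K, φ k = u := by
    intro u hu
    rw [hS, Finset.mem_filter] at hu
    obtain ⟨-, hu2, y, hy, rfl⟩ := hu
    -- `s` inverts `y`
    have hinv : s * y * s = y⁻¹ := by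
      have : s * y * (s * y) = 1 := hu2
      calc s * y * s = s * y * (s * y) * y⁻¹ := by group
        _ = y⁻¹ := by rw [this, one_mul]
    have hinvpow : ∀ n : ℕ, s * y ^ n * s = (y ^ n)⁻¹ := by
      intro n
      induction n with
      | zero => simp [hs]
      | succ n ih =>
        calc s * y ^ (n + 1) * s = (s * y ^ n * s) * (s * y * s) := by
              rw [pow_succ]
              calc s * (y ^ n * y) * s = s * y ^ n * (1 : G) * y * s := by group
                _ = s * y ^ n * (s * s) * y * s := by rw [hs]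
                _ = (s * y ^ n * s) * (s * y * s) := by group
          _ = (y ^ n)⁻¹ * y⁻¹ := by rw [ih, hinv]
          _ = (y ^ (n + 1))⁻¹ := by
              rw [pow_succ, mul_inv_rev]
              have : Commute (y ^ n)⁻¹ y⁻¹ := ((Commute.refl y).pow_left n).inv_left.inv_right
              exact this.eq
    set m := orderOf y with hm
    have hmodd : Odd m := by
      have h4 : orderOf y ∣ Nat.card K := by
        have := orderOf_dvd_natCard (⟨y, hy⟩ : K)
        rwa [Subgroup.orderOf_mk] at this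
      exact Odd.of_dvd_nat hodd h4
    obtain ⟨j, hj⟩ := hmodd
    refine ⟨⟨y ^ j, K.pow_mem hy j⟩, ?_⟩
    show y ^ j * s * (y ^ j)⁻¹ = s * y
    have h1 : y ^ j * s = s * (y ^ j)⁻¹ := by
      have := hinvpow j
      calc y ^ j * s = (s * s) * y ^ j * s := by rw [hs, one_mul]
        _ = s * (s * y ^ j * s) := by group
        _ = s * (y ^ j)⁻¹ := by rw [this]
    have h2 : (y ^ j)⁻¹ * (y ^ j)⁻¹ = y := by
      have h3 : y ^ (2 * j + 1) = 1 := by rw [← hj, hm]; exact pow_orderOf_eq_one y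
      have h4 : y ^ j * y ^ j * y = 1 := by
        rw [← pow_add, ← pow_succ]
        have : j + j + 1 = 2 * j + 1 := by ring
        rw [this]; exact h3
      calc (y ^ j)⁻¹ * (y ^ j)⁻¹ = (y ^ j)⁻¹ * (y ^ j)⁻¹ * (y ^ j * y ^ j * y) := by
            rw [h4, mul_one]
        _ = y := by group
    calc y ^ j * s * (y ^ j)⁻¹ = s * (y ^ j)⁻¹ * (y ^ j)⁻¹ := by rw [h1]
      _ = s * ((y ^ j)⁻¹ * (y ^ j)⁻¹) := by group
      _ = s * y := by rw [h2]
  -- fibres
  have hfib : ∀ u ∈ S, (Finset.univ.filter (fun k : K => φ k = u)).card =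
      Nat.card (K ⊓ Subgroup.centralizer ({s} : Set G) : Subgroup G) := by
    intro u hu
    obtain ⟨k0, hk0⟩ := hsurj u hu
    rw [← Fintype.card_subtype, ← Nat.card_eq_fintype_card]
    apply Nat.card_congr
    refine ⟨fun k => ⟨(k0 : G)⁻¹ * (k.1 : G), ?_⟩, fun c => ⟨⟨(k0 : G) * (c : G), ?_⟩, ?_⟩, ?_, ?_⟩
    · obtain ⟨k, hk⟩ := k
      rw [Subgroup.mem_inf]
      refine ⟨K.mul_mem (K.inv_mem k0.2) k.2, ?_⟩
      rw [Subgroup.mem_centralizer_singleton_iff]
      have h1 : (k : G) * s * (k : G)⁻¹ = (k0 : G) * s * (k0 : G)⁻¹ := by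
        have : φ k = φ k0 := by rw [hk, hk0]
        exact this
      calc (k0 : G)⁻¹ * (k : G) * s = (k0 : G)⁻¹ * ((k : G) * s * (k : G)⁻¹) * (k : G) := by group
        _ = (k0 : G)⁻¹ * ((k0 : G) * s * (k0 : G)⁻¹) * (k : G) := by rw [h1]
        _ = s * ((k0 : G)⁻¹ * (k : G)) := by group
    · exact K.mul_mem k0.2 (Subgroup.mem_inf.mp c.2).1
    · have hc := Subgroup.mem_centralizer_singleton_iff.mp (Subgroup.mem_inf.mp c.2).2
      show (k0 : G) * (c : G) * s * ((k0 : G) * (c : G))⁻¹ = u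
      rw [← hk0]
      show (k0 : G) * (c : G) * s * ((k0 : G) * (c : G))⁻¹ = (k0 : G) * s * (k0 : G)⁻¹
      calc (k0 : G) * (c : G) * s * ((k0 : G) * (c : G))⁻¹
          = (k0 : G) * ((c : G) * s) * (c : G)⁻¹ * (k0 : G)⁻¹ := by group
        _ = (k0 : G) * (s * (c : G)) * (c : G)⁻¹ * (k0 : G)⁻¹ := by rw [hc]
        _ = (k0 : G) * s * (k0 : G)⁻¹ := by group
    · intro k
      apply Subtype.ext
      apply Subtype.ext
      show (k0 : G) * ((k0 : G)⁻¹ * (k.1 : G)) = (k.1 : G)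
      group
    · intro c
      apply Subtype.ext
      show (k0 : G)⁻¹ * ((k0 : G) * (c : G)) = (c : G)
      group
  rw [Finset.sum_congr rfl hfib, Finset.sum_const, smul_eq_mul] at hcard
  rw [← hcard, Finset.card_univ, Nat.card_eq_fintype_card]

end invcount

section data

variable {G : Type u} [Group G] [Fintype G]

/-- The configuration: `J` an involution, `P = {1, J, t, J t}` a four-group, `K` a normal
subgroup of odd order and index `4` of `C_G(J)`. -/
structure KOData (J t : G) (K P : Subgroup G) : Prop where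
  hJ : J * J = 1
  hJ1 : J ≠ 1
  ht : t * t = 1
  ht1 : t ≠ 1
  htJ : t ≠ J
  hJt : J * t = t * J
  hJP : J ∈ P
  htP : t ∈ P
  hall : ∀ v ∈ P, v = 1 ∨ v = J ∨ v = t ∨ v = J * t
  hPcard : Nat.card P = 4
  hKJ : ∀ k ∈ K, k * J = J * k
  hnorm : ∀ c : G, c * J = J * c → ∀ k ∈ K, c * k * c⁻¹ ∈ K
  hodd : Odd (Nat.card K)
  hcard : 4 * Nat.card K = Nat.card (Subgroup.centralizer ({J} : Set G))

variable {J t : G} {K P : Subgroup G}

omit [Fintype G] in
theorem KOData.hJtJt (h : KOData J t K P) : J * t * (J * t) = 1 := by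
  calc J * t * (J * t) = J * (t * J) * t := by group
    _ = J * (J * t) * t := by rw [h.hJt]
    _ = (J * J) * (t * t) := by group
    _ = 1 := by rw [h.hJ, h.ht, one_mul]

omit [Fintype G] in
theorem KOData.sq_of_mem (h : KOData J t K P) {v : G} (hv : v ∈ P) : v * v = 1 := by
  rcases h.hall v hv with rfl | rfl | rfl | rfl
  · simp
  · exact h.hJ
  · exact h.ht
  · exact h.hJtJt

omit [Fintype G] in
theorem KOData.comm_J_of_mem (h : KOData J t K P) {v : G} (hv : v ∈ P) : v * J = J * v := by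
  rcases h.hall v hv with rfl | rfl | rfl | rfl
  · simp
  · rfl
  · exact h.hJt.symm
  · calc J * t * J = J * (t * J) := by group
      _ = J * (J * t) := by rw [h.hJt]

omit [Fintype G] in
theorem KOData.comm_t_of_mem (h : KOData J t K P) {v : G} (hv : v ∈ P) : v * t = t * v := by
  rcases h.hall v hv with rfl | rfl | rfl | rfl
  · simp
  · exact h.hJt
  · rfl
  · calc J * t * t = (J * t) * t := by group
      _ = (t * J) * t := by rw [h.hJt]
      _ = t * (J * t) := by group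

omit [Fintype G] in
theorem KOData.inter_trivial (h : KOData J t K P) {v : G} (hv : v ∈ P) (hvK : v ∈ K) : v = 1 :=
  ko_eq_one_of_sq_of_odd K h.hodd hvK (h.sq_of_mem hv)

/-- Every element of `C_G(J)` is uniquely `s k` with `s ∈ P`, `k ∈ K`. -/
theorem KOData.decomp (h : KOData J t K P) (c : G) (hc : c * J = J * c) :
    ∃ s ∈ P, ∃ k ∈ K, c = s * k := by
  classical
  set C := Subgroup.centralizer ({J} : Set G) with hC
  have hmemC : ∀ x : G, x * J = J * x → x ∈ C := by
    intro x hx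
    rw [hC, Subgroup.mem_centralizer_singleton_iff]
    exact hx
  let f : P × K → C := fun x => ⟨(x.1 : G) * (x.2 : G), hmemC _ (by
    have h1 := h.comm_J_of_mem x.1.2
    have h2 := h.hKJ _ x.2.2
    calc (x.1 : G) * (x.2 : G) * J = (x.1 : G) * ((x.2 : G) * J) := by group
      _ = (x.1 : G) * (J * (x.2 : G)) := by rw [h2]
      _ = ((x.1 : G) * J) * (x.2 : G) := by group
      _ = (J * (x.1 : G)) * (x.2 : G) := by rw [h1]
      _ = J * ((x.1 : G) * (x.2 : G)) := by group)⟩
  have hinj : Function.Injective f := by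
    intro x y hxy
    have h1 : (x.1 : G) * (x.2 : G) = (y.1 : G) * (y.2 : G) := congrArg (fun z : C => (z : G)) hxy
    have h2 : (y.1 : G)⁻¹ * (x.1 : G) = (y.2 : G) * (x.2 : G)⁻¹ := by
      calc (y.1 : G)⁻¹ * (x.1 : G) = (y.1 : G)⁻¹ * ((x.1 : G) * (x.2 : G)) * (x.2 : G)⁻¹ := by group
        _ = (y.1 : G)⁻¹ * ((y.1 : G) * (y.2 : G)) * (x.2 : G)⁻¹ := by rw [h1]
        _ = (y.2 : G) * (x.2 : G)⁻¹ := by group
    have h3 : (y.1 : G)⁻¹ * (x.1 : G) ∈ P := P.mul_mem (P.inv_mem y.1.2) x.1.2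
    have h4 : (y.1 : G)⁻¹ * (x.1 : G) ∈ K := by
      rw [h2]; exact K.mul_mem y.2.2 (K.inv_mem x.2.2)
    have h5 := h.inter_trivial h3 h4
    have h6 : (x.1 : G) = (y.1 : G) := by
      calc (x.1 : G) = (y.1 : G) * ((y.1 : G)⁻¹ * (x.1 : G)) := by group
        _ = (y.1 : G) := by rw [h5, mul_one]
    have h7 : (x.2 : G) = (y.2 : G) := by
      rw [h6] at h1
      exact mul_left_cancel h1
    exact Prod.ext (Subtype.ext h6) (Subtype.ext h7)
  have hcard : Nat.card C ≤ Nat.card (P × K) := by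
    rw [Nat.card_prod, h.hPcard, h.hcard]
  have hbij := hinj.bijective_of_nat_card_le hcard
  obtain ⟨x, hx⟩ := hbij.2 ⟨c, hmemC c hc⟩
  refine ⟨x.1, x.1.2, x.2, x.2.2, ?_⟩
  exact (congrArg (fun z : C => (z : G)) hx).symm

omit [Fintype G] in
/-- An element inverting `g` centralizes the involution `J = g ^ m`. -/
theorem ko_comm_of_invert {w g J : G} (hJ : J * J = 1) (m : ℕ) (hgm : g ^ m = J)
    (hw : w * g * w⁻¹ = g⁻¹) : w * J = J * w := by
  have h1 : w * J * w⁻¹ = J⁻¹ := by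
    rw [← hgm, ← conj_pow, hw, inv_pow]
  have h2 : J⁻¹ = J := inv_eq_of_mul_eq_one_right hJ
  rw [h2] at h1
  calc w * J = w * J * w⁻¹ * w := by group
    _ = J * w := by rw [h1]

omit [Fintype G] in
/-- If a product of two involutions lies in `J K`, both centralize `J`. -/
theorem KOData.comm_of_prod (h : KOData J t K P) {u v k : G} (hu : u * u = 1) (hv : v * v = 1)
    (hk : k ∈ K) (huv : u * v = J * k) : u * J = J * u ∧ v * J = J * v := by
  have huinv : u⁻¹ = u := inv_eq_of_mul_eq_one_right hu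
  have hvinv : v⁻¹ = v := inv_eq_of_mul_eq_one_right hv
  set m := orderOf k with hm
  have hmodd : Odd m := by
    have h4 : orderOf k ∣ Nat.card K := by
      have := orderOf_dvd_natCard (⟨k, hk⟩ : K)
      rwa [Subgroup.orderOf_mk] at this
    exact Odd.of_dvd_nat h.hodd h4
  have hcomm : Commute J k := (h.hKJ k hk).symm
  have hJm : J ^ m = J := by
    obtain ⟨j, hj⟩ := hmodd
    rw [hj, pow_succ, pow_mul, pow_two, h.hJ, one_pow, one_mul]
  have hgm : (u * v) ^ m = J := by
    rw [huv, hcomm.mul_pow, hJm, hm, pow_orderOf_eq_one, mul_one]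
  have hginv : (u * v)⁻¹ = v * u := by
    rw [mul_inv_rev, huinv, hvinv]
  constructor
  · apply ko_comm_of_invert h.hJ m hgm
    rw [hginv, huinv]
    calc u * (u * v) * u = (u * u) * v * u := by group
      _ = v * u := by rw [hu, one_mul]
  · apply ko_comm_of_invert h.hJ m hgm
    rw [hginv, hvinv]
    calc v * (u * v) * v = v * u * (v * v) := by group
      _ = v * u := by rw [hv, mul_one]

/-- The pairs of involutions whose product lies in `J K`. -/
theorem KOData.pair_iff (h : KOData J t K P) {u v : G} (hu : u * u = 1) (hu1 : u ≠ 1)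
    (hv : v * v = 1) (hv1 : v ≠ 1) :
    (∃ k ∈ K, u * v = J * k) ↔
      ((∃ k ∈ K, u = t * k) ∧ (∃ k ∈ K, v = J * t * k)) ∨
      ((∃ k ∈ K, u = J * t * k) ∧ (∃ k ∈ K, v = t * k)) := by
  have htinv : t⁻¹ = t := inv_eq_of_mul_eq_one_right h.ht
  constructor
  · rintro ⟨k, hk, huv⟩
    obtain ⟨huJ, hvJ⟩ := h.comm_of_prod hu hv hk huv
    obtain ⟨s, hs, k1, hk1, rfl⟩ := h.decomp u huJ
    obtain ⟨s', hs', k2, hk2, rfl⟩ := h.decomp v hvJ
    have hs1 : s ≠ 1 := by
      rintro rfl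
      rw [one_mul] at hu hu1
      exact hu1 (ko_eq_one_of_sq_of_odd K h.hodd hk1 hu)
    have hs'1 : s' ≠ 1 := by
      rintro rfl
      rw [one_mul] at hv hv1
      exact hv1 (ko_eq_one_of_sq_of_odd K h.hodd hk2 hv)
    have hk1' : s'⁻¹ * k1 * s'⁻¹⁻¹ ∈ K := by
      apply h.hnorm _ _ k1 hk1
      have := h.comm_J_of_mem (P.inv_mem hs')
      exact this
    have hprod : (s * s')⁻¹ * J = (s'⁻¹ * k1 * s'⁻¹⁻¹) * k2 * k⁻¹ := by
      have : J = s * k1 * (s' * k2) * k⁻¹ := by rw [huv]; group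
      calc (s * s')⁻¹ * J = (s * s')⁻¹ * (s * k1 * (s' * k2) * k⁻¹) := by rw [← this]
        _ = (s'⁻¹ * k1 * s'⁻¹⁻¹) * k2 * k⁻¹ := by group
    have hmemK : (s * s')⁻¹ * J ∈ K := by
      rw [hprod]
      exact K.mul_mem (K.mul_mem hk1' hk2) (K.inv_mem hk)
    have hmemP : (s * s')⁻¹ * J ∈ P := P.mul_mem (P.inv_mem (P.mul_mem hs hs')) h.hJP
    have hone := h.inter_trivial hmemP hmemK
    have hJss : J = s * s' := by
      calc J = (s * s') * ((s * s')⁻¹ * J) := by group
        _ = s * s' := by rw [hone, mul_one]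
    rcases h.hall s hs with hs0 | hs0 | hs0 | hs0
    · exact absurd hs0 hs1
    · exfalso
      subst s
      apply hs'1
      have : s' = J⁻¹ * J := by
        calc s' = J⁻¹ * (J * s') := by group
          _ = J⁻¹ * J := by rw [← hJss]
      rw [this]; group
    · subst s
      rcases h.hall s' hs' with hs0' | hs0' | hs0' | hs0'
      · exact absurd hs0' hs'1
      · exfalso
        subst s'
        apply h.ht1
        calc t = (t * J) * J⁻¹ := by group
          _ = 1 := by rw [← hJss]; group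
      · exfalso
        subst s'
        apply h.hJ1
        rw [hJss, h.ht]
      · subst s'
        left
        exact ⟨⟨k1, hk1, rfl⟩, ⟨k2, hk2, rfl⟩⟩
    · subst s
      rcases h.hall s' hs' with hs0' | hs0' | hs0' | hs0'
      · exact absurd hs0' hs'1
      · exfalso
        subst s'
        apply h.htJ
        have e : J * t * J = t := by
          calc J * t * J = J * (t * J) := by group
            _ = J * (J * t) := by rw [h.hJt]
            _ = (J * J) * t := by group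
            _ = t := by rw [h.hJ, one_mul]
        rw [e] at hJss
        exact hJss.symm
      · subst s'
        right
        exact ⟨⟨k1, hk1, rfl⟩, ⟨k2, hk2, rfl⟩⟩
      · exfalso
        subst s'
        apply h.hJ1
        rw [hJss, h.hJtJt]
  · have htJc : t * J = J * t := h.hJt.symm
    have htK : ∀ k ∈ K, t * k * t ∈ K := by
      intro k hk
      have := h.hnorm t htJc k hk
      rwa [htinv] at this
    rintro (⟨⟨k1, hk1, rfl⟩, ⟨k2, hk2, rfl⟩⟩ | ⟨⟨k1, hk1, rfl⟩, ⟨k2, hk2, rfl⟩⟩)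
    · refine ⟨t * k1 * t * k2, K.mul_mem (htK k1 hk1) hk2, ?_⟩
      have hkJ := h.hKJ k1 hk1
      calc t * k1 * (J * t * k2) = t * (k1 * J) * t * k2 := by group
        _ = t * (J * k1) * t * k2 := by rw [hkJ]
        _ = (t * J) * k1 * t * k2 := by group
        _ = (J * t) * k1 * t * k2 := by rw [htJc]
        _ = J * (t * k1 * t * k2) := by group
    · refine ⟨t * k1 * t * k2, K.mul_mem (htK k1 hk1) hk2, ?_⟩
      calc J * t * k1 * (t * k2) = J * (t * k1 * t * k2) := by group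

/-- The centralizer of `P` is `P` times `C_K(t)`. -/
theorem KOData.card_centralizer (h : KOData J t K P) :
    Nat.card (Subgroup.centralizer ({J} : Set G) ⊓ Subgroup.centralizer ({t} : Set G) : Subgroup G) =
      4 * Nat.card (K ⊓ Subgroup.centralizer ({t} : Set G) : Subgroup G) := by
  classical
  set Z : Subgroup G := Subgroup.centralizer ({J} : Set G) ⊓ Subgroup.centralizer ({t} : Set G)
    with hZ
  set L : Subgroup G := K ⊓ Subgroup.centralizer ({t} : Set G) with hL
  have hcommJ : ∀ x : P × L, (x.1 : G) * (x.2 : G) * J = J * ((x.1 : G) * (x.2 : G)) := by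
    intro x
    have h1 := h.comm_J_of_mem x.1.2
    have h2 := h.hKJ _ (Subgroup.mem_inf.mp x.2.2).1
    calc (x.1 : G) * (x.2 : G) * J = (x.1 : G) * ((x.2 : G) * J) := by group
      _ = (x.1 : G) * (J * (x.2 : G)) := by rw [h2]
      _ = ((x.1 : G) * J) * (x.2 : G) := by group
      _ = (J * (x.1 : G)) * (x.2 : G) := by rw [h1]
      _ = J * ((x.1 : G) * (x.2 : G)) := by group
  have hcommt : ∀ x : P × L, (x.1 : G) * (x.2 : G) * t = t * ((x.1 : G) * (x.2 : G)) := by
    intro x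
    have h1 := h.comm_t_of_mem x.1.2
    have h2 := Subgroup.mem_centralizer_singleton_iff.mp (Subgroup.mem_inf.mp x.2.2).2
    calc (x.1 : G) * (x.2 : G) * t = (x.1 : G) * ((x.2 : G) * t) := by group
      _ = (x.1 : G) * (t * (x.2 : G)) := by rw [h2]
      _ = ((x.1 : G) * t) * (x.2 : G) := by group
      _ = (t * (x.1 : G)) * (x.2 : G) := by rw [h1]
      _ = t * ((x.1 : G) * (x.2 : G)) := by group
  let f : P × L → Z := fun x => ⟨(x.1 : G) * (x.2 : G), by
    rw [hZ, Subgroup.mem_inf, Subgroup.mem_centralizer_singleton_iff,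
      Subgroup.mem_centralizer_singleton_iff]
    exact ⟨hcommJ x, hcommt x⟩⟩
  have hinj : Function.Injective f := by
    intro x y hxy
    have h1 : (x.1 : G) * (x.2 : G) = (y.1 : G) * (y.2 : G) := congrArg (fun z : Z => (z : G)) hxy
    have h2 : (y.1 : G)⁻¹ * (x.1 : G) = (y.2 : G) * (x.2 : G)⁻¹ := by
      calc (y.1 : G)⁻¹ * (x.1 : G) = (y.1 : G)⁻¹ * ((x.1 : G) * (x.2 : G)) * (x.2 : G)⁻¹ := by group
        _ = (y.1 : G)⁻¹ * ((y.1 : G) * (y.2 : G)) * (x.2 : G)⁻¹ := by rw [h1]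
        _ = (y.2 : G) * (x.2 : G)⁻¹ := by group
    have h3 : (y.1 : G)⁻¹ * (x.1 : G) ∈ P := P.mul_mem (P.inv_mem y.1.2) x.1.2
    have h4 : (y.1 : G)⁻¹ * (x.1 : G) ∈ K := by
      rw [h2]
      exact K.mul_mem (Subgroup.mem_inf.mp y.2.2).1 (K.inv_mem (Subgroup.mem_inf.mp x.2.2).1)
    have h5 := h.inter_trivial h3 h4
    have h6 : (x.1 : G) = (y.1 : G) := by
      calc (x.1 : G) = (y.1 : G) * ((y.1 : G)⁻¹ * (x.1 : G)) := by group
        _ = (y.1 : G) := by rw [h5, mul_one]
    have h7 : (x.2 : G) = (y.2 : G) := by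
      rw [h6] at h1
      exact mul_left_cancel h1
    exact Prod.ext (Subtype.ext h6) (Subtype.ext h7)
  have hsurj : Function.Surjective f := by
    rintro ⟨z, hz⟩
    rw [hZ, Subgroup.mem_inf, Subgroup.mem_centralizer_singleton_iff,
      Subgroup.mem_centralizer_singleton_iff] at hz
    obtain ⟨hzJ, hzt⟩ := hz
    obtain ⟨s, hs, k, hk, rfl⟩ := h.decomp z hzJ
    have hst := h.comm_t_of_mem hs
    have hkt : k * t = t * k := by
      calc k * t = s⁻¹ * (s * k * t) := by group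
        _ = s⁻¹ * (t * (s * k)) := by rw [hzt]
        _ = s⁻¹ * ((t * s) * k) := by group
        _ = s⁻¹ * ((s * t) * k) := by rw [hst]
        _ = t * k := by group
    refine ⟨(⟨s, hs⟩, ⟨k, ?_⟩), rfl⟩
    rw [hL, Subgroup.mem_inf, Subgroup.mem_centralizer_singleton_iff]
    exact ⟨hk, hkt⟩
  rw [← Nat.card_congr (Equiv.ofBijective f ⟨hinj, hsurj⟩), Nat.card_prod, h.hPcard]

omit [Fintype G] in
theorem KOData.inf_centralizer_Jt (h : KOData J t K P) :
    (K ⊓ Subgroup.centralizer ({J * t} : Set G) : Subgroup G) =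
      K ⊓ Subgroup.centralizer ({t} : Set G) := by
  ext k
  rw [Subgroup.mem_inf, Subgroup.mem_inf, Subgroup.mem_centralizer_singleton_iff,
    Subgroup.mem_centralizer_singleton_iff]
  constructor
  · rintro ⟨hk, hc⟩
    refine ⟨hk, ?_⟩
    have hkJ := h.hKJ k hk
    have hJinv : J⁻¹ = J := inv_eq_of_mul_eq_one_right h.hJ
    calc k * t = J⁻¹ * (J * k) * t := by group
      _ = J⁻¹ * (k * J) * t := by rw [hkJ]
      _ = J⁻¹ * (k * (J * t)) := by group
      _ = J⁻¹ * (J * t * k) := by rw [hc]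
      _ = t * k := by group
  · rintro ⟨hk, hc⟩
    refine ⟨hk, ?_⟩
    have hkJ := h.hKJ k hk
    calc k * (J * t) = (k * J) * t := by group
      _ = (J * k) * t := by rw [hkJ]
      _ = J * (k * t) := by group
      _ = J * (t * k) := by rw [hc]
      _ = J * t * k := by group

omit [Fintype G] in
theorem KOData.ne_one_of_coset_t (h : KOData J t K P) {k : G} (hk : k ∈ K) : t * k ≠ 1 := by
  intro h1
  apply h.ht1
  apply h.inter_trivial h.htP
  have : t = k⁻¹ := eq_inv_of_mul_eq_one_left h1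
  rw [this]
  exact K.inv_mem hk

omit [Fintype G] in
theorem KOData.Jt_ne_one (h : KOData J t K P) : J * t ≠ 1 := by
  intro h1
  apply h.htJ
  have h2 : J = t⁻¹ := eq_inv_of_mul_eq_one_left h1
  have h3 : t⁻¹ = t := inv_eq_of_mul_eq_one_right h.ht
  rw [h2, h3]

omit [Fintype G] in
theorem KOData.ne_one_of_coset_Jt (h : KOData J t K P) {k : G} (hk : k ∈ K) : J * t * k ≠ 1 := by
  intro h1
  apply h.Jt_ne_one
  apply h.inter_trivial (P.mul_mem h.hJP h.htP)
  have : J * t = k⁻¹ := eq_inv_of_mul_eq_one_left h1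
  rw [this]
  exact K.inv_mem hk

open Classical in
/-- The number of pairs `(a, b)` such that the product of the conjugates `a⁻¹ J a`, `b⁻¹ J b`
lies in `J K`. -/
theorem KOData.pair_count (h : KOData J t K P) (hconj : ∀ u : G, orderOf u = 2 → IsConj J u) :
    (∑ a : G, ∑ b : G,
        (if ∃ k ∈ K, a⁻¹ * J * a * (b⁻¹ * J * b) = J * k then (1 : ℂ) else 0)) *
      (Nat.card (Subgroup.centralizer ({J} : Set G) ⊓ Subgroup.centralizer ({t} : Set G) :
        Subgroup G) : ℂ) ^ 2 =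
      2 * (Nat.card (Subgroup.centralizer ({J} : Set G)) : ℂ) ^ 4 := by
  set c := Nat.card (Subgroup.centralizer ({J} : Set G)) with hc
  set L : Subgroup G := K ⊓ Subgroup.centralizer ({t} : Set G) with hL
  set It := Finset.univ.filter (fun u : G => u * u = 1 ∧ ∃ k ∈ K, u = t * k) with hIt
  set IJt := Finset.univ.filter (fun u : G => u * u = 1 ∧ ∃ k ∈ K, u = J * t * k) with hIJt
  have htJc : t * J = J * t := h.hJt.symm
  have hJtJc : J * t * J = J * (J * t) := by
    calc J * t * J = J * (t * J) := by group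
      _ = J * (J * t) := by rw [htJc]
  have ha : It.card * Nat.card L = Nat.card K :=
    ko_invol_coset_count K h.hodd t h.ht (fun k hk => h.hnorm t htJc k hk)
  have hb : IJt.card * Nat.card L = Nat.card K := by
    have := ko_invol_coset_count K h.hodd (J * t) h.hJtJt (fun k hk => h.hnorm (J * t) hJtJc k hk)
    rwa [h.inf_centralizer_Jt] at this
  have hz := h.card_centralizer
  rw [← hL] at hz
  set cl := Finset.univ.image (fun x : G => x⁻¹ * J * x) with hcl
  have hclmem : ∀ u : G, u ∈ cl ↔ (u * u = 1 ∧ u ≠ 1) := by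
    intro u
    rw [hcl, Cfsg.Agent.Lib.Helper6.mem_image_conj_iff]
    constructor
    · intro hJu
      obtain ⟨g, hg⟩ := isConj_iff.mp hJu
      rw [← hg]
      constructor
      · calc g * J * g⁻¹ * (g * J * g⁻¹) = g * (J * J) * g⁻¹ := by group
          _ = 1 := by rw [h.hJ]; group
      · intro h1
        apply h.hJ1
        calc J = g⁻¹ * (g * J * g⁻¹) * g := by group
          _ = 1 := by rw [h1]; group
    · rintro ⟨hu, hu1⟩
      exact hconj u (orderOf_eq_prime (by rw [pow_two]; exact hu) hu1)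
  -- reduce to a count over pairs of involutions
  have h1 : (∑ a : G, ∑ b : G,
      (if ∃ k ∈ K, a⁻¹ * J * a * (b⁻¹ * J * b) = J * k then (1 : ℂ) else 0)) =
      (c : ℂ) * ((c : ℂ) * ∑ u ∈ cl, ∑ v ∈ cl, (if ∃ k ∈ K, u * v = J * k then (1 : ℂ) else 0)) := by
    have e1 := Cfsg.Agent.Lib.Helper6.sum_conj_eq J
      (fun u : G => ∑ b : G, (if ∃ k ∈ K, u * (b⁻¹ * J * b) = J * k then (1 : ℂ) else 0))
    rw [e1]
    congr 1
    rw [Finset.mul_sum]
    apply Finset.sum_congr rfl
    intro u _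
    exact Cfsg.Agent.Lib.Helper6.sum_conj_eq J
      (fun v : G => (if ∃ k ∈ K, u * v = J * k then (1 : ℂ) else 0))
  have h2 : (∑ u ∈ cl, ∑ v ∈ cl, (if ∃ k ∈ K, u * v = J * k then (1 : ℂ) else 0)) =
      ((It ×ˢ IJt ∪ IJt ×ˢ It).card : ℂ) := by
    rw [← Finset.sum_product' cl cl (fun u v => (if ∃ k ∈ K, u * v = J * k then (1 : ℂ) else 0)),
      Finset.sum_boole]
    congr 2
    ext ⟨u, v⟩
    simp only [Finset.mem_filter, Finset.mem_product, Finset.mem_union, hIt, hIJt,
      Finset.mem_univ, true_and, hclmem]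
    constructor
    · rintro ⟨⟨⟨hu, hu1⟩, ⟨hv, hv1⟩⟩, hk⟩
      rcases (h.pair_iff hu hu1 hv hv1).mp hk with ⟨h3, h4⟩ | ⟨h3, h4⟩
      · left; exact ⟨⟨hu, h3⟩, ⟨hv, h4⟩⟩
      · right; exact ⟨⟨hu, h3⟩, ⟨hv, h4⟩⟩
    · rintro (⟨⟨hu, h3⟩, ⟨hv, h4⟩⟩ | ⟨⟨hu, h3⟩, ⟨hv, h4⟩⟩)
      · have hu1 : u ≠ 1 := by
          obtain ⟨k, hk, rfl⟩ := h3
          exact h.ne_one_of_coset_t hk
        have hv1 : v ≠ 1 := by
          obtain ⟨k, hk, rfl⟩ := h4
          exact h.ne_one_of_coset_Jt hk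
        exact ⟨⟨⟨hu, hu1⟩, ⟨hv, hv1⟩⟩, (h.pair_iff hu hu1 hv hv1).mpr (Or.inl ⟨h3, h4⟩)⟩
      · have hu1 : u ≠ 1 := by
          obtain ⟨k, hk, rfl⟩ := h3
          exact h.ne_one_of_coset_Jt hk
        have hv1 : v ≠ 1 := by
          obtain ⟨k, hk, rfl⟩ := h4
          exact h.ne_one_of_coset_t hk
        exact ⟨⟨⟨hu, hu1⟩, ⟨hv, hv1⟩⟩, (h.pair_iff hu hu1 hv hv1).mpr (Or.inr ⟨h3, h4⟩)⟩
  have hdisj : Disjoint (It ×ˢ IJt) (IJt ×ˢ It) := by
    rw [Finset.disjoint_left]
    rintro ⟨u, v⟩ h3 h4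
    simp only [Finset.mem_product, hIt, hIJt, Finset.mem_filter, Finset.mem_univ, true_and]
      at h3 h4
    obtain ⟨⟨-, k1, hk1, hu1⟩, -⟩ := h3
    obtain ⟨⟨-, k2, hk2, hu2⟩, -⟩ := h4
    apply h.hJ1
    have h5 : t * k1 = J * t * k2 := by rw [← hu1, ← hu2]
    have h6 : (J * t)⁻¹ * t = k2 * k1⁻¹ := by
      calc (J * t)⁻¹ * t = (J * t)⁻¹ * (t * k1) * k1⁻¹ := by group
        _ = (J * t)⁻¹ * (J * t * k2) * k1⁻¹ := by rw [h5]
        _ = k2 * k1⁻¹ := by group
    have h7 : (J * t)⁻¹ * t ∈ K := by rw [h6]; exact K.mul_mem hk2 (K.inv_mem hk1)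
    have h8 : (J * t)⁻¹ * t ∈ P := P.mul_mem (P.inv_mem (P.mul_mem h.hJP h.htP)) h.htP
    have h9 := h.inter_trivial h8 h7
    have h10 : (J * t)⁻¹ * t = J⁻¹ := by rw [h.hJt]; group
    rw [h10] at h9
    exact inv_eq_one.mp h9
  rw [h1, h2, Finset.card_union_of_disjoint hdisj, Finset.card_product, Finset.card_product]
  have hcK : (c : ℂ) = 4 * (Nat.card K : ℂ) := by
    rw [hc, ← h.hcard]; push_cast; ring
  have hzC : (Nat.card (Subgroup.centralizer ({J} : Set G) ⊓ Subgroup.centralizer ({t} : Set G) :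
      Subgroup G) : ℂ) = 4 * (Nat.card L : ℂ) := by
    rw [hz]; push_cast; ring
  have haC : (It.card : ℂ) * (Nat.card L : ℂ) = (Nat.card K : ℂ) := by exact_mod_cast ha
  have hbC : (IJt.card : ℂ) * (Nat.card L : ℂ) = (Nat.card K : ℂ) := by exact_mod_cast hb
  rw [hzC]
  push_cast
  linear_combination (32 * (c : ℂ) ^ 2 * (IJt.card : ℂ) * (Nat.card L : ℂ)) * haC +
    (32 * (c : ℂ) ^ 2 * (Nat.card K : ℂ)) * hbC -
    (2 * (c : ℂ) ^ 2 * ((c : ℂ) + 4 * (Nat.card K : ℂ))) * hcK

end data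

end Cfsg.Agent.CharLib
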