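import Mathlib
import Cfsg.Agent.Lib.Lead.KleinOrder1
import Cfsg.Agent.Lib.Lead.KleinOrder2
import Cfsg.Agent.Lib.Lead.KleinBlock1
import Cfsg.Agent.Lib.Lead.SecondMain4
import Cfsg.Agent.Lib.Helper2.KleinSylow

/-!
lead: Brauer's order formula for groups with Klein four Sylow 2-subgroups and no normal
2-complement (S4479).
-/

set_option autoImplicit false

namespace Cfsg.Agent.CharLib

open Cfsg Cfsg.Agent.Lib.Helper24 Cfsg.Agent.Lib.Helper6
open scoped ComplexConjugate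

universe u

section setup

variable {G : Type u} [Group G] [Finite G]

/-- A Sylow 2-subgroup of a group of order `4 g₀`, `g₀` odd, has order `4`. -/
theorem ko_card_sylow (g₀ : ℕ) (hg₀ : Odd g₀) (hG : Nat.card G = 4 * g₀) (P : Sylow 2 G) :
    Nat.card (P : Subgroup G) = 4 := by
  haveI : Fact (Nat.Prime 2) := ⟨Nat.prime_two⟩
  rw [P.card_eq_multiplicity, hG]
  have h0 : g₀ ≠ 0 := by
    rintro rfl
    simp at hg₀
  have h2 : ¬ 2 ∣ g₀ := by
    intro h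
    rcases hg₀ with ⟨k, hk⟩
    omega
  rw [Nat.factorization_mul (by norm_num) h0, Finsupp.add_apply,
    Nat.factorization_eq_zero_of_not_dvd h2, add_zero]
  have : (4 : ℕ) = 2 ^ 2 := by norm_num
  rw [this, Nat.Prime.factorization_pow Nat.prime_two]
  simp

/-- A normal complement to a Sylow 2-subgroup has order `g₀`. -/
theorem ko_card_complement (g₀ : ℕ) (hG : Nat.card G = 4 * g₀) (P : Sylow 2 G)
    (hP4 : Nat.card (P : Subgroup G) = 4) (N : Subgroup G)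
    (hc : Subgroup.IsComplement' N (P : Subgroup G)) : Nat.card N = g₀ := by
  have h1 := hc.card_mul_card
  rw [hP4, hG] at h1
  omega

/-- Without a normal 2-complement the Sylow 2-subgroup of order 4 is a four-group. -/
theorem ko_isKleinFour (g₀ : ℕ) (hg₀ : Odd g₀) (hG : Nat.card G = 4 * g₀)
    (hnc : ¬ ∃ N : Subgroup G, N.Normal ∧ Nat.card N = g₀) (P : Sylow 2 G) :
    IsKleinFour (P : Subgroup G) := by
  haveI : Fact (Nat.Prime 2) := ⟨Nat.prime_two⟩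
  have hP4 := ko_card_sylow g₀ hg₀ hG P
  have hncyc : ¬ IsCyclic (P : Subgroup G) := by
    intro hcyc
    have h2 : 2 ∣ Nat.card G := by rw [hG]; exact Dvd.intro _ (by ring : 2 * (2 * g₀) = 4 * g₀)
    have hmin : (Nat.card G).minFac = 2 := (Nat.minFac_eq_two_iff _).mpr h2
    have hcomp := IsCyclic.isComplement' hmin hcyc
    exact hnc ⟨_, inferInstance, ko_card_complement g₀ hG P hP4 _ hcomp⟩
  have hsq : ∀ x : (P : Subgroup G), x ^ 2 = 1 := by
    intro x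
    have h1 : orderOf x ∣ 4 := by rw [← hP4]; exact orderOf_dvd_natCard x
    have h2 : orderOf x ≠ 4 := by
      intro h4
      apply hncyc
      apply isCyclic_of_orderOf_eq_card x
      rw [h4, hP4]
    have h3 : orderOf x ∣ 2 := by
      have : (4 : ℕ) = 2 ^ 2 := by norm_num
      rw [this] at h1
      obtain ⟨j, hj, hj2⟩ := (Nat.dvd_prime_pow Nat.prime_two).mp h1
      interval_cases j
      · rw [hj2]; norm_num
      · rw [hj2]; norm_num
      · exfalso; apply h2; rw [hj2]; norm_num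
    exact orderOf_dvd_iff_pow_eq_one.mp h3
  refine ⟨hP4, ?_⟩
  have h1 : Monoid.exponent (P : Subgroup G) ∣ 2 := Monoid.exponent_dvd_of_forall_pow_eq_one hsq
  rcases (Nat.dvd_prime Nat.prime_two).mp h1 with h | h
  · exfalso
    have := Monoid.exp_eq_one_iff.mp h
    have h3 : Nat.card (P : Subgroup G) = 1 := Nat.card_unique
    omega
  · exact h

/-- Without a normal 2-complement, all involutions are conjugate. -/
theorem ko_invol_conj (g₀ : ℕ) (hg₀ : Odd g₀) (hG : Nat.card G = 4 * g₀)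
    (hnc : ¬ ∃ N : Subgroup G, N.Normal ∧ Nat.card N = g₀) (P : Sylow 2 G)
    (J u : G) (hJ : orderOf J = 2) (hu : orderOf u = 2) : IsConj J u := by
  have hP := ko_isKleinFour g₀ hg₀ hG hnc P
  have hP4 := ko_card_sylow g₀ hg₀ hG P
  have h3 : ¬ (Nat.card {C : ConjClasses G // ∃ t : G, orderOf t = 2 ∧ ConjClasses.mk t = C} = 3) := by
    intro h
    obtain ⟨N, hN, hc⟩ := (Cfsg.Agent.Lib.Helper2.klein_three_iff P hP).mp h
    exact hnc ⟨N, hN, ko_card_complement g₀ hG P hP4 N hc⟩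
  have h1 := (Cfsg.Agent.Lib.Helper2.klein_one_or_three P hP).resolve_right h3
  obtain ⟨hsub, -⟩ := Nat.card_eq_one_iff_unique.mp h1
  have := hsub.elim (⟨ConjClasses.mk J, J, hJ, rfl⟩ :
    {C : ConjClasses G // ∃ t : G, orderOf t = 2 ∧ ConjClasses.mk t = C})
    ⟨ConjClasses.mk u, u, hu, rfl⟩
  exact ConjClasses.mk_eq_mk_iff_isConj.mp (congrArg Subtype.val this)

/-- A second generator. -/
theorem ko_exists_t (P : Sylow 2 G) (hP : IsKleinFour (P : Subgroup G)) (J : G) (hJP : J ∈ P)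
    (hJ1 : J ≠ 1) :
    ∃ t ∈ P, t ≠ 1 ∧ t ≠ J ∧ ∀ v ∈ P, v = 1 ∨ v = J ∨ v = t ∨ v = J * t := by
  obtain ⟨a, b, ha, hb, ha1, hb1, hab, hall⟩ := Cfsg.Agent.Lib.Helper2.klein_exists_gens P hP
  have hcomm := Cfsg.Agent.Lib.Helper2.klein_comm P hP
  have hsq := Cfsg.Agent.Lib.Helper2.klein_sq P hP
  rcases hall J hJP with h | h | h | h
  · exact absurd h hJ1
  · refine ⟨b, hb, hb1, ?_, ?_⟩
    · rw [h]; exact fun h' => hab h'.symm
    · intro v hv
      rw [h]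
      exact hall v hv
  · refine ⟨a, ha, ha1, ?_, ?_⟩
    · rw [h]; exact hab
    · intro v hv
      rw [h]
      rcases hall v hv with h' | h' | h' | h'
      · left; exact h'
      · right; right; left; exact h'
      · right; left; exact h'
      · right; right; right; rw [h', hcomm a ha b hb]
  · refine ⟨a, ha, ha1, ?_, ?_⟩
    · rw [h]
      intro h'
      apply hb1
      have : a * b = a * 1 := by rw [mul_one]; exact h'.symm
      exact mul_left_cancel this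
    · intro v hv
      have e : J * a = b := by
        rw [h, hcomm a ha b hb, mul_assoc, hsq a ha, mul_one]
      rw [e]
      rcases hall v hv with h' | h' | h' | h'
      · left; exact h'
      · right; right; left; exact h'
      · right; right; right; exact h'
      · right; left; rw [h', h]

/-- The configuration data for the count. -/
theorem ko_data (g₀ : ℕ) (hg₀ : Odd g₀) (hG : Nat.card G = 4 * g₀) (P : Sylow 2 G)
    (hP : IsKleinFour (P : Subgroup G)) (J : G) (hJP : J ∈ P) (hJ1 : J ≠ 1) (t : G) (htP : t ∈ P)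
    (ht1 : t ≠ 1) (htJ : t ≠ J) (hall : ∀ v ∈ P, v = 1 ∨ v = J ∨ v = t ∨ v = J * t)
    (hk : ∃ k : ℕ, (pPrimeCore 2 (Subgroup.centralizer ({J} : Set G))).index = 2 ^ k)
    [Fintype G] :
    KOData J t ((pPrimeCore 2 (Subgroup.centralizer ({J} : Set G))).map
      (Subgroup.centralizer ({J} : Set G)).subtype) (P : Subgroup G) := by
  haveI : Fact (Nat.Prime 2) := ⟨Nat.prime_two⟩
  set C := Subgroup.centralizer ({J} : Set G) with hC
  set K := pPrimeCore 2 C with hK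
  haveI hKn : K.Normal := Cfsg.Agent.Lib.Helper1.pPrimeCore_normal 2 C
  have hcomm := Cfsg.Agent.Lib.Helper2.klein_comm P hP
  have hsq := Cfsg.Agent.Lib.Helper2.klein_sq P hP
  have hcop : (Nat.card K).Coprime 2 := Cfsg.Agent.Lib.Helper12.pPrimeCore_coprime 2
  have hcardmap : Nat.card (K.map C.subtype) = Nat.card K :=
    Subgroup.card_map_of_injective C.subtype_injective
  have hPC : (P : Subgroup G) ≤ C := by
    intro x hx
    rw [hC, Subgroup.mem_centralizer_singleton_iff]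
    exact hcomm x hx J hJP
  have hP4 : Nat.card (P : Subgroup G) = 4 := hP.card_four
  refine ⟨hsq J hJP, hJ1, hsq t htP, ht1, htJ, hcomm J hJP t htP, hJP, htP, hall, hP4, ?_, ?_, ?_, ?_⟩
  · intro k hk'
    obtain ⟨c, -, rfl⟩ := Subgroup.mem_map.mp hk'
    have hc : (c : G) ∈ Subgroup.centralizer ({J} : Set G) := c.2
    exact Subgroup.mem_centralizer_singleton_iff.mp hc
  · intro c hc k hk'
    obtain ⟨k0, hk0, rfl⟩ := Subgroup.mem_map.mp hk'
    have hcC : c ∈ C := by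
      rw [hC, Subgroup.mem_centralizer_singleton_iff]; exact hc
    refine Subgroup.mem_map.mpr ⟨(⟨c, hcC⟩ : C) * k0 * (⟨c, hcC⟩ : C)⁻¹, ?_, rfl⟩
    exact hKn.conj_mem k0 hk0 ⟨c, hcC⟩
  · rw [hcardmap]
    exact Nat.coprime_two_right.mp hcop
  · rw [hcardmap]
    obtain ⟨k, hk⟩ := hk
    have h1 : Nat.card K * 2 ^ k = Nat.card C := by
      rw [← hk]; exact Subgroup.card_mul_index K
    have h2 : 4 ∣ Nat.card C := by rw [← hP4]; exact Subgroup.card_dvd_of_le hPC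
    have h3 : Nat.card C ∣ 4 * g₀ := by rw [← hG]; exact Subgroup.card_subgroup_dvd_card C
    have hg2 : Nat.Coprime 2 g₀ := Nat.coprime_two_left.mpr hg₀
    have h4 : 2 ^ k ∣ 4 := by
      have h5 : 2 ^ k ∣ 4 * g₀ := dvd_trans (Dvd.intro_left _ h1) h3
      have h6 : Nat.Coprime (2 ^ k) g₀ := Nat.Coprime.pow_left k hg2
      exact h6.dvd_of_dvd_mul_right h5
    have h5 : 4 ∣ 2 ^ k := by
      rw [← h1] at h2
      have h6 : Nat.Coprime 4 (Nat.card K) := by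
        have : (4 : ℕ) = 2 ^ 2 := by norm_num
        rw [this]
        exact Nat.Coprime.pow_left 2 hcop.symm
      exact h6.dvd_of_dvd_mul_left h2
    have h6 : 2 ^ k = 4 := Nat.dvd_antisymm h4 h5
    rw [← h1, h6, mul_comm]

omit [Finite G] in
/-- The centralizer of a four-group `{1, J, t, J t}`. -/
theorem ko_centralizer_eq (P : Subgroup G) (J t : G) (hJP : J ∈ P) (htP : t ∈ P)
    (hall : ∀ v ∈ P, v = 1 ∨ v = J ∨ v = t ∨ v = J * t) :
    Subgroup.centralizer ((P : Subgroup G) : Set G) =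
      Subgroup.centralizer ({J} : Set G) ⊓ Subgroup.centralizer ({t} : Set G) := by
  ext x
  rw [Subgroup.mem_inf, Subgroup.mem_centralizer_singleton_iff,
    Subgroup.mem_centralizer_singleton_iff, Subgroup.mem_centralizer_iff]
  constructor
  · intro h
    exact ⟨(h J hJP).symm, (h t htP).symm⟩
  · rintro ⟨h1, h2⟩ v hv
    rcases hall v hv with rfl | rfl | rfl | rfl
    · simp
    · exact h1.symm
    · exact h2.symm
    · calc J * t * x = J * (t * x) := by group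
        _ = J * (x * t) := by rw [h2]
        _ = (J * x) * t := by group
        _ = (x * J) * t := by rw [h1]
        _ = x * (J * t) := by group

end setup

section main

variable {G : Type u} [Group G] [Finite G]

/-- **Brauer**: the order formula from the principal 2-block for Klein four Sylow 2-subgroups
(S4479). -/
theorem klein_order_formula (M : Ideal AlgInt) (hM : IsPModular 2 M) (g₀ : ℕ) (hg₀ : Odd g₀)
    (hG : Nat.card G = 4 * g₀) (hnc : ¬ ∃ N : Subgroup G, N.Normal ∧ Nat.card N = g₀)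
    (P : Sylow 2 G) (J : G) (hJ : J ∈ (P : Subgroup G)) (hJ2 : orderOf J = 2)
    (χ₁ χ₂ χ₃ : IrrCharacter G) (ε₁ ε₂ ε₃ : ℤ)
    (hB : principalBlock M G =
      {χ : IrrCharacter G | (χ : G → ℂ) = (fun _ => 1) ∨ χ = χ₁ ∨ χ = χ₂ ∨ χ = χ₃})
    (hdist : (χ₁ : G → ℂ) ≠ (fun _ => 1) ∧ (χ₂ : G → ℂ) ≠ (fun _ => 1) ∧
      (χ₃ : G → ℂ) ≠ (fun _ => 1) ∧ χ₁ ≠ χ₂ ∧ χ₁ ≠ χ₃ ∧ χ₂ ≠ χ₃)
    (hε : (ε₁ = 1 ∨ ε₁ = -1) ∧ (ε₂ = 1 ∨ ε₂ = -1) ∧ (ε₃ = 1 ∨ ε₃ = -1))
    (hval : (χ₁ : G → ℂ) J = ε₁ ∧ (χ₂ : G → ℂ) J = ε₂ ∧ (χ₃ : G → ℂ) J = ε₃) :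
    (Nat.card G : ℚ) = 8 * (((charDegree (χ₁ : G → ℂ) : ℚ) * charDegree (χ₂ : G → ℂ) *
        charDegree (χ₃ : G → ℂ)) /
        ((charDegree (χ₁ : G → ℂ) + ε₁) * (charDegree (χ₂ : G → ℂ) + ε₂) *
          (charDegree (χ₃ : G → ℂ) + ε₃))) *
      (Nat.card (Subgroup.centralizer ({J} : Set G)) : ℚ) ^ 3 /
      (Nat.card (Subgroup.centralizer ((P : Subgroup G) : Set G)) : ℚ) ^ 2 := by
  classical
  haveI : Fact (Nat.Prime 2) := ⟨Nat.prime_two⟩
  let _ : Fintype G := Fintype.ofFinite G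
  let _ : Fintype (IrrCharacter G) := Fintype.ofFinite _
  have hP := ko_isKleinFour g₀ hg₀ hG hnc P
  have hJ1 : J ≠ 1 := by
    intro h
    rw [h, orderOf_one] at hJ2
    norm_num at hJ2
  obtain ⟨t, htP, ht1, htJ, hall⟩ := ko_exists_t P hP J hJ hJ1
  have hk := exists_index_pPrimeCore_centralizer_klein P hP J hJ hJ1
  have hdata := ko_data g₀ hg₀ hG P hP J hJ hJ1 t htP ht1 htJ hall hk
  have hconj : ∀ u : G, orderOf u = 2 → IsConj J u :=
    fun u hu => ko_invol_conj g₀ hg₀ hG hnc P J u hJ2 hu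
  have hcount := hdata.pair_count hconj
  have hsec := sum_pairFun_section hM J ⟨1, by rw [hJ2, pow_one]⟩ hk
  have hcnt := sum_pairFun_eq_count J (Subgroup.centralizer ({J} : Set G))
    (pPrimeCore 2 (Subgroup.centralizer ({J} : Set G)))
  rw [← hcnt, hsec, ← ko_centralizer_eq (P : Subgroup G) J t hJ htP hall] at hcount
  set C := Subgroup.centralizer ({J} : Set G) with hC
  set K := pPrimeCore 2 C with hK
  set z := Nat.card (Subgroup.centralizer ((P : Subgroup G) : Set G)) with hz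
  set c := Nat.card C with hc
  have hcardmap : Nat.card (K.map C.subtype) = Nat.card K :=
    Subgroup.card_map_of_injective C.subtype_injective
  have h4K : 4 * Nat.card K = c := by rw [← hcardmap]; exact hdata.hcard
  -- degrees
  obtain ⟨d₁, hd₁pos, hd₁⟩ := IsIrrCharacter.apply_one_pos χ₁.2
  obtain ⟨d₂, hd₂pos, hd₂⟩ := IsIrrCharacter.apply_one_pos χ₂.2
  obtain ⟨d₃, hd₃pos, hd₃⟩ := IsIrrCharacter.apply_one_pos χ₃.2
  rw [charDegree_eq_of_apply_one hd₁, charDegree_eq_of_apply_one hd₂,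
    charDegree_eq_of_apply_one hd₃]
  -- the principal block as a finset
  have htriv : ∀ χ : IrrCharacter G, (χ : G → ℂ) = (fun _ => 1) ↔ χ = trivIrr G := by
    intro χ
    constructor
    · intro h; exact Subtype.ext h
    · intro h; rw [h]; rfl
  have hBfin : principalBlock M G = ↑({trivIrr G, χ₁, χ₂, χ₃} : Finset (IrrCharacter G)) := by
    rw [hB]
    ext χ
    simp only [Set.mem_setOf_eq, Finset.coe_insert, Finset.coe_singleton, Set.mem_insert_iff,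
      Set.mem_singleton_iff, htriv]
  have hn1 : trivIrr G ∉ ({χ₁, χ₂, χ₃} : Finset (IrrCharacter G)) := by
    simp only [Finset.mem_insert, Finset.mem_singleton, not_or]
    refine ⟨fun h => hdist.1 ((htriv χ₁).mpr h.symm), fun h => hdist.2.1 ((htriv χ₂).mpr h.symm),
      fun h => hdist.2.2.1 ((htriv χ₃).mpr h.symm)⟩
  have hn2 : χ₁ ∉ ({χ₂, χ₃} : Finset (IrrCharacter G)) := by
    simp only [Finset.mem_insert, Finset.mem_singleton, not_or]
    exact ⟨hdist.2.2.2.1, hdist.2.2.2.2.1⟩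
  have hn3 : χ₂ ∉ ({χ₃} : Finset (IrrCharacter G)) := by
    simp only [Finset.mem_singleton]
    exact hdist.2.2.2.2.2
  have htrivJ : ((trivIrr G : IrrCharacter G) : G → ℂ) J = 1 := rfl
  have htriv1 : ((trivIrr G : IrrCharacter G) : G → ℂ) 1 = 1 := rfl
  have hε₁c : (ε₁ : ℂ) ^ 3 = ε₁ := by rcases hε.1 with h | h <;> rw [h] <;> norm_num
  have hε₂c : (ε₂ : ℂ) ^ 3 = ε₂ := by rcases hε.2.1 with h | h <;> rw [h] <;> norm_num
  have hε₃c : (ε₃ : ℂ) ^ 3 = ε₃ := by rcases hε.2.2 with h | h <;> rw [h] <;> norm_num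
  have hd₁0 : (d₁ : ℂ) ≠ 0 := by exact_mod_cast hd₁pos.ne'
  have hd₂0 : (d₂ : ℂ) ≠ 0 := by exact_mod_cast hd₂pos.ne'
  have hd₃0 : (d₃ : ℂ) ≠ 0 := by exact_mod_cast hd₃pos.ne'
  -- the sum `S`
  have hS : ∑ᶠ χ ∈ principalBlock M G,
      conj ((χ : G → ℂ) J) ^ 2 * (χ : G → ℂ) J / (χ : G → ℂ) 1 =
      1 + (ε₁ : ℂ) / d₁ + (ε₂ : ℂ) / d₂ + (ε₃ : ℂ) / d₃ := by
    rw [hBfin, finsum_mem_coe_finset, Finset.sum_insert hn1, Finset.sum_insert hn2,
      Finset.sum_insert hn3, Finset.sum_singleton, htrivJ, htriv1, hval.1, hval.2.1, hval.2.2,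
      hd₁, hd₂, hd₃]
    simp only [map_intCast, map_one]
    have e₁ : (ε₁ : ℂ) ^ 2 * ε₁ = ε₁ := by rw [← pow_succ]; exact hε₁c
    have e₂ : (ε₂ : ℂ) ^ 2 * ε₂ = ε₂ := by rw [← pow_succ]; exact hε₂c
    have e₃ : (ε₃ : ℂ) ^ 2 * ε₃ = ε₃ := by rw [← pow_succ]; exact hε₃c
    rw [e₁, e₂, e₃]
    ring
  -- orthogonality
  have hR : (1 : ℂ) + (ε₁ : ℂ) * d₁ + (ε₂ : ℂ) * d₂ + (ε₃ : ℂ) * d₃ = 0 := by
    have hJpart : IsPPart 2 J J :=
      ⟨1, mul_one J, Commute.one_right J, ⟨1, by rw [hJ2, pow_one]⟩, by rw [orderOf_one]; norm_num⟩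
    have h1part : IsPPart 2 (1 : G) 1 :=
      ⟨1, mul_one 1, Commute.one_right 1, ⟨0, by rw [orderOf_one, pow_zero]⟩,
        by rw [orderOf_one]; norm_num⟩
    have hnc' : ¬ IsConj J 1 := by
      intro h
      exact hJ1 (isConj_one_left.mp h)
    have h := block_orthogonality hM J 1 J 1 hJpart h1part hnc' (principalBlock M G)
      (isPBlock_principalBlock M G)
    rw [hBfin, finsum_mem_coe_finset, Finset.sum_insert hn1, Finset.sum_insert hn2,
      Finset.sum_insert hn3, Finset.sum_singleton, inv_one, htrivJ, htriv1, hval.1, hval.2.1,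
      hval.2.2, hd₁, hd₂, hd₃] at h
    rw [← h]; ring
  rw [hS] at hcount
  -- move to ℚ
  have hcC : (c : ℂ) = 4 * (Nat.card K : ℂ) := by rw [← h4K]; push_cast; ring
  have hK0 : (Nat.card K : ℂ) ≠ 0 := by exact_mod_cast (Nat.card_pos (α := K)).ne'
  have hmainC : (Nat.card G : ℂ) * (1 + (ε₁ : ℂ) / d₁ + (ε₂ : ℂ) / d₂ + (ε₃ : ℂ) / d₃) *
      (z : ℂ) ^ 2 = 8 * (c : ℂ) ^ 3 := by
    have h1 : (Nat.card K : ℂ) * ((Nat.card G : ℂ) *
        (1 + (ε₁ : ℂ) / d₁ + (ε₂ : ℂ) / d₂ + (ε₃ : ℂ) / d₃) * (z : ℂ) ^ 2) =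
        (Nat.card K : ℂ) * (8 * (c : ℂ) ^ 3) := by
      have : (2 : ℂ) * (c : ℂ) ^ 4 = (Nat.card K : ℂ) * (8 * (c : ℂ) ^ 3) := by
        rw [hcC]; ring
      rw [← this, ← hcount]; ring
    exact mul_left_cancel₀ hK0 h1
  have hmainQ : (Nat.card G : ℚ) * (1 + (ε₁ : ℚ) / d₁ + (ε₂ : ℚ) / d₂ + (ε₃ : ℚ) / d₃) *
      (z : ℚ) ^ 2 = 8 * (c : ℚ) ^ 3 := by
    have : (((Nat.card G : ℚ) * (1 + (ε₁ : ℚ) / d₁ + (ε₂ : ℚ) / d₂ + (ε₃ : ℚ) / d₃) *
      (z : ℚ) ^ 2 : ℚ) : ℂ) = ((8 * (c : ℚ) ^ 3 : ℚ) : ℂ) := by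
      push_cast
      exact hmainC
    exact_mod_cast this
  have hRQ : (1 : ℚ) + (ε₁ : ℚ) * d₁ + (ε₂ : ℚ) * d₂ + (ε₃ : ℚ) * d₃ = 0 := by
    have : (((1 : ℚ) + (ε₁ : ℚ) * d₁ + (ε₂ : ℚ) * d₂ + (ε₃ : ℚ) * d₃ : ℚ) : ℂ) = ((0 : ℚ) : ℂ) := by
      push_cast
      exact hR
    exact_mod_cast this
  have he₁ : (ε₁ : ℚ) ^ 2 = 1 := by rcases hε.1 with h | h <;> rw [h] <;> norm_num
  have he₂ : (ε₂ : ℚ) ^ 2 = 1 := by rcases hε.2.1 with h | h <;> rw [h] <;> norm_num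
  have he₃ : (ε₃ : ℚ) ^ 2 = 1 := by rcases hε.2.2 with h | h <;> rw [h] <;> norm_num
  have hq₁ : (d₁ : ℚ) ≠ 0 := by exact_mod_cast hd₁pos.ne'
  have hq₂ : (d₂ : ℚ) ≠ 0 := by exact_mod_cast hd₂pos.ne'
  have hq₃ : (d₃ : ℚ) ≠ 0 := by exact_mod_cast hd₃pos.ne'
  have hSX : (1 + (ε₁ : ℚ) / d₁ + (ε₂ : ℚ) / d₂ + (ε₃ : ℚ) / d₃) * ((d₁ : ℚ) * d₂ * d₃) =
      ((d₁ : ℚ) + ε₁) * ((d₂ : ℚ) + ε₂) * ((d₃ : ℚ) + ε₃) := by
    field_simp
    linear_combination (-(ε₁ : ℚ) * ε₂ * ε₃) * hRQ + ((ε₂ : ℚ) * ε₃ * d₁) * he₁ +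
      ((ε₁ : ℚ) * ε₃ * d₂) * he₂ + ((ε₁ : ℚ) * ε₂ * d₃) * he₃
  have hc0 : (c : ℚ) ≠ 0 := by exact_mod_cast (Nat.card_pos (α := C)).ne'
  have hz0 : (z : ℚ) ≠ 0 := by
    exact_mod_cast (Nat.card_pos (α := Subgroup.centralizer ((P : Subgroup G) : Set G))).ne'
  have hfinal : (Nat.card G : ℚ) * (((d₁ : ℚ) + ε₁) * ((d₂ : ℚ) + ε₂) * ((d₃ : ℚ) + ε₃)) *
      (z : ℚ) ^ 2 = 8 * ((d₁ : ℚ) * d₂ * d₃) * (c : ℚ) ^ 3 := by
    rw [← hSX]
    linear_combination ((d₁ : ℚ) * d₂ * d₃) * hmainQ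
  have hY : ((d₁ : ℚ) + ε₁) * ((d₂ : ℚ) + ε₂) * ((d₃ : ℚ) + ε₃) ≠ 0 := by
    intro h0
    rw [h0, mul_zero, zero_mul] at hfinal
    have : (8 : ℚ) * ((d₁ : ℚ) * d₂ * d₃) * (c : ℚ) ^ 3 ≠ 0 := by positivity
    exact this hfinal.symm
  rw [eq_div_iff (pow_ne_zero 2 hz0)]
  have e : 8 * (((d₁ : ℚ) * d₂ * d₃) / (((d₁ : ℚ) + ε₁) * ((d₂ : ℚ) + ε₂) * ((d₃ : ℚ) + ε₃))) *
      (c : ℚ) ^ 3 = (8 * ((d₁ : ℚ) * d₂ * d₃) * (c : ℚ) ^ 3) /
        (((d₁ : ℚ) + ε₁) * ((d₂ : ℚ) + ε₂) * ((d₃ : ℚ) + ε₃)) := by ring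
  rw [e, eq_div_iff hY]
  linear_combination hfinal

end main

end Cfsg.Agent.CharLib
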