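import Mathlib
import Cfsg.Agent.Lib.Lead.KleinOrder3
import Cfsg.Agent.Lib.Lead.FrobSchur
import Cfsg.Agent.Lib.Lead.FSForm

/-!
lead: the Frobenius–Schur count of square roots, block by block (for S4480): the sum over the
principal block of `ν(χ) χ(J)` is a local count of square roots.
-/

set_option autoImplicit false

namespace Cfsg.Agent.CharLib

open Cfsg Cfsg.Agent.Lib.Helper24 Cfsg.Agent.Lib.Helper6
open scoped ComplexConjugate

universe u

section sqrtfun

variable {G : Type u} [Group G] [Fintype G]

open Classical in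
/-- The number of square roots of `g`. -/
noncomputable def sqrtFun (g : G) : ℂ :=
  ∑ h : G, if h * h = g then 1 else 0

/-- The Frobenius–Schur indicator of a class function. -/
noncomputable def fsInd (χ : G → ℂ) : ℂ :=
  (Nat.card G : ℂ)⁻¹ * ∑ s : G, χ (s * s)

theorem sqrtFun_isClassFunction : IsClassFunction G (sqrtFun (G := G)) := by
  classical
  intro g k
  unfold sqrtFun
  rw [← Equiv.sum_comp (MulAut.conj k).toEquiv]
  apply Finset.sum_congr rfl
  intro h _
  apply if_congr _ rfl rfl
  simp only [MulEquiv.toEquiv_eq_coe, EquivLike.coe_coe, MulAut.conj_apply]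
  constructor
  · intro h2
    have e : k * h * k⁻¹ * (k * h * k⁻¹) = k * (h * h) * k⁻¹ := by group
    rw [e] at h2
    have := mul_left_cancel (mul_right_cancel h2)
    exact this
  · intro h2
    rw [← h2]; group

theorem classInner_sqrtFun (χ : G → ℂ) :
    classInner (sqrtFun (G := G)) χ = conj (fsInd χ) := by
  classical
  unfold classInner fsInd sqrtFun
  rw [map_mul, map_inv₀, Complex.conj_natCast, map_sum]
  congr 1
  simp_rw [Finset.sum_mul]
  rw [Finset.sum_comm]
  apply Finset.sum_congr rfl
  intro h _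
  simp_rw [ite_mul, one_mul, zero_mul]
  rw [Finset.sum_ite_eq]
  simp

open Classical in
/-- Summing the square root count over a coset `J K`. -/
theorem sum_sqrtFun_eq_count (J : G) (C : Subgroup G) (K : Subgroup C) :
    ∑ᶠ n : K, sqrtFun (J * ((n : C) : G)) =
      ∑ h : G, (if ∃ k ∈ K.map C.subtype, h * h = J * k then (1 : ℂ) else 0) := by
  let _ : Fintype K := Fintype.ofFinite K
  rw [finsum_eq_sum_of_fintype]
  unfold sqrtFun
  rw [Finset.sum_comm]
  apply Finset.sum_congr rfl
  intro a _
  by_cases h : ∃ k ∈ K.map C.subtype, a * a = J * k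
  · rw [if_pos h]
    obtain ⟨k, hk, hab⟩ := h
    obtain ⟨c, hc, rfl⟩ := Subgroup.mem_map.mp hk
    rw [Finset.sum_eq_single (⟨c, hc⟩ : K)]
    · rw [if_pos]
      exact hab
    · intro n _ hne
      rw [if_neg]
      intro h2
      apply hne
      rw [hab] at h2
      have h3 : ((c : G)) = ((n : C) : G) := mul_left_cancel h2
      exact Subtype.ext (Subtype.ext h3.symm)
    · intro h2
      exact absurd (Finset.mem_univ _) h2
  · rw [if_neg h]
    apply Finset.sum_eq_zero
    intro n _
    rw [if_neg]
    intro h2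
    exact h ⟨((n : C) : G), Subgroup.mem_map.mpr ⟨(n : C), n.2, rfl⟩, h2⟩

/-- The square root count summed over the section `J K`, via the principal block. -/
theorem sum_sqrtFun_section {M : Ideal AlgInt} {p : ℕ} [hpp : Fact p.Prime] (hM : IsPModular p M)
    (J : G) (hz : ∃ k : ℕ, orderOf J = p ^ k)
    (hk : ∃ k : ℕ, (pPrimeCore p (Subgroup.centralizer ({J} : Set G))).index = p ^ k) :
    ∑ᶠ n : pPrimeCore p (Subgroup.centralizer ({J} : Set G)),
        sqrtFun (J * ((n : Subgroup.centralizer ({J} : Set G)) : G)) =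
      (Nat.card (pPrimeCore p (Subgroup.centralizer ({J} : Set G))) : ℂ) *
        ∑ᶠ χ ∈ principalBlock M G, conj (fsInd (χ : G → ℂ)) * (χ : G → ℂ) J := by
  classical
  let _ : Fintype (IrrCharacter G) := Fintype.ofFinite _
  set C := Subgroup.centralizer ({J} : Set G) with hC
  set K := pPrimeCore p C with hK
  let _ : Fintype K := Fintype.ofFinite K
  have hexp := classFunction_eq_sum (sqrtFun_isClassFunction (G := G))
  have h1 : ∀ n : K, sqrtFun (J * ((n : C) : G)) =
      ∑ χ : IrrCharacter G, classInner (sqrtFun (G := G)) (χ : G → ℂ) *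
        (χ : G → ℂ) (J * ((n : C) : G)) := by
    intro n
    have := congrFun hexp (J * ((n : C) : G))
    rw [Finset.sum_apply] at this
    rw [this]
    apply Finset.sum_congr rfl
    intro χ _
    rw [Pi.smul_apply, smul_eq_mul]
  rw [finsum_eq_sum_of_fintype, Finset.sum_congr rfl (fun n _ => h1 n), Finset.sum_comm,
    finsum_mem_eq_sum_ite, Finset.mul_sum]
  apply Finset.sum_congr rfl
  intro χ _
  rw [← Finset.mul_sum]
  have h2 : ∑ n : K, (χ : G → ℂ) (J * ((n : C) : G)) =
      ∑ᶠ n : K, (χ : G → ℂ) (J * ((n : C) : G)) := (finsum_eq_sum_of_fintype _).symm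
  rw [h2]
  by_cases hχ : χ ∈ principalBlock M G
  · rw [if_pos hχ, sum_core_section_of_mem hM J hz hk χ hχ, classInner_sqrtFun]
    ring
  · rw [if_neg hχ, sum_core_section_of_not_mem hM J hz hk χ hχ]
    ring

end sqrtfun

end Cfsg.Agent.CharLib
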