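import Mathlib
import Cfsg.Agent.Lib.Lead.KleinSqrt

/-!
lead: facts on the Frobenius–Schur indicator `fsInd` of an irreducible character:
it is `0`, `1` or `-1`, vanishes exactly for non-real characters, and `-1` forces even degree.
-/

set_option autoImplicit false

namespace Cfsg.Agent.CharLib

open Cfsg Cfsg.Agent.Lib.Helper24 Cfsg.Agent.Lib.Helper6
open scoped ComplexConjugate

universe u

section fsind

variable {G : Type u} [Group G] [Fintype G]

theorem fsInd_cases (χ : IrrCharacter G) :
    fsInd (χ : G → ℂ) = 0 ∨ fsInd (χ : G → ℂ) = 1 ∨ fsInd (χ : G → ℂ) = -1 := by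
  obtain ⟨n, ρ, hirr, hρ⟩ := χ.2
  haveI := hirr
  have := (frobenius_schur ρ).1
  rw [hρ] at this
  exact this

theorem fsInd_eq_zero_iff (χ : IrrCharacter G) :
    fsInd (χ : G → ℂ) = 0 ↔ ∃ s : G, ((χ : G → ℂ) s).im ≠ 0 := by
  obtain ⟨n, ρ, hirr, hρ⟩ := χ.2
  haveI := hirr
  have := (frobenius_schur ρ).2
  rw [hρ] at this
  exact this

theorem conj_fsInd (χ : IrrCharacter G) : conj (fsInd (χ : G → ℂ)) = fsInd (χ : G → ℂ) := by
  rcases fsInd_cases χ with h | h | h <;> rw [h] <;> simp

/-- A character with indicator `-1` has even degree. -/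
theorem even_of_fsInd_neg_one (χ : IrrCharacter G) (h : fsInd (χ : G → ℂ) = -1) :
    Even (charDegree (χ : G → ℂ)) := by
  classical
  obtain ⟨n, ρ, hirr, hρ⟩ := χ.2
  haveI := hirr
  have hreal : ∀ g : G, (ρ.character g).im = 0 := by
    intro g
    by_contra hg
    have h0 := (fsInd_eq_zero_iff χ).mpr ⟨g, by rw [← hρ]; exact hg⟩
    rw [h] at h0
    exact absurd h0 (neg_ne_zero.mpr one_ne_zero)
  obtain ⟨⟨A, hA0, hAinv⟩, hAt⟩ := fs_form n ρ hirr hreal
  have hν : (Nat.card G : ℂ)⁻¹ * ∑ s : G, ρ.character (s * s) = -1 := by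
    rw [hρ]; exact h
  have hAT : A.transpose = -A := by
    have := hAt A hAinv
    rw [hν] at this
    rw [this]; simp
  set X : G → Matrix (Fin n) (Fin n) ℂ := fun g => LinearMap.toMatrix' (ρ g) with hX
  have hXmul : ∀ g k, X (g * k) = X g * X k := by
    intro g k
    simp only [hX, map_mul, Module.End.mul_eq_comp, LinearMap.toMatrix'_comp]
  have hX1 : X 1 = 1 := by
    simp only [hX, map_one, Module.End.one_eq_id, LinearMap.toMatrix'_id]
  -- intertwining
  have hint : ∀ g : G, (X g⁻¹).transpose * A = A * X g := by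
    intro g
    have h1 := hAinv g⁻¹
    change (X g⁻¹).transpose * A * X g⁻¹ = A at h1
    calc (X g⁻¹).transpose * A = (X g⁻¹).transpose * A * (X g⁻¹ * X g) := by
          rw [← hXmul, inv_mul_cancel, hX1, mul_one]
      _ = ((X g⁻¹).transpose * A * X g⁻¹) * X g := by simp only [Matrix.mul_assoc]
      _ = A * X g := by rw [h1]
  -- the kernel is invariant
  let W : Subrepresentation ρ := ⟨LinearMap.ker (Matrix.mulVecLin A), by
    intro g v hv
    rw [LinearMap.mem_ker, Matrix.mulVecLin_apply] at hv ⊢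
    have e : ρ g v = (X g).mulVec v := by
      simp only [hX, LinearMap.toMatrix'_mulVec]
    rw [e, Matrix.mulVec_mulVec, ← hint g, ← Matrix.mulVec_mulVec, hv, Matrix.mulVec_zero]⟩
  have hW : W = ⊥ := by
    rcases hirr.eq_bot_or_eq_top W with h1 | h1
    · exact h1
    · exfalso
      apply hA0
      have htop : LinearMap.ker (Matrix.mulVecLin A) = ⊤ :=
        congrArg Subrepresentation.toSubmodule h1
      have hz : Matrix.mulVecLin A = 0 := LinearMap.ker_eq_top.mp htop
      apply Matrix.toLin'.injective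
      rw [Matrix.toLin'_apply', hz, map_zero]
  have hker : LinearMap.ker (Matrix.mulVecLin A) = ⊥ :=
    congrArg Subrepresentation.toSubmodule hW
  have hinj : Function.Injective A.mulVec := by
    have := LinearMap.ker_eq_bot.mp hker
    exact this
  have hdet : A.det ≠ 0 := by
    have hu := (Matrix.mulVec_injective_iff_isUnit).mp hinj
    exact (Matrix.isUnit_iff_isUnit_det A).mp hu |>.ne_zero
  have h2 : A.det = (-1) ^ n * A.det := by
    conv_lhs => rw [← Matrix.det_transpose, hAT, Matrix.det_neg]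
    simp
  have h3 : ((-1 : ℂ)) ^ n = 1 := by
    have : ((-1 : ℂ) ^ n - 1) * A.det = 0 := by linear_combination -h2
    rcases mul_eq_zero.mp this with h4 | h4
    · linear_combination h4
    · exact absurd h4 hdet
  have hn : Even n := by
    rcases Nat.even_or_odd n with he | ho
    · exact he
    · exfalso
      rw [ho.neg_one_pow] at h3
      norm_num at h3
  have hdeg : (χ : G → ℂ) 1 = (n : ℂ) := by
    rw [← hρ]; simp
  rw [charDegree_eq_of_apply_one hdeg]
  exact hn

end fsind

end Cfsg.Agent.CharLib
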