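import Mathlib
import Cfsg.Agent.Lib.Lead.CharFS
/-! Permutation characters, Burnside's lemma, 2-transitivity. -/
set_option autoImplicit false
open Representation Module
open scoped ComplexConjugate
namespace Cfsg.Agent.CharLib
universe u v
variable {G : Type u} [Group G] {X : Type v} [MulAction G X]

/-- The character of a permutation representation counts fixed points. -/
theorem ofMulAction_character [Finite X] (g : G) :
    (Representation.ofMulAction ℂ G X).character g = (Nat.card (MulAction.fixedBy X g) : ℂ) := by
  classical
  let _ := Fintype.ofFinite X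
  unfold Representation.character
  rw [LinearMap.trace_eq_matrix_trace ℂ (MonoidAlgebra.basis X ℂ), Matrix.trace]
  have : ∀ x : X, (LinearMap.toMatrix (MonoidAlgebra.basis X ℂ) (MonoidAlgebra.basis X ℂ)
      (Representation.ofMulAction ℂ G X g)).diag x = if g • x = x then 1 else 0 := by
    intro x
    simp only [Matrix.diag_apply, LinearMap.toMatrix_apply, MonoidAlgebra.basis_apply,
      ofMulAction_single]
    show ((MonoidAlgebra.single (g • x) (1:ℂ)).coeff) x = _
    rw [MonoidAlgebra.coeff_single, Finsupp.single_apply]
  rw [Finset.sum_congr rfl (fun x _ => this x), Finset.sum_boole, Nat.card_eq_fintype_card]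
  congr 1
  rw [Fintype.card_subtype]
  rfl

theorem isCharacter_card_fixedBy [Finite X] :
    IsCharacter G (fun g => (Nat.card (MulAction.fixedBy X g) : ℂ)) := by
  have := isCharacter_of_rep (Representation.ofMulAction ℂ G X)
  convert this using 1
  funext g
  rw [ofMulAction_character]

/-- Burnside's lemma, in `ℂ`. -/
theorem sum_card_fixedBy [Fintype G] [Finite X] :
    ∑ g : G, (Nat.card (MulAction.fixedBy X g) : ℂ) =
      (Nat.card (MulAction.orbitRel.Quotient G X) : ℂ) * (Nat.card G : ℂ) := by
  classical
  let _ := Fintype.ofFinite X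
  let _ : Fintype (MulAction.orbitRel.Quotient G X) := Fintype.ofFinite _
  have h := MulAction.sum_card_fixedBy_eq_card_orbits_mul_card_group G X
  simp only [Nat.card_eq_fintype_card]
  exact_mod_cast h

theorem card_fixedBy_prod [Finite X] (g : G) :
    Nat.card (MulAction.fixedBy (X × X) g) = Nat.card (MulAction.fixedBy X g) * Nat.card (MulAction.fixedBy X g) := by
  rw [← Nat.card_prod]
  apply Nat.card_congr
  refine ⟨fun p => (⟨p.1.1, ?_⟩, ⟨p.1.2, ?_⟩), fun q => ⟨(q.1.1, q.2.1), ?_⟩, ?_, ?_⟩
  · have := p.2
    rw [MulAction.mem_fixedBy] at this ⊢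
    exact congrArg Prod.fst this
  · have := p.2
    rw [MulAction.mem_fixedBy] at this ⊢
    exact congrArg Prod.snd this
  · rw [MulAction.mem_fixedBy]
    have h1 := q.1.2
    have h2 := q.2.2
    rw [MulAction.mem_fixedBy] at h1 h2
    ext
    · exact h1
    · exact h2
  · intro p; rfl
  · intro q; rfl

/-- For a transitive action on a set with at least two points: exactly two orbits on pairs iff
2-transitive. -/
theorem card_orbits_prod_eq_two_iff [Finite X] [MulAction.IsPretransitive G X] (hX : 2 ≤ Nat.card X) :
    Nat.card (MulAction.orbitRel.Quotient G (X × X)) = 2 ↔ MulAction.IsMultiplyPretransitive G X 2 := by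
  classical
  have hfin : Finite (MulAction.orbitRel.Quotient G (X × X)) := inferInstance
  -- the diagonal indicator on orbits
  let d : MulAction.orbitRel.Quotient G (X × X) → Bool :=
    Quotient.lift (fun p : X × X => decide (p.1 = p.2)) (by
      intro p q hpq
      obtain ⟨g, hg⟩ := (MulAction.orbitRel_apply).mp hpq
      simp only [decide_eq_decide]
      rw [← hg]
      simp only [Prod.smul_fst, Prod.smul_snd]
      exact ⟨fun h => (MulAction.injective g) h, fun h => by rw [h]⟩)
  have hd : ∀ p : X × X, d (Quotient.mk'' p) = decide (p.1 = p.2) := fun p => rfl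
  have hnt : Nontrivial X := by
    have : 1 < Nat.card X := hX
    exact (Finite.one_lt_card_iff_nontrivial).mp this
  obtain ⟨x, y, hxy⟩ := exists_pair_ne X
  have hsurj : Function.Surjective d := by
    intro b
    cases b
    · exact ⟨Quotient.mk'' (x, y), by rw [hd]; simpa using hxy⟩
    · exact ⟨Quotient.mk'' (x, x), by rw [hd]; simp⟩
  have hinj_iff : Function.Injective d ↔ MulAction.IsMultiplyPretransitive G X 2 := by
    rw [MulAction.is_two_pretransitive_iff]
    constructor
    · intro hinj a b c e hab hce
      have h1 : d (Quotient.mk'' (a, b)) = d (Quotient.mk'' (c, e)) := by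
        rw [hd, hd]; simp [hab, hce]
      have h2 := hinj h1
      have h3 := Quotient.exact' h2
      obtain ⟨g, hg⟩ := (MulAction.orbitRel_apply).mp h3
      refine ⟨g⁻¹, ?_, ?_⟩
      · have := congrArg Prod.fst hg
        simp only [Prod.smul_fst] at this
        rw [← this, inv_smul_smul]
      · have := congrArg Prod.snd hg
        simp only [Prod.smul_snd] at this
        rw [← this, inv_smul_smul]
    · intro h2 ω₁ ω₂
      induction ω₁ using Quotient.inductionOn' with
      | h p =>
      induction ω₂ using Quotient.inductionOn' with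
      | h q =>
      intro hpq
      rw [hd, hd, decide_eq_decide] at hpq
      apply Quotient.sound'
      rw [MulAction.orbitRel_apply]
      obtain ⟨a, b⟩ := p
      obtain ⟨c, e⟩ := q
      simp only at hpq
      by_cases hab : a = b
      · have hce : c = e := hpq.mp hab
        subst hab; subst hce
        obtain ⟨g, hg⟩ := MulAction.exists_smul_eq G c a
        exact ⟨g, by ext <;> simpa using hg⟩
      · have hce : c ≠ e := fun h => hab (hpq.mpr h)
        obtain ⟨g, hg1, hg2⟩ := h2 hce hab
        exact ⟨g, by ext <;> simpa using by assumption⟩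
  rw [← hinj_iff]
  constructor
  · intro hcard
    have : Nat.card (MulAction.orbitRel.Quotient G (X × X)) ≤ Nat.card Bool := by
      rw [hcard]; simp
    exact (hsurj.bijective_of_nat_card_le this).1
  · intro hinj
    have := Nat.card_congr (Equiv.ofBijective d ⟨hinj, hsurj⟩)
    rw [this]; simp

/-- S0157. -/
theorem isIrrCharacter_card_fixedBy_sub_one_iff [Finite G] [Finite X] [MulAction.IsPretransitive G X]
    (hX : 2 ≤ Nat.card X) :
    IsIrrCharacter G (fun g => (Nat.card (MulAction.fixedBy X g) : ℂ) - 1) ↔
      MulAction.IsMultiplyPretransitive G X 2 := by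
  classical
  let _ := Fintype.ofFinite G
  have hG : (Nat.card G : ℂ) ≠ 0 := card_ne_zero_complex
  set π : G → ℂ := fun g => (Nat.card (MulAction.fixedBy X g) : ℂ) with hπdef
  have hπ : IsCharacter G π := isCharacter_card_fixedBy
  have hne : Nonempty X := by
    have : 0 < Nat.card X := by omega
    exact (Nat.card_pos_iff.mp this).1
  have horb1 : Nat.card (MulAction.orbitRel.Quotient G X) = 1 := by
    have : Unique (MulAction.orbitRel.Quotient G X) :=
      (MulAction.pretransitive_iff_unique_quotient_of_nonempty G X).mp inferInstance |>.some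
    exact Nat.card_unique
  have hsum1 : ∑ g : G, π g = (Nat.card G : ℂ) := by
    rw [sum_card_fixedBy, horb1]; simp
  have hsum2 : ∑ g : G, π g * π g =
      (Nat.card (MulAction.orbitRel.Quotient G (X × X)) : ℂ) * (Nat.card G : ℂ) := by
    rw [← sum_card_fixedBy]
    apply Finset.sum_congr rfl
    intro g _
    rw [card_fixedBy_prod]
    push_cast
    rfl
  have hfun : (fun g => (Nat.card (MulAction.fixedBy X g) : ℂ) - 1) = π - 1 := rfl
  rw [hfun]
  have hnorm : classInner (π - 1) (π - 1) =
      (Nat.card (MulAction.orbitRel.Quotient G (X × X)) : ℂ) - 1 := by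
    simp only [classInner, Pi.sub_apply, Pi.one_apply, map_sub, map_one]
    have hc : ∀ g : G, conj (π g) = π g := fun g => Complex.conj_natCast _
    simp only [hc]
    have : ∑ g : G, (π g - 1) * (π g - 1) =
        ∑ g : G, π g * π g - 2 * ∑ g : G, π g + (Nat.card G : ℂ) := by
      rw [Finset.mul_sum, ← Finset.sum_sub_distrib]
      have : (Nat.card G : ℂ) = ∑ g : G, (1 : ℂ) := by simp [Nat.card_eq_fintype_card]
      rw [this, ← Finset.sum_add_distrib]
      apply Finset.sum_congr rfl
      intro g _
      ring
    rw [this, hsum1, hsum2]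
    field_simp
    ring
  have hπ1 : classInner π 1 = 1 := by
    simp only [classInner, Pi.one_apply, map_one, mul_one]
    rw [hsum1, inv_mul_cancel₀ hG]
  have hchar : IsCharacter G (π - 1) := by
    apply isCharacter_of_classInner_nat
    · exact IsClassFunction.sub (IsCharacter.isClassFunction hπ)
        (IsCharacter.isClassFunction isCharacter_one)
    · intro χ
      rw [classInner_sub_left, classInner_irr (isIrrCharacter_one (G := G)) χ.2]
      by_cases h1 : (1 : G → ℂ) = (χ : G → ℂ)
      · rw [if_pos h1, ← h1, hπ1]
        exact ⟨0, by simp⟩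
      · rw [if_neg h1, sub_zero]
        exact IsCharacter.classInner_nat hπ (IsIrrCharacter.isCharacter χ.2)
  rw [← card_orbits_prod_eq_two_iff hX]
  constructor
  · intro hirr
    have h1 := classInner_irr hirr hirr
    rw [if_pos rfl, hnorm] at h1
    have h2 : (Nat.card (MulAction.orbitRel.Quotient G (X × X)) : ℂ) = 2 := by
      linear_combination h1
    exact_mod_cast h2
  · intro h2
    apply Cfsg.Agent.Lib.Helper6.isIrrCharacter_of_classInner_self_eq_one hchar
    rw [hnorm, h2]
    norm_num

end Cfsg.Agent.CharLib
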