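import Mathlib
import Cfsg.Agent.Lib.Lead.CharBurnside
import Cfsg.Agent.Lib.Lead.SecondMain6
import Cfsg.Agent.Lib.Helper24.LocalRing
import Cfsg.Agent.Lib.Helper6.Knoerr

/-!
lead: the character-theoretic core of Kazarin's theorem on classes of prime power size.
-/

set_option autoImplicit false

namespace Cfsg.Agent.CharLib

open Cfsg Cfsg.Agent.Lib.Helper24 Cfsg.Agent.Lib.Helper6 Representation Module
open scoped ComplexConjugate

universe u

/-- If `ω ≠ 1` and `ω ^ q = 1` then `q = (1 - ω) * β` for an algebraic integer `β`. -/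
theorem natCast_eq_one_sub_mul_of_pow_eq_one {ω : ℂ} {q : ℕ} (hq : 0 < q) (hω1 : ω ≠ 1)
    (hωq : ω ^ q = 1) : ∃ β : ℂ, IsIntegral ℤ β ∧ (q : ℂ) = (1 - ω) * β := by
  have hωint : IsIntegral ℤ ω := IsIntegral.of_pow hq (by rw [hωq]; exact isIntegral_one)
  have hsum : ∑ i ∈ Finset.range q, ω ^ i = 0 := by
    have h := mul_neg_geom_sum ω q
    rw [hωq, sub_self] at h
    have h1 : (1 - ω) ≠ 0 := sub_ne_zero.mpr (Ne.symm hω1)
    exact (mul_eq_zero.mp h).resolve_left h1
  refine ⟨∑ i ∈ Finset.range q, ∑ j ∈ Finset.range i, ω ^ j, ?_, ?_⟩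
  · exact IsIntegral.sum _ (fun i _ => IsIntegral.sum _ (fun j _ => hωint.pow j))
  · rw [Finset.mul_sum]
    have : ∀ i ∈ Finset.range q, (1 - ω) * ∑ j ∈ Finset.range i, ω ^ j = 1 - ω ^ i :=
      fun i _ => mul_neg_geom_sum ω i
    rw [Finset.sum_congr rfl this, Finset.sum_sub_distrib, hsum]
    simp

/-- Core of Kazarin's theorem: a group generated by the conjugates of an element `x` with `x ^ q = 1`
and class size `p ^ a` has order divisible only by `p` and `q`. -/
theorem kazarin_core {G : Type u} [Group G] [Finite G] (x : G) (p q r a : ℕ) (hp : p.Prime)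
    (hq : q.Prime) (hr : r.Prime) (hrp : r ≠ p) (hrq : r ≠ q) (hrG : r ∣ Nat.card G)
    (hxq : x ^ q = 1)
    (hcl : (Subgroup.centralizer ({x} : Set G)).index = p ^ a)
    (hgen : Subgroup.normalClosure ({x} : Set G) = ⊤) : False := by
  classical
  haveI : Fact r.Prime := ⟨hr⟩
  let _ := Fintype.ofFinite G
  let _ := fintypeIrr G
  obtain ⟨M, hM⟩ := exists_isPModular r
  haveI : M.IsPrime := isPrime_of_isPModular hM
  have hM1 : (1 : AlgInt) ∉ M := one_not_mem_of_isPModular hM
  obtain ⟨h, hh⟩ := exists_prime_orderOf_dvd_card' r hrG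
  let χ₀ : IrrCharacter G := ⟨1, isIrrCharacter_one⟩
  have claim : ∀ χ : IrrCharacter G, χ ∈ principalBlock M G → χ ≠ χ₀ →
      ∃ γ : ℂ, IsIntegral ℤ γ ∧ (χ : G → ℂ) 1 * (χ : G → ℂ) h⁻¹ = (p : ℂ) * γ := by
    intro χ hχB hχ
    obtain ⟨n, ρ, hirr, hρ⟩ := χ.2
    haveI := hirr
    have hχ1 : (χ : G → ℂ) 1 = n := by rw [← hρ]; simp
    have hfr : finrank ℂ (Fin n → ℂ) = n := by simp
    have hnpos : 0 < n := by
      have := finrank_pos_of_isIrreducible ρ
      rwa [hfr] at this
    have hnC : (n : ℂ) ≠ 0 := by exact_mod_cast hnpos.ne'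
    by_cases hpn : p ∣ n
    · obtain ⟨m, rfl⟩ := hpn
      refine ⟨(m : ℂ) * (χ : G → ℂ) h⁻¹, ?_, ?_⟩
      · rw [← hρ]
        exact (isIntegral_algebraMap (R := ℤ) (x := (m : ℤ))).mul (isIntegral_char ρ h⁻¹)
      · rw [hχ1]; push_cast; ring
    · exfalso
      have hblock : MemLocalIdeal M (centralChar (fun _ : G => (1:ℂ)) x - centralChar (χ : G → ℂ) x) :=
        hχB x
      have hc1 : centralChar (fun _ : G => (1:ℂ)) x = (p:ℂ)^a := by
        simp [centralChar, hcl]
      have hcop : Nat.Coprime (finrank ℂ (Fin n → ℂ)) (Subgroup.centralizer ({x} : Set G)).index := by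
        rw [hfr, hcl]
        exact ((hp.coprime_iff_not_dvd.mpr hpn).symm).pow_right a
      have hnat_notmem : ∀ k : ℕ, ¬ r ∣ k → ¬ MemLocalIdeal M (k : ℂ) := by
        intro k hk hmem
        have h1 : ((k : ℕ) : AlgInt) ∉ M := natCast_not_mem_of_not_dvd hM hk
        apply h1
        rw [← memLocalIdeal_coe_iff]
        convert hmem using 1
        push_cast; rfl
      have hr_pa : ¬ r ∣ p ^ a := by
        intro hd
        exact hrp ((Nat.prime_dvd_prime_iff_eq hr hp).mp (hr.dvd_of_dvd_pow hd))
      rcases char_eq_zero_or_norm_eq_of_coprime ρ x hcop with h0 | hnorm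
      · have hc2 : centralChar (χ : G → ℂ) x = 0 := by
          rw [centralChar, ← hρ, h0]; simp
        rw [hc1, hc2, sub_zero] at hblock
        apply hnat_notmem (p ^ a) hr_pa
        push_cast
        exact hblock
      · obtain ⟨ω, hω⟩ := exists_scalar_of_norm_char_eq ρ x hnorm
        have hχx : (χ : G → ℂ) x = ω * n := by
          rw [← hρ]
          simp only [Representation.character, hω, map_smul, LinearMap.trace_id, hfr, smul_eq_mul]
        have hωq : ω ^ q = 1 := by
          have h1 : ρ (x ^ q) = 1 := by rw [hxq, map_one]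
          rw [map_pow, hω, smul_pow] at h1
          have h2 := congrArg (LinearMap.trace ℂ (Fin n → ℂ)) h1
          rw [map_smul, show (LinearMap.id : (Fin n → ℂ) →ₗ[ℂ] (Fin n → ℂ)) ^ q = LinearMap.id from
            one_pow q, LinearMap.trace_id, show (1 : Module.End ℂ (Fin n → ℂ)) = LinearMap.id from rfl,
            LinearMap.trace_id, hfr, smul_eq_mul] at h2
          exact mul_right_cancel₀ hnC (by rw [h2, one_mul])
        have hc2 : centralChar (χ : G → ℂ) x = (p:ℂ)^a * ω := by
          rw [centralChar, hχx, hχ1, hcl]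
          push_cast
          field_simp
        by_cases hω1 : ω = 1
        · -- x is in the kernel, hence everything is
          apply hχ
          have hxker : x ∈ (ρ : G →* (Module.End ℂ (Fin n → ℂ))).ker := by
            rw [MonoidHom.mem_ker]
            show ρ x = 1
            rw [hω, hω1, one_smul]; rfl
          have hle : Subgroup.normalClosure ({x} : Set G) ≤ (ρ : G →* _).ker :=
            Subgroup.normalClosure_le_normal (Set.singleton_subset_iff.mpr hxker)
          rw [hgen] at hle
          have hall : ∀ y, ρ y = 1 := fun y => MonoidHom.mem_ker.mp (hle (Subgroup.mem_top y))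
          have hn1 : n = 1 := by
            have := finrank_eq_one_of_forall_eq_one ρ hall
            rw [hfr] at this; exact this
          apply Subtype.ext
          show (χ : G → ℂ) = 1
          rw [← hρ]
          funext y
          simp only [Representation.character, hall y, Pi.one_apply]
          rw [show (1 : Module.End ℂ (Fin n → ℂ)) = LinearMap.id from rfl, LinearMap.trace_id, hfr, hn1]
          simp
        · obtain ⟨β, hβint, hβ⟩ := natCast_eq_one_sub_mul_of_pow_eq_one hq.pos hω1 hωq
          rw [hc1, hc2] at hblock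
          have h1 : MemLocalIdeal M (((p:ℂ)^a - (p:ℂ)^a * ω) * β) :=
            memLocalIdeal_mul_right hblock (memLocalRing_of_algInt ⟨β, hβint⟩ hM1)
          have h2 : ((p:ℂ)^a - (p:ℂ)^a * ω) * β = ((p ^ a * q : ℕ) : ℂ) := by
            push_cast
            rw [hβ]; ring
          rw [h2] at h1
          apply hnat_notmem (p ^ a * q) _ h1
          intro hd
          rcases (Nat.Prime.dvd_mul hr).mp hd with hd1 | hd2
          · exact hr_pa hd1
          · exact hrq ((Nat.prime_dvd_prime_iff_eq hr hq).mp hd2)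
  choose! γ hγint hγ using claim
  -- block orthogonality between `1` and `h`
  have hpp1 : IsPPart r (1 : G) 1 := ⟨1, by simp, Commute.one_left 1, ⟨0, by simp⟩, by
    simp only [orderOf_one, Nat.dvd_one]; exact hr.one_lt.ne'⟩
  have hpph : IsPPart r h h := ⟨1, by simp, Commute.one_right h, ⟨1, by simp [hh]⟩, by
    simp only [orderOf_one, Nat.dvd_one]; exact hr.one_lt.ne'⟩
  have hne : ¬ IsConj (1 : G) h := by
    rw [isConj_one_right]
    intro h1
    rw [h1, orderOf_one] at hh
    exact hr.one_lt.ne' hh.symm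
  have horth := block_orthogonality hM (1 : G) h 1 h hpp1 hpph hne (principalBlock M G)
    (isPBlock_principalBlock M G)
  rw [finsum_mem_eq_sum_ite] at horth
  have h0mem : χ₀ ∈ principalBlock M G := by
    intro g
    show MemLocalIdeal M (centralChar (fun _ : G => (1:ℂ)) g - centralChar (fun _ : G => (1:ℂ)) g)
    rw [sub_self]
    exact memLocalIdeal_zero hM1
  rw [← Finset.add_sum_erase Finset.univ _ (Finset.mem_univ χ₀), if_pos h0mem] at horth
  have h1 : (χ₀ : G → ℂ) 1 * (χ₀ : G → ℂ) h⁻¹ = 1 := by simp [χ₀]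
  have h2 : ∑ χ ∈ Finset.univ.erase χ₀,
      (if χ ∈ principalBlock M G then (χ : G → ℂ) 1 * (χ : G → ℂ) h⁻¹ else 0) =
      (p : ℂ) * ∑ χ ∈ Finset.univ.erase χ₀, (if χ ∈ principalBlock M G then γ χ else 0) := by
    rw [Finset.mul_sum]
    apply Finset.sum_congr rfl
    intro χ hχ
    by_cases hB : χ ∈ principalBlock M G
    · rw [if_pos hB, if_pos hB]
      exact hγ χ hB (Finset.ne_of_mem_erase hχ)
    · rw [if_neg hB, if_neg hB, mul_zero]
  rw [h1, h2] at horth
  have hΓ : IsIntegral ℤ (∑ χ ∈ Finset.univ.erase χ₀, (if χ ∈ principalBlock M G then γ χ else 0)) := by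
    apply IsIntegral.sum
    intro χ hχ
    by_cases hB : χ ∈ principalBlock M G
    · rw [if_pos hB]
      exact hγint χ hB (Finset.ne_of_mem_erase hχ)
    · rw [if_neg hB]
      exact isIntegral_zero
  have hpC : (p : ℂ) ≠ 0 := by exact_mod_cast hp.ne_zero
  have h3 : (1 : ℂ) / (p : ℂ) =
      -(∑ χ ∈ Finset.univ.erase χ₀, (if χ ∈ principalBlock M G then γ χ else 0)) := by
    field_simp
    linear_combination horth
  exact not_isIntegral_one_div_prime hp (h3 ▸ hΓ.neg)

end Cfsg.Agent.CharLib
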