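import Mathlib
import Cfsg.Agent.Lib.Lead.Kazarin1
import Cfsg.Agent.Lib.Helper8.SupNormalizer
import Cfsg.Agent.Lib.Helper21.ClassSize
import Cfsg.Agent.Lib.Helper4.Basic

/-!
lead: Kazarin's theorem: an element whose class has prime power size generates a solvable normal
subgroup.
-/

set_option autoImplicit false

namespace Cfsg.Agent.CharLib

universe u

/-- A nonzero number all of whose prime factors are `p` or `q` is of the form `p ^ α * q ^ β`. -/
theorem exists_eq_pow_mul_pow {n p q : ℕ} (hn : n ≠ 0) (hp : p.Prime) (hq : q.Prime)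
    (h : ∀ r : ℕ, r.Prime → r ∣ n → r = p ∨ r = q) : ∃ α β : ℕ, n = p ^ α * q ^ β := by
  obtain ⟨α, m, hpm, rfl⟩ := Nat.exists_eq_pow_mul_and_not_dvd hn p hp.ne_one
  have hm0 : m ≠ 0 := fun h0 => hn (by rw [h0, mul_zero])
  obtain ⟨β, m', hqm', rfl⟩ := Nat.exists_eq_pow_mul_and_not_dvd hm0 q hq.ne_one
  refine ⟨α, β, ?_⟩
  have hm1 : m' = 1 := by
    by_contra hne
    obtain ⟨r, hr, hrm⟩ := Nat.exists_prime_and_dvd hne
    rcases h r hr (Dvd.dvd.mul_left (Dvd.dvd.mul_left hrm _) _) with rfl | rfl
    · exact hpm (Dvd.dvd.mul_left hrm _)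
    · exact hqm' hrm
  rw [hm1, mul_one]

variable {G : Type u} [Group G]

/-- `|N : H ∩ N|` divides `|G : H|` for `N` normal. -/
theorem relIndex_dvd_index_of_normal_right [Finite G] (H N : Subgroup G) [hN : N.Normal] :
    H.relIndex N ∣ H.index := by
  have hle : H ≤ Subgroup.normalizer (N : Set G) := by
    rw [Subgroup.normalizer_eq_top_iff.mpr hN]; exact le_top
  have h1 := Cfsg.Agent.Lib.Helper4.card_sup_mul_card_inf H N hle
  have h2 : Nat.card (H ⊓ N : Subgroup G) * (H ⊓ N).relIndex N = Nat.card N :=
    Cfsg.Agent.Lib.Helper4.card_mul_relIndex inf_le_right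
  rw [Subgroup.inf_relIndex_right] at h2
  have h3 : Nat.card H * H.relIndex (H ⊔ N) = Nat.card (H ⊔ N : Subgroup G) :=
    Cfsg.Agent.Lib.Helper4.card_mul_relIndex le_sup_left
  have h4 : H.relIndex (H ⊔ N) = H.relIndex N := by
    have hpos1 : 0 < Nat.card H := Nat.card_pos
    have hpos2 : 0 < Nat.card (H ⊓ N : Subgroup G) := Nat.card_pos
    have : Nat.card H * Nat.card (H ⊓ N : Subgroup G) * H.relIndex (H ⊔ N) =
        Nat.card H * Nat.card (H ⊓ N : Subgroup G) * H.relIndex N := by
      calc Nat.card H * Nat.card (H ⊓ N : Subgroup G) * H.relIndex (H ⊔ N)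
          = (Nat.card H * H.relIndex (H ⊔ N)) * Nat.card (H ⊓ N : Subgroup G) := by ring
        _ = Nat.card H * Nat.card N := by rw [h3, h1]
        _ = Nat.card H * Nat.card (H ⊓ N : Subgroup G) * H.relIndex N := by rw [← h2]; ring
    exact Nat.eq_of_mul_eq_mul_left (Nat.mul_pos hpos1 hpos2) this
  rw [← h4]
  exact Subgroup.relIndex_dvd_index_of_le le_sup_left

/-- Centralizer index in a normal subgroup divides the centralizer index in the group. -/
theorem index_centralizer_subgroup_dvd [Finite G] (N : Subgroup G) [N.Normal] (y : N) :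
    (Subgroup.centralizer ({y} : Set N)).index ∣ (Subgroup.centralizer ({(y : G)} : Set G)).index := by
  have h1 : Subgroup.centralizer ({y} : Set N) =
      (Subgroup.centralizer ({(y : G)} : Set G)).subgroupOf N := by
    ext z
    rw [Subgroup.mem_subgroupOf, Subgroup.mem_centralizer_iff, Subgroup.mem_centralizer_iff]
    constructor
    · intro h w hw
      rw [Set.mem_singleton_iff] at hw
      subst hw
      have := h y (Set.mem_singleton y)
      exact congrArg Subtype.val this
    · intro h w hw
      rw [Set.mem_singleton_iff] at hw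
      subst hw
      apply Subtype.ext
      exact h (w : G) (Set.mem_singleton _)
  rw [h1]
  exact relIndex_dvd_index_of_normal_right _ N

theorem index_centralizer_conj_kz (g x : G) :
    (Subgroup.centralizer ({g * x * g⁻¹} : Set G)).index =
      (Subgroup.centralizer ({x} : Set G)).index := by
  rw [Cfsg.Agent.Lib.Helper21.index_centralizer_eq_ncard_carrier,
    Cfsg.Agent.Lib.Helper21.index_centralizer_eq_ncard_carrier]
  congr 2
  rw [ConjClasses.mk_eq_mk_iff_isConj, isConj_comm, isConj_iff]
  exact ⟨g, rfl⟩

end Cfsg.Agent.CharLib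

namespace Cfsg.Agent.CharLib

universe u

/-- Finitely many normal solvable subgroups are contained in a single normal solvable subgroup. -/
theorem exists_normal_solvable_of_forall {H : Type u} [Group H] {ι : Type*} (s : Finset ι)
    (S : ι → Subgroup H) (hn : ∀ i, (S i).Normal) (hs : ∀ i, Group.IsSolvable (S i)) :
    ∃ T : Subgroup H, T.Normal ∧ Group.IsSolvable T ∧ ∀ i ∈ s, S i ≤ T := by
  classical
  induction s using Finset.induction_on with
  | empty => exact ⟨⊥, inferInstance, inferInstance, by simp⟩
  | insert i s hi ih =>
    obtain ⟨T, hTn, hTs, hT⟩ := ih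
    haveI := hTn
    haveI := hn i
    refine ⟨T ⊔ S i, inferInstance, ?_, ?_⟩
    · apply Cfsg.Agent.Lib.Helper8.isSolvable_sup_of_le_normalizer hTs (hs i)
      rw [Subgroup.normalizer_eq_top_iff.mpr hTn]; exact le_top
    · intro j hj
      rcases Finset.mem_insert.mp hj with rfl | hj
      · exact le_sup_right
      · exact (hT j hj).trans le_sup_left

/-- **Kazarin's theorem**, inductive form. -/
theorem kazarin_aux (n : ℕ) : ∀ (G : Type u) [Group G] [Finite G], Nat.card G = n →
    ∀ (m : ℕ) (x : G), orderOf x = m → ∀ (p a : ℕ), p.Prime →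
    (Subgroup.centralizer ({x} : Set G)).index = p ^ a →
    Group.IsSolvable (Subgroup.normalClosure ({x} : Set G)) := by
  induction n using Nat.strong_induction_on with
  | _ n ih =>
  intro G _ _ hcard m
  induction m using Nat.strong_induction_on with
  | _ m ihm =>
  intro x hxm p a hp hcl
  classical
  by_cases hrad : ∃ K : Subgroup G, K.Normal ∧ K ≠ ⊥ ∧ Group.IsSolvable K
  · obtain ⟨K, hKn, hKne, hKs⟩ := hrad
    haveI := hKn
    have hcardQ : Nat.card (G ⧸ K) < n := by
      have h1 := Subgroup.card_eq_card_quotient_mul_card_subgroup K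
      have h2 : 1 < Nat.card K := by
        rw [Subgroup.one_lt_card_iff_ne_bot]; exact hKne
      have h3 : 0 < Nat.card (G ⧸ K) := Nat.card_pos
      rw [← hcard, h1]; nlinarith
    let f := QuotientGroup.mk' K
    have hf : Function.Surjective f := QuotientGroup.mk'_surjective K
    have hcl' : ∃ b, (Subgroup.centralizer ({f x} : Set (G ⧸ K))).index = p ^ b := by
      have h1 : (Subgroup.centralizer ({x} : Set G)).map f ≤
          Subgroup.centralizer ({f x} : Set (G ⧸ K)) := by
        rintro _ ⟨c, hc, rfl⟩
        rw [Subgroup.mem_centralizer_iff]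
        intro w hw
        rw [Set.mem_singleton_iff] at hw; subst hw
        have := (Subgroup.mem_centralizer_iff.mp hc) x (Set.mem_singleton x)
        rw [← map_mul, ← map_mul, this]
      have h2 := Subgroup.index_dvd_of_le h1
      have h3 := Subgroup.index_map_dvd (Subgroup.centralizer ({x} : Set G)) hf
      have h4 := (h2.trans h3)
      rw [hcl] at h4
      obtain ⟨b, _, hb⟩ := (Nat.dvd_prime_pow hp).mp h4
      exact ⟨b, hb⟩
    obtain ⟨b, hb⟩ := hcl'
    have hsolvQ := ih _ hcardQ (G ⧸ K) rfl _ (f x) rfl p b hp hb
    have hmap : (Subgroup.normalClosure ({x} : Set G)).map f =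
        Subgroup.normalClosure ({f x} : Set (G ⧸ K)) := by
      rw [Subgroup.map_normalClosure _ f hf, Set.image_singleton]
    rw [← hmap] at hsolvQ
    set N := Subgroup.normalClosure ({x} : Set G) with hNdef
    haveI : Group.IsSolvable ↥(K.subgroupOf N) := by
      haveI := hKs
      refine Group.isSolvable_of_isSolvable_injective (f := (N.subtype.subgroupComap K)) ?_
      intro u v huv
      apply Subtype.ext
      apply Subtype.ext
      have := congrArg Subtype.val huv
      exact this
    haveI := hsolvQ
    refine Group.isSolvable_of_ker_le_range (K.subgroupOf N).subtype (f.subgroupMap N) ?_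
    intro y hy
    rw [MonoidHom.mem_ker] at hy
    have h1 : f (y : G) = 1 := by
      have := congrArg Subtype.val hy
      exact this
    rw [Subgroup.range_subtype, Subgroup.mem_subgroupOf]
    exact (QuotientGroup.eq_one_iff (y : G)).mp h1
  · push_neg at hrad
    by_cases hsolv : Group.IsSolvable G
    · exact inferInstance
    by_cases hN : Subgroup.normalClosure ({x} : Set G) = ⊤
    · exfalso
      have hx1 : x ≠ 1 := by
        rintro rfl
        apply hsolv
        have hle : Subgroup.normalClosure ({1} : Set G) ≤ ⊥ :=
          Subgroup.normalClosure_le_normal (by simp)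
        rw [hN] at hle
        haveI : Subsingleton G := by
          constructor
          intro u v
          have hu : u ∈ (⊥ : Subgroup G) := hle (Subgroup.mem_top u)
          have hv : v ∈ (⊥ : Subgroup G) := hle (Subgroup.mem_top v)
          rw [Subgroup.mem_bot] at hu hv
          rw [hu, hv]
        exact inferInstance
      obtain ⟨q, hq, hqx⟩ := Nat.exists_prime_and_dvd (fun h => hx1 (orderOf_eq_one_iff.mp h))
      have hxq : x ^ q = 1 := by
        by_contra hne
        have hord : orderOf (x ^ q) = orderOf x / q := orderOf_pow_of_dvd hq.ne_zero hqx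
        have hlt : orderOf (x ^ q) < m := by
          rw [hord, ← hxm]
          exact Nat.div_lt_self (orderOf_pos x) hq.one_lt
        have hle : Subgroup.centralizer ({x} : Set G) ≤ Subgroup.centralizer ({x ^ q} : Set G) := by
          intro c hc
          rw [Subgroup.mem_centralizer_iff] at hc ⊢
          intro w hw
          rw [Set.mem_singleton_iff] at hw; subst hw
          have h1 : Commute x c := hc x (Set.mem_singleton x)
          exact (h1.pow_left q).eq
        have h4 := Subgroup.index_dvd_of_le hle
        rw [hcl] at h4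
        obtain ⟨b, _, hb⟩ := (Nat.dvd_prime_pow hp).mp h4
        have hs := ihm _ hlt (x ^ q) rfl p b hp hb
        have hbot : Subgroup.normalClosure ({x ^ q} : Set G) = ⊥ := by
          by_contra hnb
          exact hrad _ Subgroup.normalClosure_normal hnb hs
        have hmem : x ^ q ∈ Subgroup.normalClosure ({x ^ q} : Set G) :=
          Subgroup.subset_normalClosure (Set.mem_singleton _)
        rw [hbot, Subgroup.mem_bot] at hmem
        exact hne hmem
      have hex : ∃ r : ℕ, r.Prime ∧ r ∣ Nat.card G ∧ r ≠ p ∧ r ≠ q := by
        by_contra hno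
        push_neg at hno
        apply hsolv
        have hall : ∀ r : ℕ, r.Prime → r ∣ Nat.card G → r = p ∨ r = q := by
          intro r hr hrd
          by_cases hrp : r = p
          · exact Or.inl hrp
          · exact Or.inr (hno r hr hrd hrp)
        obtain ⟨α, β, hαβ⟩ := exists_eq_pow_mul_pow (Nat.card_pos (α := G)).ne' hp hq hall
        exact isSolvable_of_card_pq p q α β hp hq hαβ
      obtain ⟨r, hr, hrG, hrp, hrq⟩ := hex
      exact kazarin_core x p q r a hp hq hr hrp hrq hrG hxq hcl hN
    · set N := Subgroup.normalClosure ({x} : Set G) with hNdef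
      have hcardN : Nat.card N < n := by
        rw [← hcard]
        apply lt_of_le_of_ne (Subgroup.card_le_card_group N)
        intro h
        exact hN ((Subgroup.card_eq_iff_eq_top N).mp h)
      haveI hNn : N.Normal := Subgroup.normalClosure_normal
      have hxN : x ∈ N := Subgroup.subset_normalClosure (Set.mem_singleton x)
      let xg : G → N := fun g => ⟨g * x * g⁻¹, hNn.conj_mem x hxN g⟩
      have hsolv_g : ∀ g : G, Group.IsSolvable (Subgroup.normalClosure ({xg g} : Set N)) := by
        intro g
        have h1 := index_centralizer_subgroup_dvd N (xg g)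
        have h2 : (Subgroup.centralizer ({((xg g : N) : G)} : Set G)).index = p ^ a := by
          show (Subgroup.centralizer ({g * x * g⁻¹} : Set G)).index = p ^ a
          rw [index_centralizer_conj_kz, hcl]
        rw [h2] at h1
        obtain ⟨b, _, hb⟩ := (Nat.dvd_prime_pow hp).mp h1
        exact ih _ hcardN N rfl _ (xg g) rfl p b hp hb
      let _ := Fintype.ofFinite G
      obtain ⟨T, hTn, hTs, hT⟩ := exists_normal_solvable_of_forall (Finset.univ : Finset G)
        (fun g => Subgroup.normalClosure ({xg g} : Set N))
        (fun g => Subgroup.normalClosure_normal) hsolv_g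
      have hmemT : ∀ (y : G) (hy : y ∈ N), (⟨y, hy⟩ : N) ∈ T := by
        intro y hy
        refine Subgroup.closure_induction (p := fun y hy => (⟨y, hy⟩ : N) ∈ T) ?_ ?_ ?_ ?_ hy
        · intro z hz
          rw [Group.mem_conjugatesOfSet_iff] at hz
          obtain ⟨w, hw, hwz⟩ := hz
          rw [Set.mem_singleton_iff] at hw; subst hw
          obtain ⟨g, hg⟩ := isConj_iff.mp hwz
          have h1 : xg g ∈ Subgroup.normalClosure ({xg g} : Set N) :=
            Subgroup.subset_normalClosure (Set.mem_singleton _)
          have h2 := hT g (Finset.mem_univ g) h1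
          convert h2 using 1
          apply Subtype.ext
          exact hg.symm
        · exact T.one_mem
        · intro u v hu hv hu' hv'
          exact T.mul_mem hu' hv'
        · intro u hu hu'
          exact T.inv_mem hu'
      have hTtop : T = ⊤ := by
        rw [eq_top_iff]
        intro y _
        exact hmemT y.1 y.2
      haveI := hTs
      refine Group.isSolvable_of_surjective (f := T.subtype) ?_
      intro y
      exact ⟨⟨y, by rw [hTtop]; trivial⟩, rfl⟩

/-- **Kazarin's theorem**: if the conjugacy class of `x` has prime power size, the normal closure of `x`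
is solvable. -/
theorem kazarin {G : Type u} [Group G] [Finite G] (x : G) (p a : ℕ) (hp : p.Prime)
    (hcl : (Subgroup.centralizer ({x} : Set G)).index = p ^ a) :
    Group.IsSolvable (Subgroup.normalClosure ({x} : Set G)) :=
  kazarin_aux _ G rfl _ x rfl p a hp hcl

end Cfsg.Agent.CharLib
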