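import Mathlib
import Cfsg.Agent.Lib.Lead.Kazarin2
import Cfsg.Agent.Lib.Helper8.HallSCN1
import Cfsg.Agent.Lib.Helper12.Cores
import Cfsg.Agent.Lib.Helper16.PReduced

/-!
lead: consequences of Kazarin's theorem: if `O_p(G) = 1` and `|x^G|` is a power of `p` then the normal
closure of `x` is abelian; in general conjugates of `x` commute modulo `O_p(G)`.
-/

set_option autoImplicit false

namespace Cfsg.Agent.CharLib

open Cfsg

universe u

variable {G : Type u} [Group G] [Finite G]

/-- A normal subgroup of order prime to `p` is centralized by an element with class size `p ^ a`. -/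
theorem le_centralizer_of_coprime_of_class_prime_pow (p a : ℕ) (x : G)
    (hcl : (Subgroup.centralizer ({x} : Set G)).index = p ^ a) (K : Subgroup G) [K.Normal]
    (hK : (Nat.card K).Coprime p) : K ≤ Subgroup.centralizer ({x} : Set G) := by
  have h1 := relIndex_dvd_index_of_normal_right (Subgroup.centralizer ({x} : Set G)) K
  rw [hcl] at h1
  have h2 : (Subgroup.centralizer ({x} : Set G)).relIndex K ∣ Nat.card K := Subgroup.relIndex_dvd_card _ _
  have h3 : (Subgroup.centralizer ({x} : Set G)).relIndex K = 1 := by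
    have hc : Nat.Coprime (Nat.card K) (p ^ a) := hK.pow_right a
    exact Nat.eq_one_of_dvd_coprimes hc h2 h1
  exact Subgroup.relIndex_eq_one.mp h3

/-- If `O_p(G) = 1` and the class of `x` has `p`-power size, the normal closure of `x` is abelian. -/
theorem normalClosure_comm_of_pCore_eq_bot (p a : ℕ) [hp : Fact p.Prime] (x : G)
    (hcl : (Subgroup.centralizer ({x} : Set G)).index = p ^ a) (hbot : Cfsg.pCore p G = ⊥) :
    ∀ u ∈ Subgroup.normalClosure ({x} : Set G), ∀ v ∈ Subgroup.normalClosure ({x} : Set G),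
      u * v = v * u := by
  classical
  set N := Subgroup.normalClosure ({x} : Set G) with hNdef
  haveI hNn : N.Normal := Subgroup.normalClosure_normal
  haveI hNs : Group.IsSolvable N := kazarin x p a hp.out hcl
  -- every `O_q(N)` is central in `N`
  have hcore : ∀ q : Nat.Primes, Cfsg.pCore (q : ℕ) N ≤ Subgroup.center N := by
    intro q
    haveI : Fact (q : ℕ).Prime := ⟨q.2⟩
    haveI hchar : (Cfsg.pCore (q : ℕ) N).Characteristic :=
      Cfsg.Agent.Lib.Helper12.pCore_characteristic' (q : ℕ)
    set Oq := Cfsg.pCore (q : ℕ) N with hOq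
    set OqG : Subgroup G := Oq.map N.subtype with hOqG
    haveI hOqGn : OqG.Normal := ConjAct.normal_of_characteristic_of_normal
    have hOqp : IsPGroup (q : ℕ) Oq := Cfsg.Agent.Lib.Helper12.pCore_isPGroup' (q : ℕ)
    have hOqGp : IsPGroup (q : ℕ) OqG := hOqp.map N.subtype
    by_cases hqp : (q : ℕ) = p
    · have h1 : OqG ≤ Cfsg.pCore p G :=
        Cfsg.Agent.Lib.Helper12.le_pCore' p OqG hOqGn (hqp ▸ hOqGp)
      rw [hbot] at h1
      intro y hy
      have h2 : (y : G) ∈ OqG := ⟨y, hy, rfl⟩
      have h3 := h1 h2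
      rw [Subgroup.mem_bot] at h3
      have : y = 1 := Subtype.ext h3
      rw [this]
      exact Subgroup.one_mem _
    · have hcop : (Nat.card OqG).Coprime p := by
        obtain ⟨k, hk⟩ := IsPGroup.iff_card.mp hOqGp
        rw [hk]
        apply Nat.Coprime.pow_left
        exact (Nat.coprime_primes q.2 hp.out).mpr hqp
      -- every conjugate of `x` centralizes `OqG`
      have hconj : ∀ g : G, OqG ≤ Subgroup.centralizer ({g * x * g⁻¹} : Set G) := by
        intro g
        apply le_centralizer_of_coprime_of_class_prime_pow p a (g * x * g⁻¹) _ OqG hcop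
        rw [index_centralizer_conj_kz, hcl]
      have hNle : N ≤ Subgroup.centralizer (OqG : Set G) := by
        rw [hNdef, Subgroup.normalClosure]
        rw [Subgroup.closure_le]
        intro z hz
        rw [Group.mem_conjugatesOfSet_iff] at hz
        obtain ⟨w, hw, hwz⟩ := hz
        rw [Set.mem_singleton_iff] at hw; subst hw
        obtain ⟨g, hg⟩ := isConj_iff.mp hwz
        rw [SetLike.mem_coe, Subgroup.mem_centralizer_iff]
        intro c hc
        have h1 := hconj g hc
        rw [Subgroup.mem_centralizer_iff] at h1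
        have h2 := h1 (g * w * g⁻¹) (Set.mem_singleton _)
        rw [← hg]
        exact h2.symm
      intro y hy
      rw [Subgroup.mem_center_iff]
      intro n
      apply Subtype.ext
      have h2 : (y : G) ∈ OqG := ⟨y, hy, rfl⟩
      have h3 := hNle n.2
      rw [Subgroup.mem_centralizer_iff] at h3
      have h4 := h3 (y : G) h2
      show (n : G) * (y : G) = (y : G) * (n : G)
      exact h4.symm
  have hF : Cfsg.fittingSubgroup N ≤ Subgroup.center N := by
    rw [Cfsg.Agent.Lib.Helper1.fittingSubgroup_eq_iSup_pCore]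
    exact iSup_le hcore
  have hcent : Subgroup.centralizer (Cfsg.fittingSubgroup N : Set N) = ⊤ := by
    rw [eq_top_iff]
    intro n _
    rw [Subgroup.mem_centralizer_iff]
    intro f hf
    have := hF hf
    rw [Subgroup.mem_center_iff] at this
    exact (this n).symm
  have hFtop : Cfsg.fittingSubgroup N = ⊤ := by
    have := Cfsg.Agent.Lib.Helper8.HallSCN.centralizer_fitting_le (G := N)
    rw [hcent] at this
    exact top_le_iff.mp this
  intro u hu v hv
  have h1 : (⟨u, hu⟩ : N) ∈ Subgroup.center N := hF (by rw [hFtop]; trivial)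
  rw [Subgroup.mem_center_iff] at h1
  have h2 := h1 ⟨v, hv⟩
  have h3 := congrArg Subtype.val h2
  exact h3.symm

/-- Conjugates of an element with `p`-power class size commute modulo `O_p(G)`. -/
theorem commutator_conj_mem_pCore (p : ℕ) [hp : Fact p.Prime] (x : G) (a : ℕ)
    (hcl : (Subgroup.centralizer ({x} : Set G)).index = p ^ a) (g h : G) :
    (g * x * g⁻¹) * (h * x * h⁻¹) * (g * x * g⁻¹)⁻¹ * (h * x * h⁻¹)⁻¹ ∈ Cfsg.pCore p G := by
  haveI hCn : (Cfsg.pCore p G).Normal := Cfsg.Agent.Lib.Helper1.pCore_normal p G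
  set C := Cfsg.pCore p G with hC
  let f := QuotientGroup.mk' C
  have hf : Function.Surjective f := QuotientGroup.mk'_surjective C
  have hbot : Cfsg.pCore p (G ⧸ C) = ⊥ := by
    rw [Cfsg.Agent.Lib.Helper16.pCore_quotient_eq_bot_iff]
    intro D hD hDp
    apply Cfsg.Agent.Lib.Helper12.le_pCore' p D hD
    intro d
    obtain ⟨k, hk⟩ := hDp d d.2
    have hCp : IsPGroup p C := Cfsg.Agent.Lib.Helper12.pCore_isPGroup' p
    obtain ⟨j, hj⟩ := hCp ⟨_, hk⟩
    refine ⟨k + j, ?_⟩
    apply Subtype.ext
    have hj' := congrArg Subtype.val hj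
    simp only [Subgroup.coe_pow, Subgroup.coe_one] at hj' ⊢
    rw [pow_add, pow_mul]
    exact hj'
  obtain ⟨b, hb⟩ : ∃ b, (Subgroup.centralizer ({f x} : Set (G ⧸ C))).index = p ^ b := by
    have h1 : (Subgroup.centralizer ({x} : Set G)).map f ≤
        Subgroup.centralizer ({f x} : Set (G ⧸ C)) := by
      rintro _ ⟨c, hc, rfl⟩
      rw [Subgroup.mem_centralizer_iff]
      intro w hw
      rw [Set.mem_singleton_iff] at hw; subst hw
      have := (Subgroup.mem_centralizer_iff.mp hc) x (Set.mem_singleton x)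
      rw [← map_mul, ← map_mul, this]
    have h2 := Subgroup.index_dvd_of_le h1
    have h3 := Subgroup.index_map_dvd (Subgroup.centralizer ({x} : Set G)) hf
    have h4 := (h2.trans h3)
    rw [hcl] at h4
    obtain ⟨b, _, hb⟩ := (Nat.dvd_prime_pow hp.out).mp h4
    exact ⟨b, hb⟩
  have hcomm := normalClosure_comm_of_pCore_eq_bot p b (f x) hb hbot
  have hmem : ∀ k : G, f (k * x * k⁻¹) ∈ Subgroup.normalClosure ({f x} : Set (G ⧸ C)) := by
    intro k
    have h1 : f x ∈ Subgroup.normalClosure ({f x} : Set (G ⧸ C)) :=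
      Subgroup.subset_normalClosure (Set.mem_singleton _)
    have h2 := (Subgroup.normalClosure_normal (s := ({f x} : Set (G ⧸ C)))).conj_mem (f x) h1 (f k)
    rw [map_mul, map_mul, map_inv]
    exact h2
  have h1 := hcomm _ (hmem g) _ (hmem h)
  rw [← QuotientGroup.eq_one_iff]
  show f (g * x * g⁻¹ * (h * x * h⁻¹) * (g * x * g⁻¹)⁻¹ * (h * x * h⁻¹)⁻¹) = 1
  rw [map_mul, map_mul, map_mul, h1, map_inv, map_inv]
  group

end Cfsg.Agent.CharLib
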