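import Mathlib
import Cfsg.Prelude.Def_GeometricClasses
import Cfsg.Agent.Lib.Helper20.AschDefs

/-!
OMEGA-EVEN project (planner lead): the five rows S5826 (Omega_8^-), S5847 (Omega_10^+), S5850 (Omega_10^-), S5871 (Omega_12^+),
S5874 (Omega_12^-) "every maximal subgroup of Omega is of a listed geometric type or residual", ALL q (odd and even).
Shared definitions.  Paper plan: `notes/OmEven_plan.md`.

`ECtx Q H`: `Q` a non-degenerate quadratic form on `F^n` (frozen predicate, any characteristic), `H` a group of isometries of `Q`.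
`EGeo Q H`: `H` lies in a member of one of the GENEROUS geometric classes (un-intersected stabilisers; rows refine them).
-/

set_option autoImplicit false
set_option linter.unusedSectionVars false
set_option linter.unusedVariables false

namespace Cfsg.Agent.Lib.Lead.OE
open Matrix Cfsg Cfsg.Geo Cfsg.Agent.Lib.Helper20.Asch
open scoped Kronecker

variable {F : Type*} [Field F] [Fintype F] {n : ℕ}

/-- the standing hypotheses of the generic theorem -/
structure ECtx (Q : (Fin n → F) → F) (H : Subgroup (GL (Fin n) F)) : Prop where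
  nd : IsNondegenerateQuadraticForm Q
  le : H ≤ isometryGroup F Q

/-- the pure tensor `x₁ ⊗ x₂` in the coordinates `(e, P)` -/
def pureT {n₁ n₂ : ℕ} (e : Fin n ≃ Fin n₁ × Fin n₂) (P : GL (Fin n) F) (x₁ : Fin n₁ → F)
    (x₂ : Fin n₂ → F) : Fin n → F :=
  (P : Matrix (Fin n) (Fin n) F) *ᵥ ((fun a : Fin n₁ × Fin n₂ => x₁ a.1 * x₂ a.2) ∘ e)

/-- the pure tensor `x 0 ⊗ ⋯ ⊗ x (t-1)` in the coordinates `(e, P)` -/
def pureP {k t : ℕ} (e : Fin n ≃ (Fin t → Fin k)) (P : GL (Fin n) F) (x : Fin t → Fin k → F) :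
    Fin n → F :=
  (P : Matrix (Fin n) (Fin n) F) *ᵥ ((fun a : Fin t → Fin k => ∏ i, x i (a i)) ∘ e)

/-- `H` lies in a member of one of the generous geometric classes for the isometry group of `Q` (all characteristics). -/
inductive EGeo (Q : (Fin n → F) → F) (H : Subgroup (GL (Fin n) F)) : Prop
  /-- a non-zero totally singular subspace -/
  | ts (W : Submodule F (Fin n → F)) (h0 : W ≠ ⊥) (hts : IsTotallySingularQuad Q W)
      (hH : H ≤ subspaceStabilizer W)
  /-- a proper non-zero subspace, non-degenerate for the polar form -/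
  | nd (W : Submodule F (Fin n → F)) (h0 : W ≠ ⊥) (h1 : W ≠ ⊤)
      (hnd : IsNondegenerateOn (QuadraticMap.polar Q) W) (hH : H ≤ subspaceStabilizer W)
  /-- `q` even: a non-singular vector -/
  | nsv (heven : ¬ Odd (Fintype.card F)) (v : Fin n → F) (hv : Q v ≠ 0)
      (hH : H ≤ subspaceStabilizer (Submodule.span F {v}))
  /-- an orthogonal decomposition into pairwise isometric non-degenerate `k`-spaces -/
  | dec {t : ℕ} (k : ℕ) (D : Fin t → Submodule F (Fin n → F)) (hD : IsOrthogonalMDecomposition Q k D)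
      (hH : H ≤ decompositionStabilizer D)
  /-- a pair of complementary totally singular subspaces -/
  | pair (k : ℕ) (D : Fin 2 → Submodule F (Fin n → F)) (hD : IsMDecomposition k D)
      (hts : ∀ i, IsTotallySingularQuad Q (D i)) (hH : H ≤ decompositionStabilizer D)
  /-- a self-adjoint field subalgebra of prime degree -/
  | fsa (r : ℕ) (K : Subalgebra F (Matrix (Fin n) (Fin n) F)) (hr : r.Prime)
      (hK : IsFieldSubalgebra r K) (hsa : IsSelfAdjointFor (QuadraticMap.polar Q) K)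
      (hH : H ≤ subalgebraNormalizer K)
  /-- a field subalgebra of degree 2, adjoint-closed, not self-adjoint, acting by similitudes of `Q` (unitary type) -/
  | funi (K : Subalgebra F (Matrix (Fin n) (Fin n) F)) (hK : IsFieldSubalgebra 2 K)
      (hac : IsAdjointClosedFor (QuadraticMap.polar Q) K)
      (hnsa : ¬ IsSelfAdjointFor (QuadraticMap.polar Q) K)
      (hsim : ∀ k ∈ K, ∃ c : F, ∀ v : Fin n → F, Q (k *ᵥ v) = c * Q v)
      (hH : H ≤ subalgebraNormalizer K)
  /-- `q` odd: tensor product of two symmetric forms, both factors of dimension at least 3 -/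
  | tsym (hodd : Odd (Fintype.card F)) (n₁ n₂ : ℕ) (e : Fin n ≃ Fin n₁ × Fin n₂) (P : GL (Fin n) F)
      (f₁ : (Fin n₁ → F) → (Fin n₁ → F) → F) (f₂ : (Fin n₂ → F) → (Fin n₂ → F) → F)
      (h1 : 3 ≤ n₁) (h2 : 3 ≤ n₂) (hf₁ : IsSymmetricForm f₁) (hf₂ : IsSymmetricForm f₂)
      (hten : IsTensorFormStructure id (QuadraticMap.polar Q) f₁ f₂ e P)
      (hH : H ≤ tensorProductSubgroup n₁ n₂ e P)
  /-- tensor product of two symplectic forms, `Q` vanishing on the pure tensors (all `q`) -/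
  | talt (n₁ n₂ : ℕ) (e : Fin n ≃ Fin n₁ × Fin n₂) (P : GL (Fin n) F)
      (f₁ : (Fin n₁ → F) → (Fin n₁ → F) → F) (f₂ : (Fin n₂ → F) → (Fin n₂ → F) → F)
      (h1 : 2 ≤ n₁) (h2 : 2 ≤ n₂) (hf₁ : IsSymplecticForm f₁) (hf₂ : IsSymplecticForm f₂)
      (hten : IsTensorFormStructure id (QuadraticMap.polar Q) f₁ f₂ e P)
      (hpure : ∀ (x₁ : Fin n₁ → F) (x₂ : Fin n₂ → F), Q (pureT e P x₁ x₂) = 0)
      (hH : H ≤ tensorProductSubgroup n₁ n₂ e P)
  /-- a subfield group whose `F₀`-structure carries a non-zero multiple of `Q` -/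
  | sub (F₀ : Subfield F) (r : ℕ) (P : GL (Fin n) F) (ζ : F) (hr : r.Prime)
      (hcard : Fintype.card F = Nat.card F₀ ^ r) (hζ : ζ ≠ 0)
      (hrat : IsQuadFormRationalStructure (fun v : Fin n → F => ζ * Q v) F₀ P)
      (hH : H ≤ subfieldSubgroup F₀ P)
  /-- a normal absolutely irreducible 2-group of symplectic type with centre of order 2 (`n = 2^k`, `q` odd) -/
  | c6 (R : Subgroup (GL (Fin n) F)) (k : ℕ) (hRH : R ≤ H) (hnorm : NormBy H R) (habs : AbsIrr R)
      (hst : IsSymplecticTypeGroup 2 R) (hZ : Nat.card (Subgroup.center R) = 2) (h2 : (2 : F) ≠ 0)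
      (hk : 1 ≤ k) (hcard : Nat.card R = 2 ^ (1 + 2 * k)) (hn : n = 2 ^ k)
  /-- a tensor power structure (`n = k^t`, `t ≥ 2`): symmetric factor form (`q` odd), or symplectic factor form with `Q` vanishing
  on the pure tensors -/
  | c7 (k t : ℕ) (e : Fin n ≃ (Fin t → Fin k)) (P : GL (Fin n) F)
      (f₁ : (Fin k → F) → (Fin k → F) → F) (hk : 2 ≤ k) (ht : 2 ≤ t)
      (hten : IsTensorPowerFormStructure id (QuadraticMap.polar Q) f₁ e P)
      (hf₁ : (Odd (Fintype.card F) ∧ IsSymmetricForm f₁) ∨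
        (IsSymplecticForm f₁ ∧ ∀ x : Fin t → Fin k → F, Q (pureP e P x) = 0))
      (hH : H ≤ tensorWreathSubgroup k t e P)

lemma EGeo.mono {Q : (Fin n → F) → F} {H H' : Subgroup (GL (Fin n) F)} (h : H ≤ H')
    (hn : ∀ R : Subgroup (GL (Fin n) F), R ≤ H' → NormBy H' R → R ≤ H ∧ NormBy H R)
    (hG : EGeo Q H') : EGeo Q H := by
  cases hG with
  | ts W h0 hts hH => exact .ts W h0 hts (h.trans hH)
  | nd W h0 h1 hnd hH => exact .nd W h0 h1 hnd (h.trans hH)
  | nsv heven v hv hH => exact .nsv heven v hv (h.trans hH)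
  | dec k D hD hH => exact .dec k D hD (h.trans hH)
  | pair k D hD hts hH => exact .pair k D hD hts (h.trans hH)
  | fsa r K hr hK hsa hH => exact .fsa r K hr hK hsa (h.trans hH)
  | funi K hK hac hnsa hsim hH => exact .funi K hK hac hnsa hsim (h.trans hH)
  | tsym hodd n₁ n₂ e P f₁ f₂ h1 h2 hf₁ hf₂ hten hH =>
    exact .tsym hodd n₁ n₂ e P f₁ f₂ h1 h2 hf₁ hf₂ hten (h.trans hH)
  | talt n₁ n₂ e P f₁ f₂ h1 h2 hf₁ hf₂ hten hpure hH =>
    exact .talt n₁ n₂ e P f₁ f₂ h1 h2 hf₁ hf₂ hten hpure (h.trans hH)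
  | sub F₀ r P ζ hr hcard hζ hrat hH => exact .sub F₀ r P ζ hr hcard hζ hrat (h.trans hH)
  | c6 R k hRH hnorm habs hst hZ h2 hk hcard hn' =>
    exact .c6 R k (hn R hRH hnorm).1 (hn R hRH hnorm).2 habs hst hZ h2 hk hcard hn'
  | c7 k t e P f₁ hk ht hten hf₁ hH => exact .c7 k t e P f₁ hk ht hten hf₁ (h.trans hH)

/-- the generic theorem ("Aschbacher for the isometry group of a quadratic form", all characteristics) as a statement -/
def AschE (n : ℕ) : Prop :=
  ∀ {F : Type*} [Field F] [Fintype F] (Q : (Fin n → F) → F) (H : Subgroup (GL (Fin n) F)),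
    ECtx Q H → EGeo Q H ∨ InOrthogonalResidualClass H

end Cfsg.Agent.Lib.Lead.OE
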