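import Mathlib
import Cfsg.Prelude.Def_GeometricClasses
import Cfsg.Agent.Lib.Helper15.QuadType
import Cfsg.Agent.Lib.Lead.OEDefs

/-!
OMEGA-EVEN project (planner lead), PART 2-4 definitions: the type `TypeOn Q W ε` of an even-dimensional subspace (level-set counts of
helper15's `HasType`), and the two order-theoretic facts about a maximal subgroup used in every row.
-/

set_option autoImplicit false
set_option linter.unusedSectionVars false
set_option linter.unusedVariables false

namespace Cfsg.Agent.Lib.Lead.OE
open Matrix Cfsg Cfsg.Geo Module QuadraticMap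

section typeon
variable {ι : Type} [Fintype ι] [DecidableEq ι] {F : Type*} [Field F] [Fintype F]

/-- `W` has dimension `2m` and the level sets of `Q|_W` have the sizes of a quadratic space of type `ε = ±1` -/
def TypeOn (Q : QuadraticForm F (ι → F)) (W : Submodule F (ι → F)) (ε : ℤ) : Prop :=
  ∃ m : ℕ, finrank F W = 2 * m ∧
    Cfsg.Agent.Lib.Helper15.QuadType.HasType ε m (fun w : W => Q (w : ι → F))

end typeon

section order
variable {G : Type*} [Group G]

/-- a maximal `H ≤ X` with `Ω ≰ X` is `X ⊓ Ω` -/
theorem eq_inf_of_maximal {Ω H X : Subgroup G} (hH : IsMaximalIn Ω H) (hle : H ≤ X) (hX : ¬ Ω ≤ X) :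
    H = X ⊓ Ω := by
  rcases hH.2 (X ⊓ Ω) (le_inf hle hH.1.le) inf_le_right with h | h
  · exact h.symm
  · exact absurd (h ▸ inf_le_left) hX

/-- nothing lies strictly between a maximal subgroup and `Ω` -/
theorem false_of_between {Ω H A K : Subgroup G} (hH : IsMaximalIn Ω H) (hHA : H ≤ A) (hAK : A < K)
    (hK : K < Ω) : False := by
  rcases hH.2 K (hHA.trans hAK.le) hK.le with h | h
  · exact absurd (h ▸ hAK) (not_lt_of_ge hHA)
  · exact hK.ne h

end order

end Cfsg.Agent.Lib.Lead.OE
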