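import Mathlib
import Cfsg.Agent.Lib.Lead.PowTwist2
import Cfsg.Agent.Lib.Lead.GalChar
import Cfsg.Agent.Lib.Lead.BlockBasic
import Cfsg.Agent.Lib.Lead.SecondMain7
import Cfsg.Agent.Lib.Helper6.BlockIndep
import Cfsg.Agent.Lib.Helper10.CyclicTIGalois

/-!
lead: the sum `λ(G, x) = ∑_{χ ∈ B₀} |χ(x)|²` over the principal block is a positive integer
(Galois stability of the principal block); part of S4735.
-/

set_option autoImplicit false

namespace Cfsg.Agent.CharLib

open Cfsg Cfsg.Agent.Lib.Helper24 Cfsg.Agent.Lib.Helper6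
open scoped ComplexConjugate

universe u

section galois

variable {G : Type u} [Group G] [Finite G] {M : Ideal AlgInt}

/-- Twisting by a power map prime to the group order preserves blocks. -/
theorem sameBlock_comp_pow (k : ℕ) (hk : Nat.Coprime k (Nat.card G)) {χ ψ : G → ℂ}
    (h : SameBlock M χ ψ) : SameBlock M (fun g => χ (g ^ k)) (fun g => ψ (g ^ k)) := by
  intro g
  have hko : k.Coprime (orderOf g) := hk.coprime_dvd_right (orderOf_dvd_natCard g)
  have h1 := h (g ^ k)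
  unfold centralChar at h1 ⊢
  rw [centralizer_pow_eq_of_coprime g k hko] at h1
  simp only [one_pow]
  exact h1

theorem twIrr_mem_principalBlock (k : ℕ) (hk : Nat.Coprime k (Nat.card G)) (χ : IrrCharacter G)
    (hχ : χ ∈ principalBlock M G) : twIrr k hk χ ∈ principalBlock M G := by
  have h : SameBlock M (fun _ : G => (1 : ℂ)) (χ : G → ℂ) := hχ
  exact sameBlock_comp_pow k hk h

theorem twPerm_mem_principalBlock_iff (k : ℕ) (hk : Nat.Coprime k (Nat.card G))
    (χ : IrrCharacter G) : twPerm k hk χ ∈ principalBlock M G ↔ χ ∈ principalBlock M G := by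
  have hmaps : Set.MapsTo (twPerm k hk) (principalBlock M G) (principalBlock M G) :=
    fun ψ hψ => twIrr_mem_principalBlock k hk ψ hψ
  constructor
  · intro h
    have h2 := Equiv.Perm.perm_symm_mapsTo_of_mapsTo (twPerm k hk) hmaps h
    simpa using h2
  · intro h
    exact hmaps h

/-- The principal block sums of `χ(x) χ(x⁻¹)` are invariant under power maps. -/
theorem sum_principal_pow_invariant (k : ℕ) (hk : Nat.Coprime k (Nat.card G)) (x : G) :
    ∑ᶠ χ ∈ principalBlock M G, (χ : G → ℂ) (x ^ k) * (χ : G → ℂ) ((x ^ k)⁻¹) =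
      ∑ᶠ χ ∈ principalBlock M G, (χ : G → ℂ) x * (χ : G → ℂ) x⁻¹ := by
  classical
  let _ : Fintype (IrrCharacter G) := Fintype.ofFinite _
  rw [finsum_mem_eq_sum_ite, finsum_mem_eq_sum_ite]
  rw [← Equiv.sum_comp (twPerm k hk)
    (fun χ : IrrCharacter G => if χ ∈ principalBlock M G then
      (χ : G → ℂ) x * (χ : G → ℂ) x⁻¹ else 0)]
  apply Finset.sum_congr rfl
  intro χ _
  by_cases hχ : χ ∈ principalBlock M G
  · rw [if_pos hχ, if_pos ((twPerm_mem_principalBlock_iff k hk χ).mpr hχ), twPerm_apply,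
      twIrr_apply, twIrr_apply, inv_pow]
  · rw [if_neg hχ, if_neg (fun h => hχ ((twPerm_mem_principalBlock_iff k hk χ).mp h))]

/-- A finite sum of products `χ(x) χ(x⁻¹)` which is invariant under all power maps is rational. -/
theorem exists_rat_of_pow_invariant_sum (S : Finset (IrrCharacter G)) (x : G)
    (H : ∀ m : ℕ, m.Coprime (Nat.card G) →
      ∑ χ ∈ S, (χ : G → ℂ) (x ^ m) * (χ : G → ℂ) ((x ^ m)⁻¹) =
        ∑ χ ∈ S, (χ : G → ℂ) x * (χ : G → ℂ) x⁻¹) :
    ∃ q : ℚ, ∑ χ ∈ S, (χ : G → ℂ) x * (χ : G → ℂ) x⁻¹ = (q : ℂ) := by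
  classical
  have hNpos : 0 < Nat.card G := Nat.card_pos
  haveI : NeZero (Nat.card G) := ⟨hNpos.ne'⟩
  obtain ⟨K, _, _, _, ⟨φ⟩⟩ := exists_cyclotomic_field (Nat.card G)
  haveI : FiniteDimensional ℚ K := IsCyclotomicExtension.finiteDimensional {Nat.card G} ℚ K
  haveI : IsGalois ℚ K := IsCyclotomicExtension.isGalois {Nat.card G} ℚ K
  have hex : ∀ (χ : IrrCharacter G) (g : G), ∃ a : K, φ a = (χ : G → ℂ) g ∧
      ∀ σ : K ≃ₐ[ℚ] K, φ (σ a) = (χ : G → ℂ) (g ^ galExp (Nat.card G) K σ) := by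
    intro χ g
    obtain ⟨n, ρ, -, hρ⟩ := χ.2
    obtain ⟨a, -, ha2, ha3⟩ := exists_cyclotomic_charVal (Nat.card G) K φ ρ g pow_card_eq_one'
    refine ⟨a, by rw [ha2, hρ], fun σ => by rw [ha3 σ, hρ]⟩
  choose a ha1 ha2 using hex
  set θ : K := ∑ χ ∈ S, a χ x * a χ x⁻¹ with hθ
  have hφθ : φ θ = ∑ χ ∈ S, (χ : G → ℂ) x * (χ : G → ℂ) x⁻¹ := by
    rw [hθ, map_sum]
    apply Finset.sum_congr rfl
    intro χ _
    rw [map_mul, ha1, ha1]
  have hfix : ∀ σ : K ≃ₐ[ℚ] K, σ θ = θ := by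
    intro σ
    apply φ.injective
    rw [hφθ, ← H _ (galExp_coprime (Nat.card G) K σ), hθ, map_sum, map_sum]
    apply Finset.sum_congr rfl
    intro χ _
    rw [map_mul, map_mul, ha2, ha2, inv_pow]
  obtain ⟨q, hq⟩ := (IsGalois.mem_range_algebraMap_iff_fixed θ).mpr hfix
  refine ⟨q, ?_⟩
  rw [← hφθ, ← hq]
  simp

/-- `λ(G, x)` is a positive integer. -/
theorem exists_nat_sum_principal_normSq {p : ℕ} (hM : IsPModular p M) (x : G) :
    ∃ n : ℕ, 0 < n ∧
      ∑ᶠ χ ∈ principalBlock M G, Complex.normSq ((χ : G → ℂ) x) = n := by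
  classical
  let _ : Fintype (IrrCharacter G) := Fintype.ofFinite _
  set S : Finset (IrrCharacter G) := Finset.univ.filter (fun χ => χ ∈ principalBlock M G) with hS
  have hsum : ∀ y : G, ∑ᶠ χ ∈ principalBlock M G, (χ : G → ℂ) y * (χ : G → ℂ) y⁻¹ =
      ∑ χ ∈ S, (χ : G → ℂ) y * (χ : G → ℂ) y⁻¹ := by
    intro y
    rw [finsum_mem_eq_sum_ite, hS, Finset.sum_filter]
  obtain ⟨q, hq⟩ := exists_rat_of_pow_invariant_sum S x (fun m hm => by
    rw [← hsum, ← hsum]
    exact sum_principal_pow_invariant m hm x)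
  have hint : IsIntegral ℤ (∑ χ ∈ S, (χ : G → ℂ) x * (χ : G → ℂ) x⁻¹) := by
    apply IsIntegral.sum
    intro χ _
    obtain ⟨n, ρ, -, hρ⟩ := χ.2
    rw [← hρ]
    exact (isIntegral_char ρ x).mul (isIntegral_char ρ x⁻¹)
  obtain ⟨z, hz⟩ := Cfsg.Agent.Lib.Helper10.exists_int_of_rat_of_isIntegral hint q hq
  -- the real form
  have hreal : ((∑ᶠ χ ∈ principalBlock M G, Complex.normSq ((χ : G → ℂ) x) : ℝ) : ℂ) =
      ∑ χ ∈ S, (χ : G → ℂ) x * (χ : G → ℂ) x⁻¹ := by
    rw [← hsum, finsum_mem_eq_sum_ite, finsum_mem_eq_sum_ite]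
    push_cast
    apply Finset.sum_congr rfl
    intro χ _
    split_ifs
    · rw [IsCharacter.apply_inv (IsIrrCharacter.isCharacter χ.2), Complex.mul_conj]
    · rfl
  have hzr : (∑ᶠ χ ∈ principalBlock M G, Complex.normSq ((χ : G → ℂ) x) : ℝ) = (z : ℝ) := by
    have : ((∑ᶠ χ ∈ principalBlock M G, Complex.normSq ((χ : G → ℂ) x) : ℝ) : ℂ) = ((z : ℝ) : ℂ) := by
      rw [hreal, hz]; simp
    exact_mod_cast this
  -- positivity
  have hpos : (1 : ℝ) ≤ ∑ᶠ χ ∈ principalBlock M G, Complex.normSq ((χ : G → ℂ) x) := by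
    rw [finsum_mem_eq_sum_ite]
    have hprime : M.IsPrime := isPrime_of_isPModular hM
    have h1 : (trivIrr G) ∈ principalBlock M G := mem_blockOf_self (trivIrr G)
    have h2 : (if trivIrr G ∈ principalBlock M G then
        Complex.normSq (((trivIrr G : IrrCharacter G) : G → ℂ) x) else 0) = (1 : ℝ) := by
      rw [if_pos h1]
      have : ((trivIrr G : IrrCharacter G) : G → ℂ) x = 1 := rfl
      rw [this]; simp
    rw [← h2]
    apply Finset.single_le_sum (f := fun χ : IrrCharacter G =>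
      if χ ∈ principalBlock M G then Complex.normSq ((χ : G → ℂ) x) else 0)
    · intro χ _
      split_ifs
      · exact Complex.normSq_nonneg _
      · exact le_refl _
    · exact Finset.mem_univ _
  rw [hzr] at hpos ⊢
  have hz1 : 1 ≤ z := by exact_mod_cast hpos
  refine ⟨z.toNat, by omega, ?_⟩
  have : ((z.toNat : ℤ) : ℝ) = (z : ℝ) := by
    rw [Int.toNat_of_nonneg (by omega)]
  exact_mod_cast this.symm

end galois

end Cfsg.Agent.CharLib
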