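import Mathlib
import Cfsg.Agent.Lib.Lead.SecondMain9
import Cfsg.Agent.Lib.Lead.BrauerPairBridge
import Cfsg.Agent.S4667

/-!
lead: the sum over a Brauer element `(u, e)` of `B` of the products of generalized decomposition
functions is `|C_G(u)| * l(e)`.
-/

set_option autoImplicit false

namespace Cfsg.Agent.CharLib

open Cfsg Cfsg.Agent.Lib.Helper24 Cfsg.Agent.Lib.Helper6
open scoped ComplexConjugate

universe u

section basics

variable {X : Type u} [Group X] [Fintype X]

/-- Block part of the "contragredient" function `c ↦ conj (ϑ c⁻¹)`. -/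
theorem blockPart_conj_inv (b : Set (IrrCharacter X)) (ϑ : X → ℂ) (s : X) :
    blockPart b (fun c : X => conj (ϑ c⁻¹)) s⁻¹ = conj (blockPart b ϑ s) := by
  classical
  let _ : Fintype (IrrCharacter X) := Fintype.ofFinite _
  rw [blockPart_apply, blockPart_apply, finsum_mem_eq_sum_ite, finsum_mem_eq_sum_ite, map_sum]
  apply Finset.sum_congr rfl
  intro ψ _
  split_ifs
  · have hchar : IsCharacter X (ψ : X → ℂ) := IsIrrCharacter.isCharacter ψ.2
    rw [map_mul, IsCharacter.apply_inv hchar]
    congr 1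
    unfold classInner
    rw [map_mul, map_inv₀, Complex.conj_natCast, map_sum]
    congr 1
    rw [← Equiv.sum_comp (Equiv.inv X)]
    apply Finset.sum_congr rfl
    intro c _
    simp only [Equiv.inv_apply, inv_inv, map_mul, Complex.conj_conj]
    rw [IsCharacter.apply_inv hchar, Complex.conj_conj]
  · rw [map_zero]

end basics

section main

variable {G : Type u} [Group G] [Finite G] {M : Ideal AlgInt}

theorem centralizer_zpowers_eq (z : G) :
    Subgroup.centralizer ((Subgroup.zpowers z : Subgroup G) : Set G) =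
      Subgroup.centralizer ({z} : Set G) := by
  ext g
  rw [Subgroup.mem_centralizer_iff, Subgroup.mem_centralizer_singleton_iff]
  constructor
  · intro h
    exact (h z (Subgroup.mem_zpowers z)).symm
  · intro h w hw
    obtain ⟨i, rfl⟩ := hw
    have : Commute g z := h
    exact ((this.zpow_right i).eq).symm

theorem zpowers_le_centralizer_zpowers (z : G) :
    Subgroup.zpowers z ≤ Subgroup.centralizer ((Subgroup.zpowers z : Subgroup G) : Set G) := by
  intro x hx
  rw [Subgroup.mem_centralizer_iff]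
  intro w hw
  obtain ⟨i, rfl⟩ := hx
  obtain ⟨j, rfl⟩ := hw
  exact ((Commute.refl z).zpow_zpow j i).eq

/-- Brauer: the contribution of a subsection `(z, e)` of `B` (auxiliary form). -/
theorem sum_brauer_element_aux {p : ℕ} [hpp : Fact p.Prime] (hM : IsPModular p M)
    (B : Set (IrrCharacter G)) (z : G) (hz : ∃ k : ℕ, orderOf z = p ^ k)
    (C : Subgroup G) (hC : C = Subgroup.centralizer ({z} : Set G)) (ψ₀ : IrrCharacter C)
    (hind : IsInducedBlock M C (blockOf M (ψ₀ : C → ℂ)) B) :
    ∑ᶠ χ ∈ B, ∑ᶠ s : C,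
      pRegularPart p (blockPart (blockOf M (ψ₀ : C → ℂ))
        (fun c : C => (χ : G → ℂ) (z * c))) s *
        blockPart (blockOf M (ψ₀ : C → ℂ)) (fun c : C => (χ : G → ℂ) (z⁻¹ * c)) s⁻¹ =
      (Nat.card C : ℂ) * (blockRank p (blockOf M (ψ₀ : C → ℂ)) : ℂ) := by
  classical
  have hprime : M.IsPrime := isPrime_of_isPModular hM
  let _ : Fintype G := Fintype.ofFinite G
  let _ : Fintype C := Fintype.ofFinite C
  let _ : Fintype (IrrCharacter C) := Fintype.ofFinite _
  let _ : Fintype (IrrCharacter G) := Fintype.ofFinite _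
  have hB : IsPBlock M B := hind.2.1
  have hcomm' : ∀ c : C, (c : G) * z = z * (c : G) := by
    intro c
    have hc : (c : G) ∈ Subgroup.centralizer ({z} : Set G) := hC ▸ c.2
    rw [Subgroup.mem_centralizer_singleton_iff] at hc
    exact hc
  -- the second factor is the conjugate of the first
  have hsecond : ∀ (χ : IrrCharacter G) (s : C),
      blockPart (blockOf M (ψ₀ : C → ℂ)) (fun c : C => (χ : G → ℂ) (z⁻¹ * c)) s⁻¹ =
        conj (blockPart (blockOf M (ψ₀ : C → ℂ)) (fun c : C => (χ : G → ℂ) (z * c)) s) := by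
    intro χ s
    rw [← blockPart_conj_inv]
    congr 1
    funext c
    have hchar : IsCharacter G (χ : G → ℂ) := IsIrrCharacter.isCharacter χ.2
    rw [← IsCharacter.apply_inv hchar]
    have := hcomm' c
    have h1 : z⁻¹ * (c : G) = (z * ((c⁻¹ : C) : G))⁻¹ := by
      rw [Subgroup.coe_inv, mul_inv_rev, inv_inv]
      calc z⁻¹ * (c : G) = z⁻¹ * ((c : G) * z) * z⁻¹ := by group
        _ = z⁻¹ * (z * (c : G)) * z⁻¹ := by rw [this]
        _ = (c : G) * z⁻¹ := by group
    rw [h1]
  -- right-hand side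
  have hR := Cfsg.Agent.S4667.result p M hM (blockOf M (ψ₀ : C → ℂ)) ⟨ψ₀, rfl⟩
  -- left-hand side
  have hL : ∑ᶠ χ ∈ B, ∑ᶠ s : C,
      pRegularPart p (blockPart (blockOf M (ψ₀ : C → ℂ))
        (fun c : C => (χ : G → ℂ) (z * c))) s *
        blockPart (blockOf M (ψ₀ : C → ℂ)) (fun c : C => (χ : G → ℂ) (z⁻¹ * c)) s⁻¹ =
      ∑ s : C, ∑ χ ∈ Finset.univ.filter (fun χ : IrrCharacter G => χ ∈ B),
        pRegularPart p (blockPart (blockOf M (ψ₀ : C → ℂ))
          (fun c : C => (χ : G → ℂ) (z * c))) s *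
          blockPart (blockOf M (ψ₀ : C → ℂ)) (fun c : C => (χ : G → ℂ) (z⁻¹ * c)) s⁻¹ := by
    rw [finsum_mem_eq_sum_ite, ← Finset.sum_filter]
    simp_rw [finsum_eq_sum_of_fintype]
    rw [Finset.sum_comm]
  rw [hL, hR]
  apply Finset.sum_congr rfl
  intro s _
  by_cases hs : IsPRegular p s
  · have hs' : ¬ p ∣ orderOf s := hs
    have h1 := sum_block_section hM z hz C hC B hB ψ₀ hind s hs' s hs'
    rw [finsum_mem_eq_sum_ite, ← Finset.sum_filter] at h1
    have h2 : ∑ χ ∈ Finset.univ.filter (fun χ : IrrCharacter G => χ ∈ B),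
        pRegularPart p (blockPart (blockOf M (ψ₀ : C → ℂ))
          (fun c : C => (χ : G → ℂ) (z * c))) s *
          blockPart (blockOf M (ψ₀ : C → ℂ)) (fun c : C => (χ : G → ℂ) (z⁻¹ * c)) s⁻¹ =
        ∑ χ ∈ Finset.univ.filter (fun χ : IrrCharacter G => χ ∈ B),
          blockPart (blockOf M (ψ₀ : C → ℂ)) (fun c : C => (χ : G → ℂ) (z * (c : G))) s *
            conj (blockPart (blockOf M (ψ₀ : C → ℂ))
              (fun c : C => (χ : G → ℂ) (z * (c : G))) s) := by
      apply Finset.sum_congr rfl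
      intro χ _
      rw [Cfsg.Agent.S4667.pRegularPart_of_regular p _ hs, hsecond]
    rw [h2, h1]
    apply finsum_mem_congr rfl
    intro ψ _
    rw [Cfsg.Agent.S4667.pRegularPart_of_regular p _ hs,
      IsCharacter.apply_inv (IsIrrCharacter.isCharacter ψ.2)]
  · have h2 : ∑ χ ∈ Finset.univ.filter (fun χ : IrrCharacter G => χ ∈ B),
        pRegularPart p (blockPart (blockOf M (ψ₀ : C → ℂ))
          (fun c : C => (χ : G → ℂ) (z * c))) s *
          blockPart (blockOf M (ψ₀ : C → ℂ)) (fun c : C => (χ : G → ℂ) (z⁻¹ * c)) s⁻¹ = 0 := by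
      apply Finset.sum_eq_zero
      intro χ _
      rw [Cfsg.Agent.S4667.pRegularPart_of_singular p _ hs, zero_mul]
    rw [h2]
    symm
    apply finsum_mem_eq_zero_of_forall_eq_zero
    intro ψ _
    rw [Cfsg.Agent.S4667.pRegularPart_of_singular p _ hs, zero_mul]

/-- Brauer: the contribution of a Brauer element `(u, e)` of `B`. -/
theorem sum_brauer_element {p : ℕ} [hpp : Fact p.Prime] (hM : IsPModular p M)
    (B : Set (IrrCharacter G)) (z : G) (hz : ∃ k : ℕ, orderOf z = p ^ k)
    (e : Set (IrrCharacter (Subgroup.centralizer ((Subgroup.zpowers z : Subgroup G) : Set G))))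
    (hBe : IsBrauerPairOf p M B (Subgroup.zpowers z) e) :
    ∑ᶠ χ ∈ B, ∑ᶠ s : Subgroup.centralizer ((Subgroup.zpowers z : Subgroup G) : Set G),
      pRegularPart p (blockPart e
        (fun c : Subgroup.centralizer ((Subgroup.zpowers z : Subgroup G) : Set G) =>
          (χ : G → ℂ) (z * c))) s *
        blockPart e (fun c : Subgroup.centralizer ((Subgroup.zpowers z : Subgroup G) : Set G) =>
          (χ : G → ℂ) (z⁻¹ * c)) s⁻¹ =
      (Nat.card (Subgroup.centralizer ((Subgroup.zpowers z : Subgroup G) : Set G)) : ℂ) *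
        (blockRank p e : ℂ) := by
  have hind : IsInducedBlock M (Subgroup.centralizer ((Subgroup.zpowers z : Subgroup G) : Set G))
      e B :=
    isInducedBlock_of_isBrauerPairOf hM B (Subgroup.zpowers z) (zpowers_le_centralizer_zpowers z)
      e hBe
  obtain ⟨ψ₀, he⟩ := hind.1
  subst he
  exact sum_brauer_element_aux hM B z hz _ (centralizer_zpowers_eq z) ψ₀ hind

end main

end Cfsg.Agent.CharLib
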