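import Mathlib
import Cfsg.Agent.Lib.Lead.CharInd
import Cfsg.Agent.Lib.Lead.CharBurnside
import Cfsg.Agent.Lib.Helper2.Artin
import Cfsg.Agent.Lib.Helper10.GenChar
/-! Frobenius theorem, part 1: induction from a TI self-normalizing subgroup. -/
set_option autoImplicit false
open Representation
open scoped ComplexConjugate
namespace Cfsg.Agent.CharLib
universe u
variable {G : Type u} [Group G] [Fintype G]

/-- TI self-normalizing subgroup: induction of a class function at a nonidentity element of `H`. -/
theorem indFun_apply_of_tiSelf (H : Subgroup G)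
    (hTI : ∀ g : G, g ∉ H → ∀ h ∈ H, g⁻¹ * h * g ∈ H → h = 1)
    (α : H → ℂ) (hα : IsClassFunction H α) (h : H) (h1 : h ≠ 1) : indFun H α h = α h := by
  classical
  have hterm : ∀ x : G, extendByZero H α (x⁻¹ * (h : G) * x) = if x ∈ H then α h else 0 := by
    intro x
    split_ifs with hx
    · have e : x⁻¹ * (h : G) * x = (((⟨x, hx⟩ : H)⁻¹ * h * ((⟨x, hx⟩ : H)⁻¹)⁻¹ : H) : G) := by
        simp
      rw [e, extendByZero_apply_coe, hα]
    · apply extendByZero_apply_of_not_mem
      intro hmem
      apply h1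
      exact Subtype.ext (hTI x hx h h.2 hmem)
  unfold indFun
  simp only [hterm]
  rw [Finset.sum_ite, Finset.sum_const_zero, add_zero, Finset.sum_const, nsmul_eq_mul]
  have hc : ((Finset.univ.filter (fun x : G => x ∈ H)).card : ℂ) = (Nat.card H : ℂ) := by
    rw [Nat.card_eq_fintype_card, Fintype.card_subtype]
  rw [hc, ← mul_assoc, inv_mul_cancel₀, one_mul]
  exact Nat.cast_ne_zero.mpr Nat.card_pos.ne'

theorem indFun_apply_of_forall_not_mem (H : Subgroup G) (α : H → ℂ) (g : G)
    (hg : ∀ x : G, x⁻¹ * g * x ∉ H) : indFun H α g = 0 := by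
  unfold indFun
  rw [Finset.sum_eq_zero, mul_zero]
  intro x _
  exact extendByZero_apply_of_not_mem H α (hg x)

theorem indFun_apply_one' (H : Subgroup G) (α : H → ℂ) (h0 : α 1 = 0) : indFun H α 1 = 0 := by
  unfold indFun
  rw [Finset.sum_eq_zero, mul_zero]
  intro x _
  have : x⁻¹ * (1 : G) * x = ((1 : H) : G) := by simp
  rw [this, extendByZero_apply_coe, h0]

end Cfsg.Agent.CharLib
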