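import Mathlib
import Cfsg.Agent.Lib.Lead.FrobThm1
/-! Frobenius theorem, part 2: extension of irreducible characters of a Frobenius complement. -/
set_option autoImplicit false
open Representation
open scoped ComplexConjugate
namespace Cfsg.Agent.CharLib
universe u
variable {G : Type u} [Group G] [Fintype G]

/-- Frobenius: every irreducible character of a TI self-normalizing subgroup `H` extends to an irreducible
character of `G` which is constant (`= ψ 1`) off the conjugates of `H`. -/
theorem frobenius_extension (H : Subgroup G)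
    (hTI : ∀ g : G, g ∉ H → ∀ h ∈ H, g⁻¹ * h * g ∈ H → h = 1)
    (ψ : H → ℂ) (hψ : IsIrrCharacter H ψ) :
    ∃ χ : G → ℂ, IsIrrCharacter G χ ∧ (∀ h : H, χ h = ψ h) ∧
      (∀ g : G, (∀ x : G, x⁻¹ * g * x ∉ H) → χ g = ψ 1) := by
  classical
  let _ : Fintype H := Fintype.ofFinite H
  by_cases htriv : ψ = 1
  · refine ⟨1, isIrrCharacter_one, fun h => ?_, fun g _ => ?_⟩
    · rw [htriv]; rfl
    · rw [htriv]; rfl
  obtain ⟨d, hdpos, hd⟩ := IsIrrCharacter.apply_one_pos hψ
  have hψc : IsCharacter H ψ := IsIrrCharacter.isCharacter hψ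
  set α : H → ℂ := ψ - (d : ℂ) • (1 : H → ℂ) with hα
  have hα1 : α 1 = 0 := by simp [hα, hd]
  have hαcl : IsClassFunction H α := by
    intro g k
    simp only [hα, Pi.sub_apply, Pi.smul_apply, Pi.one_apply]
    rw [IsCharacter.isClassFunction hψc g k]
  set θ : G → ℂ := indFun H α + (d : ℂ) • (1 : G → ℂ) with hθ
  have hindα : indFun H α = indFun H ψ - (d : ℂ) • indFun H (1 : H → ℂ) := by
    rw [hα, ← Cfsg.Agent.Lib.Helper2.indFunLin_apply, map_sub, map_smul]
    rfl
  have hθgen : IsGeneralizedCharacter G θ := by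
    refine ⟨indFun H ψ + d • (1 : G → ℂ), d • indFun H (1 : H → ℂ), ?_, ?_, ?_⟩
    · exact IsCharacter.add (IsCharacter.indFun H hψc) (IsCharacter.nsmul isCharacter_one d)
    · exact IsCharacter.nsmul (IsCharacter.indFun H isCharacter_one) d
    · rw [hθ, hindα, ← Nat.cast_smul_eq_nsmul ℂ d (1 : G → ℂ),
        ← Nat.cast_smul_eq_nsmul ℂ d (indFun H (1 : H → ℂ))]
      abel
  have hθH : ∀ h : H, θ h = ψ h := by
    intro h
    simp only [hθ, Pi.add_apply, Pi.smul_apply, Pi.one_apply, smul_eq_mul, mul_one]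
    by_cases h1 : h = 1
    · subst h1
      rw [Subgroup.coe_one, indFun_apply_one' H α hα1, zero_add, hd]
    · rw [indFun_apply_of_tiSelf H hTI α hαcl h h1]
      simp [hα]
  have hθoff : ∀ g : G, (∀ x : G, x⁻¹ * g * x ∉ H) → θ g = ψ 1 := by
    intro g hg
    simp only [hθ, Pi.add_apply, Pi.smul_apply, Pi.one_apply, smul_eq_mul, mul_one]
    rw [indFun_apply_of_forall_not_mem H α g hg, zero_add, hd]
  have hθcl : IsClassFunction G θ := Cfsg.Agent.Lib.Helper10.genChar_isClassFunction hθgen
  have hψ1 : classInner ψ (1 : H → ℂ) = 0 := by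
    rw [classInner_irr hψ isIrrCharacter_one, if_neg htriv]
  have h11 : classInner (1 : H → ℂ) (1 : H → ℂ) = 1 := by
    rw [classInner_irr isIrrCharacter_one isIrrCharacter_one, if_pos rfl]
  have hψψ : classInner ψ ψ = 1 := by
    rw [classInner_irr hψ hψ, if_pos rfl]
  have hα1' : classInner α (1 : H → ℂ) = -(d : ℂ) := by
    rw [hα, classInner_sub_left, classInner_smul_left, hψ1, h11]; ring
  have hαψ : classInner α ψ = 1 := by
    rw [hα, classInner_sub_left, classInner_smul_left, hψψ]
    have : classInner (1 : H → ℂ) ψ = 0 := by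
      rw [classInner_irr isIrrCharacter_one hψ, if_neg (fun h => htriv h.symm)]
    rw [this]; ring
  have hθres : (fun h : H => θ h) = ψ := funext hθH
  have h1res : (fun h : H => (1 : G → ℂ) h) = (1 : H → ℂ) := rfl
  have hθ1 : classInner θ (1 : G → ℂ) = 0 := by
    rw [hθ, classInner_add_left, classInner_smul_left,
      frobenius_reciprocity H α (IsCharacter.isClassFunction isCharacter_one), h1res, hα1']
    have : classInner (1 : G → ℂ) (1 : G → ℂ) = 1 := by
      rw [classInner_irr isIrrCharacter_one isIrrCharacter_one, if_pos rfl]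
    rw [this]; ring
  have hnorm : classInner θ θ = 1 := by
    have h1θ : classInner (1 : G → ℂ) θ = 0 := by
      rw [← classInner_conj_symm, hθ1, map_zero]
    conv_lhs => rw [hθ]
    rw [classInner_add_left, classInner_smul_left, frobenius_reciprocity H α hθcl, hθres, hαψ, h1θ]
    ring
  obtain ⟨ε, hε, hirr⟩ := Cfsg.Agent.Lib.Helper10.genChar_norm_one hθgen hnorm
  have hθone : θ 1 = d := by
    have := hθH 1
    rw [Subgroup.coe_one] at this
    rw [this, hd]
  rcases hε with rfl | rfl
  · rw [one_smul] at hirr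
    exact ⟨θ, hirr, hθH, hθoff⟩
  · exfalso
    obtain ⟨k, hkpos, hk⟩ := IsIrrCharacter.apply_one_pos hirr
    simp only [Pi.smul_apply, smul_eq_mul, hθone] at hk
    have : ((k : ℂ)) + (d : ℂ) = 0 := by rw [← hk]; ring
    have h2 : (k + d : ℕ) = 0 := by exact_mod_cast this
    omega

end Cfsg.Agent.CharLib
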