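import Mathlib
import Cfsg.Agent.Lib.Lead.FrobThm2
import Cfsg.Agent.Lib.Helper24.Deflation
import Cfsg.Agent.Lib.Helper24.IrrFacts
import Cfsg.Agent.Lib.Helper1.FrobCount
import Cfsg.Agent.Lib.Helper18.Frobenius
/-! Frobenius theorem (S0035): the Frobenius kernel is a normal complement. -/
open Representation
open scoped ComplexConjugate Pointwise
namespace Cfsg.Agent.CharLib
universe u

theorem frobenius_kernel_normal_complement {G : Type u} [Group G] [Finite G] (H : Subgroup G)
    (hH : Cfsg.IsFrobeniusComplement H) :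
    ∃ N : Subgroup G, (N : Set G) = Cfsg.frobeniusKernel H ∧ N.Normal ∧ Subgroup.IsComplement' N H := by
  classical
  let _ := Fintype.ofFinite G
  let _ : Fintype H := Fintype.ofFinite H
  let _ := fintypeIrr H
  have hTIself : Cfsg.Agent.Lib.Helper1.IsTISelf H := hH.2.2
  have hTI : ∀ g : G, g ∉ H → ∀ h ∈ H, g⁻¹ * h * g ∈ H → h = 1 := by
    intro g hg h hh hc
    by_contra h1
    exact hg (hTIself.mem_of_mem_inf hh hc h1)
  have hext : ∀ ψ : IrrCharacter H, ∃ (n : ℕ) (ρ : Representation ℂ G (Fin n → ℂ)),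
      (∀ h : H, ρ.character h = (ψ : H → ℂ) h) ∧
      (∀ g : G, (∀ x : G, x⁻¹ * g * x ∉ H) → ρ.character g = (ψ : H → ℂ) 1) := by
    intro ψ
    obtain ⟨χ, hirr, h1, h2⟩ := frobenius_extension H hTI ψ ψ.2
    obtain ⟨n, ρ, _, hρ⟩ := hirr
    exact ⟨n, ρ, fun h => by rw [hρ]; exact h1 h, fun g hg => by rw [hρ]; exact h2 g hg⟩
  choose n ρ hρH hρoff using hext
  have hρ1 : ∀ ψ : IrrCharacter H, (ρ ψ).character 1 = (ψ : H → ℂ) 1 := by
    intro ψ
    have := hρH ψ 1
    rwa [Subgroup.coe_one] at this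
  set N : Subgroup G := ⨅ ψ : IrrCharacter H, MonoidHom.ker (ρ ψ) with hN
  have hNn : N.Normal := Subgroup.normal_iInf_normal (fun ψ => MonoidHom.normal_ker _)
  have hmem : ∀ g : G, g ∈ N ↔ ∀ ψ : IrrCharacter H, (ρ ψ).character g = (ψ : H → ℂ) 1 := by
    intro g
    rw [hN, Subgroup.mem_iInf]
    constructor
    · intro h ψ
      have := h ψ
      rw [MonoidHom.mem_ker] at this
      rw [← hρ1 ψ]
      simp only [Representation.character, this, map_one]
    · intro h ψ
      rw [MonoidHom.mem_ker]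
      apply Cfsg.Agent.Lib.Helper24.rep_eq_one_of_char_eq_finrank
      rw [h ψ, ← hρ1 ψ, Representation.char_one]
  -- N meets H trivially
  have hNH : ∀ g : G, g ∈ N → g ∈ H → g = 1 := by
    intro g hgN hgH
    have h1 : ∀ ψ : IrrCharacter H, (ψ : H → ℂ) ⟨g, hgH⟩ = (ψ : H → ℂ) 1 := by
      intro ψ
      rw [← hρH ψ ⟨g, hgH⟩]
      exact (hmem g).mp hgN ψ
    have h2 := Cfsg.Agent.Lib.Helper24.sum_irr_degree_mul (G := H) (⟨g, hgH⟩ : H)
    have h3 := Cfsg.Agent.Lib.Helper24.sum_irr_degree_mul (G := H) (1 : H)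
    simp only [h1] at h2
    rw [h3, if_pos rfl] at h2
    by_contra hg1
    have hne : (⟨g, hgH⟩ : H) ≠ 1 := fun h => hg1 (congrArg Subtype.val h)
    rw [if_neg hne] at h2
    have : (Fintype.card H : ℂ) ≠ 0 := Nat.cast_ne_zero.mpr Fintype.card_ne_zero
    exact this h2
  have hset : (N : Set G) = Cfsg.frobeniusKernel H := by
    ext g
    rw [Cfsg.Agent.Lib.Helper18.mem_frobeniusKernel_iff]
    constructor
    · intro hg
      by_contra hcon
      push Not at hcon
      obtain ⟨hg1, x, hx⟩ := hcon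
      have hxN : x⁻¹ * g * x ∈ N := by
        have := hNn.conj_mem g hg x⁻¹
        simpa using this
      have := hNH _ hxN hx
      apply hg1
      calc g = x * (x⁻¹ * g * x) * x⁻¹ := by group
        _ = 1 := by rw [this]; group
    · rintro (rfl | hg)
      · exact N.one_mem
      · exact (hmem g).mpr (fun ψ => hρoff ψ g hg)
  refine ⟨N, hset, hNn, ?_⟩
  apply Subgroup.isComplement'_of_card_mul_and_disjoint
  · -- |N| = index of H
    have hc1 := Cfsg.Agent.Lib.Helper1.card_conjUnion_add_index hTIself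
    have hcompl : (Cfsg.frobeniusKernel H) = (Cfsg.Agent.Lib.Helper1.conjUnion H)ᶜ := by
      ext g
      simp only [Cfsg.frobeniusKernel, Cfsg.Agent.Lib.Helper1.conjUnion, Set.mem_compl_iff,
        Set.mem_ofPred_eq]
      tauto
    have hcardN : Nat.card N = (Cfsg.frobeniusKernel H).ncard := by
      rw [← hset]; exact (Nat.card_coe_set_eq _)
    have h4 := Set.ncard_add_ncard_compl (Cfsg.Agent.Lib.Helper1.conjUnion H)
    rw [← hcompl, Set.ncard_eq_toFinset_card', ← Nat.card_eq_card_toFinset] at h4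
    have hidx : Nat.card N = H.index := by omega
    rw [hidx, mul_comm, Subgroup.card_mul_index]
  · rw [Subgroup.disjoint_def]
    intro g hgN hgH
    exact hNH g hgN hgH

end Cfsg.Agent.CharLib
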