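import Mathlib
import Cfsg.Agent.Lib.Lead.FrobThm3
import Cfsg.Agent.Lib.Helper22.Frobenius
import Cfsg.Agent.S3383
import Cfsg.Agent.S0069
/-! Frobenius complements of a finite group are conjugate (S0037, S0038). -/
open scoped Pointwise
namespace Cfsg.Agent.CharLib
universe u v

/-- If every nonidentity element of a nontrivial finite group `A` acting on `X` has exactly one
fixed point, then `A` has a global fixed point. -/
theorem exists_fixed_of_unique_fixed {A : Type u} {X : Type v} [Group A] [Finite A] [MulAction A X]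
    [Nontrivial A] (h : ∀ a : A, a ≠ 1 → ∃! x : X, a • x = x) : ∃ x : X, ∀ a : A, a • x = x := by
  classical
  obtain ⟨a₁, ha₁⟩ := exists_ne (1 : A)
  obtain ⟨y, hy, hyu⟩ := h a₁ ha₁
  have key : ∀ y : X, Cfsg.Agent.Lib.Helper1.IsTISelf (MulAction.stabilizer A y) := by
    intro y g hg
    rw [eq_bot_iff]
    intro s hs12
    obtain ⟨hs1, hs2⟩ := Subgroup.mem_inf.1 hs12
    rw [Subgroup.mem_bot]
    by_contra hs
    obtain ⟨x, hx, hxu⟩ := h s hs
    have e1 : y = x := hxu y hs1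
    have e2 : g • y = x := by
      apply hxu
      rw [Cfsg.Agent.Lib.Helper18.mem_conj_smul_iff, MulAction.mem_stabilizer_iff] at hs2
      calc s • g • y = g • ((g⁻¹ * s * g) • y) := by simp [mul_smul]
        _ = g • y := by rw [hs2]
    apply hg
    rw [MulAction.mem_stabilizer_iff, e2, e1]
  have hne : ∀ (y : X) (a : A), a ≠ 1 → a • y = y → MulAction.stabilizer A y ≠ ⊥ := by
    intro y a ha hay hbot
    have : a ∈ MulAction.stabilizer A y := hay
    rw [hbot, Subgroup.mem_bot] at this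
    exact ha this
  by_cases htop : MulAction.stabilizer A y = ⊤
  · refine ⟨y, fun a => ?_⟩
    have : a ∈ MulAction.stabilizer A y := htop ▸ Subgroup.mem_top a
    exact this
  · exfalso
    obtain ⟨x, hx1, hx⟩ := Cfsg.Agent.Lib.Helper22.exists_ne_one_forall_conj_not_mem _ htop
    obtain ⟨z, hz, hzu⟩ := h x hx1
    obtain ⟨g, hg⟩ := Cfsg.Agent.Lib.Helper1.exists_conj_inf_ne_bot (key y) (key z)
      (hne y a₁ ha₁ hy) (hne z x hx1 hz)
    obtain ⟨⟨u, hu⟩, hu1⟩ := (Subgroup.ne_bot_iff_exists_ne_one).1 hg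
    have hu1' : u ≠ 1 := fun h => hu1 (Subtype.ext h)
    obtain ⟨hu2, hu3⟩ := Subgroup.mem_inf.1 hu
    rw [Cfsg.Agent.Lib.Helper18.mem_conj_smul_iff, MulAction.mem_stabilizer_iff] at hu3
    obtain ⟨w, hw, hwu⟩ := h u hu1'
    have e1 : y = w := hwu y hu2
    have e2 : g • z = w := by
      apply hwu
      calc u • g • z = g • ((g⁻¹ * u * g) • z) := by simp [mul_smul]
        _ = g • z := by rw [hu3]
    apply hx g⁻¹
    rw [MulAction.mem_stabilizer_iff, e1, ← e2]
    simp [mul_smul, hz]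

/-- Structure of a Frobenius group: kernel subgroup `K`, normal, complement, nontrivial, fpf. -/
theorem frob_setup {G : Type u} [Group G] [Finite G] (H : Subgroup G)
    (hH : Cfsg.IsFrobeniusComplement H) :
    ∃ K : Subgroup G, (K : Set G) = Cfsg.frobeniusKernel H ∧ K.Normal ∧
      Subgroup.IsComplement' K H ∧ K ≠ ⊥ ∧
      (∀ h ∈ H, h ≠ 1 → K ⊓ Subgroup.centralizer {h} = ⊥) := by
  obtain ⟨K, hK, hKn, hc⟩ := frobenius_kernel_normal_complement H hH
  refine ⟨K, hK, hKn, hc, ?_, ?_⟩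
  · intro hbot
    have h1 := hc.card_mul_card
    rw [hbot, Subgroup.card_bot, one_mul] at h1
    exact hH.2.1 ((Subgroup.card_eq_iff_eq_top H).mp h1)
  · intro h hh h1
    rw [eq_bot_iff]
    intro k hk
    obtain ⟨hk1, hk2⟩ := Subgroup.mem_inf.1 hk
    rw [Subgroup.mem_bot]
    have hk1' : k ∈ Cfsg.frobeniusKernel H := by rw [← hK]; exact hk1
    rw [Subgroup.mem_centralizer_singleton_iff] at hk2
    exact Cfsg.Agent.Lib.Helper18.eq_one_of_commute_of_mem_frobeniusKernel H hH h hh h1 k hk1' hk2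

/-- S0037: a Frobenius complement of smaller order is conjugate into a given one. -/
theorem frob_complement_le_conj {G : Type u} [Group G] [Finite G] (H H₀ : Subgroup G)
    (hH : Cfsg.IsFrobeniusComplement H) (hH₀ : Cfsg.IsFrobeniusComplement H₀)
    (hle : Nat.card H₀ ≤ Nat.card H) : ∃ g : G, MulAut.conj g • H₀ ≤ H := by
  classical
  obtain ⟨K, hK, hKn, hc, -, -⟩ := frob_setup H hH
  obtain ⟨K₀, hK₀, hK₀n, hc₀, -, -⟩ := frob_setup H₀ hH₀
  have hcard := hc.card_mul_card
  have hcard₀ := hc₀.card_mul_card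
  -- K ≤ K₀
  have hKK₀ : K ≤ K₀ := by
    rcases (Cfsg.Agent.S3383.result H₀ hH₀ K₀ hK₀).2 K hKn with h | h
    · have hcle : Nat.card K ≤ Nat.card K₀ := by
        have hpos : 0 < Nat.card H₀ := Nat.card_pos
        have : Nat.card K * Nat.card H₀ ≤ Nat.card K₀ * Nat.card H₀ := by
          calc Nat.card K * Nat.card H₀ ≤ Nat.card K * Nat.card H := Nat.mul_le_mul_left _ hle
            _ = Nat.card K₀ * Nat.card H₀ := by rw [hcard, hcard₀]
        exact Nat.le_of_mul_le_mul_right this hpos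
      exact (Subgroup.eq_of_le_of_card_ge h hcle).ge
    · exact h
  -- nonidentity elements of H₀ lie in a conjugate of H
  have hcov : ∀ h₀ ∈ H₀, h₀ ≠ 1 → ∃ g : G, g⁻¹ * h₀ * g ∈ H := by
    intro h₀ hh₀ h1
    by_contra hcon
    push Not at hcon
    have hmem : h₀ ∈ Cfsg.frobeniusKernel H := by
      rw [Cfsg.Agent.Lib.Helper18.mem_frobeniusKernel_iff]
      exact Or.inr hcon
    have hmemK : h₀ ∈ K := by
      have : h₀ ∈ (K : Set G) := hK ▸ hmem
      exact this
    have : h₀ ∈ K₀ ⊓ H₀ := Subgroup.mem_inf.2 ⟨hKK₀ hmemK, hh₀⟩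
    rw [hc₀.disjoint.eq_bot, Subgroup.mem_bot] at this
    exact h1 this
  haveI : Nontrivial H₀ := (Subgroup.nontrivial_iff_ne_bot H₀).2 hH₀.1
  have huniq : ∀ a : H₀, a ≠ 1 → ∃! x : G ⧸ H, a • x = x := by
    intro a ha
    have ha' : (a : G) ≠ 1 := fun h => ha (Subtype.ext h)
    obtain ⟨g, hg⟩ := hcov a a.2 ha'
    have hfix : ∀ g' : G, a • (QuotientGroup.mk g' : G ⧸ H) = QuotientGroup.mk g' ↔
        g'⁻¹ * (a : G) * g' ∈ H := by
      intro g'
      change ((a : G) • (QuotientGroup.mk g' : G ⧸ H)) = QuotientGroup.mk g' ↔ _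
      rw [MulAction.Quotient.smul_mk, QuotientGroup.eq]
      have e : ((a : G) • g')⁻¹ * g' = (g'⁻¹ * (a : G) * g')⁻¹ := by
        simp [smul_eq_mul, mul_assoc]
      rw [e, inv_mem_iff]
    refine ⟨QuotientGroup.mk g, (hfix g).2 hg, ?_⟩
    intro c hc'
    induction c using QuotientGroup.induction_on with
    | H g' =>
      rw [hfix] at hc'
      rw [QuotientGroup.eq]
      have hTI : Cfsg.Agent.Lib.Helper1.IsTISelf H := hH.2.2
      have hne : g'⁻¹ * (a : G) * g' ≠ 1 := by
        intro h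
        apply ha'
        have : (a : G) = g' * (g'⁻¹ * (a : G) * g') * g'⁻¹ := by group
        rw [this, h]; group
      have := hTI.mem_of_mem_inf (g := g'⁻¹ * g) hc' (by
        have e : (g'⁻¹ * g)⁻¹ * (g'⁻¹ * (a : G) * g') * (g'⁻¹ * g) = g⁻¹ * (a : G) * g := by group
        rw [e]; exact hg) hne
      exact this
  obtain ⟨c, hc'⟩ := exists_fixed_of_unique_fixed huniq
  induction c using QuotientGroup.induction_on with
  | H g =>
    refine ⟨g⁻¹, ?_⟩
    intro x hx
    rw [Cfsg.Agent.Lib.Helper18.mem_conj_smul_iff, inv_inv] at hx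
    have := hc' ⟨_, hx⟩
    change ((g * x * g⁻¹) • (QuotientGroup.mk g : G ⧸ H)) = QuotientGroup.mk g at this
    rw [MulAction.Quotient.smul_mk, QuotientGroup.eq] at this
    have e : (g * x * g⁻¹) • g = g * x := by
      simp [smul_eq_mul]
    rw [e] at this
    have e2 : (g * x)⁻¹ * g = x⁻¹ := by group
    rw [e2, inv_mem_iff] at this
    exact this

/-- A Frobenius complement contained in another one is equal to it. -/
theorem frob_complement_eq_of_le {G : Type u} [Group G] [Finite G] (H H₁ : Subgroup G)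
    (hH : Cfsg.IsFrobeniusComplement H) (hH₁ : Cfsg.IsFrobeniusComplement H₁)
    (hle : H₁ ≤ H) : H₁ = H := by
  classical
  obtain ⟨K, hK, hKn, hc, hKne, hfpf⟩ := frob_setup H hH
  haveI := hKn
  have hZ := Cfsg.Agent.S0069.result K H hc hKne hH.1 hfpf
  obtain ⟨⟨z, hz⟩, hz1⟩ := (Subgroup.ne_bot_iff_exists_ne_one).1 hZ
  have hz1' : (z : G) ≠ 1 := fun h => hz1 (Subtype.ext (Subtype.ext h))
  have hzc : ∀ h ∈ H, h * (z : G) = (z : G) * h := by
    intro h hh
    have := (Subgroup.mem_center_iff.1 hz) ⟨h, hh⟩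
    exact congrArg Subtype.val this
  have hTI : Cfsg.Agent.Lib.Helper1.IsTISelf H₁ := hH₁.2.2
  -- z ∈ H₁
  obtain ⟨⟨a, ha⟩, ha1⟩ := (Subgroup.ne_bot_iff_exists_ne_one).1 hH₁.1
  have ha1' : a ≠ 1 := fun h => ha1 (Subtype.ext h)
  have hzH₁ : (z : G) ∈ H₁ := by
    apply hTI.mem_of_mem_inf ha _ ha1'
    have e : (z : G)⁻¹ * a * (z : G) = a := by
      rw [mul_assoc, hzc a (hle ha), ← mul_assoc, inv_mul_cancel, one_mul]
    rw [e]; exact ha
  apply le_antisymm hle
  intro h hh
  apply hTI.mem_of_mem_inf hzH₁ _ hz1'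
  have e : h⁻¹ * (z : G) * h = (z : G) := by
    rw [mul_assoc, ← hzc h hh, ← mul_assoc, inv_mul_cancel, one_mul]
  rw [e]; exact hzH₁

/-- S0038: Frobenius complements are conjugate. -/
theorem frob_complements_conj {G : Type u} [Group G] [Finite G] (H H₀ : Subgroup G)
    (hH : Cfsg.IsFrobeniusComplement H) (hH₀ : Cfsg.IsFrobeniusComplement H₀) :
    ∃ g : G, MulAut.conj g • H₀ = H := by
  have hconj : ∀ (L : Subgroup G) (g : G), Cfsg.IsFrobeniusComplement L →
      Cfsg.IsFrobeniusComplement (MulAut.conj g • L) := by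
    intro L g hL
    refine ⟨?_, ?_, ?_⟩
    · intro h
      apply hL.1
      have := congrArg (fun S => MulAut.conj g⁻¹ • S) h
      simpa [← mul_smul, ← map_mul] using this
    · intro h
      apply hL.2.1
      rw [eq_top_iff] at h ⊢
      intro x _
      have := h (Subgroup.mem_top (g * x * g⁻¹))
      rw [Cfsg.Agent.Lib.Helper18.mem_conj_smul_iff] at this
      have e : g⁻¹ * (g * x * g⁻¹) * g = x := by group
      rwa [e] at this
    · intro x hx
      have hx' : g⁻¹ * x * g ∉ L := by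
        intro h; apply hx
        rw [Cfsg.Agent.Lib.Helper18.mem_conj_smul_iff]; exact h
      have h3 := hL.2.2 _ hx'
      rw [eq_bot_iff] at h3 ⊢
      intro y hy
      obtain ⟨hy1, hy2⟩ := Subgroup.mem_inf.1 hy
      rw [Cfsg.Agent.Lib.Helper18.mem_conj_smul_iff] at hy1 hy2
      rw [Cfsg.Agent.Lib.Helper18.mem_conj_smul_iff] at hy2
      have : g⁻¹ * y * g ∈ L ⊓ MulAut.conj (g⁻¹ * x * g) • L := by
        refine Subgroup.mem_inf.2 ⟨hy1, ?_⟩
        rw [Cfsg.Agent.Lib.Helper18.mem_conj_smul_iff]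
        have e : (g⁻¹ * x * g)⁻¹ * (g⁻¹ * y * g) * (g⁻¹ * x * g) = g⁻¹ * (x⁻¹ * y * x) * g := by
          group
        rw [e]; exact hy2
      have := h3 this
      rw [Subgroup.mem_bot] at this ⊢
      have e : y = g * (g⁻¹ * y * g) * g⁻¹ := by group
      rw [e, this]; group
  rcases le_total (Nat.card H₀) (Nat.card H) with hle | hle
  · obtain ⟨g, hg⟩ := frob_complement_le_conj H H₀ hH hH₀ hle
    exact ⟨g, frob_complement_eq_of_le H _ hH (hconj H₀ g hH₀) hg⟩
  · obtain ⟨g, hg⟩ := frob_complement_le_conj H₀ H hH₀ hH hle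
    have := frob_complement_eq_of_le H₀ _ hH₀ (hconj H g hH) hg
    refine ⟨g⁻¹, ?_⟩
    rw [← this, ← mul_smul, ← map_mul, inv_mul_cancel, map_one, one_smul]

end Cfsg.Agent.CharLib
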