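import Mathlib
import Cfsg.Agent.Lib.Lead.FrobConj
import Cfsg.Agent.Lib.Helper2.FrobeniusClass
/-! Quotients of Frobenius groups by normal subgroups properly inside the kernel (S3768). -/
open scoped Pointwise
namespace Cfsg.Agent.CharLib
universe u

/-- Elementwise form of the structure of a Frobenius group. -/
theorem frob_setup' {G : Type u} [Group G] [Finite G] (H : Subgroup G)
    (hH : Cfsg.IsFrobeniusComplement H) :
    ∃ K : Subgroup G, (∀ x, x ∈ K ↔ x ∈ Cfsg.frobeniusKernel H) ∧ K.Normal ∧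
      (∀ x ∈ K, x ∈ H → x = 1) ∧ (∀ g : G, ∃ k ∈ K, ∃ h ∈ H, g = k * h) ∧
      (∀ h ∈ H, h ≠ 1 → ∀ k ∈ K, ∀ k' ∈ K, k * h * k⁻¹ = k' * h * k'⁻¹ → k = k') ∧
      (∀ N : Subgroup G, N.Normal → K ≤ N ∨ N ≤ K) := by
  obtain ⟨K, hK, hKn, hc, hKne, hfpf⟩ := frob_setup H hH
  refine ⟨K, fun x => by rw [← hK]; rfl, hKn, ?_, ?_, ?_, (Cfsg.Agent.S3383.result H hH K hK).2⟩
  · intro x hxK hxH
    have : x ∈ K ⊓ H := Subgroup.mem_inf.2 ⟨hxK, hxH⟩
    rwa [hc.disjoint.eq_bot, Subgroup.mem_bot] at this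
  · intro g
    haveI := hKn
    exact Cfsg.Agent.Lib.Helper2.frob_decomp K H hc.sup_eq_top g
  · intro h hh h1 k hk k' hk' e
    have hmem : k'⁻¹ * k ∈ K ⊓ Subgroup.centralizer {h} := by
      refine Subgroup.mem_inf.2 ⟨K.mul_mem (K.inv_mem hk') hk, ?_⟩
      rw [Subgroup.mem_centralizer_singleton_iff]
      have : k * h = k' * h * k'⁻¹ * k := by rw [← e]; group
      calc (k'⁻¹ * k) * h = k'⁻¹ * (k * h) := by group
        _ = k'⁻¹ * (k' * h * k'⁻¹ * k) := by rw [this]
        _ = h * (k'⁻¹ * k) := by group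
    rw [hfpf h hh h1, Subgroup.mem_bot] at hmem
    have e2 : k = k' * (k'⁻¹ * k) := by group
    rw [e2, hmem, mul_one]

/-- S3768: the quotient of a Frobenius group by a normal subgroup not containing the kernel is a
Frobenius group with the image complement and image kernel. -/
theorem frob_quotient {G : Type u} [Group G] [Finite G] (R : Subgroup G)
    (hR : Cfsg.IsFrobeniusComplement R) (N : Subgroup G) [hN : N.Normal]
    (hKN : ¬ Cfsg.frobeniusKernel R ⊆ N) :
    Cfsg.IsFrobeniusComplement (R.map (QuotientGroup.mk' N)) ∧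
      Cfsg.frobeniusKernel (R.map (QuotientGroup.mk' N)) =
        QuotientGroup.mk' N '' Cfsg.frobeniusKernel R := by
  classical
  obtain ⟨K, hK, hKn, hKR, hdec, hinj, hdich⟩ := frob_setup' R hR
  have hNK : N ≤ K := by
    rcases hdich N hN with h | h
    · exfalso; apply hKN
      intro x hx
      exact h ((hK x).2 hx)
    · exact h
  obtain ⟨k₀, hk₀K, hk₀N⟩ : ∃ k₀, k₀ ∈ K ∧ k₀ ∉ N := by
    by_contra hcon
    push Not at hcon
    apply hKN
    intro x hx
    exact hcon x ((hK x).2 hx)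
  -- membership in the image
  have hmap : ∀ x : G, (QuotientGroup.mk' N x) ∈ R.map (QuotientGroup.mk' N) ↔
      ∃ r ∈ R, ∃ n ∈ N, x = r * n := by
    intro x
    rw [Subgroup.mem_map]
    constructor
    · rintro ⟨r, hr, e⟩
      rw [QuotientGroup.mk'_eq_mk'] at e
      obtain ⟨n, hn, e⟩ := e
      exact ⟨r, hr, n, hn, e.symm⟩
    · rintro ⟨r, hr, n, hn, e⟩
      refine ⟨r, hr, ?_⟩
      rw [QuotientGroup.mk'_eq_mk']
      exact ⟨n, hn, e.symm⟩
  have hone : ∀ x : G, QuotientGroup.mk' N x = 1 ↔ x ∈ N := by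
    intro x
    exact QuotientGroup.eq_one_iff x
  -- key: commutator with r ≠ 1 landing in N forces k ∈ N
  have key : ∀ r ∈ R, r ≠ 1 → ∀ k ∈ K, k * r * k⁻¹ * r⁻¹ ∈ N → k ∈ N := by
    intro r hr hr1 k hk hkN
    let f : N → N := fun n => ⟨n.1 * r * n.1⁻¹ * r⁻¹, by
      have h1 : r * n.1⁻¹ * r⁻¹ ∈ N := hN.conj_mem _ (N.inv_mem n.2) r
      have := N.mul_mem n.2 h1
      have e : n.1 * r * n.1⁻¹ * r⁻¹ = n.1 * (r * n.1⁻¹ * r⁻¹) := by group
      rw [e]; exact this⟩
    have hfinj : Function.Injective f := by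
      intro n n' hnn
      have h1 : n.1 * r * n.1⁻¹ * r⁻¹ = n'.1 * r * n'.1⁻¹ * r⁻¹ := congrArg Subtype.val hnn
      have h2 : n.1 * r * n.1⁻¹ = n'.1 * r * n'.1⁻¹ := mul_right_cancel h1
      exact Subtype.ext (hinj r hr hr1 _ (hNK n.2) _ (hNK n'.2) h2)
    have hfsurj : Function.Surjective f := Finite.injective_iff_surjective.mp hfinj
    obtain ⟨n, hn⟩ := hfsurj ⟨_, hkN⟩
    have h1 : n.1 * r * n.1⁻¹ * r⁻¹ = k * r * k⁻¹ * r⁻¹ := congrArg Subtype.val hn
    have h2 : n.1 * r * n.1⁻¹ = k * r * k⁻¹ := mul_right_cancel h1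
    have := hinj r hr hr1 _ (hNK n.2) _ hk h2
    rw [← this]; exact n.2
  have hRN : ∀ r ∈ R, r ∈ N → r = 1 := fun r hr hrN => hKR r (hNK hrN) hr
  refine ⟨⟨?_, ?_, ?_⟩, ?_⟩
  · -- image ≠ ⊥
    intro hbot
    apply hR.1
    rw [eq_bot_iff]
    intro r hr
    rw [Subgroup.mem_bot]
    apply hRN r hr
    rw [← hone]
    have : QuotientGroup.mk' N r ∈ R.map (QuotientGroup.mk' N) := Subgroup.mem_map_of_mem _ hr
    rwa [hbot, Subgroup.mem_bot] at this
  · -- image ≠ ⊤
    intro htop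
    have : QuotientGroup.mk' N k₀ ∈ R.map (QuotientGroup.mk' N) := by
      rw [htop]; exact Subgroup.mem_top _
    rw [hmap] at this
    obtain ⟨r, hr, n, hn, e⟩ := this
    have hrK : r ∈ K := by
      have : r = k₀ * n⁻¹ := by rw [e]; group
      rw [this]; exact K.mul_mem hk₀K (K.inv_mem (hNK hn))
    have := hKR r hrK hr
    apply hk₀N
    rw [e, this, one_mul]; exact hn
  · -- malnormal
    intro gbar hg
    induction gbar using QuotientGroup.induction_on with
    | H g =>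
    rw [eq_bot_iff]
    intro xbar hx
    induction xbar using QuotientGroup.induction_on with
    | H x =>
    rw [Subgroup.mem_bot]
    by_contra hx1
    obtain ⟨hx2, hx3⟩ := Subgroup.mem_inf.1 hx
    rw [Cfsg.Agent.Lib.Helper18.mem_conj_smul_iff] at hx3
    change QuotientGroup.mk' N x ∈ _ at hx2
    change QuotientGroup.mk' N (g⁻¹ * x * g) ∈ _ at hx3
    change ¬ (QuotientGroup.mk' N x = 1) at hx1
    change ¬ (QuotientGroup.mk' N g ∈ _) at hg
    rw [hmap] at hx2 hx3 hg
    rw [hone] at hx1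
    obtain ⟨r₁, hr₁, n₁, hn₁, e₁⟩ := hx2
    obtain ⟨r₂, hr₂, n₂, hn₂, e₂⟩ := hx3
    obtain ⟨k, hk, r, hr, eg⟩ := hdec g
    apply hg
    -- r₁ ≠ 1
    have hr₁1 : r₁ ≠ 1 := by
      intro h
      apply hx1
      rw [e₁, h, one_mul]; exact hn₁
    -- x = g r₂ n₂ g⁻¹, so r₁ n₁ = k (r r₂ r⁻¹) (r n₂ r⁻¹) k⁻¹
    set r₃ := r * r₂ * r⁻¹ with hr₃
    have hr₃R : r₃ ∈ R := R.mul_mem (R.mul_mem hr hr₂) (R.inv_mem hr)
    have hx' : x = k * r₃ * k⁻¹ * (g * n₂ * g⁻¹) := by
      have : x = g * (g⁻¹ * x * g) * g⁻¹ := by group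
      rw [this, e₂, hr₃, eg]; group
    have hn₃ : g * n₂ * g⁻¹ ∈ N := hN.conj_mem _ hn₂ g
    -- r₃⁻¹ r₁ ∈ K
    have hr13 : r₁ = r₃ := by
      have hK1 : r₃⁻¹ * r₁ ∈ K := by
        have e : r₃⁻¹ * r₁ = (r₃⁻¹ * k * r₃) * k⁻¹ * (g * n₂ * g⁻¹) * n₁⁻¹ := by
          have : r₁ = x * n₁⁻¹ := by rw [e₁]; group
          rw [this, hx']; group
        rw [e]
        refine K.mul_mem (K.mul_mem (K.mul_mem ?_ (K.inv_mem hk)) (hNK hn₃)) (K.inv_mem (hNK hn₁))
        have := hKn.conj_mem k hk r₃⁻¹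
        simpa using this
      have := hKR _ hK1 (R.mul_mem (R.inv_mem hr₃R) hr₁)
      have e : r₁ = r₃ * (r₃⁻¹ * r₁) := by group
      rw [e, this, mul_one]
    -- commutator in N
    have hcomm : k * r₁ * k⁻¹ * r₁⁻¹ ∈ N := by
      have e : k * r₁ * k⁻¹ * r₁⁻¹ = r₁ * (n₁ * (g * n₂ * g⁻¹)⁻¹) * r₁⁻¹ := by
        have h1 : k * r₁ * k⁻¹ = x * (g * n₂ * g⁻¹)⁻¹ := by rw [hx', hr13]; group
        rw [h1, e₁]; group
      rw [e]
      exact hN.conj_mem _ (N.mul_mem hn₁ (N.inv_mem hn₃)) r₁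
    have hkN := key r₁ hr₁ hr₁1 k hk hcomm
    refine ⟨r, hr, r⁻¹ * k * r, ?_, ?_⟩
    · have := hN.conj_mem k hkN r⁻¹
      simpa using this
    · rw [eg]; group
  · -- kernel
    ext xbar
    induction xbar using QuotientGroup.induction_on with
    | H x =>
    rw [Cfsg.Agent.Lib.Helper18.mem_frobeniusKernel_iff]
    constructor
    · intro hx
      obtain ⟨k, hk, r, hr, ex⟩ := hdec x
      by_cases hr1 : r = 1
      · refine ⟨x, ?_, rfl⟩
        rw [← hK, ex, hr1, mul_one]; exact hk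
      · exfalso
        have hxK : x ∉ K := by
          intro hxK
          apply hr1
          apply hKR r _ hr
          have : r = k⁻¹ * x := by rw [ex]; group
          rw [this]; exact K.mul_mem (K.inv_mem hk) hxK
        have hxker : x ∉ Cfsg.frobeniusKernel R := fun h => hxK ((hK x).2 h)
        rw [Cfsg.Agent.Lib.Helper18.mem_frobeniusKernel_iff] at hxker
        push Not at hxker
        obtain ⟨hx1, g, hg⟩ := hxker
        rcases hx with hx | hx
        · apply hxK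
          apply hNK
          rw [← hone]; exact hx
        · apply hx (QuotientGroup.mk' N g)
          have : (QuotientGroup.mk' N g)⁻¹ * (QuotientGroup.mk' N x) * (QuotientGroup.mk' N g)
              = QuotientGroup.mk' N (g⁻¹ * x * g) := by simp
          change (QuotientGroup.mk' N g)⁻¹ * (QuotientGroup.mk' N x) * (QuotientGroup.mk' N g) ∈ _
          rw [this]
          exact Subgroup.mem_map_of_mem _ hg
    · rintro ⟨k, hk, e⟩
      rw [← hK] at hk
      by_cases hkN : k ∈ N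
      · left
        rw [← e, hone]; exact hkN
      · right
        intro gbar
        induction gbar using QuotientGroup.induction_on with
        | H g =>
        intro hmem
        rw [← e] at hmem
        change (QuotientGroup.mk' N g)⁻¹ * (QuotientGroup.mk' N k) * (QuotientGroup.mk' N g) ∈ _ at hmem
        have e' : (QuotientGroup.mk' N g)⁻¹ * (QuotientGroup.mk' N k) * (QuotientGroup.mk' N g)
              = QuotientGroup.mk' N (g⁻¹ * k * g) := by simp
        rw [e', hmap] at hmem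
        obtain ⟨r, hr, n, hn, e2⟩ := hmem
        have hrK : r ∈ K := by
          have : r = (g⁻¹ * k * g) * n⁻¹ := by rw [e2]; group
          rw [this]
          refine K.mul_mem ?_ (K.inv_mem (hNK hn))
          have := hKn.conj_mem k hk g⁻¹
          simpa using this
        have hr1 := hKR r hrK hr
        apply hkN
        have : k = g * (g⁻¹ * k * g) * g⁻¹ := by group
        rw [this, e2, hr1, one_mul]
        exact hN.conj_mem _ hn g

end Cfsg.Agent.CharLib
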