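import Mathlib
import Cfsg.Agent.Lib.Lead.CharFS
/-! Taketa: M-groups are solvable; kernels of induced characters. -/
set_option autoImplicit false
open Representation Module
open scoped ComplexConjugate
namespace Cfsg.Agent.CharLib
universe u
variable {G : Type u} [Group G]

theorem extendByZero_one_apply (H : Subgroup G) (y : G) [Decidable (y ∈ H)] :
    extendByZero H (fun _ => (1:ℂ)) y = if y ∈ H then 1 else 0 := by
  split_ifs with hy
  · exact extendByZero_apply_coe H _ ⟨y, hy⟩
  · exact extendByZero_apply_of_not_mem H _ hy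

/-- The kernel of the permutation character `1_H^G` is contained in `H`. -/
theorem mem_of_indFun_one_apply_eq [Fintype G] (H : Subgroup G) (g : G)
    (h : indFun H (fun _ => (1:ℂ)) g = indFun H (fun _ => (1:ℂ)) 1) : g ∈ H := by
  classical
  have hH : (Nat.card H : ℂ) ≠ 0 := card_ne_zero_complex_of_finite
  simp only [indFun] at h
  have h' := mul_left_cancel₀ (inv_ne_zero hH) h
  simp only [extendByZero_one_apply, mul_one, inv_mul_cancel, H.one_mem, if_true] at h'
  rw [Finset.sum_boole, Finset.sum_const, nsmul_eq_mul, mul_one] at h'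
  have h2 : (Finset.univ.filter (fun x : G => x⁻¹ * g * x ∈ H)).card = (Finset.univ : Finset G).card := by
    exact_mod_cast h'
  have h3 := (Finset.card_eq_iff_eq_univ _).mp h2
  have h4 : (1 : G) ∈ Finset.univ.filter (fun x : G => x⁻¹ * g * x ∈ H) := by
    rw [h3]; exact Finset.mem_univ _
  simpa using h4

theorem indFun_hom_apply_eq_of_forall [Fintype G] (H : Subgroup G) (lam : H →* ℂˣ) (g : G)
    (hg : ∀ x : G, ∃ hx : x⁻¹ * g * x ∈ H, lam ⟨_, hx⟩ = 1) :
    indFun H (fun h => (lam h : ℂ)) g = indFun H (fun h => (lam h : ℂ)) 1 := by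
  simp only [indFun]
  congr 1
  apply Finset.sum_congr rfl
  intro x _
  obtain ⟨hx, hl⟩ := hg x
  have h1 := extendByZero_apply_coe H (fun h => (lam h : ℂ)) ⟨_, hx⟩
  have h2 := extendByZero_apply_coe H (fun h => (lam h : ℂ)) 1
  simp only [mul_one, inv_mul_cancel]
  simp only [hl, Units.val_one, map_one] at h1 h2
  rw [h1]
  exact h2.symm

/-- The intersection of the kernels of the irreducible characters is trivial. -/
theorem eq_one_of_forall_irr_apply_eq [Finite G] (g : G)
    (h : ∀ χ : IrrCharacter G, (χ : G → ℂ) g = (χ : G → ℂ) 1) : g = 1 := by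
  classical
  let _ := Fintype.ofFinite G
  let _ := fintypeIrr G
  have h1 := delta_one_eq_sum_irr (G := G) g
  have h2 := delta_one_eq_sum_irr (G := G) 1
  simp only [h] at h1
  rw [← h2, if_pos rfl] at h1
  by_contra hg
  rw [if_neg hg] at h1
  exact zero_ne_one h1

/-- A linear character is trivial on the commutator subgroup. -/
theorem apply_eq_one_of_mem_commutator {χ : G → ℂ} (hχ : IsCharacter G χ) (h1 : χ 1 = 1) (g : G)
    (hg : g ∈ commutator G) : χ g = 1 := by
  let f := Cfsg.Agent.Lib.Helper6.linCharHom hχ h1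
  have hker := Abelianization.commutator_subset_ker (MonoidHom.toHomUnits f)
  have h2 := hker hg
  rw [MonoidHom.mem_ker] at h2
  have h3 := congrArg Units.val h2
  rw [MonoidHom.coe_toHomUnits] at h3
  exact h3


theorem indFun_apply_one [Fintype G] (H : Subgroup G) (θ : H → ℂ) :
    indFun H θ 1 = (Nat.card H : ℂ)⁻¹ * (Nat.card G : ℂ) * θ 1 := by
  simp only [indFun, mul_one, inv_mul_cancel]
  have := extendByZero_apply_coe H θ 1
  simp only [OneMemClass.coe_one] at this
  rw [this, Finset.sum_const, Finset.card_univ, nsmul_eq_mul, ← Nat.card_eq_fintype_card (α := G)]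
  ring

/-- Taketa's theorem (S0175). -/
theorem isSolvable_of_forall_irr_induced_linear [Fintype G]
    (hM : ∀ χ : G → ℂ, IsIrrCharacter G χ → ∃ (H : Subgroup G) (lam : H →* ℂˣ),
      χ = indFun H (fun h => (lam h : ℂ))) : Group.IsSolvable G := by
  classical
  let _ := fintypeIrr G
  have hG : (Nat.card G : ℂ) ≠ 0 := card_ne_zero_complex
  -- degrees
  have hdeg : ∀ χ : IrrCharacter G, ∃ n : ℕ, 0 < n ∧ (χ : G → ℂ) 1 = n :=
    fun χ => IsIrrCharacter.apply_one_pos χ.2
  choose deg hdegpos hdeg using hdeg
  -- main claim by strong induction on the degree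
  have main : ∀ d : ℕ, ∀ χ : IrrCharacter G, deg χ = d →
      ∃ k, ∀ g ∈ derivedSeries G k, (χ : G → ℂ) g = (χ : G → ℂ) 1 := by
    intro d
    induction d using Nat.strong_induction_on with
    | _ d ih =>
    intro χ hχd
    -- uniform k₀ for smaller degrees
    have hsm : ∀ ψ : IrrCharacter G, ∃ k, deg ψ < d →
        ∀ g ∈ derivedSeries G k, (ψ : G → ℂ) g = (ψ : G → ℂ) 1 := by
      intro ψ
      by_cases hψ : deg ψ < d
      · obtain ⟨k, hk⟩ := ih (deg ψ) hψ ψ rfl
        exact ⟨k, fun _ => hk⟩
      · exact ⟨0, fun h => absurd h hψ⟩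
    choose kf hkf using hsm
    set k₀ := Finset.univ.sup kf with hk₀
    have hk₀' : ∀ ψ : IrrCharacter G, deg ψ < d →
        ∀ g ∈ derivedSeries G k₀, (ψ : G → ℂ) g = (ψ : G → ℂ) 1 := by
      intro ψ hψ g hg
      apply hkf ψ hψ
      exact derivedSeries_antitone G (Finset.le_sup (Finset.mem_univ ψ)) hg
    by_cases hd1 : d = 1
    · refine ⟨1, ?_⟩
      intro g hg
      have h1 : (χ : G → ℂ) 1 = 1 := by rw [hdeg χ, hχd, hd1]; simp
      rw [h1]
      apply apply_eq_one_of_mem_commutator (IsIrrCharacter.isCharacter χ.2) h1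
      rw [derivedSeries_one] at hg
      exact hg
    · have hd2 : 1 < d := by
        have := hdegpos χ
        omega
      obtain ⟨H, lam, hχ⟩ := hM χ χ.2
      let _ : Fintype H := Fintype.ofFinite H
      have hH : (Nat.card H : ℂ) ≠ 0 := card_ne_zero_complex_of_finite
      set π : G → ℂ := indFun H (fun _ => (1:ℂ)) with hπ
      have hπchar : IsCharacter G π := IsCharacter.indFun H (isCharacter_one (G := H))
      have hπcf := IsCharacter.isClassFunction hπchar
      have hπ1 : π 1 = d := by
        rw [hπ, indFun_apply_one, mul_one, ← hχd, ← hdeg χ, hχ, indFun_apply_one]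
        simp
      -- multiplicities
      have hmult : ∀ ψ : IrrCharacter G, ∃ n : ℕ, classInner π (ψ : G → ℂ) = n :=
        fun ψ => IsCharacter.classInner_nat hπchar (IsIrrCharacter.isCharacter ψ.2)
      choose m hm using hmult
      have hdecomp := classFunction_eq_sum hπcf
      simp only [hm] at hdecomp
      -- the trivial character
      let triv : IrrCharacter G := ⟨1, isIrrCharacter_one⟩
      have hmtriv : m triv = 1 := by
        have h1 := hm triv
        have h2 : classInner π ((triv : IrrCharacter G) : G → ℂ) = 1 := by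
          show classInner (indFun H (fun _ => (1:ℂ))) (1 : G → ℂ) = 1
          rw [frobenius_reciprocity H _ (IsCharacter.isClassFunction isCharacter_one)]
          simp only [classInner, Pi.one_apply, map_one, mul_one, Finset.sum_const, Finset.card_univ,
            nsmul_eq_mul]
          rw [← Nat.card_eq_fintype_card, inv_mul_cancel₀ hH]
        rw [h2] at h1
        exact_mod_cast h1.symm
      have hdegtriv : deg triv = 1 := by
        have := hdeg triv
        have h2 : ((triv : IrrCharacter G) : G → ℂ) 1 = 1 := rfl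
        rw [h2] at this
        exact_mod_cast this.symm
      -- degree sum
      have hsum : d = ∑ ψ : IrrCharacter G, m ψ * deg ψ := by
        have h1 := congrFun hdecomp 1
        rw [hπ1, Finset.sum_apply] at h1
        have h2 : (d : ℂ) = ((∑ ψ : IrrCharacter G, m ψ * deg ψ : ℕ) : ℂ) := by
          rw [h1]
          push_cast
          apply Finset.sum_congr rfl
          intro ψ _
          rw [Pi.smul_apply, smul_eq_mul, hdeg ψ]
        exact_mod_cast h2
      have hlt : ∀ ψ : IrrCharacter G, m ψ ≠ 0 → deg ψ < d := by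
        intro ψ hψ
        by_cases hψt : ψ = triv
        · rw [hψt, hdegtriv]; exact hd2
        · have h1 : ∑ φ ∈ ({triv, ψ} : Finset (IrrCharacter G)), m φ * deg φ ≤
              ∑ φ : IrrCharacter G, m φ * deg φ :=
            Finset.sum_le_sum_of_subset (Finset.subset_univ _)
          rw [Finset.sum_pair (Ne.symm hψt), ← hsum, hmtriv, hdegtriv] at h1
          have h2 : deg ψ ≤ m ψ * deg ψ := Nat.le_mul_of_pos_left _ (Nat.pos_of_ne_zero hψ)
          omega
      -- D ≤ ker π ≤ H
      have hDH : derivedSeries G k₀ ≤ H := by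
        intro g hg
        apply mem_of_indFun_one_apply_eq H g
        show π g = π 1
        have h1 := congrFun hdecomp g
        have h2 := congrFun hdecomp 1
        rw [h1, h2, Finset.sum_apply, Finset.sum_apply]
        apply Finset.sum_congr rfl
        intro ψ _
        rw [Pi.smul_apply, Pi.smul_apply]
        by_cases hψ : m ψ = 0
        · rw [hψ]; simp
        · rw [hk₀' ψ (hlt ψ hψ) g hg]
      refine ⟨k₀ + 1, ?_⟩
      intro g hg
      rw [hχ]
      apply indFun_hom_apply_eq_of_forall
      intro x
      have hnorm : (derivedSeries G (k₀ + 1)).Normal := derivedSeries_normal G (k₀ + 1)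
      have hxg : x⁻¹ * g * x ∈ derivedSeries G (k₀ + 1) := by
        have := hnorm.conj_mem g hg x⁻¹
        simpa using this
      rw [derivedSeries_succ] at hxg
      have hle : ⁅derivedSeries G k₀, derivedSeries G k₀⁆ ≤ (lam.ker).map H.subtype := by
        rw [Subgroup.commutator_le]
        intro a ha b hb
        let a' : H := ⟨a, hDH ha⟩
        let b' : H := ⟨b, hDH hb⟩
        refine Subgroup.mem_map.mpr ⟨a' * b' * a'⁻¹ * b'⁻¹, ?_, ?_⟩
        · rw [MonoidHom.mem_ker, map_mul, map_mul, map_mul, map_inv, map_inv]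
          rw [mul_comm (lam a') (lam b'), mul_inv_cancel_right, mul_inv_cancel]
        · rw [commutatorElement_def]
          rfl
      obtain ⟨y, hy, hyx⟩ := Subgroup.mem_map.mp (hle hxg)
      have hxH : x⁻¹ * g * x ∈ H := by rw [← hyx]; exact y.2
      refine ⟨hxH, ?_⟩
      have : (⟨x⁻¹ * g * x, hxH⟩ : H) = y := Subtype.ext hyx.symm
      rw [this]
      exact hy
  -- conclude
  have hall : ∀ χ : IrrCharacter G, ∃ k, ∀ g ∈ derivedSeries G k, (χ : G → ℂ) g = (χ : G → ℂ) 1 :=
    fun χ => main (deg χ) χ rfl
  choose K hK using hall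
  rw [Group.isSolvable_def]
  refine ⟨Finset.univ.sup K, ?_⟩
  rw [eq_bot_iff]
  intro g hg
  rw [Subgroup.mem_bot]
  apply eq_one_of_forall_irr_apply_eq
  intro χ
  apply hK χ
  exact derivedSeries_antitone G (Finset.le_sup (Finset.mem_univ χ)) hg

end Cfsg.Agent.CharLib

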