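import Cfsg.Agent.Lib.Lead.TwSteinD

/-! Twisted groups `G¹`: an automorphism stabilising `U` and `V` permutes the positive rank one groups
`X_J` (lead). -/

set_option autoImplicit false

namespace Cfsg.Agent.Lib.Lead.TwStein

open Cfsg Cfsg.Lie Matrix Cfsg.Agent.Lib.Helper7 Cfsg.Agent.Lib.Helper3.BN
open Cfsg.Agent.Lib.Lead.Stein

section
variable (D : ChevalleyDatum) (hD : D ∈ [chevG2, chevB2, chevD4, chevF4, chevE6, chevE7, chevE8])
variable (pv pv' ρ ρ' : ℕ → ℕ) (ε : ℕ → ℤ) (hG : GraphFacts D pv pv' ρ ρ' ε)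
variable (K : Type*) [Field K] (φ : K ≃+* K)

omit hD in
theorem gensL_mono (S S' : List ℕ) (h : ∀ r ∈ S, r ∈ S') : gensL D K S ⊆ gensL D K S' := by
  rintro g ⟨r, hr, t, hg⟩
  exact ⟨r, h r hr, t, hg⟩

/-- a `σ`-fixed element of `N` mapping the roots of `S` into `S'` and back conjugates the fixed points
of `⟨X_r : r ∈ S⟩` onto those of `⟨X_r : r ∈ S'⟩` -/
theorem conj_class_eq (nn : GL D.Idx K) (hnn : nn ∈ fixSigma D pv pv' ρ ρ' ε hG K φ) (g g' : ℕ → ℕ)
    (hg : ActsAs D hD K nn g) (hg' : ActsAs D hD K nn⁻¹ g') (S S' : List ℕ)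
    (hS : ∀ r ∈ S, r < D.nroots) (hS' : ∀ r ∈ S', r < D.nroots)
    (h1 : ∀ r ∈ S, g r ∈ S') (h2 : ∀ r ∈ S', g' r ∈ S) :
    (Subgroup.closure (gensL D K S) ⊓ fixSigma D pv pv' ρ ρ' ε hG K φ).map (MulAut.conj nn).toMonoidHom =
      Subgroup.closure (gensL D K S') ⊓ fixSigma D pv pv' ρ ρ' ε hG K φ := by
  apply le_antisymm
  · rintro _ ⟨x, hx, rfl⟩
    simp only [MulEquiv.coe_toMonoidHom, MulAut.conj_apply]
    obtain ⟨hx1, hx2⟩ := Subgroup.mem_inf.mp hx
    refine Subgroup.mem_inf.mpr ⟨?_, ?_⟩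
    · have := conj_closure_gensL D hD K nn g hg S hS x hx1
      refine Subgroup.closure_mono (gensL_mono D K _ _ ?_) this
      intro r hr
      obtain ⟨r0, hr0, rfl⟩ := List.mem_map.mp hr
      exact h1 r0 hr0
    · exact Subgroup.mul_mem _ (Subgroup.mul_mem _ hnn hx2) (Subgroup.inv_mem _ hnn)
  · intro y hy
    obtain ⟨hy1, hy2⟩ := Subgroup.mem_inf.mp hy
    refine ⟨nn⁻¹ * y * nn, Subgroup.mem_inf.mpr ⟨?_, ?_⟩, ?_⟩
    · have := conj_closure_gensL D hD K nn⁻¹ g' hg' S' hS' y hy1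
      rw [inv_inv] at this
      refine Subgroup.closure_mono (gensL_mono D K _ _ ?_) this
      intro r hr
      obtain ⟨r0, hr0, rfl⟩ := List.mem_map.mp hr
      exact h2 r0 hr0
    · exact Subgroup.mul_mem _ (Subgroup.mul_mem _ (Subgroup.inv_mem _ hnn) hy2) hnn
    · simp only [MulEquiv.coe_toMonoidHom, MulAut.conj_apply]
      group

end

section
variable (D : ChevalleyDatum) (hD : D ∈ [chevG2, chevB2, chevD4, chevF4, chevE6, chevE7, chevE8])
variable (pv pv' ρ ρ' : ℕ → ℕ) (ε : ℕ → ℤ) (hG : GraphFacts D pv pv' ρ ρ' ε)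
variable (K : Type*) [Field K] [Finite K] (φ : K ≃+* K)
variable (A : ℕ → ℤ) (hA : ChainAdd D A) (hO : PosFacts D A) (cls : List (List ℕ))
variable (hT : TwistFacts D ρ ρ' A cls)
variable (G1 : Subgroup (GL D.Idx K)) (simpIdx simpCls : List (List ℕ))
variable (hF : TwistGroupFacts D hD pv pv' ρ ρ' ε hG K φ cls G1 simpIdx simpCls)
variable (m : ℕ) (hsh : ∀ S ∈ cls, ClassShape ρ' ε m S)
variable (hB : TwistBNFacts D simpIdx simpCls)
  (hinv : ∀ J ∈ simpIdx, ∀ s < D.nroots, reflWord D J (reflWord D J s) = s)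
  (hgen : G1 ≤ Subgroup.closure (((D.borelSubgroup K ⊓ G1 : Subgroup (GL D.Idx K)) : Set (GL D.Idx K)) ∪
      Set.range (clsRep D hD K simpIdx)))
  (hne : ∀ J : Fin simpIdx.length, ∃ x ∈ clsX D pv pv' ρ ρ' ε hG K φ simpIdx J, x ≠ 1)
  (hinj : ∀ J J' : Fin simpIdx.length,
    (∀ s < D.nroots, reflWord D (simpIdx.get J) s = reflWord D (simpIdx.get J') s) → J = J')
variable (cert : List (List ℕ × ℕ)) (hcert : certOKB D simpIdx simpCls cls cert = true)
variable (Js : List (List ℕ)) (hJs : ∀ J ∈ Js, J ∈ simpIdx) (hL : LongFacts D Js.flatten)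
variable (hle : G1 ≤ D.group K)
variable (hopp : ∀ J ∈ simpIdx,
  (∀ r ∈ J.map D.simple, reflWord D Js.flatten (reflWord D J r) ∈ J.map D.simple) ∧
  (∀ r ∈ J.map D.simple, reflWord D J.reverse (reflWord D Js.flatten.reverse r) ∈ J.map D.simple))

include hF hB hJs hL hopp in
omit [Finite K] in
/-- `n₀ Y_J n₀⁻¹ = X_J` -/
theorem nLong1_conj_clsY (J : Fin simpIdx.length) :
    (clsY D hD pv pv' ρ ρ' ε hG K φ simpIdx J).map (MulAut.conj (nLong1 D hD K Js)).toMonoidHom =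
      clsX D pv pv' ρ ρ' ε hG K φ simpIdx J := by
  have hJ := List.get_mem simpIdx J
  have hC := hB.facts _ hJ
  have hn₀ := nLong1_mem D hD pv pv' ρ ρ' ε hG K φ cls G1 simpIdx simpCls hF Js hJs
  have hnJ := clsRep_mem D hD pv pv' ρ ρ' ε hG K φ cls G1 simpIdx simpCls hF J
  have hSlt : ∀ r ∈ (simpIdx.get J).map D.simple, r < D.nroots := by
    intro r hr
    obtain ⟨i, hi, rfl⟩ := List.mem_map.mp hr
    exact (fundFacts_of_mem D hD i (hC.lt i hi)).hp
  have key := conj_class_eq D hD pv pv' ρ ρ' ε hG K φ (nLong1 D hD K Js * clsRep D hD K simpIdx J)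
    (hF.le_fix (Subgroup.mul_mem _ hn₀ hnJ)) _ _
    (ActsAs.mul D K (actsAs_nWordGL D hD K _ hL.lt) (actsAs_nWordGL D hD K _ hC.lt))
    (by
      rw [_root_.mul_inv_rev]
      exact ActsAs.mul D K (actsAs_nWordGL_inv D hD K _ hC.lt) (actsAs_nWordGL_inv D hD K _ hL.lt))
    ((simpIdx.get J).map D.simple) ((simpIdx.get J).map D.simple) hSlt hSlt
    (fun r hr => (hopp _ hJ).1 r hr) (fun r hr => (hopp _ hJ).2 r hr)
  unfold clsY
  rw [Subgroup.map_map]
  have e : (MulAut.conj (nLong1 D hD K Js)).toMonoidHom.comp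
      (MulAut.conj (clsRep D hD K simpIdx J)).toMonoidHom =
      (MulAut.conj (nLong1 D hD K Js * clsRep D hD K simpIdx J)).toMonoidHom := by
    rw [map_mul]; rfl
  rw [e]
  exact key

include hD hA hO hT hF hsh hB hinv hgen hne hinj hcert hJs hL hle hopp in
/-- an automorphism stabilising `U` and `V` permutes the groups `X_J` -/
theorem exists_clsX_map (θ : ↥G1 ≃* ↥G1) (hU : Stb θ (D.posUnipotent K))
    (hV : Stb θ (D.negUnipotent K)) (J : Fin simpIdx.length) :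
    ∃ J' : Fin simpIdx.length, Mps θ (clsX D pv pv' ρ ρ' ε hG K φ simpIdx J)
      (clsX D pv pv' ρ ρ' ε hG K φ simpIdx J') := by
  have hn₀ := nLong1_mem D hD pv pv' ρ ρ' ε hG K φ cls G1 simpIdx simpCls hF Js hJs
  set n₀ : ↥G1 := ⟨nLong1 D hD K Js, hn₀⟩ with hn₀d
  set c : ↥G1 ≃* ↥G1 := MulAut.conj n₀ with hc
  have hcU : Mps c (D.posUnipotent K) (D.negUnipotent K) := by
    have := mps_conj n₀ (D.posUnipotent K)
    rwa [show ((n₀ : ↥G1) : GL D.Idx K) = nLong1 D hD K Js from rfl, nLong1_conj_pos D hD K Js hL] at this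
  have hcV : Mps c (D.negUnipotent K) (D.posUnipotent K) := by
    have := mps_conj n₀ (D.negUnipotent K)
    rwa [show ((n₀ : ↥G1) : GL D.Idx K) = nLong1 D hD K Js from rfl, nLong1_conj_neg D hD K Js hL] at this
  have hcY : ∀ J : Fin simpIdx.length, Mps c (clsY D hD pv pv' ρ ρ' ε hG K φ simpIdx J)
      (clsX D pv pv' ρ ρ' ε hG K φ simpIdx J) := by
    intro J
    have := mps_conj n₀ (clsY D hD pv pv' ρ ρ' ε hG K φ simpIdx J)
    rwa [show ((n₀ : ↥G1) : GL D.Idx K) = nLong1 D hD K Js from rfl,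
      nLong1_conj_clsY D hD pv pv' ρ ρ' ε hG K φ cls G1 simpIdx simpCls hF hB Js hJs hL hopp J] at this
  set ψ : ↥G1 ≃* ↥G1 := c.trans (θ.trans c.symm) with hψ
  have hψU : Stb ψ (D.posUnipotent K) := (hcU.trans (hV.toMps.trans hcU.symm)).toStb
  have hψV : Stb ψ (D.negUnipotent K) := (hcV.trans (hU.toMps.trans hcV.symm)).toStb
  obtain ⟨J', hJ'⟩ := exists_clsY_map D hD pv pv' ρ ρ' ε hG K φ A hA hO cls hT G1 simpIdx simpCls hF m hsh hB
    hinv hgen hne hinj cert hcert Js hJs hL hle ψ hψU hψV J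
  have hθ : θ = c.symm.trans (ψ.trans c) := by
    ext g
    simp [hψ]
  refine ⟨J', ?_⟩
  rw [hθ]
  exact (hcY J).symm.trans (hJ'.trans (hcY J'))

end

end Cfsg.Agent.Lib.Lead.TwStein
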