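import Cfsg.Agent.Lib.Lead.SteinY2
import Cfsg.Agent.Lib.Helper25.SteinConv

/-! The images in the outer automorphism group of the diagonal and of the field automorphisms of a
Chevalley group (lead). -/

set_option autoImplicit false

namespace Cfsg.Agent.Lib.Lead.Stein

open Cfsg Cfsg.Lie Matrix Cfsg.Agent.Lib.Helper7 Cfsg.Agent.Lib.Helper3.BN Cfsg.Agent.Lib.Helper11
open Cfsg.Agent.Lib.Lead.ChevCent Cfsg.Agent.Lib.Helper25.SteinConv

section
variable (D : ChevalleyDatum) (hD : D ∈ [chevG2, chevB2, chevD4, chevF4, chevE6, chevE7, chevE8])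
variable (F : Type*) [Field F]

/-- the subgroup generated by the diagonal automorphisms -/
def diagAuts : Subgroup (MulAut ↥(D.group F)) :=
  Subgroup.closure {φ : MulAut ↥(D.group F) | D.IsDiagonalAut φ}

/-- the subgroup generated by the field automorphisms -/
def fieldAuts : Subgroup (MulAut ↥(D.group F)) :=
  Subgroup.closure {φ : MulAut ↥(D.group F) | D.IsFieldAut φ}

/-- the automorphisms stabilising `U`, `V` and acting trivially on the nodes, as a subgroup of the
automorphism group -/
noncomputable def kerAuts : Subgroup (MulAut ↥(D.group F)) :=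
  (nodeHom D hD F).ker.map (autUV D F).subtype

include hD

theorem diagAuts_le_kerAuts : diagAuts D F ≤ kerAuts D hD F := by
  unfold diagAuts
  rw [Subgroup.closure_le]
  intro φ hφ
  obtain ⟨χ, hχ, rfl⟩ := exists_diagAut_of_isDiagonalAut D hD F φ hφ
  exact ⟨⟨_, diagAut_mem_autUV D hD F χ hχ⟩, diagAut_mem_ker D hD F χ hχ, rfl⟩

theorem fieldAuts_le_kerAuts : fieldAuts D F ≤ kerAuts D hD F := by
  unfold fieldAuts
  rw [Subgroup.closure_le]
  intro φ hφ
  obtain ⟨σ, rfl⟩ := exists_phiOf_of_isFieldAut D hD F φ hφ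
  exact ⟨⟨_, phiOf_mem_autUV D F σ⟩, phiOf_mem_ker D hD F σ, rfl⟩

theorem diagAut_mem_diagAuts (χ : ℕ → F) (hχ : ChainChar D F χ) :
    (diagAut D hD F χ hχ : MulAut ↥(D.group F)) ∈ diagAuts D F :=
  Subgroup.subset_closure (isDiagonalAut_diagAut D hD F χ hχ)

theorem phiOf_mem_fieldAuts (σ : F ≃+* F) : (phiOf D σ : MulAut ↥(D.group F)) ∈ fieldAuts D F :=
  Subgroup.subset_closure (isFieldAut_phiOf D hD F σ)

/-- diagonal automorphisms commute -/
theorem diagAuts_comm : IsMulCommutative ↥(diagAuts D F) := by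
  unfold diagAuts
  apply Subgroup.isMulCommutative_closure
  intro x hx y hy
  obtain ⟨χ, hχ, rfl⟩ := exists_diagAut_of_isDiagonalAut D hD F x hx
  obtain ⟨χ', hχ', rfl⟩ := exists_diagAut_of_isDiagonalAut D hD F y hy
  have heq : (((diagAut D hD F χ hχ : MulAut ↥(D.group F)) * diagAut D hD F χ' hχ' :
      MulAut ↥(D.group F)) : ↥(D.group F) ≃* ↥(D.group F)).toMonoidHom =
      (((diagAut D hD F χ' hχ' : MulAut ↥(D.group F)) * diagAut D hD F χ hχ :
      MulAut ↥(D.group F)) : ↥(D.group F) ≃* ↥(D.group F)).toMonoidHom := by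
    apply hom_ext_of_fund D hD F
    · intro j _ t
      show diagAut D hD F χ hχ (diagAut D hD F χ' hχ' _) = diagAut D hD F χ' hχ' (diagAut D hD F χ hχ _)
      rw [diagAut_xG, diagAut_xG, diagAut_xG, diagAut_xG]
      congr 1; ring
    · intro j _ t
      show diagAut D hD F χ hχ (diagAut D hD F χ' hχ' _) = diagAut D hD F χ' hχ' (diagAut D hD F χ hχ _)
      rw [diagAut_xG, diagAut_xG, diagAut_xG, diagAut_xG]
      congr 1; ring
  refine MulEquiv.ext (fun y => ?_)
  exact congrArg (fun φ : ↥(D.group F) →* ↥(D.group F) => φ y) heq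

/-- the field automorphisms as a homomorphism from the automorphism group of the field -/
noncomputable def phiHom : (F ≃+* F) →* MulAut ↥(D.group F) where
  toFun σ := phiOf D σ
  map_one' := by
    have heq : ((phiOf D (1 : F ≃+* F) : ↥(D.group F) ≃* ↥(D.group F))).toMonoidHom =
        ((1 : MulAut ↥(D.group F)) : ↥(D.group F) ≃* ↥(D.group F)).toMonoidHom := by
      apply hom_ext_of_fund D hD F
      · intro j _ t
        show phiOf D (1 : F ≃+* F) _ = _
        rw [phiOf_xG D _ hD]; rfl
      · intro j _ t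
        show phiOf D (1 : F ≃+* F) _ = _
        rw [phiOf_xG D _ hD]; rfl
    refine MulEquiv.ext (fun y => ?_)
    exact congrArg (fun φ : ↥(D.group F) →* ↥(D.group F) => φ y) heq
  map_mul' := by
    intro σ τ
    have heq : ((phiOf D (σ * τ) : ↥(D.group F) ≃* ↥(D.group F))).toMonoidHom =
        (((phiOf D σ : MulAut ↥(D.group F)) * phiOf D τ : MulAut ↥(D.group F)) :
          ↥(D.group F) ≃* ↥(D.group F)).toMonoidHom := by
      apply hom_ext_of_fund D hD F
      · intro j _ t
        show phiOf D (σ * τ) _ = phiOf D σ (phiOf D τ _)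
        rw [phiOf_xG D _ hD, phiOf_xG D _ hD, phiOf_xG D _ hD]; rfl
      · intro j _ t
        show phiOf D (σ * τ) _ = phiOf D σ (phiOf D τ _)
        rw [phiOf_xG D _ hD, phiOf_xG D _ hD, phiOf_xG D _ hD]; rfl
    refine MulEquiv.ext (fun y => ?_)
    exact congrArg (fun φ : ↥(D.group F) →* ↥(D.group F) => φ y) heq

theorem fieldAuts_eq_range : fieldAuts D F = (phiHom D hD F).range := by
  apply le_antisymm
  · unfold fieldAuts
    rw [Subgroup.closure_le]
    intro φ hφ
    obtain ⟨σ, rfl⟩ := exists_phiOf_of_isFieldAut D hD F φ hφ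
    exact ⟨σ, rfl⟩
  · rintro _ ⟨σ, rfl⟩
    exact phiOf_mem_fieldAuts D hD F σ

/-- the image of `kerAuts` in the outer automorphism group is the image of the kernel of the action on
the nodes -/
theorem kerAuts_map_eq :
    (kerAuts D hD F).map (QuotientGroup.mk' (Cfsg.Inn ↥(D.group F))) =
      (nodeHom D hD F).ker.map (outMap D F) := by
  unfold kerAuts outMap
  rw [Subgroup.map_map]

/-- the preimage in `autUV` of the image of `kerAuts` is the kernel of the action on the nodes -/
theorem comap_kerAuts_map :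
    ((kerAuts D hD F).map (QuotientGroup.mk' (Cfsg.Inn ↥(D.group F)))).comap (outMap D F) =
      (nodeHom D hD F).ker := by
  apply le_antisymm
  · intro θ hθ
    rw [Subgroup.mem_comap, kerAuts_map_eq] at hθ
    obtain ⟨m, hm, he⟩ := hθ
    -- `m⁻¹ θ` is inner
    have h1 : outMap D F (m⁻¹ * θ) = 1 := by rw [map_mul, map_inv, he, inv_mul_cancel]
    have h2 : (QuotientGroup.mk ((m⁻¹ * θ : ↥(autUV D F)) : MulAut ↥(D.group F)) :
        Cfsg.Out ↥(D.group F)) = 1 := h1
    rw [QuotientGroup.eq_one_iff] at h2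
    obtain ⟨z, hz⟩ := h2
    have hz' : (MulAut.conj z : MulAut ↥(D.group F)) = ((m⁻¹ * θ : ↥(autUV D F)) :
      MulAut ↥(D.group F)) := hz
    have hzmem : (MulAut.conj z : MulAut ↥(D.group F)) ∈ autUV D F := by
      rw [hz']; exact (m⁻¹ * θ).2
    have h3 := conj_mem_ker D hD F z hzmem
    have h4 : (⟨MulAut.conj z, hzmem⟩ : ↥(autUV D F)) = m⁻¹ * θ := Subtype.ext hz'
    rw [h4] at h3
    have : θ = m * (m⁻¹ * θ) := by group
    rw [this]
    exact Subgroup.mul_mem _ hm h3
  · intro θ hθ
    rw [Subgroup.mem_comap, kerAuts_map_eq]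
    exact ⟨θ, hθ, rfl⟩

end

/-- the automorphism group of a finite field is cyclic -/
theorem isCyclic_ringAut (F : Type*) [Field F] [Finite F] : IsCyclic (F ≃+* F) := by
  obtain ⟨p, hp⟩ := CharP.exists F
  have := hp
  have : Fact p.Prime := ⟨CharP.char_is_prime F p⟩
  let _ : Algebra (ZMod p) F := ZMod.algebra F p
  let φ : (F ≃ₐ[ZMod p] F) →* (F ≃+* F) :=
    { toFun := fun ψ => ψ.toRingEquiv
      map_one' := rfl
      map_mul' := fun _ _ => rfl }
  have hsurj : Function.Surjective φ := by
    intro ψ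
    refine ⟨AlgEquiv.ofRingEquiv (f := ψ) (fun r => ?_), by ext; rfl⟩
    have : (ψ : F →+* F).comp (algebraMap (ZMod p) F) = algebraMap (ZMod p) F :=
      Subsingleton.elim _ _
    exact RingHom.congr_fun this r
  exact isCyclic_of_surjective φ hsurj

section
variable (D : ChevalleyDatum) (hD : D ∈ [chevG2, chevB2, chevD4, chevF4, chevE6, chevE7, chevE8])
variable (F : Type*) [Field F] [Finite F]
include hD

/-- the image of the field automorphisms in the outer automorphism group is cyclic -/
theorem isCyclic_fieldAuts_map :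
    IsCyclic ↥((fieldAuts D F).map (QuotientGroup.mk' (Cfsg.Inn ↥(D.group F)))) := by
  rw [fieldAuts_eq_range D hD F, MonoidHom.map_range]
  have := isCyclic_ringAut F
  exact isCyclic_of_surjective
    ((QuotientGroup.mk' (Cfsg.Inn ↥(D.group F))).comp (phiHom D hD F)).rangeRestrict
    (MonoidHom.rangeRestrict_surjective _)

/-- the automorphisms acting trivially on the nodes are generated by the diagonal and the field
automorphisms -/
theorem kerAuts_eq : kerAuts D hD F = diagAuts D F ⊔ fieldAuts D F := by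
  apply le_antisymm
  · rintro _ ⟨θ, hθ, rfl⟩
    obtain ⟨χ, hχ, σ, he⟩ := exists_diag_field_of_ker D hD F θ hθ
    show (θ : MulAut ↥(D.group F)) ∈ _
    rw [he]
    exact Subgroup.mul_mem _ (Subgroup.mem_sup_left (diagAut_mem_diagAuts D hD F χ hχ))
      (Subgroup.mem_sup_right (phiOf_mem_fieldAuts D hD F σ))
  · exact sup_le (diagAuts_le_kerAuts D hD F) (fieldAuts_le_kerAuts D hD F)

/-- conjugates of elements of `diagAuts` by automorphisms stabilising `U` and `V` -/
theorem conj_mem_diagAuts (θ : ↥(autUV D F)) (d : MulAut ↥(D.group F)) (hd : d ∈ diagAuts D F) :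
    (θ : MulAut ↥(D.group F)) * d * (θ : MulAut ↥(D.group F))⁻¹ ∈ diagAuts D F := by
  unfold diagAuts at hd
  induction hd using Subgroup.closure_induction with
  | mem x hx =>
    obtain ⟨χ, hχ, rfl⟩ := exists_diagAut_of_isDiagonalAut D hD F x hx
    obtain ⟨χ', hχ', he⟩ := conj_diagAut D hD F θ χ hχ
    rw [he]
    exact diagAut_mem_diagAuts D hD F χ' hχ'
  | one => simp
  | mul a b _ _ iha ihb =>
    have : (θ : MulAut ↥(D.group F)) * (a * b) * (θ : MulAut ↥(D.group F))⁻¹ =
        ((θ : MulAut ↥(D.group F)) * a * (θ : MulAut ↥(D.group F))⁻¹) *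
          ((θ : MulAut ↥(D.group F)) * b * (θ : MulAut ↥(D.group F))⁻¹) := by group
    rw [this]
    exact Subgroup.mul_mem _ iha ihb
  | inv a _ iha =>
    have : (θ : MulAut ↥(D.group F)) * a⁻¹ * (θ : MulAut ↥(D.group F))⁻¹ =
        ((θ : MulAut ↥(D.group F)) * a * (θ : MulAut ↥(D.group F))⁻¹)⁻¹ := by group
    rw [this]
    exact Subgroup.inv_mem _ iha

end

section
variable (D : ChevalleyDatum) (hD : D ∈ [chevG2, chevB2, chevD4, chevF4, chevE6, chevE7, chevE8])
variable (F : Type*) [Field F] [Fintype F] (p : ℕ) [Fact p.Prime] [CharP F p]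
include hD p

/-- the image of the diagonal automorphisms is normal in the outer automorphism group -/
theorem diagAuts_map_normal :
    ((diagAuts D F).map (QuotientGroup.mk' (Cfsg.Inn ↥(D.group F)))).Normal := by
  constructor
  rintro _ ⟨d, hd, rfl⟩ x
  obtain ⟨θ, rfl⟩ := outMap_surjective D hD F p x
  refine ⟨(θ : MulAut ↥(D.group F)) * d * (θ : MulAut ↥(D.group F))⁻¹,
    conj_mem_diagAuts D hD F θ d hd, ?_⟩
  show QuotientGroup.mk' _ _ = outMap D F θ * QuotientGroup.mk' _ d * (outMap D F θ)⁻¹
  rw [map_mul, map_mul, map_inv]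
  rfl

theorem kerAuts_map_normal :
    ((kerAuts D hD F).map (QuotientGroup.mk' (Cfsg.Inn ↥(D.group F)))).Normal := by
  rw [kerAuts_map_eq]
  exact Subgroup.Normal.map inferInstance _ (outMap_surjective D hD F p)

/-- the index of the image of `kerAuts` is the number of permutations of the nodes which occur -/
theorem index_kerAuts_map :
    ((kerAuts D hD F).map (QuotientGroup.mk' (Cfsg.Inn ↥(D.group F)))).index =
      Nat.card ↥(nodeHom D hD F).range := by
  rw [← Subgroup.index_comap_of_surjective _ (outMap_surjective D hD F p), comap_kerAuts_map,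
    Subgroup.index_ker]

end

end Cfsg.Agent.Lib.Lead.Stein
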