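import Cfsg.Agent.Lib.Lead.TwSteinK
import Cfsg.Agent.Lib.Lead.SteinY3

/-! Twisted groups: cardinalities of the rank one groups, the torus action on the rank one groups, an
element of `G¹` whose conjugation stabilises `U` and `V` lies in `H`, and the field automorphisms of the
group generated by `twWords` (lead). -/

set_option autoImplicit false

namespace Cfsg.Agent.Lib.Lead.TwStein

open Cfsg Cfsg.Lie Matrix Cfsg.Agent.Lib.Helper7 Cfsg.Agent.Lib.Helper3.BN
open Cfsg.Agent.Lib.Lead.Stein Cfsg.Agent.Lib.Helper11.SL2Hom Cfsg.Agent.Lib.Helper11.ChevSL2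

section
variable {Γ : Type*} [Group Γ] {G : Subgroup Γ}

/-- an automorphism mapping `A ∩ G` onto `A' ∩ G` preserves the cardinality -/
theorem card_eq_of_mps {θ : ↥G ≃* ↥G} {A A' : Subgroup Γ} (hA : A ≤ G) (hA' : A' ≤ G) (h : Mps θ A A') :
    Nat.card ↥A = Nat.card ↥A' := by
  apply Nat.card_congr
  refine
    { toFun := fun a => ⟨((θ ⟨a.1, hA a.2⟩ : ↥G) : Γ), (h ⟨a.1, hA a.2⟩).mpr a.2⟩
      invFun := fun a => ⟨((θ.symm ⟨a.1, hA' a.2⟩ : ↥G) : Γ), (h.symm ⟨a.1, hA' a.2⟩).mpr a.2⟩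
      left_inv := fun a => by
        apply Subtype.ext
        simp
      right_inv := fun a => by
        apply Subtype.ext
        simp }

variable {F : Type*} [Field F] {V B X Y : Subgroup Γ} {ψ : SpecialLinearGroup (Fin 2) F →* Γ}

theorem RankOneHom.le_X (R : RankOneHom G V B X Y ψ) : X ≤ G := by
  intro x hx
  obtain ⟨t, rfl⟩ := (R.memX x).mp hx
  exact R.mem _

theorem RankOneHom.le_Y (R : RankOneHom G V B X Y ψ) : Y ≤ G := by
  intro x hx
  obtain ⟨t, rfl⟩ := (R.memY x).mp hx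
  exact R.mem _

/-- `X` has as many elements as the field -/
theorem RankOneHom.card_X (R : RankOneHom G V B X Y ψ) : Nat.card ↥X = Nat.card F := by
  symm
  apply Nat.card_congr
  refine Equiv.ofBijective (fun t => (⟨ψ (xS t), (R.memX _).mpr ⟨t, rfl⟩⟩ : ↥X)) ⟨?_, ?_⟩
  · intro t t' h
    exact R.injX t t' (congrArg Subtype.val h)
  · rintro ⟨x, hx⟩
    obtain ⟨t, rfl⟩ := (R.memX x).mp hx
    exact ⟨t, rfl⟩

/-- an automorphism acting on `X` through a scalar acts on `Y` through the inverse scalar -/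
theorem RankOneHom.of_scalar [Finite F] (R : RankOneHom G V B X Y ψ) (θ : ↥G ≃* ↥G)
    (hθV : Stb θ V) (hθB : Stb θ B) (hθX : Mps θ X X) (hθY : Mps θ Y Y) (c : F)
    (hx : ∀ t, ((θ ⟨ψ (xS t), R.mem _⟩ : ↥G) : Γ) = ψ (xS (c * t))) :
    ∀ t, ((θ ⟨ψ (yS t), R.mem _⟩ : ↥G) : Γ) = ψ (yS (c⁻¹ * t)) := by
  obtain ⟨c', α, hc', h1, h2⟩ := R.exists_field θ hθV hθB hθX hθY
  have e : ∀ t, c * t = c' * α t := by
    intro t
    apply R.injX
    rw [← hx, h1]
  have ec : c = c' := by
    have := e 1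
    rwa [map_one, mul_one, mul_one] at this
  have eα : ∀ t, α t = t := by
    intro t
    have := e t
    rw [ec] at this
    exact (mul_left_cancel₀ hc' this).symm
  intro t
  rw [h2, ec, eα]

end

section
variable (D : ChevalleyDatum) (hD : D ∈ [chevG2, chevB2, chevD4, chevF4, chevE6, chevE7, chevE8])
variable (K : Type*) [Field K]
include hD

/-- conjugation of an ordered product by an element acting on the root elements through scalars -/
theorem conj_ordProd_of (k : GL D.Idx K) (χ : ℕ → K) (S : List ℕ)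
    (h : ∀ r ∈ S, ∀ t : K, k * xGL D hD K r t * k⁻¹ = xGL D hD K r (χ r * t)) (t : ℕ → K) :
    k * ordProd D hD K S t * k⁻¹ = ordProd D hD K S (fun r => χ r * t r) := by
  rw [ordProd_eq_prod, ordProd_eq_prod, conj_list_prod, List.map_map]
  congr 1
  apply List.map_congr_left
  intro r hr
  exact h r hr (t r)

/-- a product of elements `h_{p_i}(c_i)` acts on every root element through a scalar -/
theorem hprod_conj_xGL (L : List ℕ) (hlt : ∀ i ∈ L, i < D.rank) (c : ℕ → K) (hc : ∀ i ∈ L, c i ≠ 0)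
    (r : ℕ) (t : K) :
    (L.map fun i => wordGL D hD K (D.hWord (D.simple i) (c i))).prod * xGL D hD K r t *
      ((L.map fun i => wordGL D hD K (D.hWord (D.simple i) (c i))).prod)⁻¹ =
      xGL D hD K r ((L.map fun i => (c i) ^ (D.cartan i r)).prod * t) := by
  induction L generalizing t with
  | nil => simp
  | cons i L ih =>
    have hi : i < D.rank := hlt i List.mem_cons_self
    have hne : c i ≠ 0 := hc i List.mem_cons_self
    simp only [List.map_cons, List.prod_cons]
    have e : ∀ a b x : GL D.Idx K, a * b * x * (a * b)⁻¹ = a * (b * x * b⁻¹) * a⁻¹ := by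
      intro a b x; group
    rw [e, ih (fun j hj => hlt j (List.mem_cons_of_mem _ hj)) (fun j hj => hc j (List.mem_cons_of_mem _ hj)) t]
    have h1 := hF_x D hD K i hi r (c i) hne ((L.map fun i => (c i) ^ (D.cartan i r)).prod * t)
    unfold hF at h1
    rw [h1, mul_assoc, mul_inv_cancel, mul_one, mul_assoc]

variable (Jidx : List ℕ) (hC : SimpClassFacts D Jidx) {F : Type*} [Field F] (σ : ℕ → F →+* K)

/-- the torus part of the class homomorphism acts on every root element through a scalar -/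
theorem classHom_hS_conj_xGL (s : F) (hs : s ≠ 0) (r : ℕ) (t : K) :
    classHom D hD K Jidx hC σ (hS s hs) * xGL D hD K r t * (classHom D hD K Jidx hC σ (hS s hs))⁻¹ =
      xGL D hD K r ((Jidx.map fun i => (σ (D.simple i) s) ^ (D.cartan i r)).prod * t) := by
  rw [classHom_hS, List.map_map]
  exact hprod_conj_xGL D hD K Jidx hC.lt (fun i => σ (D.simple i) s)
    (fun i _ => (map_ne_zero (σ (D.simple i))).mpr hs) r t

end

section
variable (D : ChevalleyDatum) (hD : D ∈ [chevG2, chevB2, chevD4, chevF4, chevE6, chevE7, chevE8])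
variable (pv pv' ρ ρ' : ℕ → ℕ) (ε : ℕ → ℤ) (hG : GraphFacts D pv pv' ρ ρ' ε)
variable (K : Type*) [Field K] [Finite K] (φ : K ≃+* K)
variable (A : ℕ → ℤ) (hA : ChainAdd D A) (hO : PosFacts D A) (cls : List (List ℕ))
variable (hT : TwistFacts D ρ ρ' A cls)
variable (G1 : Subgroup (GL D.Idx K)) (simpIdx simpCls : List (List ℕ))
variable (hF : TwistGroupFacts D hD pv pv' ρ ρ' ε hG K φ cls G1 simpIdx simpCls)
variable (m : ℕ) (hsh : ∀ S ∈ cls, ClassShape ρ' ε m S)
variable (hB : TwistBNFacts D simpIdx simpCls)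
  (hinv : ∀ J ∈ simpIdx, ∀ s < D.nroots, reflWord D J (reflWord D J s) = s)
  (hgen : G1 ≤ Subgroup.closure (((D.borelSubgroup K ⊓ G1 : Subgroup (GL D.Idx K)) : Set (GL D.Idx K)) ∪
      Set.range (clsRep D hD K simpIdx)))
variable (cert : List (List ℕ × ℕ)) (hcert : certOKB D simpIdx simpCls cls cert = true)
variable (Js : List (List ℕ)) (hJs : ∀ J ∈ Js, J ∈ simpIdx) (hL : LongFacts D Js.flatten)
variable (hle : G1 ≤ D.group K)

include hD hA hO hT hF hsh hB hinv hgen hcert hJs hL hle in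
omit [Finite K] in
/-- an element of `G¹` whose conjugation stabilises `U` and `V` lies in `H` -/
theorem mem_diagonal_of_stb_conj (z : ↥G1) (hU : Stb (MulAut.conj z) (D.posUnipotent K))
    (hV : Stb (MulAut.conj z) (D.negUnipotent K)) : (z : GL D.Idx K) ∈ D.diagonalSubgroup K := by
  have hn₀ := nLong1_mem D hD pv pv' ρ ρ' ε hG K φ cls G1 simpIdx simpCls hF Js hJs
  have hnorm := normalizer_posUnipotent_twisted D hD pv pv' ρ ρ' ε hG K φ A hA hO cls hT G1 simpIdx simpCls hF m
    hsh hB hinv hgen cert hcert (nLong1 D hD K Js)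
    (Subgroup.mem_inf.mpr ⟨nLong1_mem_monomial D hD K Js hL, hn₀⟩) (nLong1_conj_pos D hD K Js hL) hle
  have key : ∀ z : ↥G1, Stb (MulAut.conj z) (D.posUnipotent K) → (z : GL D.Idx K) ∈ D.borelSubgroup K := by
    intro z hz
    have h1 := mem_normalizer_of_stb_conj (inf_le_right : D.posUnipotent K ⊓ G1 ≤ G1) z (stb_inf_self hz)
    have h2 : (z : GL D.Idx K) ∈ D.borelSubgroup K ⊓ G1 := by
      rw [← hnorm]
      exact Subgroup.mem_inf.mpr ⟨h1, z.2⟩
    exact (Subgroup.mem_inf.mp h2).1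
  have h1 := key z hU
  set n₀ : ↥G1 := ⟨nLong1 D hD K Js, hn₀⟩ with hn₀d
  have h2 : ((n₀⁻¹ * z * n₀ : ↥G1) : GL D.Idx K) ∈ D.borelSubgroup K := by
    apply key
    set c : ↥G1 ≃* ↥G1 := MulAut.conj n₀ with hc
    have hcU : Mps c (D.posUnipotent K) (D.negUnipotent K) := by
      have := mps_conj n₀ (D.posUnipotent K)
      rwa [show ((n₀ : ↥G1) : GL D.Idx K) = nLong1 D hD K Js from rfl, nLong1_conj_pos D hD K Js hL] at this
    have e : (MulAut.conj (n₀⁻¹ * z * n₀) : ↥G1 ≃* ↥G1) = c.trans ((MulAut.conj z).trans c.symm) := by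
      ext g
      simp [hc, MulAut.conj_apply, MulAut.conj_symm_apply, mul_assoc]
    rw [e]
    exact (hcU.trans (hV.toMps.trans hcU.symm)).toStb
  have h3 : (z : GL D.Idx K) ∈ negBorel D K := by
    rw [← nLong1_conj_borel D hD K Js hL]
    refine ⟨_, h2, ?_⟩
    simp only [MulEquiv.coe_toMonoidHom, MulAut.conj_apply, Subgroup.coe_mul, Subgroup.coe_inv]
    show nLong1 D hD K Js * ((nLong1 D hD K Js)⁻¹ * (z : GL D.Idx K) * nLong1 D hD K Js) *
      (nLong1 D hD K Js)⁻¹ = _
    group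
  rw [← Stein.borel_inf_negBorel D hD K]
  exact Subgroup.mem_inf.mpr ⟨h1, h3⟩

end

section
variable (D : ChevalleyDatum) (hD : D ∈ [chevG2, chevB2, chevD4, chevF4, chevE6, chevE7, chevE8])
variable (K : Type*) [Field K] (φ α : K ≃+* K) (hα : ∀ a, α (φ a) = φ (α a))
variable (L1 : List ℕ) (L2 : List (ℕ × ℕ)) (L3 : List (ℕ × ℕ × ℕ))

include hD in
theorem glMapEquiv_wordGL (w : List (ℕ × K)) :
    glMapEquiv D.Idx α (wordGL D hD K w) = wordGL D hD K (w.map fun p => (p.1, α p.2)) := by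
  unfold wordGL
  rw [map_list_prod, List.map_map, List.map_map]
  congr 1
  apply List.map_congr_left
  intro p _
  exact glMapEquiv_xGL D hD K α p.1 p.2

include hα in
theorem map_mem_twWords (w : List (ℕ × K)) (hw : w ∈ twWords K φ L1 L2 L3) :
    (w.map fun p => (p.1, α p.2)) ∈ twWords K φ L1 L2 L3 := by
  rcases hw with (⟨t, ht, r, hr, rfl⟩ | ⟨t, rs, hrs, rfl⟩) | ⟨t, rs, hrs, rfl⟩
  · left; left
    exact ⟨α t, by rw [← hα, ht], r, hr, rfl⟩
  · left; right
    refine ⟨α t, rs, hrs, ?_⟩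
    simp [hα]
  · right
    refine ⟨α t, rs, hrs, ?_⟩
    simp [hα]

include hD hα in
theorem twGroup_map_le :
    (D.genSubgroup K (twWords K φ L1 L2 L3)).map (glMapEquiv D.Idx α).toMonoidHom ≤
      D.genSubgroup K (twWords K φ L1 L2 L3) := by
  unfold ChevalleyDatum.genSubgroup
  rw [MonoidHom.map_closure, Subgroup.closure_le]
  rintro _ ⟨g, ⟨w, hw, hg⟩, rfl⟩
  have hg' : g = wordGL D hD K w := Units.ext (by rw [hg, coe_wordGL])
  apply Subgroup.subset_closure
  refine ⟨w.map fun p => (p.1, α p.2), map_mem_twWords K φ α hα L1 L2 L3 w hw, ?_⟩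
  rw [hg']
  show ((glMapEquiv D.Idx α (wordGL D hD K w) : GL D.Idx K) : Matrix D.Idx D.Idx K) = _
  rw [glMapEquiv_wordGL D hD K α w, coe_wordGL]

include hD hα in
theorem twGroup_map_eq :
    (D.genSubgroup K (twWords K φ L1 L2 L3)).map (glMapEquiv D.Idx α).toMonoidHom =
      D.genSubgroup K (twWords K φ L1 L2 L3) := by
  apply le_antisymm (twGroup_map_le D hD K φ α hα L1 L2 L3)
  have hα' : ∀ a, α.symm (φ a) = φ (α.symm a) := by
    intro a
    apply α.injective
    rw [RingEquiv.apply_symm_apply, hα, RingEquiv.apply_symm_apply]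
  intro g hg
  refine ⟨(glMapEquiv D.Idx α).symm g, ?_, by simp⟩
  have := twGroup_map_le D hD K φ α.symm hα' L1 L2 L3 ⟨g, hg, rfl⟩
  have e : (glMapEquiv D.Idx α.symm).toMonoidHom g = (glMapEquiv D.Idx α).symm g := by
    apply Units.ext
    rfl
  rwa [e] at this

/-- the field automorphism of the twisted group induced by `α` -/
noncomputable def twFieldAut :
    ↥(D.genSubgroup K (twWords K φ L1 L2 L3)) ≃* ↥(D.genSubgroup K (twWords K φ L1 L2 L3)) :=
  ((glMapEquiv D.Idx α).subgroupMap (D.genSubgroup K (twWords K φ L1 L2 L3))).trans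
    (MulEquiv.subgroupCongr (twGroup_map_eq D hD K φ α hα L1 L2 L3))

theorem coe_twFieldAut (g : ↥(D.genSubgroup K (twWords K φ L1 L2 L3))) :
    ((twFieldAut D hD K φ α hα L1 L2 L3 g : ↥(D.genSubgroup K (twWords K φ L1 L2 L3))) : GL D.Idx K) =
      glMapEquiv D.Idx α (g : GL D.Idx K) := rfl

include hD in
theorem glMapEquiv_mem_posUnipotent (u : GL D.Idx K) (hu : u ∈ D.posUnipotent K) :
    glMapEquiv D.Idx α u ∈ D.posUnipotent K := by
  have h1 : (D.posUnipotent K).map (glMapEquiv D.Idx α).toMonoidHom ≤ D.posUnipotent K := by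
    unfold ChevalleyDatum.posUnipotent
    rw [MonoidHom.map_closure, Subgroup.closure_le]
    rintro _ ⟨g, ⟨r, t, hr, hg⟩, rfl⟩
    have hg' : g = xGL D hD K r t := Units.ext (by rw [hg, coe_xGL])
    apply Subgroup.subset_closure
    refine ⟨r, α t, hr, ?_⟩
    rw [hg']
    show ((glMapEquiv D.Idx α (xGL D hD K r t) : GL D.Idx K) : Matrix D.Idx D.Idx K) = _
    rw [glMapEquiv_xGL D hD K α r t, coe_xGL]
  exact h1 ⟨u, hu, rfl⟩

include hD in
theorem glMapEquiv_mem_negUnipotent (u : GL D.Idx K) (hu : u ∈ D.negUnipotent K) :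
    glMapEquiv D.Idx α u ∈ D.negUnipotent K := by
  have h1 : (D.negUnipotent K).map (glMapEquiv D.Idx α).toMonoidHom ≤ D.negUnipotent K := by
    unfold ChevalleyDatum.negUnipotent
    rw [MonoidHom.map_closure, Subgroup.closure_le]
    rintro _ ⟨g, ⟨r, t, hr, hg⟩, rfl⟩
    have hg' : g = xGL D hD K r t := Units.ext (by rw [hg, coe_xGL])
    apply Subgroup.subset_closure
    refine ⟨r, α t, hr, ?_⟩
    rw [hg']
    show ((glMapEquiv D.Idx α (xGL D hD K r t) : GL D.Idx K) : Matrix D.Idx D.Idx K) = _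
    rw [glMapEquiv_xGL D hD K α r t, coe_xGL]
  exact h1 ⟨u, hu, rfl⟩

theorem glMapEquiv_symm_apply' (g : GL D.Idx K) :
    glMapEquiv D.Idx α.symm (glMapEquiv D.Idx α g) = g := by
  apply Units.ext
  ext i j
  simp [glMapEquiv_val]

include hD in
theorem twFieldAut_stb_pos : Stb (twFieldAut D hD K φ α hα L1 L2 L3) (D.posUnipotent K) := by
  intro g
  rw [coe_twFieldAut]
  constructor
  · intro h
    have := glMapEquiv_mem_posUnipotent D hD K α.symm _ h
    rwa [glMapEquiv_symm_apply'] at this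
  · exact glMapEquiv_mem_posUnipotent D hD K α _

include hD in
theorem twFieldAut_stb_neg : Stb (twFieldAut D hD K φ α hα L1 L2 L3) (D.negUnipotent K) := by
  intro g
  rw [coe_twFieldAut]
  constructor
  · intro h
    have := glMapEquiv_mem_negUnipotent D hD K α.symm _ h
    rwa [glMapEquiv_symm_apply'] at this
  · exact glMapEquiv_mem_negUnipotent D hD K α _

end

end Cfsg.Agent.Lib.Lead.TwStein
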