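import Cfsg.Agent.Lib.Lead.SteinI
import Cfsg.Prelude.Def_KGroupFacts

/-! Field automorphisms of a Chevalley group are not inner; the order of the outer automorphism group
when every automorphism is the product of an inner and a field automorphism (lead). -/

set_option autoImplicit false

namespace Cfsg.Agent.Lib.Lead.Stein

open Cfsg Cfsg.Lie Matrix Cfsg.Agent.Lib.Helper7 Cfsg.Agent.Lib.Helper3.BN Cfsg.Agent.Lib.Helper11
open Cfsg.Agent.Lib.Lead.ChevCent Cfsg.Agent.Lib.Lead.ChevFix
open Cfsg.Agent.Lib.Helper11.ChevDiagMem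

section
variable (D : ChevalleyDatum) {F : Type*} [Field F] (σ : F ≃+* F)

theorem tau_symm_tau (g : GL D.Idx F) : tau D σ.symm (tau D σ g) = g := by
  apply Units.ext
  ext i j
  simp [glMap_coe]

theorem tau_mem_negUnipotent (u : GL D.Idx F) (hu : u ∈ D.negUnipotent F) :
    tau D σ u ∈ D.negUnipotent F := by
  have h1 : (D.negUnipotent F).map (tau D σ) ≤ D.negUnipotent F := by
    unfold ChevalleyDatum.negUnipotent
    rw [MonoidHom.map_closure, Subgroup.closure_le]
    rintro _ ⟨g, ⟨r, t, hr, hg⟩, rfl⟩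
    apply Subgroup.subset_closure
    refine ⟨r, σ t, hr, ?_⟩
    show ((glMap D (σ : F →+* F) g : GL D.Idx F) : Matrix D.Idx D.Idx F) = _
    rw [glMap_coe, hg, x_map₂]
    rfl
  exact h1 ⟨u, hu, rfl⟩

theorem phiOf_stab_pos : Stab D F (phiOf D σ) (D.posUnipotent F) := by
  intro g
  rw [coe_phiOf]
  constructor
  · intro h
    have := tau_mem_posUnipotent D σ.symm _ h
    rwa [tau_symm_tau] at this
  · exact tau_mem_posUnipotent D σ _

theorem phiOf_stab_neg : Stab D F (phiOf D σ) (D.negUnipotent F) := by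
  intro g
  rw [coe_phiOf]
  constructor
  · intro h
    have := tau_mem_negUnipotent D σ.symm _ h
    rwa [tau_symm_tau] at this
  · exact tau_mem_negUnipotent D σ _

variable {D}

theorem mem_normalizer_of_stab_conj {A : Subgroup (GL D.Idx F)} (hA : A ≤ D.group F)
    (z : ↥(D.group F)) (h : Stab D F (MulAut.conj z) A) :
    (z : GL D.Idx F) ∈ Subgroup.normalizer (A : Set (GL D.Idx F)) := by
  rw [Subgroup.mem_set_normalizer_iff]
  intro g
  constructor
  · intro hg
    exact (h ⟨g, hA hg⟩).mpr hg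
  · intro hg
    have hgG : g ∈ D.group F := by
      have h1 := hA hg
      have h2 : g = (z : GL D.Idx F)⁻¹ * ((z : GL D.Idx F) * g * (z : GL D.Idx F)⁻¹) *
        (z : GL D.Idx F) := by group
      rw [h2]
      exact Subgroup.mul_mem _ (Subgroup.mul_mem _ (Subgroup.inv_mem _ z.2) h1) z.2
    exact (h ⟨g, hgG⟩).mp hg

end

section
variable (D : ChevalleyDatum) (hD : D ∈ [chevG2, chevB2, chevD4, chevF4, chevE6, chevE7, chevE8])
variable {F : Type*} [Field F]
include hD

/-- two field automorphisms differing by an inner automorphism are equal -/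
theorem field_eq_of_inner (hrank : 0 < D.rank) (σ τ : F ≃+* F) (z : ↥(D.group F))
    (hz : ∀ y, phiOf D τ y = phiOf D σ (z * y * z⁻¹)) : τ = σ := by
  have hψ : (phiOf D τ).trans (phiOf D σ).symm = MulAut.conj z := by
    ext y
    rw [MulEquiv.trans_apply, hz y, MulEquiv.symm_apply_apply, MulAut.conj_apply]
  have hU : Stab D F (MulAut.conj z) (D.posUnipotent F) := by
    rw [← hψ]; exact (phiOf_stab_pos D τ).trans (phiOf_stab_pos D σ).symm
  have hV : Stab D F (MulAut.conj z) (D.negUnipotent F) := by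
    rw [← hψ]; exact (phiOf_stab_neg D τ).trans (phiOf_stab_neg D σ).symm
  have h1 := mem_normalizer_of_stab_conj (posUnipotent_le_group D hD F) z hU
  have h2 := mem_normalizer_of_stab_conj (negUnipotent_le_group D hD F) z hV
  have h3 : (z : GL D.Idx F) ∈ D.borelSubgroup F := by
    rw [← normalizer_posUnipotent_inf_group D hD F]
    exact Subgroup.mem_inf.mpr ⟨h1, z.2⟩
  have h4 : (z : GL D.Idx F) ∈ negBorel D F := by
    rw [← normalizer_negUnipotent_inf_group D hD F]
    exact Subgroup.mem_inf.mpr ⟨h2, z.2⟩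
  have h5 : (z : GL D.Idx F) ∈ D.diagonalSubgroup F := by
    rw [← borel_inf_negBorel D hD F]
    exact Subgroup.mem_inf.mpr ⟨h3, h4⟩
  obtain ⟨χ, hχ, hm⟩ := mem_diagonalSubgroup_char D hD F _ h5
  have hr := simple_lt D hD 0 hrank
  have key : ∀ t : F, τ t = σ (χ (D.simple 0)) * σ t := by
    intro t
    have := hz (xG D hD F (D.simple 0) t)
    rw [conj_diag_xG D hD F z χ hχ hm, phiOf_xG, phiOf_xG, map_mul] at this
    exact xG_inj D hD F _ hr _ _ this
  have h1 := key 1
  rw [map_one, map_one, mul_one] at h1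
  ext t
  rw [key t, ← h1, one_mul]

/-- if every automorphism is the product of an inner and a field automorphism, the outer automorphism
group is in bijection with the automorphism group of the field -/
theorem card_out_eq (hrank : 0 < D.rank)
    (hmain : ∀ θ : ↥(D.group F) ≃* ↥(D.group F), ∃ (z : ↥(D.group F)) (σ : F ≃+* F),
      ∀ y, θ y = z * phiOf D σ y * z⁻¹) :
    Nat.card (Cfsg.Out ↥(D.group F)) = Nat.card (F ≃+* F) := by
  let Φ : (F ≃+* F) → Cfsg.Out ↥(D.group F) := fun σ =>
    (QuotientGroup.mk (phiOf D σ : MulAut ↥(D.group F)) : Cfsg.Out ↥(D.group F))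
  have hinj : Function.Injective Φ := by
    intro σ τ hστ
    have h1 : ((phiOf D σ : MulAut ↥(D.group F)))⁻¹ * (phiOf D τ : MulAut ↥(D.group F)) ∈
        Cfsg.Inn ↥(D.group F) := QuotientGroup.eq.mp hστ
    obtain ⟨z, hz⟩ := h1
    have h2 : ∀ y, phiOf D τ y = phiOf D σ (z * y * z⁻¹) := by
      intro y
      have := congrArg (fun φ : MulAut ↥(D.group F) => φ y) hz
      simp only [MulAut.conj_apply, MulAut.mul_apply, MulAut.inv_apply] at this
      rw [this, MulEquiv.apply_symm_apply]
    exact (field_eq_of_inner D hD hrank σ τ z h2).symm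
  have hsurj : Function.Surjective Φ := by
    intro x
    obtain ⟨θ, rfl⟩ := QuotientGroup.mk_surjective x
    obtain ⟨z, σ, hzσ⟩ := hmain θ
    refine ⟨σ, ?_⟩
    have h1 : (θ : MulAut ↥(D.group F)) = MulAut.conj z * (phiOf D σ : MulAut ↥(D.group F)) := by
      ext y
      rw [hzσ y, MulAut.mul_apply, MulAut.conj_apply]
    show (QuotientGroup.mk (phiOf D σ : MulAut ↥(D.group F)) : Cfsg.Out ↥(D.group F)) =
      QuotientGroup.mk θ
    have h2 : (MulAut.conj z : MulAut ↥(D.group F)) ∈ Cfsg.Inn ↥(D.group F) := ⟨z, rfl⟩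
    rw [h1, QuotientGroup.mk_mul, (QuotientGroup.eq_one_iff (MulAut.conj z)).mpr h2, one_mul]
  exact (Nat.card_congr (Equiv.ofBijective Φ ⟨hinj, hsurj⟩)).symm

end

/-- the automorphism group of a finite field of order `p ^ f` has order `f` -/
theorem card_ringEquiv_field {F : Type*} [Field F] [Fintype F] (p : ℕ) [Fact p.Prime] [CharP F p] {f : ℕ}
    (hF : Fintype.card F = p ^ f) : Nat.card (F ≃+* F) = f := by
  let _ : Algebra (ZMod p) F := ZMod.algebra F p
  have hfin : Module.finrank (ZMod p) F = f := by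
    have h3 := Module.card_eq_pow_finrank (K := ZMod p) (V := F)
    rw [hF, ZMod.card] at h3
    exact (Nat.pow_right_injective (Fact.out : p.Prime).two_le h3).symm
  have e1 : (F ≃+* F) ≃ (F ≃ₐ[ZMod p] F) :=
    { toFun := fun ψ => AlgEquiv.ofRingEquiv (f := ψ) (fun r => by
        have : (ψ : F →+* F).comp (algebraMap (ZMod p) F) = algebraMap (ZMod p) F :=
          Subsingleton.elim _ _
        exact RingHom.congr_fun this r)
      invFun := fun ψ => ψ.toRingEquiv
      left_inv := fun ψ => by ext; rfl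
      right_inv := fun ψ => by ext; rfl }
  rw [Nat.card_congr e1, ← Nat.card_congr (Equiv.ofBijective _
    (FiniteField.bijective_frobeniusAlgEquivOfAlgebraic_pow (ZMod p) F)), Nat.card_fin, hfin]

end Cfsg.Agent.Lib.Lead.Stein
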