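import Cfsg.Agent.Lib.Helper7.ChevWordGL
import Cfsg.Agent.Lib.Helper7.ChevFieldAut

/-! Base change of Chevalley groups along a ring homomorphism of fields (lead). -/

set_option autoImplicit false

namespace Cfsg.Agent.Lib.Lead.ChevFix

open Cfsg Cfsg.Lie Matrix Cfsg.Agent.Lib.Helper7

theorem xMat_map₂ (D : ChevalleyDatum) {F₁ F₂ : Type*} [Field F₁] [Field F₂] (f : F₁ →+* F₂)
    (r : Fin D.nroots) (t : F₁) :
    (D.xMat F₁ r t).map f = D.xMat F₂ r (f t) := by
  ext row col
  unfold ChevalleyDatum.xMat
  simp only [Matrix.map_apply, Matrix.of_apply]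
  rcases col with i | s
  · rcases row with i' | u
    · simp only; split_ifs <;> simp
    · simp only; split_ifs <;> simp
  · by_cases hsr : s = r
    · rcases row with i' | u
      · simp [hsr]
      · simp only [hsr, if_true]; split_ifs <;> simp
    · by_cases hneg : s.val = D.negIdx.getD r.val 0
      · rcases row with i' | u
        · simp [hsr, hneg]
        · simp only [hsr, if_false, hneg, if_true]; split_ifs <;> simp
      · rcases row with i' | u
        · simp only [hsr, if_false, hneg]; simp
        · simp only [hsr, if_false, hneg]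
          rw [map_add, map_list_sum, List.map_map]
          congr 1
          · split_ifs <;> simp
          · congr 1
            apply List.map_congr_left
            intro km _
            simp

theorem x_map₂ (D : ChevalleyDatum) {F₁ F₂ : Type*} [Field F₁] [Field F₂] (f : F₁ →+* F₂)
    (r : ℕ) (t : F₁) : (D.x F₁ r t).map f = D.x F₂ r (f t) := by
  unfold ChevalleyDatum.x
  split_ifs with h
  · exact xMat_map₂ D f ⟨r, h⟩ t
  · ext i j; simp [Matrix.one_apply]

section
variable (D : ChevalleyDatum) (hD : D ∈ [chevG2, chevB2, chevD4, chevF4, chevE6, chevE7, chevE8])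
variable {F₁ F₂ : Type*} [Field F₁] [Field F₂] (f : F₁ →+* F₂)

/-- base change of invertible matrices -/
noncomputable def glMap : GL D.Idx F₁ →* GL D.Idx F₂ := Matrix.GeneralLinearGroup.map f

theorem glMap_coe (g : GL D.Idx F₁) :
    ((glMap D f g : GL D.Idx F₂) : Matrix D.Idx D.Idx F₂) = (g : Matrix D.Idx D.Idx F₁).map f := rfl

theorem glMap_injective : Function.Injective (glMap D f) := by
  intro g g' h
  apply Units.ext
  have h1 : (g : Matrix D.Idx D.Idx F₁).map f = (g' : Matrix D.Idx D.Idx F₁).map f := by
    rw [← glMap_coe, ← glMap_coe, h]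
  ext i j
  apply f.injective
  have := congrFun (congrFun h1 i) j
  simpa using this

include hD in
theorem glMap_xGL (r : ℕ) (t : F₁) : glMap D f (xGL D hD F₁ r t) = xGL D hD F₂ r (f t) := by
  apply Units.ext
  rw [glMap_coe, coe_xGL, coe_xGL, x_map₂]

/-- push a word forward -/
def mapWord (w : List (ℕ × F₁)) : List (ℕ × F₂) := w.map fun p => (p.1, f p.2)

include hD in
theorem glMap_wordGL (w : List (ℕ × F₁)) :
    glMap D f (wordGL D hD F₁ w) = wordGL D hD F₂ (mapWord f w) := by
  unfold wordGL mapWord
  induction w with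
  | nil => simp
  | cons p w ih =>
    rw [List.map_cons, List.prod_cons, map_mul, ih, glMap_xGL D hD f, List.map_cons, List.map_cons,
      List.prod_cons]

/-- the image of the Chevalley group over the small field -/
noncomputable def G0 : Subgroup (GL D.Idx F₂) := (D.group F₁).map (glMap D f)

include hD in
theorem G0_le : G0 D f ≤ D.group F₂ := by
  unfold G0 ChevalleyDatum.group
  rw [MonoidHom.map_closure, Subgroup.closure_le]
  rintro _ ⟨g, ⟨r, t, hg⟩, rfl⟩
  apply Subgroup.subset_closure
  refine ⟨r, f t, ?_⟩
  show ((glMap D f g : GL D.Idx F₂) : Matrix D.Idx D.Idx F₂) = _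
  rw [glMap_coe, hg, xMat_map₂]

include hD in
theorem xGL_mem_G0 (r : ℕ) (t : F₁) : xGL D hD F₂ r (f t) ∈ G0 D f := by
  rw [← glMap_xGL D hD f]
  exact ⟨_, xGL_mem_group D hD F₁ r t, rfl⟩

include hD in
theorem wordGL_mem_G0 (w : List (ℕ × F₁)) : wordGL D hD F₂ (mapWord f w) ∈ G0 D f := by
  rw [← glMap_wordGL D hD f]
  exact ⟨_, wordGL_mem_group D hD F₁ w, rfl⟩

/-- the Chevalley group over the small field is isomorphic to its image -/
noncomputable def equivG0 : ↥(D.group F₁) ≃* ↥(G0 D f) :=
  (D.group F₁).equivMapOfInjective (glMap D f) (glMap_injective D f)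

end

end Cfsg.Agent.Lib.Lead.ChevFix
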