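import Cfsg.Agent.Lib.Lead.CentClA
import Cfsg.Prelude.Def_KGroupFacts

/-! A finite perfect central extension `θ : C → G` through which every finite central extension of `G` factors
has trivial Schur multiplier (lead). -/

set_option autoImplicit false

namespace Cfsg.Agent.Lib.Lead.CentCl

open scoped commutatorElement

universe u

/-- a homomorphism from a perfect group to a commutative group is trivial -/
theorem hom_eq_one_of_perfect {C A : Type*} [Group C] [Group A] (hA : ∀ x y : A, x * y = y * x)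
    (hperf : commutator C = ⊤) (f : C →* A) (c : C) : f c = 1 := by
  have h1 : commutator C ≤ f.ker := by
    rw [commutator_eq_closure, Subgroup.closure_le]
    rintro _ ⟨a, b, rfl⟩
    rw [SetLike.mem_coe, MonoidHom.mem_ker, commutatorElement_def]
    simp only [map_mul, map_inv]
    rw [hA (f a) (f b), mul_assoc, mul_assoc, mul_inv_cancel_left, mul_inv_cancel]
  have : c ∈ f.ker := h1 (by rw [hperf]; trivial)
  exact this

/-- two homomorphisms from a perfect group which agree modulo a central subgroup are equal -/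
theorem hom_eq_of_perfect_of_central {C E : Type*} [Group C] [Group E] (hperf : commutator C = ⊤)
    (f g : C →* E) (h : ∀ c, (f c)⁻¹ * g c ∈ Subgroup.center E) : f = g := by
  -- `c ↦ (f c)⁻¹ * g c` is a homomorphism to the centre
  let z : C →* Subgroup.center E :=
    { toFun := fun c => ⟨(f c)⁻¹ * g c, h c⟩
      map_one' := by ext; simp
      map_mul' := by
        intro a b
        ext
        show (f (a * b))⁻¹ * g (a * b) = (f a)⁻¹ * g a * ((f b)⁻¹ * g b)
        have hb := Subgroup.mem_center_iff.mp (h a) (f b)⁻¹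
        rw [map_mul, map_mul, mul_inv_rev]
        calc (f b)⁻¹ * (f a)⁻¹ * (g a * g b) = ((f b)⁻¹ * ((f a)⁻¹ * g a)) * g b := by group
          _ = (((f a)⁻¹ * g a) * (f b)⁻¹) * g b := by rw [hb]
          _ = (f a)⁻¹ * g a * ((f b)⁻¹ * g b) := by group }
  ext c
  have hA : ∀ x y : Subgroup.center E, x * y = y * x := by
    intro x y
    apply Subtype.ext
    exact (Subgroup.mem_center_iff.mp x.2 y.1).symm
  have h1 := hom_eq_one_of_perfect hA hperf z c
  have h2 : (f c)⁻¹ * g c = 1 := congrArg Subtype.val h1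
  exact (inv_mul_eq_one.mp h2)

/-- a stem extension of a perfect group is perfect -/
theorem perfect_of_stem {Δ C : Type*} [Group Δ] [Group C] (ρ : Δ →* C) (hρ : Cfsg.IsStemExtension ρ)
    (hperf : commutator C = ⊤) : commutator Δ = ⊤ := by
  rw [eq_top_iff]
  intro x _
  obtain ⟨hsurj, -, hker⟩ := hρ
  -- `ρ x` is in the commutator subgroup of `C`, which is the image of that of `Δ`
  have h1 : (commutator Δ).map ρ = commutator C := by
    rw [commutator_def, Subgroup.map_commutator, ← MonoidHom.range_eq_map,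
      MonoidHom.range_eq_top.mpr hsurj, commutator_def]
  have h2 : ρ x ∈ (commutator Δ).map ρ := by rw [h1, hperf]; trivial
  obtain ⟨y, hy, hxy⟩ := h2
  have h3 : y⁻¹ * x ∈ ρ.ker := by
    rw [MonoidHom.mem_ker, map_mul, map_inv, hxy, inv_mul_cancel]
  have h4 : y * (y⁻¹ * x) ∈ commutator Δ := (commutator Δ).mul_mem hy (hker h3)
  rwa [mul_inv_cancel_left] at h4

/-- the preimage of the centre under a stem extension of a perfect group is central -/
theorem comap_center_le_of_stem {Δ C : Type*} [Group Δ] [Group C] (ρ : Δ →* C)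
    (hρ : Cfsg.IsStemExtension ρ) (hperf : commutator C = ⊤) :
    (Subgroup.center C).comap ρ ≤ Subgroup.center Δ := by
  have hΔ := perfect_of_stem ρ hρ hperf
  obtain ⟨hsurj, hcent, hker⟩ := hρ
  intro x hx
  rw [Subgroup.mem_comap] at hx
  -- `y ↦ x⁻¹ * y⁻¹ * x * y`, with values in the kernel, is a homomorphism to a commutative group
  have hval : ∀ y : Δ, x⁻¹ * y⁻¹ * x * y ∈ ρ.ker := by
    intro y
    rw [MonoidHom.mem_ker, map_mul, map_mul, map_mul, map_inv, map_inv]
    have := Subgroup.mem_center_iff.mp hx (ρ y)⁻¹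
    calc (ρ x)⁻¹ * (ρ y)⁻¹ * ρ x * ρ y = (ρ x)⁻¹ * ((ρ y)⁻¹ * ρ x) * ρ y := by group
      _ = (ρ x)⁻¹ * (ρ x * (ρ y)⁻¹) * ρ y := by rw [this]
      _ = 1 := by group
  let f : Δ →* Subgroup.center Δ :=
    { toFun := fun y => ⟨x⁻¹ * y⁻¹ * x * y, hcent (hval y)⟩
      map_one' := by ext; simp
      map_mul' := by
        intro a b
        ext
        show x⁻¹ * (a * b)⁻¹ * x * (a * b) = x⁻¹ * a⁻¹ * x * a * (x⁻¹ * b⁻¹ * x * b)
        have ha := Subgroup.mem_center_iff.mp (hcent (hval a)) (x⁻¹ * b⁻¹ * x)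
        calc x⁻¹ * (a * b)⁻¹ * x * (a * b) = (x⁻¹ * b⁻¹ * x) * (x⁻¹ * a⁻¹ * x * a) * b := by group
          _ = (x⁻¹ * a⁻¹ * x * a) * (x⁻¹ * b⁻¹ * x) * b := by rw [ha]
          _ = x⁻¹ * a⁻¹ * x * a * (x⁻¹ * b⁻¹ * x * b) := by group }
  rw [Subgroup.mem_center_iff]
  intro y
  have hA : ∀ x y : Subgroup.center Δ, x * y = y * x := by
    intro x y
    apply Subtype.ext
    exact (Subgroup.mem_center_iff.mp x.2 y.1).symm
  have h1 := hom_eq_one_of_perfect hA hΔ f y
  have h2 : x⁻¹ * y⁻¹ * x * y = 1 := congrArg Subtype.val h1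
  calc y * x = x * y * (x⁻¹ * y⁻¹ * x * y)⁻¹ := by group
    _ = x * y := by rw [h2, inv_one, mul_one]

/-- **A universal perfect central extension has trivial Schur multiplier.** -/
theorem trivial_multiplier_of_universal {C G : Type u} [Group C] [Finite C] [Group G]
    (θ : C →* G) (hθ : Function.Surjective θ) (hker : θ.ker ≤ Subgroup.center C)
    (hperf : commutator C = ⊤)
    (huniv : ∀ (Δ : Type u) [Group Δ] [Finite Δ] (π : Δ →* G), Function.Surjective π →
      π.ker ≤ Subgroup.center Δ → ∃ τ : C →* Δ, π.comp τ = θ) :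
    Cfsg.HasCyclicSchurMultiplier C 1 := by
  have key : ∀ (Δ : Type u) [Group Δ] [Finite Δ] (ρ : Δ →* C), Cfsg.IsStemExtension ρ → ρ.ker = ⊥ := by
    intro Δ _ _ ρ hρ
    have hΔ := perfect_of_stem ρ hρ hperf
    have hcomap := comap_center_le_of_stem ρ hρ hperf
    obtain ⟨hsurj, hcent, hkerρ⟩ := hρ
    have hπker : (θ.comp ρ).ker ≤ Subgroup.center Δ := by
      intro x hx
      apply hcomap
      rw [Subgroup.mem_comap]
      apply hker
      rw [MonoidHom.mem_ker] at hx ⊢
      exact hx
    obtain ⟨τ, hτ⟩ := huniv Δ (θ.comp ρ) (hθ.comp hsurj) hπker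
    -- `ρ ∘ τ` is the identity
    have hid : ρ.comp τ = MonoidHom.id C := by
      apply hom_eq_of_perfect_of_central hperf
      intro c
      apply hker
      rw [MonoidHom.mem_ker, map_mul, map_inv, MonoidHom.id_apply]
      have : θ (ρ (τ c)) = θ c := by
        have := congrArg (fun f => f c) hτ
        exact this
      rw [MonoidHom.comp_apply, this, inv_mul_cancel]
    -- every element is `τ (ρ x)` times an element of the kernel, so the commutator subgroup is in the range of `τ`
    have hdecomp : ∀ x : Δ, (τ (ρ x))⁻¹ * x ∈ ρ.ker := by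
      intro x
      rw [MonoidHom.mem_ker, map_mul, map_inv]
      have : ρ (τ (ρ x)) = ρ x := congrArg (fun f => f (ρ x)) hid
      rw [this, inv_mul_cancel]
    have hcomm : commutator Δ ≤ τ.range := by
      rw [commutator_eq_closure, Subgroup.closure_le]
      rintro _ ⟨a, b, rfl⟩
      rw [SetLike.mem_coe]
      have ha : ρ a = ρ (τ (ρ a)) := (congrArg (fun f => f (ρ a)) hid).symm
      have hb : ρ b = ρ (τ (ρ b)) := (congrArg (fun f => f (ρ b)) hid).symm
      have : ⁅a, b⁆ = ⁅τ (ρ a), τ (ρ b)⁆ := commutator_congr ρ hcent ha hb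
      rw [this, ← map_commutatorElement]
      exact ⟨_, rfl⟩
    rw [eq_bot_iff]
    intro x hx
    obtain ⟨c, rfl⟩ := hcomm (hkerρ hx)
    rw [MonoidHom.mem_ker] at hx
    have : ρ (τ c) = c := congrArg (fun f => f c) hid
    rw [this] at hx
    rw [Subgroup.mem_bot, hx, map_one]
  refine ⟨⟨C, inferInstance, inferInstance, MonoidHom.id C, ⟨Function.surjective_id, ?_, ?_⟩, ?_⟩, ?_⟩
  · intro x hx
    rw [MonoidHom.mem_ker, MonoidHom.id_apply] at hx
    rw [hx]; exact Subgroup.one_mem _
  · intro x hx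
    rw [MonoidHom.mem_ker, MonoidHom.id_apply] at hx
    rw [hx]; exact Subgroup.one_mem _
  · have hbot : (MonoidHom.id C).ker = ⊥ := by
      rw [eq_bot_iff]
      intro x hx
      rw [MonoidHom.mem_ker, MonoidHom.id_apply] at hx
      rw [Subgroup.mem_bot, hx]
    have : Subsingleton ((MonoidHom.id C).ker) := by rw [hbot]; infer_instance
    have : Unique ((MonoidHom.id C).ker) := ⟨⟨1⟩, fun x => Subsingleton.elim _ _⟩
    have : Unique (Multiplicative (ZMod 1)) := by
      show Unique (ZMod 1)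
      infer_instance
    exact ⟨MulEquiv.ofUnique⟩
  · intro Δ _ _ ρ hρ
    have hbot := key Δ ρ hρ
    refine ⟨1, ?_⟩
    intro ⟨x, hx⟩
    refine ⟨1, ?_⟩
    apply Subtype.ext
    rw [hbot, Subgroup.mem_bot] at hx
    simp [hx]

end Cfsg.Agent.Lib.Lead.CentCl
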