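import Cfsg.Agent.Lib.Lead.CentClG
import Cfsg.Agent.Lib.Lead.CentClU
import Cfsg.Agent.Lib.Helper11.StPresG
import Cfsg.Agent.Lib.Helper7.ChevStCoverMain
import Cfsg.Agent.Lib.Helper7.ChevLongCent
import Cfsg.Agent.S3958

/-! Schur multipliers of simply laced Chevalley groups over finite fields: the Steinberg group has trivial Schur
multiplier, so the Schur multiplier of the Chevalley group is the kernel of the canonical homomorphism (lead). -/

set_option autoImplicit false

namespace Cfsg.Agent.Lib.Lead.CentCl

open Cfsg Cfsg.Lie Cfsg.Agent.Lib.Helper7 Cfsg.Agent.Lib.Helper11.StPres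

universe u

section
variable {D : ChevalleyDatum} (hD : D ∈ [chevG2, chevB2, chevD4, chevF4, chevE6, chevE7, chevE8])
variable {Φ : SLRoots} (hC : SLCompat D Φ) {K : Type u} [Field K] [Finite K]

include hC in
/-- every central extension of the Chevalley group is covered by the Steinberg group -/
theorem exists_hom_lift {Δ : Type*} [Group Δ] (π : Δ →* ↥(D.group K)) (hπ : Function.Surjective π)
    (hc : π.ker ≤ Subgroup.center Δ) :
    ∃ τ : D.SteinbergGroup K →* Δ, π.comp τ = (stData hD (K := K)).θG := by
  set S := stData hD (K := K) with hS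
  let Y : SLGens Φ K ↥(D.group K) := (SLGens.ofStData hC S).map S.θG
  have hY : ∀ r t, Y.y r t = S.θG (S.x r t) := fun r t => rfl
  have hinj : ∀ q, q < Φ.n → Function.Injective (Y.y q) := by
    intro q hq t t' htt
    have hq' : q < D.nroots := hC.n_eq ▸ hq
    rw [hY, hY] at htt
    have h1 : S.θ (S.x q t) = S.θ (S.x q t') := congrArg Subtype.val htt
    rw [S.θ_x q hq', S.θ_x q hq'] at h1
    exact xGL_param_inj D hD K q hq' t t' h1
  obtain ⟨Y', hY'⟩ := exists_lift Y π hπ hc hinj
  obtain ⟨e, he⟩ := exists_cover_equiv D hD K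
  refine ⟨(coverHom hC Y').comp e.symm.toMonoidHom, ?_⟩
  apply PresentedGroup.ext
  rintro ⟨⟨r, hr⟩, t⟩
  have h1 : PresentedGroup.of (rels := D.steinbergRels K) ((⟨r, hr⟩ : Fin D.nroots), t) = D.stGen K r t := by
    unfold ChevalleyDatum.stGen ChevalleyDatum.stX PresentedGroup.of
    rw [dif_pos hr]
  rw [h1]
  have h2 : e.symm (D.stGen K r t) = D.scGen K r t := by
    rw [← he r t, MulEquiv.symm_apply_apply]
  rw [MonoidHom.comp_apply, MonoidHom.comp_apply]
  show π (coverHom hC Y' (e.symm (D.stGen K r t))) = S.θG (D.stGen K r t)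
  rw [h2, coverHom_scGen hC Y' r hr, hY' r (hC.n_eq ▸ hr) t, hY]
  rfl

include hD in
/-- over a finite field the Steinberg group is perfect -/
theorem steinbergGroup_perfect (hK : D ∈ [chevB2, chevG2] → ∃ x : K, x ≠ 0 ∧ x ≠ 1) :
    commutator (D.SteinbergGroup K) = ⊤ := by
  obtain ⟨e, -⟩ := exists_cover_equiv D hD K
  have h1 := stCover_perfect D hD K hK
  have h2 : (commutator (D.SteinbergCover K)).map e.toMonoidHom = commutator (D.SteinbergGroup K) := by
    rw [commutator_def, Subgroup.map_commutator, ← MonoidHom.range_eq_map,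
      MonoidHom.range_eq_top.mpr e.surjective, commutator_def]
  rw [← h2, h1, ← MonoidHom.range_eq_map, MonoidHom.range_eq_top.mpr e.surjective]

/-- the Steinberg group is finite if the kernel of the canonical homomorphism is -/
theorem steinbergGroup_finite (hker : Finite (stData hD (K := K)).θG.ker) : Finite (D.SteinbergGroup K) := by
  classical
  set S := stData hD (K := K) with hS
  have hfin : Finite (GL D.Idx K) := by
    have : Finite (Matrix D.Idx D.Idx K) := inferInstance
    exact Finite.of_injective (fun g : GL D.Idx K => (g : Matrix D.Idx D.Idx K)) Units.val_injective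
  have : Finite ↥(D.group K) := inferInstance
  let s : ↥(D.group K) → D.SteinbergGroup K := Function.surjInv S.θG_surjective
  have hs : ∀ g, S.θG (s g) = g := Function.surjInv_eq S.θG_surjective
  have hmem : ∀ c : D.SteinbergGroup K, (s (S.θG c))⁻¹ * c ∈ S.θG.ker := by
    intro c
    rw [MonoidHom.mem_ker, map_mul, map_inv, hs, inv_mul_cancel]
  let f : D.SteinbergGroup K → ↥(D.group K) × S.θG.ker := fun c => (S.θG c, ⟨_, hmem c⟩)
  apply Finite.of_injective f
  intro c c' hcc
  have h1 : S.θG c = S.θG c' := congrArg Prod.fst hcc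
  have h2 : (s (S.θG c))⁻¹ * c = (s (S.θG c'))⁻¹ * c' := congrArg (fun p => (p.2 : D.SteinbergGroup K)) hcc
  rw [h1] at h2
  exact mul_left_cancel h2

include hC in
/-- **the Steinberg group of a simply laced type over a finite field has trivial Schur multiplier** -/
theorem steinbergGroup_trivial_multiplier (hK : D ∈ [chevB2, chevG2] → ∃ x : K, x ≠ 0 ∧ x ≠ 1)
    (hker : Finite (stData hD (K := K)).θG.ker) : Cfsg.HasCyclicSchurMultiplier (D.SteinbergGroup K) 1 := by
  have := steinbergGroup_finite hD hker
  set S := stData hD (K := K) with hS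
  apply trivial_multiplier_of_universal S.θG S.θG_surjective
  · rw [S.θG_ker]; exact S.ker_le_center
  · exact steinbergGroup_perfect hD hK
  · intro Δ _ _ π hπ hc
    exact exists_hom_lift hD hC π hπ hc

include hC in
/-- **the Schur multiplier of a simply laced Chevalley group over a finite field is the kernel of the canonical
homomorphism from the Steinberg group** -/
theorem schur_of_compat (hK : D ∈ [chevB2, chevG2] → ∃ x : K, x ≠ 0 ∧ x ≠ 1)
    (hker : Finite (stData hD (K := K)).θG.ker) {A : Type*} [CommGroup A]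
    (e : (stData hD (K := K)).θG.ker ≃* A) : Cfsg.HasSchurMultiplier ↥(D.group K) A := by
  classical
  have hfinC := steinbergGroup_finite hD hker
  have hfin : Finite (GL D.Idx K) := by
    have : Finite (Matrix D.Idx D.Idx K) := inferInstance
    exact Finite.of_injective (fun g : GL D.Idx K => (g : Matrix D.Idx D.Idx K)) Units.val_injective
  have : Finite ↥(D.group K) := inferInstance
  set S := stData hD (K := K) with hS
  have hstem : Cfsg.IsStemExtension S.θG := by
    refine ⟨S.θG_surjective, ?_, ?_⟩
    · rw [S.θG_ker]; exact S.ker_le_center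
    · rw [steinbergGroup_perfect hD hK]; exact le_top
  have htriv := steinbergGroup_trivial_multiplier hD hC hK hker
  refine ⟨⟨D.SteinbergGroup K, inferInstance, inferInstance, S.θG, hstem, ⟨e⟩⟩, ?_⟩
  intro Δ _ _ τ hτ
  obtain ⟨π, hπ⟩ := Cfsg.Agent.S3958.result S.θG hstem htriv Δ τ hτ
  exact ⟨π.comp e.symm.toMonoidHom, hπ.comp e.symm.surjective⟩

end

end Cfsg.Agent.Lib.Lead.CentCl
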