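import Cfsg.Agent.Lib.Lead.CentClChkE6a
import Cfsg.Agent.Lib.Lead.CentClChkE6p0

/-! The simply laced root data of type E6 (lead). -/

set_option autoImplicit false
set_option maxRecDepth 1000000

namespace Cfsg.Agent.Lib.Lead.CentCl

open Cfsg Cfsg.Lie Cfsg.Agent.Lib.Helper7

theorem tabOK_E6 : TabOK chevE6 rowsE6 where
  hbase := baseB_E6
  hchain := chainB_E6
  hpair := by
    intro r s hr hs
    have hr' : r < rowsE6.length := by rw [baseB_length _ _ baseB_E6]; exact hr
    have hs' : s < rowsE6.length := by rw [baseB_length _ _ baseB_E6]; exact hs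
    exact pairChk_of_pairB _ _ _ pairB_E6_0 r s hr' (by omega) (by have : chevE6.nroots = 72 := rfl; omega) hs'

theorem mem_E6 : chevE6 ∈ [chevG2, chevB2, chevD4, chevF4, chevE6, chevE7, chevE8] := by simp

/-- the simply laced root data of type E6 -/
def slE6 : SLRoots := mkSL mem_E6 tabOK_E6

theorem slE6_compat : SLCompat chevE6 slE6 := mkSL_compat mem_E6 tabOK_E6

end Cfsg.Agent.Lib.Lead.CentCl
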