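import Mathlib
/-! Real forms of complex matrix representations (towards S4474): entrywise conjugation, Hilbert 90 style lemma. -/
set_option autoImplicit false
open Matrix Polynomial
open scoped ComplexConjugate ComplexOrder
namespace Cfsg.Agent.CharLib

/-- entrywise complex conjugate of a matrix -/
noncomputable def cbar {n : ℕ} (A : Matrix (Fin n) (Fin n) ℂ) : Matrix (Fin n) (Fin n) ℂ := A.map conj

theorem cbar_mul {n : ℕ} (A B : Matrix (Fin n) (Fin n) ℂ) : cbar (A * B) = cbar A * cbar B := by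
  unfold cbar
  exact Matrix.map_mul (f := starRingEnd ℂ)

theorem cbar_one {n : ℕ} : cbar (1 : Matrix (Fin n) (Fin n) ℂ) = 1 := by
  unfold cbar
  exact Matrix.map_one _ (map_zero _) (map_one _)

theorem cbar_cbar {n : ℕ} (A : Matrix (Fin n) (Fin n) ℂ) : cbar (cbar A) = A := by
  unfold cbar
  ext i j
  simp

theorem cbar_add {n : ℕ} (A B : Matrix (Fin n) (Fin n) ℂ) : cbar (A + B) = cbar A + cbar B := by
  unfold cbar
  ext i j
  simp

theorem cbar_smul {n : ℕ} (c : ℂ) (A : Matrix (Fin n) (Fin n) ℂ) : cbar (c • A) = conj c • cbar A := by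
  unfold cbar
  ext i j
  simp

theorem cbar_inv {n : ℕ} (A : Matrix (Fin n) (Fin n) ℂ) : cbar A⁻¹ = (cbar A)⁻¹ := by
  by_cases h : IsUnit A.det
  · have h1 : A * A⁻¹ = 1 := Matrix.mul_nonsing_inv A h
    have h2 : cbar A * cbar A⁻¹ = 1 := by rw [← cbar_mul, h1, cbar_one]
    exact (Matrix.inv_eq_right_inv h2).symm
  · have h' : ¬ IsUnit (cbar A).det := by
      intro hu
      apply h
      have : (cbar A).det = conj A.det := by
        unfold cbar
        exact (RingHom.map_det (starRingEnd ℂ) A).symm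
      rw [this] at hu
      rw [isUnit_iff_ne_zero] at hu ⊢
      intro h0
      exact hu (by rw [h0, map_zero])
    rw [Matrix.nonsing_inv_apply_not_isUnit A h, Matrix.nonsing_inv_apply_not_isUnit _ h']
    unfold cbar
    ext i j
    simp

theorem exists_unit_scalar_add {n : ℕ} (B : Matrix (Fin n) (Fin n) ℂ) :
    ∃ l : ℂ, l * conj l = 1 ∧ IsUnit (l • (1 : Matrix (Fin n) (Fin n) ℂ) + conj l • B).det := by
  classical
  set p := (-B).charpoly with hp
  have hmonic : p.Monic := Matrix.charpoly_monic _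
  have hdeg : p.natDegree = n := by
    rw [hp, Matrix.charpoly_natDegree_eq_dim]; simp
  have hp0 : p ≠ 0 := hmonic.ne_zero
  have hN : (n + 1) ≠ 0 := Nat.succ_ne_zero n
  set ζ : ℂ := Complex.exp (2 * Real.pi * Complex.I / ((n + 1 : ℕ) : ℂ)) with hζdef
  have hζ : IsPrimitiveRoot ζ (n + 1) := Complex.isPrimitiveRoot_exp _ hN
  -- some power of ζ is not a root
  have hex : ∃ k ∈ Finset.range (n + 1), p.eval (ζ ^ k) ≠ 0 := by
    by_contra hcon
    push Not at hcon
    have hsub : (Finset.range (n + 1)).image (fun k => ζ ^ k) ⊆ p.roots.toFinset := by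
      intro t ht
      obtain ⟨k, hk, rfl⟩ := Finset.mem_image.mp ht
      rw [Multiset.mem_toFinset, Polynomial.mem_roots hp0]
      exact hcon k hk
    have hcard : ((Finset.range (n + 1)).image (fun k => ζ ^ k)).card = n + 1 := by
      rw [Finset.card_image_of_injOn, Finset.card_range]
      intro a ha b hb hab
      exact hζ.pow_inj (Finset.mem_range.mp ha) (Finset.mem_range.mp hb) hab
    have h1 := Finset.card_le_card hsub
    have h2 : p.roots.toFinset.card ≤ n := by
      calc p.roots.toFinset.card ≤ Multiset.card p.roots := Multiset.toFinset_card_le _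
        _ ≤ p.natDegree := Polynomial.card_roots' p
        _ = n := hdeg
    omega
  obtain ⟨k, _, hk⟩ := hex
  set l : ℂ := Complex.exp (Real.pi * Complex.I * (k : ℂ) / ((n + 1 : ℕ) : ℂ)) with hl
  have hl2 : l ^ 2 = ζ ^ k := by
    rw [hl, hζdef, ← Complex.exp_nat_mul, ← Complex.exp_nat_mul]
    congr 1
    push_cast
    ring
  have hlnorm : ‖l‖ = 1 := by
    rw [hl]
    have : Real.pi * Complex.I * (k : ℂ) / ((n + 1 : ℕ) : ℂ) =
        ((Real.pi * k / ((n + 1 : ℕ) : ℝ) : ℝ) : ℂ) * Complex.I := by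
      push_cast; ring
    rw [this, Complex.norm_exp_ofReal_mul_I]
  have hlconj : l * conj l = 1 := by
    rw [Complex.mul_conj', hlnorm]; simp
  refine ⟨l, hlconj, ?_⟩
  have hfact : l • (1 : Matrix (Fin n) (Fin n) ℂ) + conj l • B =
      conj l • ((ζ ^ k) • (1 : Matrix (Fin n) (Fin n) ℂ) + B) := by
    rw [smul_add, smul_smul, ← hl2]
    congr 2
    calc l = l * (l * conj l) := by rw [hlconj, mul_one]
      _ = conj l * l ^ 2 := by ring
  rw [hfact, Matrix.det_smul, isUnit_iff_ne_zero]
  apply mul_ne_zero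
  · apply pow_ne_zero
    intro h0
    rw [h0, mul_zero] at hlconj
    exact zero_ne_one hlconj
  · rw [hp, Matrix.eval_charpoly] at hk
    convert hk using 2
    simp [Matrix.scalar_apply, Matrix.smul_one_eq_diagonal, sub_neg_eq_add]

end Cfsg.Agent.CharLib
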