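import Mathlib
import Cfsg.Agent.Lib.Lead.RealForm1
/-! Real forms, part 2: Hilbert 90 for matrices, antilinear involution from a symmetric invariant form. -/
set_option autoImplicit false
open Matrix Polynomial
open scoped ComplexConjugate ComplexOrder
namespace Cfsg.Agent.CharLib

theorem exists_real_form {n : ℕ} {G : Type*} (X : G → Matrix (Fin n) (Fin n) ℂ)
    (A : Matrix (Fin n) (Fin n) ℂ) (hA : A * cbar A = 1) (hXA : ∀ g, X g * A = A * cbar (X g)) :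
    ∃ S : Matrix (Fin n) (Fin n) ℂ, IsUnit S.det ∧ ∀ g, cbar (S * X g * S⁻¹) = S * X g * S⁻¹ := by
  obtain ⟨l, hl, hS⟩ := exists_unit_scalar_add (cbar A)
  set S := l • (1 : Matrix (Fin n) (Fin n) ℂ) + conj l • cbar A with hSdef
  have hA' : cbar A * A = 1 := by
    have := congrArg cbar hA
    rwa [cbar_mul, cbar_cbar, cbar_one] at this
  have hAdet : IsUnit A.det := by
    have := congrArg Matrix.det hA
    rw [Matrix.det_mul, Matrix.det_one] at this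
    exact IsUnit.of_mul_eq_one _ this
  have hSbar : cbar S = S * A := by
    rw [hSdef, cbar_add, cbar_smul, cbar_smul, cbar_one, cbar_cbar, Complex.conj_conj, add_mul,
      Matrix.smul_mul, Matrix.smul_mul, Matrix.one_mul, hA', add_comm]
  refine ⟨S, hS, fun g => ?_⟩
  rw [cbar_mul, cbar_mul, cbar_inv, hSbar, Matrix.mul_inv_rev]
  calc S * A * cbar (X g) * (A⁻¹ * S⁻¹) = S * (A * cbar (X g)) * A⁻¹ * S⁻¹ := by
        simp only [Matrix.mul_assoc]
    _ = S * (X g * A) * A⁻¹ * S⁻¹ := by rw [hXA]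
    _ = S * X g * (A * A⁻¹) * S⁻¹ := by simp only [Matrix.mul_assoc]
    _ = S * X g * S⁻¹ := by rw [Matrix.mul_nonsing_inv A hAdet, Matrix.mul_one]

theorem cbar_transpose_eq_conjTranspose {n : ℕ} (A : Matrix (Fin n) (Fin n) ℂ) : cbar Aᵀ = Aᴴ := by
  unfold cbar
  ext i j
  simp [Matrix.conjTranspose_apply]

theorem cbar_eq_conjTranspose_of_symm {n : ℕ} {M : Matrix (Fin n) (Fin n) ℂ} (h : Mᵀ = M) : cbar M = Mᴴ := by
  rw [← cbar_transpose_eq_conjTranspose, h]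

theorem cbar_eq_transpose_of_herm {n : ℕ} {H : Matrix (Fin n) (Fin n) ℂ} (h : Hᴴ = H) : cbar H = Hᵀ := by
  ext i j
  have := congrFun (congrFun h j) i
  simp only [Matrix.conjTranspose_apply] at this
  simp only [cbar, Matrix.map_apply, Matrix.transpose_apply]
  exact this

theorem exists_antilinear_involution {n : ℕ} {G : Type*} [Group G] [Fintype G]
    (X : G → Matrix (Fin n) (Fin n) ℂ) (hone : X 1 = 1) (hmul : ∀ g h, X (g * h) = X g * X h)
    (hschur : ∀ B : Matrix (Fin n) (Fin n) ℂ, (∀ g, X g * B = B * X g) → ∃ c : ℂ, B = c • 1)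
    (M : Matrix (Fin n) (Fin n) ℂ) (hM0 : M ≠ 0) (hMT : Mᵀ = M) (hMinv : ∀ g, (X g)ᵀ * M * X g = M) :
    ∃ A : Matrix (Fin n) (Fin n) ℂ, A * cbar A = 1 ∧ ∀ g, X g * A = A * cbar (X g) := by
  classical
  set H : Matrix (Fin n) (Fin n) ℂ := ∑ g, (X g)ᴴ * X g with hH
  have hXinv : ∀ g, X g⁻¹ * X g = 1 := fun g => by rw [← hmul, inv_mul_cancel, hone]
  have hHpd : H.PosDef := by
    rw [hH, ← Finset.add_sum_erase Finset.univ _ (Finset.mem_univ (1 : G))]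
    apply Matrix.PosDef.add_posSemidef
    · rw [hone]; simp only [conjTranspose_one, mul_one]; exact Matrix.PosDef.one
    · exact Matrix.posSemidef_sum _ (fun g _ => Matrix.posSemidef_conjTranspose_mul_self _)
  have hHherm : Hᴴ = H := hHpd.1
  have hHdet : IsUnit H.det := (Matrix.isUnit_iff_isUnit_det _).mp hHpd.isUnit
  have hHinv : ∀ h, (X h)ᴴ * H * X h = H := by
    intro h
    rw [hH, Finset.mul_sum, Finset.sum_mul]
    rw [← Equiv.sum_comp (Equiv.mulRight h) (fun g => (X g)ᴴ * X g)]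
    apply Finset.sum_congr rfl
    intro g _
    rw [Equiv.coe_mulRight, hmul, Matrix.conjTranspose_mul]
    simp only [Matrix.mul_assoc]
  have hHX : ∀ g, H * X g = (X g⁻¹)ᴴ * H := by
    intro g
    have := hHinv g⁻¹
    calc H * X g = ((X g⁻¹)ᴴ * H * X g⁻¹) * X g := by rw [this]
      _ = (X g⁻¹)ᴴ * H * (X g⁻¹ * X g) := by simp only [Matrix.mul_assoc]
      _ = (X g⁻¹)ᴴ * H := by rw [hXinv, Matrix.mul_one]
  have hMbar : ∀ g, (X g)ᴴ * cbar M * cbar (X g) = cbar M := by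
    intro g
    have := congrArg cbar (hMinv g)
    rwa [cbar_mul, cbar_mul, cbar_transpose_eq_conjTranspose] at this
  have hMX : ∀ g, cbar M * cbar (X g) = (X g⁻¹)ᴴ * cbar M := by
    intro g
    have := hMbar g⁻¹
    calc cbar M * cbar (X g) = ((X g⁻¹)ᴴ * cbar M * cbar (X g⁻¹)) * cbar (X g) := by rw [this]
      _ = (X g⁻¹)ᴴ * cbar M * (cbar (X g⁻¹) * cbar (X g)) := by simp only [Matrix.mul_assoc]
      _ = (X g⁻¹)ᴴ * cbar M := by rw [← cbar_mul, hXinv, cbar_one, Matrix.mul_one]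
  obtain ⟨A₀, hA₀⟩ : ∃ A₀, A₀ = H⁻¹ * cbar M := ⟨_, rfl⟩
  have hXH : ∀ g, X g * H⁻¹ = H⁻¹ * (X g⁻¹)ᴴ := by
    intro g
    calc X g * H⁻¹ = H⁻¹ * (H * X g) * H⁻¹ := by
          rw [← Matrix.mul_assoc, Matrix.nonsing_inv_mul H hHdet, Matrix.one_mul]
      _ = H⁻¹ * ((X g⁻¹)ᴴ * H) * H⁻¹ := by rw [hHX]
      _ = H⁻¹ * (X g⁻¹)ᴴ * (H * H⁻¹) := by simp only [Matrix.mul_assoc]
      _ = H⁻¹ * (X g⁻¹)ᴴ := by rw [Matrix.mul_nonsing_inv H hHdet, Matrix.mul_one]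
  have hXA₀ : ∀ g, X g * A₀ = A₀ * cbar (X g) := by
    intro g
    rw [hA₀, ← Matrix.mul_assoc, hXH, Matrix.mul_assoc, Matrix.mul_assoc, hMX]
  have hcomm : ∀ g, X g * (A₀ * cbar A₀) = (A₀ * cbar A₀) * X g := by
    intro g
    have h1 : cbar (X g) * cbar A₀ = cbar A₀ * X g := by
      have := congrArg cbar (hXA₀ g)
      rwa [cbar_mul, cbar_mul, cbar_cbar] at this
    rw [← Matrix.mul_assoc, hXA₀, Matrix.mul_assoc, h1, Matrix.mul_assoc]
  obtain ⟨c, hc⟩ := hschur _ hcomm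
  -- c is a positive real
  have hcH : c • H = Mᴴ * (Hᵀ)⁻¹ * M := by
    have h1 : H * (A₀ * cbar A₀) = c • H := by rw [hc, Matrix.mul_smul, Matrix.mul_one]
    rw [← h1, hA₀, cbar_mul, cbar_cbar, cbar_inv, cbar_eq_transpose_of_herm hHherm,
      cbar_eq_conjTranspose_of_symm hMT]
    simp only [Matrix.mul_assoc]
    rw [← Matrix.mul_assoc H H⁻¹, Matrix.mul_nonsing_inv H hHdet, Matrix.one_mul]
  have hPpd : ((Hᵀ)⁻¹).PosDef := hHpd.transpose.inv
  obtain ⟨y, hy⟩ : ∃ y : Fin n → ℂ, M *ᵥ y ≠ 0 := by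
    by_contra hcon
    push Not at hcon
    apply hM0
    ext i j
    have := congrFun (hcon (Pi.single j 1)) i
    simpa using this
  have hy0 : y ≠ 0 := by
    intro h; apply hy; rw [h, Matrix.mulVec_zero]
  have ha := hHpd.dotProduct_mulVec_pos hy0
  have hb := hPpd.dotProduct_mulVec_pos hy
  have hab : c * (star y ⬝ᵥ H *ᵥ y) = star (M *ᵥ y) ⬝ᵥ (Hᵀ)⁻¹ *ᵥ (M *ᵥ y) := by
    have h1 : star y ⬝ᵥ (c • H) *ᵥ y = c * (star y ⬝ᵥ H *ᵥ y) := by
      rw [Matrix.smul_mulVec, dotProduct_smul, smul_eq_mul]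
    rw [← h1, hcH, Matrix.star_mulVec, ← Matrix.mulVec_mulVec, ← Matrix.mulVec_mulVec,
      Matrix.dotProduct_mulVec]
  set a := star y ⬝ᵥ H *ᵥ y with hadef
  set b := star (M *ᵥ y) ⬝ᵥ (Hᵀ)⁻¹ *ᵥ (M *ᵥ y) with hbdef
  obtain ⟨ha1, ha2⟩ := Complex.pos_iff.mp ha
  obtain ⟨hb1, hb2⟩ := Complex.pos_iff.mp hb
  have ha' : a = (a.re : ℂ) := by apply Complex.ext <;> simp [← ha2]
  have hb' : b = (b.re : ℂ) := by apply Complex.ext <;> simp [← hb2]
  set r : ℝ := b.re / a.re with hr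
  have hrpos : 0 < r := div_pos hb1 ha1
  have hcr : c = (r : ℂ) := by
    have hane : (a.re : ℂ) ≠ 0 := by exact_mod_cast ha1.ne'
    rw [ha', hb'] at hab
    rw [hr]; push_cast
    rw [eq_div_iff hane]; exact hab
  set s : ℝ := 1 / Real.sqrt r with hs
  have hs2 : s * s * r = 1 := by
    rw [hs]
    have : Real.sqrt r * Real.sqrt r = r := Real.mul_self_sqrt hrpos.le
    have hsq : Real.sqrt r ≠ 0 := (Real.sqrt_pos.mpr hrpos).ne'
    field_simp
    linarith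
  refine ⟨(s : ℂ) • A₀, ?_, fun g => ?_⟩
  · rw [cbar_smul, Complex.conj_ofReal, Matrix.smul_mul, Matrix.mul_smul, smul_smul, hc, hcr, smul_smul]
    have : (s : ℂ) * (s : ℂ) * (r : ℂ) = 1 := by exact_mod_cast hs2
    rw [this, one_smul]
  · rw [Matrix.mul_smul, Matrix.smul_mul, hXA₀]

end Cfsg.Agent.CharLib
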