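import Mathlib
import Cfsg.Agent.Lib.Lead.RealForm2
import Cfsg.Agent.Lib.Lead.FSForm
/-! Frobenius–Schur: indicator 1 iff afforded by a real representation (S4474). -/
set_option autoImplicit false
open Matrix Polynomial Representation
open scoped ComplexConjugate
namespace Cfsg.Agent.CharLib

theorem exists_real_rep_of_indicator_one {G : Type*} [Group G] [Fintype G] (χ : IrrCharacter G)
    (h : (Nat.card G : ℂ)⁻¹ * ∑ s : G, (χ : G → ℂ) (s * s) = 1) :
    ∃ (n : ℕ) (ρ : Representation ℝ G (Fin n → ℝ)), ∀ g : G,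
      ((LinearMap.trace ℝ (Fin n → ℝ) (ρ g) : ℝ) : ℂ) = (χ : G → ℂ) g := by
  classical
  obtain ⟨n, ρ, hirr, hρ⟩ := χ.2
  have := hirr
  rw [← hρ] at h
  have hreal : ∀ g : G, (ρ.character g).im = 0 := by
    have hfs := (frobenius_schur ρ).2
    intro g
    by_contra hg
    have := hfs.mpr ⟨g, hg⟩
    rw [h] at this
    exact one_ne_zero this
  obtain ⟨⟨M, hM0, hMinv⟩, hsym⟩ := fs_form n ρ hirr hreal
  have hMT : Mᵀ = M := by
    have := hsym M hMinv
    rwa [h, one_smul] at this
  set X : G → Matrix (Fin n) (Fin n) ℂ := fun g => LinearMap.toMatrix' (ρ g) with hX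
  have hone : X 1 = 1 := by simp [hX]
  have hmul : ∀ g h, X (g * h) = X g * X h := by
    intro g h
    simp only [hX, map_mul, Module.End.mul_eq_comp, LinearMap.toMatrix'_comp]
  have hschur : ∀ B : Matrix (Fin n) (Fin n) ℂ, (∀ g, X g * B = B * X g) → ∃ c : ℂ, B = c • 1 := by
    intro B hB
    have hT : ∀ g : G, Matrix.toLin' B ∘ₗ ρ g = ρ g ∘ₗ Matrix.toLin' B := by
      intro g
      have h1 : ρ g = Matrix.toLin' (X g) := by simp [hX]
      rw [h1, ← Matrix.toLin'_mul, ← Matrix.toLin'_mul, hB]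
    obtain ⟨c, hc⟩ := Cfsg.Agent.Lib.Helper24.exists_eq_smul_one_of_comm ρ (Matrix.toLin' B) hT
    refine ⟨c, ?_⟩
    have := congrArg LinearMap.toMatrix' hc
    simpa using this
  obtain ⟨A, hA1, hA2⟩ := exists_antilinear_involution X hone hmul hschur M hM0 hMT hMinv
  obtain ⟨S, hSdet, hS⟩ := exists_real_form X A hA1 hA2
  set Yc : G → Matrix (Fin n) (Fin n) ℂ := fun g => S * X g * S⁻¹ with hYc
  set Y : G → Matrix (Fin n) (Fin n) ℝ := fun g => (Yc g).map Complex.re with hY
  have hYmap : ∀ g, (Y g).map Complex.ofReal = Yc g := by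
    intro g
    ext i j
    have := congrFun (congrFun (hS g) i) j
    simp only [cbar, Matrix.map_apply] at this
    simp only [hY, Matrix.map_apply]
    exact Complex.conj_eq_iff_re.mp this
  have hinj : Function.Injective (fun B : Matrix (Fin n) (Fin n) ℝ => B.map Complex.ofReal) :=
    Matrix.map_injective Complex.ofReal_injective
  have hYone : Y 1 = 1 := by
    apply hinj
    show (Y 1).map Complex.ofReal = (1 : Matrix (Fin n) (Fin n) ℝ).map Complex.ofReal
    rw [hYmap, Matrix.map_one _ Complex.ofReal_zero Complex.ofReal_one]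
    simp only [hYc, hone, Matrix.mul_one]
    exact Matrix.mul_nonsing_inv S hSdet
  have hYmul : ∀ g h, Y (g * h) = Y g * Y h := by
    intro g h
    apply hinj
    show (Y (g * h)).map Complex.ofReal = (Y g * Y h).map Complex.ofReal
    have h0 : (Y g * Y h).map Complex.ofReal = (Y g).map Complex.ofReal * (Y h).map Complex.ofReal :=
      Matrix.map_mul (f := Complex.ofRealHom)
    rw [h0, hYmap, hYmap, hYmap]
    simp only [hYc, hmul]
    calc S * (X g * X h) * S⁻¹ = S * X g * (1 : Matrix (Fin n) (Fin n) ℂ) * X h * S⁻¹ := by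
          simp only [Matrix.mul_one, Matrix.mul_assoc]
      _ = S * X g * (S⁻¹ * S) * X h * S⁻¹ := by rw [Matrix.nonsing_inv_mul S hSdet]
      _ = S * X g * S⁻¹ * (S * X h * S⁻¹) := by simp only [Matrix.mul_assoc]
  let ρR : Representation ℝ G (Fin n → ℝ) :=
    { toFun := fun g => Matrix.toLin' (Y g)
      map_one' := by rw [hYone, Matrix.toLin'_one]; rfl
      map_mul' := fun g h => by rw [hYmul, Matrix.toLin'_mul]; rfl }
  refine ⟨n, ρR, fun g => ?_⟩
  show ((LinearMap.trace ℝ (Fin n → ℝ) (Matrix.toLin' (Y g)) : ℝ) : ℂ) = _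
  rw [Matrix.trace_toLin'_eq, ← hρ]
  have h1 : ((Y g).trace : ℂ) = ((Y g).map Complex.ofReal).trace := by
    simp [Matrix.trace]
  rw [h1, hYmap]
  simp only [hYc]
  rw [Matrix.trace_mul_cycle, Matrix.nonsing_inv_mul S hSdet, Matrix.one_mul]
  simp only [hX, Representation.character]
  rw [LinearMap.trace_eq_matrix_trace ℂ (Pi.basisFun ℂ (Fin n)), LinearMap.toMatrix_eq_toMatrix']

theorem isIrreducible_of_equiv {G : Type*} [Group G] {V W : Type*} [AddCommGroup V] [Module ℂ V]
    [AddCommGroup W] [Module ℂ W] (ρ : Representation ℂ G V) (σ : Representation ℂ G W)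
    (e : ρ.Equiv σ) (h : ρ.IsIrreducible) : σ.IsIrreducible := by
  have hσ : σ = conjRep ρ e.toLinearEquiv := by
    apply MonoidHom.ext
    intro g
    apply LinearMap.ext
    intro w
    rw [conjRep_apply]
    have h1 := LinearMap.congr_fun (e.isIntertwining' g) (e.toLinearEquiv.symm w)
    simp only [LinearMap.comp_apply] at h1
    have h2 : e.toLinearMap (e.toLinearEquiv.symm w) = w := e.toLinearEquiv.apply_symm_apply w
    rw [h2] at h1
    exact h1.symm
  rw [hσ]
  exact isIrreducible_conjRep ρ _ h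

/-- A representation whose character is an irreducible character is irreducible. -/
theorem isIrreducible_of_isIrrCharacter {G : Type*} [Group G] [Finite G] {W : Type*} [AddCommGroup W]
    [Module ℂ W] [FiniteDimensional ℂ W] (σ : Representation ℂ G W) (h : IsIrrCharacter G σ.character) :
    σ.IsIrreducible := by
  obtain ⟨m, ρ', hirr', hρ'⟩ := h
  obtain ⟨e⟩ := nonempty_equiv_of_character_eq ρ' σ hρ'
  exact isIrreducible_of_equiv ρ' σ e hirr'

theorem indicator_one_of_real_rep {G : Type*} [Group G] [Fintype G] (χ : IrrCharacter G)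
    (n : ℕ) (ρR : Representation ℝ G (Fin n → ℝ))
    (h : ∀ g : G, ((LinearMap.trace ℝ (Fin n → ℝ) (ρR g) : ℝ) : ℂ) = (χ : G → ℂ) g) :
    (Nat.card G : ℂ)⁻¹ * ∑ s : G, (χ : G → ℂ) (s * s) = 1 := by
  classical
  set Y : G → Matrix (Fin n) (Fin n) ℝ := fun g => LinearMap.toMatrix' (ρR g) with hY
  have hYone : Y 1 = 1 := by simp [hY]
  have hYmul : ∀ g h, Y (g * h) = Y g * Y h := by
    intro g h
    simp only [hY, map_mul, Module.End.mul_eq_comp, LinearMap.toMatrix'_comp]
  set Yc : G → Matrix (Fin n) (Fin n) ℂ := fun g => (Y g).map Complex.ofReal with hYc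
  have hYcone : Yc 1 = 1 := by
    simp only [hYc, hYone]
    exact Matrix.map_one _ Complex.ofReal_zero Complex.ofReal_one
  have hYcmul : ∀ g h, Yc (g * h) = Yc g * Yc h := by
    intro g h
    simp only [hYc, hYmul]
    exact Matrix.map_mul (f := Complex.ofRealHom)
  let σ : Representation ℂ G (Fin n → ℂ) :=
    { toFun := fun g => Matrix.toLin' (Yc g)
      map_one' := by rw [hYcone, Matrix.toLin'_one]; rfl
      map_mul' := fun g h => by rw [hYcmul, Matrix.toLin'_mul]; rfl }
  have hσX : ∀ g, LinearMap.toMatrix' (σ g) = Yc g := by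
    intro g
    show LinearMap.toMatrix' (Matrix.toLin' (Yc g)) = Yc g
    exact LinearMap.toMatrix'_toLin' _
  have hσchar : σ.character = (χ : G → ℂ) := by
    funext g
    show LinearMap.trace ℂ (Fin n → ℂ) (Matrix.toLin' (Yc g)) = _
    rw [Matrix.trace_toLin'_eq, ← h g]
    have h1 : ((Y g).map Complex.ofReal).trace = ((Y g).trace : ℂ) := by
      simp [Matrix.trace]
    simp only [hYc]
    rw [h1, hY]
    simp only
    rw [LinearMap.trace_eq_matrix_trace ℝ (Pi.basisFun ℝ (Fin n)), LinearMap.toMatrix_eq_toMatrix']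
  have hirr : σ.IsIrreducible := isIrreducible_of_isIrrCharacter σ (hσchar ▸ χ.2)
  have hreal : ∀ g : G, (σ.character g).im = 0 := by
    intro g
    rw [hσchar, ← h g]
    exact Complex.ofReal_im _
  obtain ⟨_, hsym⟩ := fs_form n σ hirr hreal
  -- the invariant symmetric form
  set Mr : Matrix (Fin n) (Fin n) ℝ := ∑ g, (Y g)ᵀ * Y g with hMr
  set M : Matrix (Fin n) (Fin n) ℂ := Mr.map Complex.ofReal with hM
  have hMrinv : ∀ h, (Y h)ᵀ * Mr * Y h = Mr := by
    intro h
    rw [hMr, Finset.mul_sum, Finset.sum_mul]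
    rw [← Equiv.sum_comp (Equiv.mulRight h) (fun g => (Y g)ᵀ * Y g)]
    apply Finset.sum_congr rfl
    intro g _
    rw [Equiv.coe_mulRight, hYmul, Matrix.transpose_mul]
    simp only [Matrix.mul_assoc]
  have hMinv : ∀ g : G, (LinearMap.toMatrix' (σ g))ᵀ * M * LinearMap.toMatrix' (σ g) = M := by
    intro g
    rw [hσX]
    have := congrArg (fun B : Matrix (Fin n) (Fin n) ℝ => B.map Complex.ofReal) (hMrinv g)
    beta_reduce at this
    have e1 : ((Y g)ᵀ * Mr * Y g).map Complex.ofReal =
        ((Y g)ᵀ * Mr).map Complex.ofReal * (Y g).map Complex.ofReal :=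
      Matrix.map_mul (f := Complex.ofRealHom)
    have e2 : ((Y g)ᵀ * Mr).map Complex.ofReal =
        ((Y g)ᵀ).map Complex.ofReal * Mr.map Complex.ofReal :=
      Matrix.map_mul (f := Complex.ofRealHom)
    rw [e1, e2, Matrix.transpose_map] at this
    rw [hM]
    simp only [hYc]
    exact this
  have hMT : Mᵀ = M := by
    rw [hM, ← Matrix.transpose_map, hMr, Matrix.transpose_sum]
    congr 1
    apply Finset.sum_congr rfl
    intro g _
    rw [Matrix.transpose_mul, Matrix.transpose_transpose]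
  have hn : 0 < n := by
    rcases Nat.eq_zero_or_pos n with h0 | h0
    · exfalso
      subst h0
      obtain ⟨k, hk, hk1⟩ := IsIrrCharacter.apply_one_pos χ.2
      have := h 1
      rw [hk1, map_one, LinearMap.trace_one, Module.finrank_fin_fun] at this
      have h2 : (0 : ℕ) = k := by exact_mod_cast this
      omega
    · exact h0
  have hM0 : M ≠ 0 := by
    intro h0
    have h1 : Mr = 0 := by
      apply Matrix.map_injective Complex.ofReal_injective
      show Mr.map Complex.ofReal = (0 : Matrix (Fin n) (Fin n) ℝ).map Complex.ofReal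
      rw [← hM, h0]; simp
    have h2 := congrFun (congrFun h1 ⟨0, hn⟩) ⟨0, hn⟩
    rw [hMr, Matrix.sum_apply] at h2
    have h3 : ∀ g ∈ Finset.univ, 0 ≤ ((Y g)ᵀ * Y g) ⟨0, hn⟩ ⟨0, hn⟩ := by
      intro g _
      rw [Matrix.mul_apply]
      apply Finset.sum_nonneg
      intro k _
      rw [Matrix.transpose_apply]
      exact mul_self_nonneg _
    have h4 := (Finset.sum_eq_zero_iff_of_nonneg h3).mp h2 1 (Finset.mem_univ _)
    rw [hYone] at h4
    simp at h4
  have := hsym M hMinv
  rw [hMT, hσchar] at this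
  -- (ν - 1) • M = 0
  have h5 : (((Nat.card G : ℂ)⁻¹ * ∑ s : G, (χ : G → ℂ) (s * s)) - 1) • M = 0 := by
    rw [sub_smul, one_smul, ← this, sub_self]
  rcases smul_eq_zero.mp h5 with h6 | h6
  · exact sub_eq_zero.mp h6
  · exact absurd h6 hM0

end Cfsg.Agent.CharLib
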