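import Mathlib
import Cfsg.Agent.Lib.Lead.OddIndexReal
import Cfsg.Agent.Lib.Helper6.CharExtra
import Cfsg.Agent.Lib.Helper6.AbelianQuot
/-! Normal subgroups of odd index and characters fixed by the Galois twist `g ↦ g^k`
(`k` inverting the elements of odd order, of 2-power order): existence and uniqueness of the
fixed character over a fixed character of `N`. -/
set_option autoImplicit false
open Cfsg Cfsg.Agent.Lib.Helper24 Cfsg.Agent.Lib.Helper6
open scoped ComplexConjugate
namespace Cfsg.Agent.CharLib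
universe u

section twist
variable {G : Type u} [Group G] [Fintype G] (N : Subgroup G) [hN : N.Normal] [Fintype N]

theorem twPerm_pow_of_modEq (k : ℕ) (hk : Nat.Coprime k (Nat.card G)) (e : ℕ)
    (hke : k ^ (2 ^ e) ≡ 1 [MOD Nat.card G]) : twPerm k hk ^ (2 ^ e) = 1 := by
  ext χ g
  rw [twPerm_pow_apply]
  have h1 : k ^ (2 ^ e) ≡ 1 [MOD orderOf g] := hke.of_dvd (orderOf_dvd_natCard g)
  have h2 := (pow_eq_pow_iff_modEq (x := g)).mpr h1
  rw [pow_one] at h2
  rw [h2]
  rfl

/-- In the quotient by a normal subgroup of odd index, `k` inverts every element. -/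
theorem mk_pow_eq_inv (hodd : Odd N.index) (k : ℕ)
    (hk₂ : ∀ g : G, Odd (orderOf g) → g ^ k = g⁻¹) (g : G) :
    ((g ^ k : G) : G ⧸ N) = ((g⁻¹ : G) : G ⧸ N) := by
  set a := (Nat.card G).factorization 2 with ha
  set r := Nat.card G / 2 ^ a with hr
  have hfac : 2 ^ a * r = Nat.card G := by
    rw [hr]
    exact Nat.mul_div_cancel' (Nat.ordProj_dvd (Nat.card G) 2)
  have hrodd : Odd r := by
    rw [← Nat.not_even_iff_odd, even_iff_two_dvd]
    exact Nat.not_dvd_ordCompl Nat.prime_two Nat.card_pos.ne'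
  set u := g ^ (2 ^ a) with hu
  have hur : u ^ r = 1 := by
    rw [hu, ← pow_mul, hfac]
    exact pow_card_eq_one'
  have huodd : Odd (orderOf u) := Odd.of_dvd_nat hrodd (orderOf_dvd_of_pow_eq_one hur)
  have h1 : u ^ (k + 1) = 1 := by
    rw [pow_succ, hk₂ u huodd, inv_mul_cancel]
  have h2 : g ^ (2 ^ a * (k + 1)) = 1 := by rw [pow_mul]; exact h1
  have h3 : ((g : G) : G ⧸ N) ^ (2 ^ a * (k + 1)) = 1 := by
    rw [← QuotientGroup.mk_pow, h2]; rfl
  have h4 : orderOf ((g : G) : G ⧸ N) ∣ 2 ^ a * (k + 1) := orderOf_dvd_of_pow_eq_one h3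
  have h5 : orderOf ((g : G) : G ⧸ N) ∣ N.index := by
    rw [Subgroup.index_eq_card]
    exact orderOf_dvd_natCard _
  have h6 : Nat.Coprime (orderOf ((g : G) : G ⧸ N)) (2 ^ a) := by
    apply Nat.Coprime.pow_right
    apply Nat.Coprime.coprime_dvd_left h5
    exact Nat.coprime_two_right.mpr hodd
  have h7 : orderOf ((g : G) : G ⧸ N) ∣ k + 1 := h6.dvd_of_dvd_mul_left h4
  have h8 : ((g : G) : G ⧸ N) ^ (k + 1) = 1 := orderOf_dvd_iff_pow_eq_one.mp h7
  rw [QuotientGroup.mk_pow, QuotientGroup.mk_inv]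
  rw [pow_succ] at h8
  exact eq_inv_of_mul_eq_one_left h8

/-- An irreducible character trivial on `N` is constant on the cosets of `N`. -/
theorem apply_eq_of_mk_eq (β : IrrCharacter G) (h : TrivOn N (β : G → ℂ)) {x y : G}
    (hxy : ((x : G) : G ⧸ N) = ((y : G) : G ⧸ N)) : (β : G → ℂ) x = (β : G → ℂ) y := by
  obtain ⟨n, ρ, hirr, hρ⟩ := β.2
  have h1 : (β : G → ℂ) 1 = (Module.finrank ℂ (Fin n → ℂ) : ℂ) := by
    rw [← hρ]; exact Representation.char_one ρ
  have hN' : ∀ z ∈ N, ρ z = 1 := by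
    intro z hz
    apply rep_eq_one_of_char_eq_finrank ρ z
    rw [hρ, ← h1]
    exact h ⟨z, hz⟩
  have hmem : x⁻¹ * y ∈ N := QuotientGroup.eq.mp hxy
  have h2 : ρ y = ρ x := by
    have : y = x * (x⁻¹ * y) := by group
    rw [this, map_mul, hN' _ hmem, mul_one]
  rw [← hρ]
  unfold Representation.character
  rw [h2]

theorem twPerm_fixed_iff (k : ℕ) (hk : Nat.Coprime k (Nat.card G)) (χ : IrrCharacter G) :
    twPerm k hk χ = χ ↔ ∀ g : G, (χ : G → ℂ) (g ^ k) = (χ : G → ℂ) g := by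
  rw [twPerm_apply]
  exact twIrr_eq_iff k hk χ

/-- Two irreducible characters of `G` fixed by the twist `g ↦ g^k` and lying over the same
irreducible character of a normal subgroup of odd index coincide. -/
theorem twist_unique_over (hodd : Odd N.index) (k : ℕ) (hk : Nat.Coprime k (Nat.card G)) (e : ℕ)
    (hke : k ^ (2 ^ e) ≡ 1 [MOD Nat.card G]) (hk₂ : ∀ g : G, Odd (orderOf g) → g ^ k = g⁻¹)
    (θ : IrrCharacter N) (χ₁ χ₂ : IrrCharacter G)
    (hr1 : ∀ g : G, (χ₁ : G → ℂ) (g ^ k) = (χ₁ : G → ℂ) g)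
    (hr2 : ∀ g : G, (χ₂ : G → ℂ) (g ^ k) = (χ₂ : G → ℂ) g)
    (ho1 : classInner (resFun N (χ₁ : G → ℂ)) (θ : N → ℂ) ≠ 0)
    (ho2 : classInner (resFun N (χ₂ : G → ℂ)) (θ : N → ℂ) ≠ 0) : χ₁ = χ₂ := by
  apply eq_of_fixed_of_over N (twPerm k hk) e (twPerm_pow_of_modEq k hk e hke) ?_ ?_ ?_ ?_ ?_ θ χ₁ χ₂
    ((twPerm_fixed_iff k hk χ₁).mpr hr1) ((twPerm_fixed_iff k hk χ₂).mpr hr2) ho1 ho2
  · apply Subtype.ext
    funext g
    rfl
  · intro β
    rw [twPerm_apply, twIrr_apply, one_pow]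
  · intro β h n
    rw [twPerm_apply, twIrr_apply, twIrr_apply, one_pow]
    have : ((n : G)) ^ k = ((n ^ k : N) : G) := rfl
    rw [this]
    exact h (n ^ k)
  · intro β h hfix
    apply Subtype.ext
    apply eq_one_of_trivOn_of_real N hodd β h
    intro g
    apply Complex.conj_eq_iff_im.mp
    have h1 := (twPerm_fixed_iff k hk β).mp hfix g
    have h2 := apply_eq_of_mk_eq N β h (mk_pow_eq_inv N hodd k hk₂ g)
    rw [← IsCharacter.apply_inv (IsIrrCharacter.isCharacter β.2) g, ← h2, h1]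
  · intro χ χ' β hχ hχ'
    have h1 := (twPerm_fixed_iff k hk χ).mp hχ
    have h2 := (twPerm_fixed_iff k hk χ').mp hχ'
    unfold classInner
    congr 1
    rw [← Equiv.sum_comp (powCoprime hk.symm)
      (fun g => (χ : G → ℂ) g * conj ((χ' : G → ℂ) g) * conj ((β : G → ℂ) g))]
    apply Finset.sum_congr rfl
    intro g _
    rw [powCoprime_apply, h1, h2, twPerm_apply, twIrr_apply]


/-- The multiplicity of a twist-fixed `θ` is invariant under the twist. -/
theorem classInner_res_twIrr (k : ℕ) (hk : Nat.Coprime k (Nat.card G))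
    (θ : N → ℂ) (hθ : ∀ n : N, θ (n ^ k) = θ n) (χ : IrrCharacter G) :
    classInner (resFun N ((twPerm k hk χ : IrrCharacter G) : G → ℂ)) θ =
      classInner (resFun N (χ : G → ℂ)) θ := by
  have hkN : Nat.Coprime (Nat.card N) k :=
    Nat.Coprime.coprime_dvd_left (Subgroup.card_subgroup_dvd_card N) hk.symm
  unfold classInner
  congr 1
  rw [← Equiv.sum_comp (powCoprime hkN) (fun n => resFun N (χ : G → ℂ) n * conj (θ n))]
  apply Finset.sum_congr rfl
  intro n _
  rw [powCoprime_apply, hθ n, resFun_apply, resFun_apply, twPerm_apply, twIrr_apply]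
  rfl

/-- Existence of a twist-fixed irreducible character over a twist-fixed `θ` (odd index), with odd
multiplicity. -/
theorem exists_twist_fixed_over (hodd : Odd N.index) (k : ℕ) (hk : Nat.Coprime k (Nat.card G))
    (e : ℕ) (hke : k ^ (2 ^ e) ≡ 1 [MOD Nat.card G])
    (θ : IrrCharacter N) (hθ : ∀ n : N, (θ : N → ℂ) (n ^ k) = (θ : N → ℂ) n) :
    ∃ χ : IrrCharacter G, (∀ g : G, (χ : G → ℂ) (g ^ k) = (χ : G → ℂ) g) ∧
      classInner (resFun N (χ : G → ℂ)) (θ : N → ℂ) ≠ 0 := by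
  classical
  let _ := fintypeIrr G
  have hn : ∀ χ : IrrCharacter G, ∃ n : ℕ, classInner (resFun N (χ : G → ℂ)) (θ : N → ℂ) = n :=
    fun χ => IsCharacter.classInner_nat
      (isCharacter_resFun N (IsIrrCharacter.isCharacter χ.2)) (IsIrrCharacter.isCharacter θ.2)
  choose n hn using hn
  have hninv : ∀ χ, n (twPerm k hk χ) = n χ := by
    intro χ
    have := classInner_res_twIrr N k hk (θ : N → ℂ) hθ χ
    rw [hn, hn] at this
    exact_mod_cast this
  obtain ⟨dθ, hdθpos, hdθ⟩ := IsIrrCharacter.apply_one_pos θ.2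
  have hdθ0 : (dθ : ℂ) ≠ 0 := by
    exact_mod_cast hdθpos.ne'
  set s := (conjOrbit N (θ : N → ℂ)).card with hs
  -- the degree identity
  have hcoef : ∀ χ : IrrCharacter G, classInner (indFun N (θ : N → ℂ)) (χ : G → ℂ) = n χ := by
    intro χ
    rw [frobenius_reciprocity N (θ : N → ℂ)
      (IsCharacter.isClassFunction (IsIrrCharacter.isCharacter χ.2))]
    rw [← classInner_conj_symm, ← resFun_eq, hn, Complex.conj_natCast]
  have hdeg : ∀ χ : IrrCharacter G, (n χ : ℂ) * (χ : G → ℂ) 1 = ((n χ * n χ * s * dθ : ℕ) : ℂ) := by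
    intro χ
    by_cases h0 : n χ = 0
    · rw [h0]; simp
    · have hne : classInner (resFun N (χ : G → ℂ)) (θ : N → ℂ) ≠ 0 := by
        rw [hn]; exact_mod_cast h0
      rw [clifford_degree N χ.2 θ.2 hne, hn, hdθ]
      push_cast
      ring
  have hval : indFun N (θ : N → ℂ) 1 = ((N.index * dθ : ℕ) : ℂ) := by
    rw [Cfsg.Agent.Lib.Helper6.indFun_apply_one, hdθ, ← Subgroup.card_mul_index N]
    have hN0 : (Nat.card N : ℂ) ≠ 0 := Nat.cast_ne_zero.mpr Nat.card_pos.ne'
    push_cast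
    field_simp
  have hexp := congrFun (classFunction_eq_sum (indFun_isClassFunction N (θ : N → ℂ))) 1
  rw [Finset.sum_apply] at hexp
  have hkey : N.index * dθ = (∑ χ : IrrCharacter G, n χ * n χ) * s * dθ := by
    have : ((N.index * dθ : ℕ) : ℂ) = (((∑ χ : IrrCharacter G, n χ * n χ) * s * dθ : ℕ) : ℂ) := by
      rw [← hval, hexp, Finset.sum_mul, Finset.sum_mul]
      push_cast
      apply Finset.sum_congr rfl
      intro χ _
      rw [Pi.smul_apply, smul_eq_mul, hcoef, hdeg]
      push_cast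
      ring
    exact_mod_cast this
  have hdθ0' : dθ ≠ 0 := by
    intro h; rw [h] at hdθ0; simp at hdθ0
  have hkey' : N.index = (∑ χ : IrrCharacter G, n χ * n χ) * s :=
    Nat.eq_of_mul_eq_mul_right (Nat.pos_of_ne_zero hdθ0') hkey
  have hoddsum : Odd (∑ χ : IrrCharacter G, n χ * n χ) := by
    apply Odd.of_dvd_nat hodd
    exact ⟨s, hkey'⟩
  have hz : ((∑ χ : IrrCharacter G, n χ * n χ : ℕ) : ZMod 2) = 1 := by
    rcases hoddsum with ⟨t, ht⟩
    rw [ht]
    push_cast
    have : (2 : ZMod 2) = 0 := rfl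
    rw [this, zero_mul, zero_add]
  push_cast at hz
  rw [sum_zmod_two_eq_sum_fixed (fun χ : IrrCharacter G => (n χ : ZMod 2) * (n χ : ZMod 2)) e
    (twPerm k hk) Finset.univ (fun a _ => Finset.mem_univ _) (twPerm_pow_of_modEq k hk e hke)
    (fun χ _ => by rw [hninv])] at hz
  by_contra hcon
  push Not at hcon
  have : ∑ χ ∈ Finset.univ.filter (fun χ : IrrCharacter G => twPerm k hk χ = χ),
      (n χ : ZMod 2) * (n χ : ZMod 2) = 0 := by
    apply Finset.sum_eq_zero
    intro χ hχ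
    rw [Finset.mem_filter] at hχ
    have h1 := hcon χ ((twPerm_fixed_iff k hk χ).mp hχ.2)
    rw [hn] at h1
    have : n χ = 0 := by exact_mod_cast h1
    rw [this]; simp
  rw [this] at hz
  exact zero_ne_one hz


/-- The number of linear characters of `G` trivial on a normal subgroup of odd index is odd. -/
theorem card_linear_trivOn_odd (hodd : Odd N.index) [Fintype (IrrCharacter G)]
    [DecidablePred (fun β : IrrCharacter G => TrivOn N (β : G → ℂ) ∧ (β : G → ℂ) 1 = 1)] :
    ((Finset.univ.filter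
      (fun β : IrrCharacter G => TrivOn N (β : G → ℂ) ∧ (β : G → ℂ) 1 = 1)).card : ZMod 2) = 1 := by
  classical
  rw [Finset.card_eq_sum_ones]
  push_cast
  rw [sum_zmod_two_eq_sum_fixed (fun _ : IrrCharacter G => (1 : ZMod 2)) 1 (cjPerm G)]
  · have hfilter : (Finset.univ.filter
        (fun β : IrrCharacter G => TrivOn N (β : G → ℂ) ∧ (β : G → ℂ) 1 = 1)).filter
        (fun β => cjPerm G β = β) = {trivIrr G} := by
      ext β
      simp only [Finset.mem_filter, Finset.mem_univ, true_and, Finset.mem_singleton]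
      constructor
      · rintro ⟨⟨h1, -⟩, h2⟩
        apply Subtype.ext
        apply eq_one_of_trivOn_of_real N hodd β h1
        intro g
        exact Complex.conj_eq_iff_im.mp (conj_eq_of_cjPerm_eq h2 g)
      · rintro rfl
        refine ⟨⟨fun _ => rfl, rfl⟩, ?_⟩
        apply Subtype.ext
        funext g
        rw [cjPerm_apply]
        change conj (1 : ℂ) = 1
        exact map_one _
    rw [hfilter, Finset.sum_singleton]
  · intro β hβ
    rw [Finset.mem_filter] at hβ ⊢
    refine ⟨Finset.mem_univ _, ?_, ?_⟩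
    · intro n
      rw [cjPerm_apply, cjPerm_apply, hβ.2.1 n]
    · rw [cjPerm_apply, hβ.2.2, map_one]
  · ext χ g
    rw [pow_one, pow_two, Equiv.Perm.mul_apply, cjPerm_apply, cjPerm_apply, Complex.conj_conj]
    rfl
  · intro β _
    rfl

/-- If a twist-fixed `θ ∈ Irr(N)` (odd index) extends to `G`, it has a twist-fixed extension. -/
theorem exists_twist_fixed_extension (hodd : Odd N.index) (k : ℕ)
    (hk : Nat.Coprime k (Nat.card G)) (e : ℕ) (hke : k ^ (2 ^ e) ≡ 1 [MOD Nat.card G])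
    (θ : IrrCharacter N) (hθ : ∀ n : N, (θ : N → ℂ) (n ^ k) = (θ : N → ℂ) n)
    (χ' : IrrCharacter G) (hχ' : resFun N (χ' : G → ℂ) = (θ : N → ℂ)) :
    ∃ χ : IrrCharacter G, resFun N (χ : G → ℂ) = (θ : N → ℂ) ∧
      ∀ g : G, (χ : G → ℂ) (g ^ k) = (χ : G → ℂ) g := by
  classical
  let _ := fintypeIrr G
  set L := Finset.univ.filter
    (fun β : IrrCharacter G => TrivOn N (β : G → ℂ) ∧ (β : G → ℂ) 1 = 1) with hL
  set E := Finset.univ.filter
    (fun χ : IrrCharacter G => resFun N (χ : G → ℂ) = (θ : N → ℂ)) with hE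
  have hχ'N : IsIrrCharacter N (resFun N (χ' : G → ℂ)) := by rw [hχ']; exact θ.2
  have hbij := gallagher_bijOn N χ'.2 hχ'N
  have hχ'1 : (χ' : G → ℂ) 1 ≠ 0 := by
    obtain ⟨d, hd, hd1⟩ := IsIrrCharacter.apply_one_pos χ'.2
    rw [hd1]; exact_mod_cast hd.ne'
  -- membership in the Gallagher source set
  have hsrc : ∀ β : IrrCharacter G, TrivOn N (β : G → ℂ) → (β : G → ℂ) 1 = 1 →
      (β : G → ℂ) ∈ {β : G → ℂ | IsIrrCharacter G β ∧ classInner (indFun N (1 : N → ℂ)) β ≠ 0} := by
    intro β h1 h2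
    refine ⟨β.2, ?_⟩
    rw [frobenius_reciprocity N (1 : N → ℂ)
      (IsCharacter.isClassFunction (IsIrrCharacter.isCharacter β.2)), ← classInner_conj_symm,
      ← resFun_eq, classInner_res_one_of_trivOn N h1, h2, map_one]
    exact one_ne_zero
  have hcard : E.card = L.card := by
    symm
    apply Finset.card_bij (fun (β : IrrCharacter G) (hβ : β ∈ L) =>
      (⟨(β : G → ℂ) * (χ' : G → ℂ), isIrrCharacter_linear_mul (IsIrrCharacter.isCharacter β.2)
        (by rw [hL, Finset.mem_filter] at hβ; exact hβ.2.2) χ'.2⟩ : IrrCharacter G))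
    · intro β hβ
      rw [hL, Finset.mem_filter] at hβ
      rw [hE, Finset.mem_filter]
      refine ⟨Finset.mem_univ _, ?_⟩
      funext n
      rw [resFun_apply]
      change (β : G → ℂ) n * (χ' : G → ℂ) n = _
      rw [hβ.2.1 n, hβ.2.2, one_mul, ← hχ', resFun_apply]
    · intro β₁ hβ₁ β₂ hβ₂ heq
      rw [hL, Finset.mem_filter] at hβ₁ hβ₂
      apply Subtype.ext
      apply hbij.injOn (hsrc β₁ hβ₁.2.1 hβ₁.2.2) (hsrc β₂ hβ₂.2.1 hβ₂.2.2)
      exact congrArg Subtype.val heq
    · intro χ hχ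
      rw [hE, Finset.mem_filter] at hχ
      have htgt : (χ : G → ℂ) ∈ {ψ : G → ℂ | IsIrrCharacter G ψ ∧
          classInner (indFun N (resFun N (χ' : G → ℂ))) ψ ≠ 0} := by
        refine ⟨χ.2, ?_⟩
        rw [frobenius_reciprocity N _
          (IsCharacter.isClassFunction (IsIrrCharacter.isCharacter χ.2)), ← resFun_eq, hχ.2, hχ',
          classInner_irr θ.2 θ.2, if_pos rfl]
        exact one_ne_zero
      obtain ⟨β, ⟨hβirr, hβne⟩, hβeq⟩ := hbij.surjOn htgt
      have hβtriv : TrivOn N β := by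
        apply trivOn_of_classInner_res_one_ne_zero N ⟨β, hβirr⟩
        intro h0
        apply hβne
        rw [frobenius_reciprocity N (1 : N → ℂ)
          (IsCharacter.isClassFunction (IsIrrCharacter.isCharacter hβirr)),
          ← classInner_conj_symm, ← resFun_eq]
        change conj (classInner (resFun N β) (1 : N → ℂ)) = 0
        rw [h0, map_zero]
      have hβ1 : β 1 = 1 := by
        have h1 := congrFun hβeq 1
        change β 1 * (χ' : G → ℂ) 1 = (χ : G → ℂ) 1 at h1
        have h2 : (χ : G → ℂ) 1 = (χ' : G → ℂ) 1 := by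
          have a1 := congrFun hχ.2 1
          have a2 := congrFun hχ' 1
          rw [resFun_apply] at a1 a2
          change (χ : G → ℂ) 1 = _ at a1
          change (χ' : G → ℂ) 1 = _ at a2
          rw [a1, a2]
        rw [h2] at h1
        exact mul_right_cancel₀ hχ'1 (by rw [h1, one_mul])
      refine ⟨⟨β, hβirr⟩, ?_, ?_⟩
      · rw [hL, Finset.mem_filter]
        exact ⟨Finset.mem_univ _, hβtriv, hβ1⟩
      · apply Subtype.ext
        exact hβeq
  have hEodd : (E.card : ZMod 2) = 1 := by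
    rw [hcard]
    exact card_linear_trivOn_odd N hodd
  rw [Finset.card_eq_sum_ones] at hEodd
  push_cast at hEodd
  rw [sum_zmod_two_eq_sum_fixed (fun _ : IrrCharacter G => (1 : ZMod 2)) e (twPerm k hk) E ?_
    (twPerm_pow_of_modEq k hk e hke) (fun _ _ => rfl)] at hEodd
  · have hne : (E.filter (fun χ => twPerm k hk χ = χ)).Nonempty := by
      by_contra hemp
      rw [Finset.not_nonempty_iff_eq_empty] at hemp
      rw [hemp, Finset.sum_empty] at hEodd
      exact zero_ne_one hEodd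
    obtain ⟨χ, hχ⟩ := hne
    rw [Finset.mem_filter, hE, Finset.mem_filter] at hχ
    exact ⟨χ, hχ.1.2, (twPerm_fixed_iff k hk χ).mp hχ.2⟩
  · intro χ hχ
    rw [hE, Finset.mem_filter] at hχ ⊢
    refine ⟨Finset.mem_univ _, ?_⟩
    funext n
    rw [resFun_apply, twPerm_apply, twIrr_apply]
    have h1 : ((n : G)) ^ k = ((n ^ k : N) : G) := rfl
    rw [h1, ← hθ n]
    have := congrFun hχ.2 (n ^ k)
    rw [resFun_apply] at this
    exact this

end twist

end Cfsg.Agent.CharLib
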