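/-
Ito's theorem on p-solvable linear groups of small degree (lead), part A:
the minimal configuration.  A `p`-power order automorphism `σ` of a `q`-group `R` such that every proper
`σ`-invariant subgroup is centralized by `σ`, and a faithful `σ`-invariant irreducible character of degree `d`:
then `R` has class 2, `C_R(σ) = Z(R)`, `|R : Z(R)| = d^2` and `p ∣ d^2 - 1`.
-/
import Mathlib
import Cfsg.Prelude.Def_Characters
import Cfsg.Agent.Lib.Lead.CharOrtho
import Cfsg.Agent.Lib.Helper24.CentralElt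

set_option autoImplicit false

namespace Cfsg.Agent.CharLib.Ito

open Cfsg Representation Module
open scoped ComplexConjugate commutatorElement

universe u

variable {R : Type u} [Group R]

theorem mulAut_pow_apply_of_fixed (σ : MulAut R) (a c : R) (h1 : σ a = a * c) (h2 : σ c = c) (j : ℕ) :
    (σ ^ j) a = a * c ^ j := by
  induction j with
  | zero => simp
  | succ j ih =>
    rw [pow_succ', MulAut.mul_apply, ih, map_mul, map_pow, h1, h2, mul_assoc, ← pow_succ']

/-- An automorphism of order prime to `|R|` fixing all `a⁻¹ σ(a)` is trivial. -/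
theorem eq_of_fixes_comm [Finite R] (σ : MulAut R) (m : ℕ) (hσ : σ ^ m = 1) (hm : (Nat.card R).Coprime m)
    (h : ∀ a, σ (a⁻¹ * σ a) = a⁻¹ * σ a) (a : R) : σ a = a := by
  have h1 : σ a = a * (a⁻¹ * σ a) := by group
  have h2 := mulAut_pow_apply_of_fixed σ a (a⁻¹ * σ a) h1 (h a) m
  rw [hσ, MulAut.one_apply] at h2
  have h3 : (a⁻¹ * σ a) ^ m = 1 := by
    have : a * (a⁻¹ * σ a) ^ m = a * 1 := by rw [← h2, mul_one]
    exact mul_left_cancel this
  have h4 : (a⁻¹ * σ a) ^ (Nat.card R) = 1 := pow_card_eq_one'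
  have h5 : orderOf (a⁻¹ * σ a) ∣ Nat.gcd (Nat.card R) m :=
    Nat.dvd_gcd (orderOf_dvd_of_pow_eq_one h4) (orderOf_dvd_of_pow_eq_one h3)
  rw [hm, Nat.dvd_one, orderOf_eq_one_iff] at h5
  rw [h1, h5, mul_one]

theorem map_mem_center (σ : MulAut R) {z : R} (hz : z ∈ Subgroup.center R) : σ z ∈ Subgroup.center R := by
  rw [Subgroup.mem_center_iff] at hz ⊢
  intro g
  have h1 : g = σ (σ⁻¹ g) := by simp
  rw [h1, ← map_mul, ← map_mul, hz]


/-- The scalar by which a central element acts is determined by the character value. -/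
theorem rep_eq_of_central_of_char_eq {d : ℕ} (ρ : Representation ℂ R (Fin d → ℂ)) [ρ.IsIrreducible]
    (hd : d ≠ 0) {z w : R} (hz : z ∈ Subgroup.center R) (hw : w ∈ Subgroup.center R)
    (h : ρ.character z = ρ.character w) : ρ z = ρ w := by
  obtain ⟨c, hc⟩ := Cfsg.Agent.Lib.Helper24.exists_central_scalar ρ z hz
  obtain ⟨c', hc'⟩ := Cfsg.Agent.Lib.Helper24.exists_central_scalar ρ w hw
  rw [Cfsg.Agent.Lib.Helper24.char_scalar ρ z c hc, Cfsg.Agent.Lib.Helper24.char_scalar ρ w c' hc',
    Module.finrank_fin_fun] at h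
  have hd' : (d : ℂ) ≠ 0 := by exact_mod_cast hd
  have : c = c' := mul_right_cancel₀ hd' h
  rw [hc, hc', this]

section minimal

variable [Finite R] {p q : ℕ} (σ : MulAut R)

/-- The subgroup generated by the elements `a⁻¹ σ(a)`. -/
def commSub : Subgroup R := Subgroup.closure (Set.range fun a : R => a⁻¹ * σ a)

theorem map_mem_commSub {b : R} (hb : b ∈ commSub σ) : σ b ∈ commSub σ := by
  unfold commSub at hb ⊢
  induction hb using Subgroup.closure_induction with
  | mem x hx =>
    obtain ⟨a, rfl⟩ := hx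
    apply Subgroup.subset_closure
    exact ⟨σ a, by simp⟩
  | one => rw [map_one]; exact Subgroup.one_mem _
  | mul x y _ _ hx hy => rw [map_mul]; exact Subgroup.mul_mem _ hx hy
  | inv x _ hx => rw [map_inv]; exact Subgroup.inv_mem _ hx

theorem commSub_eq_top (m : ℕ) (hσ : σ ^ m = 1) (hm : (Nat.card R).Coprime m) (hσ1 : ∃ a, σ a ≠ a)
    (hmin : ∀ S : Subgroup R, S ≠ ⊤ → (∀ a ∈ S, σ a ∈ S) → ∀ a ∈ S, σ a = a) : commSub σ = ⊤ := by
  by_contra hne
  have h1 := hmin (commSub σ) hne (fun a ha => map_mem_commSub σ ha)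
  obtain ⟨a, ha⟩ := hσ1
  apply ha
  apply eq_of_fixes_comm σ m hσ hm
  intro b
  apply h1
  exact Subgroup.subset_closure ⟨b, rfl⟩

/-- A normal subgroup fixed pointwise by `σ` is central, when the `a⁻¹ σ(a)` generate. -/
theorem le_center_of_fixed (htop : commSub σ = ⊤) (M : Subgroup R) [M.Normal] (hM : ∀ a ∈ M, σ a = a) :
    M ≤ Subgroup.center R := by
  intro x hx
  have h1 : commSub σ ≤ Subgroup.centralizer {x} := by
    unfold commSub
    rw [Subgroup.closure_le]
    rintro _ ⟨a, rfl⟩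
    rw [SetLike.mem_coe, Subgroup.mem_centralizer_iff]
    intro y hy
    rw [Set.mem_singleton_iff] at hy
    subst hy
    have h2 : a * y * a⁻¹ ∈ M := ‹M.Normal›.conj_mem y hx a
    have h3 := hM _ h2
    rw [map_mul, map_mul, hM y hx, map_inv] at h3
    -- σ a * y * (σ a)⁻¹ = a * y * a⁻¹
    have h4 : y * (a⁻¹ * σ a) = a⁻¹ * (a * y * a⁻¹) * σ a := by group
    rw [h4, ← h3]
    group
  rw [htop] at h1
  rw [Subgroup.mem_center_iff]
  intro g
  have := h1 (Subgroup.mem_top g)
  rw [Subgroup.mem_centralizer_iff] at this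
  exact (this x rfl).symm


/-- The fixed points of `σ` are exactly the centre, in the minimal configuration. -/
theorem fixed_iff_mem_center (hq : q.Prime) (hR : IsPGroup q R)
    (m : ℕ) (hσ : σ ^ m = 1) (hm : (Nat.card R).Coprime m) (hσ1 : ∃ a, σ a ≠ a)
    (hmin : ∀ S : Subgroup R, S ≠ ⊤ → (∀ a ∈ S, σ a ∈ S) → ∀ a ∈ S, σ a = a)
    {d : ℕ} (ρ : Representation ℂ R (Fin d → ℂ)) [ρ.IsIrreducible] (hd : d ≠ 0)
    (hfaith : ∀ a, ρ a = 1 → a = 1) (hinv : ∀ a, ρ.character (σ a) = ρ.character a) :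
    commutator R ≤ Subgroup.center R ∧ ∀ a : R, σ a = a ↔ a ∈ Subgroup.center R := by
  have htop := commSub_eq_top σ m hσ hm hσ1 hmin
  -- (1) the centre is fixed
  have hZ : ∀ z ∈ Subgroup.center R, σ z = z := by
    intro z hz
    have h1 := rep_eq_of_central_of_char_eq ρ hd (map_mem_center σ hz) hz (hinv z)
    have h2 : ρ (z⁻¹ * σ z) = 1 := by
      rw [map_mul, h1, ← map_mul, inv_mul_cancel, map_one]
    have h3 := hfaith _ h2
    rw [inv_mul_eq_one] at h3
    exact h3.symm
  -- (5) the derived subgroup is central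
  haveI : Fact q.Prime := ⟨hq⟩
  haveI : Nontrivial R := by
    obtain ⟨a, ha⟩ := hσ1
    refine ⟨⟨a, 1, ?_⟩⟩
    rintro rfl
    exact ha (map_one σ)
  have hnil : Group.IsNilpotent R := hR.isNilpotent
  haveI : IsSolvable R := IsNilpotent.to_isSolvable
  have hlt : commutator R < ⊤ := IsSolvable.commutator_lt_top_of_nontrivial R
  have hchar : ∀ a ∈ commutator R, σ a ∈ commutator R := by
    intro a ha
    have hc : (commutator R).Characteristic := inferInstance
    have := (Subgroup.characteristic_iff_map_le.mp hc σ)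
    exact this ⟨a, ha, rfl⟩
  have hfixC := hmin (commutator R) hlt.ne hchar
  have hcomm : commutator R ≤ Subgroup.center R := le_center_of_fixed σ htop (commutator R) hfixC
  refine ⟨hcomm, ?_⟩
  -- the fixed subgroup is normal, hence central
  let C : Subgroup R := MonoidHom.eqLocus (σ : R ≃* R).toMonoidHom (MonoidHom.id R)
  have hCmem : ∀ a, a ∈ C ↔ σ a = a := fun a => Iff.rfl
  haveI : C.Normal := by
    constructor
    intro c hc a
    rw [hCmem] at hc ⊢
    have h1 : a * c * a⁻¹ * c⁻¹ ∈ commutator R := by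
      have : ⁅a, c⁆ ∈ commutator R := Subgroup.commutator_mem_commutator (Subgroup.mem_top a) (Subgroup.mem_top c)
      exact this
    have h2 := hfixC _ h1
    have h3 : a * c * a⁻¹ = (a * c * a⁻¹ * c⁻¹) * c := by group
    rw [h3, map_mul, h2, hc]
  have hCZ : C ≤ Subgroup.center R := le_center_of_fixed σ htop C (fun a ha => (hCmem a).mp ha)
  intro a
  exact ⟨fun h => hCZ ((hCmem a).mpr h), hZ a⟩

end minimal


section class2

variable {d : ℕ} (ρ : Representation ℂ R (Fin d → ℂ)) [ρ.IsIrreducible]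

theorem char_eq_zero_of_not_mem_center (hfaith : ∀ a, ρ a = 1 → a = 1)
    (hcomm : commutator R ≤ Subgroup.center R) {a : R} (ha : a ∉ Subgroup.center R) :
    ρ.character a = 0 := by
  rw [Subgroup.mem_center_iff] at ha
  push Not at ha
  obtain ⟨b, hb⟩ := ha
  have hzc : ⁅b, a⁆ ∈ Subgroup.center R :=
    hcomm (Subgroup.commutator_mem_commutator (Subgroup.mem_top b) (Subgroup.mem_top a))
  have hz1 : ⁅b, a⁆ ≠ 1 := by
    intro h
    rw [commutatorElement_eq_one_iff_mul_comm] at h
    exact hb h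
  obtain ⟨c, hc⟩ := Cfsg.Agent.Lib.Helper24.exists_central_scalar ρ _ hzc
  have hc1 : c ≠ 1 := by
    intro h
    apply hz1
    apply hfaith
    rw [hc, h, one_smul]
  have h1 : ρ.character (b * a * b⁻¹) = ρ.character a := char_conj ρ a b
  have h2 : b * a * b⁻¹ = ⁅b, a⁆ * a := by
    rw [commutatorElement_def]; group
  rw [h2, Cfsg.Agent.Lib.Helper24.char_scalar_mul ρ _ c hc a] at h1
  have h3 : (c - 1) * ρ.character a = 0 := by linear_combination h1
  rcases mul_eq_zero.mp h3 with h | h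
  · exact absurd (sub_eq_zero.mp h) hc1
  · exact h

theorem char_mul_conj_of_mem_center [Finite R] {z : R} (hz : z ∈ Subgroup.center R) :
    ρ.character z * conj (ρ.character z) = (d : ℂ) ^ 2 := by
  obtain ⟨c, hc⟩ := Cfsg.Agent.Lib.Helper24.exists_central_scalar ρ z hz
  have h1 := Cfsg.Agent.Lib.Helper24.char_scalar ρ z c hc
  have h2 := Cfsg.Agent.Lib.Helper24.char_scalar_mul ρ z c hc z⁻¹
  rw [mul_inv_cancel, char_one, Module.finrank_fin_fun] at h2
  rw [Module.finrank_fin_fun] at h1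
  rw [← Cfsg.Agent.CharLib.char_inv, h1]
  linear_combination (-(d : ℂ)) * h2

theorem card_eq_card_center_mul_sq [Finite R] (hfaith : ∀ a, ρ a = 1 → a = 1)
    (hcomm : commutator R ≤ Subgroup.center R) :
    Nat.card R = Nat.card (Subgroup.center R) * d ^ 2 := by
  classical
  letI := Fintype.ofFinite R
  have hirr : IsIrrCharacter R ρ.character := ⟨d, ρ, inferInstance, rfl⟩
  have h1 := classInner_irr hirr hirr
  rw [if_pos rfl, classInner] at h1
  have hsum : ∑ a : R, ρ.character a * conj (ρ.character a) =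
      (Nat.card (Subgroup.center R) : ℂ) * (d : ℂ) ^ 2 := by
    rw [← Finset.sum_subset (Finset.subset_univ (Finset.univ.filter (· ∈ Subgroup.center R)))]
    · rw [Finset.sum_congr rfl (fun a ha => char_mul_conj_of_mem_center ρ (Finset.mem_filter.mp ha).2),
        Finset.sum_const, nsmul_eq_mul]
      congr 2
      rw [Nat.card_eq_fintype_card, Fintype.card_subtype]
    · intro a _ ha
      have : a ∉ Subgroup.center R := by
        intro h
        exact ha (Finset.mem_filter.mpr ⟨Finset.mem_univ _, h⟩)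
      rw [char_eq_zero_of_not_mem_center ρ hfaith hcomm this, zero_mul]
  rw [hsum] at h1
  have hR0 : (Nat.card R : ℂ) ≠ 0 := by
    have : Nat.card R ≠ 0 := Nat.card_pos.ne'
    exact_mod_cast this
  have h2 : (Nat.card R : ℂ) = (Nat.card (Subgroup.center R) * d ^ 2 : ℕ) := by
    push_cast
    field_simp at h1
    linear_combination -h1
  exact_mod_cast h2

end class2


theorem dim_ne_zero_of_irreducible {d : ℕ} (ρ : Representation ℂ R (Fin d → ℂ)) [ρ.IsIrreducible] : d ≠ 0 := by
  have hirr : IsIrrCharacter R ρ.character := ⟨d, ρ, inferInstance, rfl⟩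
  obtain ⟨n, hn, h1⟩ := IsIrrCharacter.apply_one_pos hirr
  rw [char_one, Module.finrank_fin_fun] at h1
  have : d = n := by exact_mod_cast h1
  omega

/-- **Ito, minimal configuration.** -/
theorem ito_minimal [Finite R] {p q : ℕ} (hp : p.Prime) (hq : q.Prime) (hpq : p ≠ q)
    (hR : IsPGroup q R) (σ : MulAut R) (k : ℕ) (hσ : σ ^ (p ^ k) = 1) (hσ1 : ∃ a, σ a ≠ a)
    (hmin : ∀ S : Subgroup R, S ≠ ⊤ → (∀ a ∈ S, σ a ∈ S) → ∀ a ∈ S, σ a = a)
    {d : ℕ} (ρ : Representation ℂ R (Fin d → ℂ)) [ρ.IsIrreducible]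
    (hfaith : ∀ a, ρ a = 1 → a = 1) (hinv : ∀ a, ρ.character (σ a) = ρ.character a) :
    p ≤ d + 1 ∧ (d + 1 = p → ∃ m, d = 2 ^ m) := by
  haveI : Fact p.Prime := ⟨hp⟩
  haveI : Fact q.Prime := ⟨hq⟩
  obtain ⟨n, hn⟩ := IsPGroup.iff_card.mp hR
  have hqp : Nat.Coprime q p := (Nat.coprime_primes hq hp).mpr hpq.symm
  have hcop : (Nat.card R).Coprime (p ^ k) := by
    rw [hn]; exact Nat.Coprime.pow _ _ hqp
  have hd : d ≠ 0 := dim_ne_zero_of_irreducible ρ
  obtain ⟨hcomm, hfix⟩ := fixed_iff_mem_center σ hq hR (p ^ k) hσ hcop hσ1 hmin ρ hd hfaith hinv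
  have hcard := card_eq_card_center_mul_sq ρ hfaith hcomm
  have hPg : IsPGroup p (Subgroup.zpowers σ) := by
    rintro ⟨g, hg⟩
    obtain ⟨j, rfl⟩ := Subgroup.mem_zpowers_iff.mp hg
    refine ⟨k, ?_⟩
    apply Subtype.ext
    rw [Subgroup.coe_pow, Subgroup.coe_one, ← zpow_natCast, ← zpow_mul, mul_comm, zpow_mul, zpow_natCast, hσ,
      one_zpow]
  have hmod := hPg.card_modEq_card_fixedPoints R
  have hfp : Nat.card (MulAction.fixedPoints (Subgroup.zpowers σ) R) = Nat.card (Subgroup.center R) := by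
    apply Nat.card_congr
    apply Equiv.setCongr
    ext a
    rw [MulAction.mem_fixedPoints, SetLike.mem_coe, ← hfix a]
    constructor
    · intro h
      exact h ⟨σ, Subgroup.mem_zpowers σ⟩
    · rintro h ⟨g, hg⟩
      have hle : Subgroup.zpowers σ ≤ MulAction.stabilizer (MulAut R) a := by
        rw [Subgroup.zpowers_le, MulAction.mem_stabilizer_iff, MulAut.smul_def]
        exact h
      exact MulAction.mem_stabilizer_iff.mp (hle hg)
  rw [hfp, hcard] at hmod
  have hZdvd : Nat.card (Subgroup.center R) ∣ q ^ n := by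
    rw [← hn]; exact Subgroup.card_subgroup_dvd_card _
  have hZcop : Nat.Coprime p (Nat.card (Subgroup.center R)) :=
    Nat.Coprime.coprime_dvd_right hZdvd (Nat.Coprime.pow_right _ hqp.symm)
  have hdpos : 1 ≤ d := Nat.one_le_iff_ne_zero.mpr hd
  have hd1 : d ≠ 1 := by
    rintro rfl
    rw [one_pow, mul_one] at hcard
    have htop : Subgroup.center R = ⊤ := (Subgroup.card_eq_iff_eq_top _).mp hcard.symm
    obtain ⟨a, ha⟩ := hσ1
    apply ha
    rw [hfix a, htop]
    exact Subgroup.mem_top a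
  have hle : Nat.card (Subgroup.center R) ≤ Nat.card (Subgroup.center R) * d ^ 2 :=
    Nat.le_mul_of_pos_right _ (by positivity)
  have hdvd : p ∣ Nat.card (Subgroup.center R) * d ^ 2 - Nat.card (Subgroup.center R) :=
    (Nat.modEq_iff_dvd' hle).mp hmod.symm
  have hfac : Nat.card (Subgroup.center R) * d ^ 2 - Nat.card (Subgroup.center R) =
      Nat.card (Subgroup.center R) * ((d - 1) * (d + 1)) := by
    obtain ⟨e, rfl⟩ : ∃ e, d = e + 1 := ⟨d - 1, by omega⟩
    rw [Nat.add_sub_cancel]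
    have : Nat.card (Subgroup.center R) * (e + 1) ^ 2 =
      Nat.card (Subgroup.center R) * (e * (e + 1 + 1)) + Nat.card (Subgroup.center R) := by ring
    rw [this, Nat.add_sub_cancel]
  rw [hfac] at hdvd
  have hdvd2 : p ∣ (d - 1) * (d + 1) := hZcop.dvd_of_dvd_mul_left hdvd
  have hple : p ≤ d + 1 := by
    rcases (Nat.Prime.dvd_mul hp).mp hdvd2 with h | h
    · have := Nat.le_of_dvd (by omega) h
      omega
    · exact Nat.le_of_dvd (by omega) h
  refine ⟨hple, ?_⟩
  intro hdp
  have hdq : d ∣ q ^ n := by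
    rw [← hn, hcard]
    exact dvd_mul_of_dvd_right (dvd_pow_self d two_ne_zero) _
  obtain ⟨m, _, hm⟩ := (Nat.dvd_prime_pow hq).mp hdq
  by_cases hq2 : q = 2
  · exact ⟨m, by rw [hm, hq2]⟩
  · exfalso
    have hqodd : Odd q := hq.odd_of_ne_two hq2
    have hdodd : Odd d := by rw [hm]; exact hqodd.pow
    have hpeven : Even p := by rw [← hdp]; exact hdodd.add_one
    have hp2 : p = 2 := (Nat.Prime.even_iff hp).mp hpeven
    omega

end Cfsg.Agent.CharLib.Ito
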