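/-
Ito's theorem on p-solvable linear groups of small degree (lead), part B:
constituents of a restricted character under an automorphism of `p`-power order.
-/
import Mathlib
import Cfsg.Prelude.Def_Characters
import Cfsg.Agent.Lib.Lead.CharOrtho
import Cfsg.Agent.Lib.Lead.CharDecomp
import Cfsg.Agent.Lib.Helper6.CharExtra
import Cfsg.Agent.Lib.Helper24.Deflation
import Cfsg.Agent.Lib.Lead.ItoA

set_option autoImplicit false

namespace Cfsg.Agent.CharLib.Ito

open Cfsg Representation Module Cfsg.Agent.Lib.Helper6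
open scoped ComplexConjugate

universe u

variable {S : Type u} [Group S]

theorem IsIrrCharacter.comp_mulAut {ψ : S → ℂ} (hψ : IsIrrCharacter S ψ) (τ : MulAut S) :
    IsIrrCharacter S (fun x => ψ (τ x)) := by
  obtain ⟨n, ρ, hirr, rfl⟩ := hψ
  refine ⟨n, MonoidHom.comp ρ (τ : S ≃* S).toMonoidHom, ?_, rfl⟩
  exact (Cfsg.Agent.Lib.Helper24.isIrreducible_comp_iff (τ : S ≃* S).toMonoidHom (τ : S ≃* S).surjective ρ).mpr hirr

theorem classInner_comp_mulAut [Fintype S] (Θ ψ : S → ℂ) (τ : MulAut S) (hΘ : ∀ x, Θ (τ x) = Θ x) :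
    classInner Θ (fun x => ψ (τ x)) = classInner Θ ψ := by
  unfold classInner
  congr 1
  rw [← Equiv.sum_comp (τ : S ≃* S).toEquiv (fun y => Θ y * conj (ψ y))]
  apply Finset.sum_congr rfl
  intro x _
  show _ = Θ (τ x) * _
  rw [hΘ x]
  rfl

theorem invariant_pow {X : Type*} (f : S → X) (τ : MulAut S) (h : ∀ x, f (τ x) = f x) (j : ℕ) (x : S) :
    f ((τ ^ j) x) = f x := by
  induction j generalizing x with
  | zero => simp
  | succ j ih => rw [pow_succ, MulAut.mul_apply, ih, h]

/-- A constituent has degree at most the degree. -/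
theorem constituent_degree_le [Fintype S] {Θ ψ : S → ℂ} (hΘ : IsCharacter S Θ) (hψ : IsIrrCharacter S ψ)
    (hc : classInner Θ ψ ≠ 0) {d e : ℕ} (hd : Θ 1 = d) (he : ψ 1 = e) : e ≤ d := by
  have hsub := IsCharacter.sub_constituent hΘ hψ hc
  obtain ⟨k, hk⟩ := IsCharacter.apply_one hsub
  rw [Pi.sub_apply, hd, he] at hk
  have hk' : (d : ℂ) = (e + k : ℕ) := by push_cast; linear_combination hk
  have : d = e + k := by exact_mod_cast hk'
  omega

/-- If a character is not trivial at `b`, some irreducible constituent is not trivial at `b`. -/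
theorem exists_constituent_ne [Fintype S] {Θ : S → ℂ} (hΘ : IsCharacter S Θ) {b : S} (hb : Θ b ≠ Θ 1) :
    ∃ ψ : S → ℂ, IsIrrCharacter S ψ ∧ classInner Θ ψ ≠ 0 ∧ ψ b ≠ ψ 1 := by
  classical
  letI := fintypeIrr S
  obtain ⟨m, hm, hcoef⟩ := IsCharacter.exists_decomp_sum hΘ
  by_contra hcon
  push Not at hcon
  apply hb
  have key : ∀ φ : IrrCharacter S, (m φ • (φ : S → ℂ)) b = (m φ • (φ : S → ℂ)) 1 := by
    intro φ
    by_cases h0 : m φ = 0
    · rw [h0, zero_smul]; rfl
    · have h1 : classInner Θ (φ : S → ℂ) ≠ 0 := by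
        rw [hcoef φ]; exact_mod_cast h0
      rw [Pi.smul_apply, Pi.smul_apply, hcon φ.1 φ.2 h1]
  rw [hm, Finset.sum_apply, Finset.sum_apply]
  exact Finset.sum_congr rfl (fun φ _ => key φ)

/-- If a constituent `ψ` of a `τ`-invariant character `Θ` is not `τ`-invariant, where `τ` has `p`-power order,
then `Θ` has degree at least `p`. -/
theorem degree_ge_of_orbit [Fintype S] {p : ℕ} (hp : p.Prime) (k : ℕ)
    (τ : MulAut S) (hτ : τ ^ (p ^ k) = 1) {Θ : S → ℂ} (hΘ : IsCharacter S Θ) (hΘτ : ∀ x, Θ (τ x) = Θ x)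
    {ψ : S → ℂ} (hψ : IsIrrCharacter S ψ) (hc : classInner Θ ψ ≠ 0) (hne : ¬ ∀ x, ψ (τ x) = ψ x)
    {d : ℕ} (hd : Θ 1 = d) : p ≤ d := by
  classical
  letI := fintypeIrr S
  obtain ⟨m, hm, hcoef⟩ := IsCharacter.exists_decomp_sum hΘ
  choose dg hdg0 hdg using fun φ : IrrCharacter S => IsIrrCharacter.apply_one_pos φ.2
  have hdsum : d = ∑ φ : IrrCharacter S, m φ * dg φ := by
    have h1 := congrFun hm 1
    rw [hd, Finset.sum_apply] at h1
    have h2 : (d : ℂ) = ((∑ φ : IrrCharacter S, m φ * dg φ : ℕ) : ℂ) := by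
      rw [h1]
      push_cast
      apply Finset.sum_congr rfl
      intro φ _
      rw [Pi.smul_apply, hdg φ, nsmul_eq_mul]
    exact_mod_cast h2
  let f : ℕ → IrrCharacter S := fun j => ⟨fun x => ψ ((τ ^ j) x), IsIrrCharacter.comp_mulAut hψ (τ ^ j)⟩
  have hmf : ∀ j, m (f j) ≠ 0 := by
    intro j h0
    apply hc
    have h1 := hcoef (f j)
    rw [h0, Nat.cast_zero] at h1
    rw [← h1]
    exact (classInner_comp_mulAut Θ ψ (τ ^ j) (invariant_pow Θ τ hΘτ j)).symm
  -- the stabilizer of ψ
  let St : Subgroup (MulAut S) :=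
    { carrier := {τ' | ∀ x, ψ (τ' x) = ψ x}
      mul_mem' := by
        intro a b ha hb x
        rw [MulAut.mul_apply, ha, hb]
      one_mem' := fun x => rfl
      inv_mem' := by
        intro a ha x
        have := ha (a⁻¹ x)
        rw [MulAut.apply_inv_self] at this
        exact this.symm }
  have hSt : ∀ τ' : MulAut S, τ' ∈ St ↔ ∀ x, ψ (τ' x) = ψ x := fun _ => Iff.rfl
  have hinj : Set.InjOn f (Finset.range p : Set ℕ) := by
    -- wlog i < j
    have key : ∀ i j : ℕ, i < j → j < p → f i ≠ f j := by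
      intro i j hij hjp heq
      apply hne
      rw [← hSt]
      have h1 : τ ^ (j - i) ∈ St := by
        rw [hSt]
        intro x
        have h2 := congrFun (congrArg Subtype.val heq) ((τ ^ i)⁻¹ x)
        simp only [f] at h2
        rw [MulAut.apply_inv_self] at h2
        rw [h2, ← MulAut.mul_apply, pow_sub τ hij.le]
      have hcop : (j - i).Coprime (orderOf τ) := by
        have hdvd : orderOf τ ∣ p ^ k := orderOf_dvd_of_pow_eq_one hτ
        obtain ⟨l, _, hl⟩ := (Nat.dvd_prime_pow hp).mp hdvd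
        rw [hl]
        apply Nat.Coprime.pow_right
        rw [Nat.coprime_comm, Nat.Prime.coprime_iff_not_dvd hp]
        intro hdiv
        have := Nat.le_of_dvd (by omega) hdiv
        omega
      obtain ⟨u, hu⟩ := exists_pow_eq_self_of_coprime hcop
      rw [← hu]
      exact Subgroup.pow_mem _ h1 u
    intro i hi j hj heq
    rw [Finset.coe_range, Set.mem_Iio] at hi hj
    by_contra hij
    rcases Nat.lt_or_gt_of_ne hij with h | h
    · exact key i j h hj heq
    · exact key j i h hi heq.symm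
  have hcard : ((Finset.range p).image f).card = p := by
    rw [Finset.card_image_of_injOn hinj, Finset.card_range]
  calc p = ∑ φ ∈ (Finset.range p).image f, 1 := by rw [Finset.sum_const, hcard, smul_eq_mul, mul_one]
    _ ≤ ∑ φ ∈ (Finset.range p).image f, m φ * dg φ := by
        apply Finset.sum_le_sum
        intro φ hφ
        obtain ⟨j, _, rfl⟩ := Finset.mem_image.mp hφ
        have h1 : 1 ≤ m (f j) := Nat.one_le_iff_ne_zero.mpr (hmf j)
        exact Nat.one_le_iff_ne_zero.mpr (Nat.mul_ne_zero (hmf j) (hdg0 (f j)).ne')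
    _ ≤ ∑ φ : IrrCharacter S, m φ * dg φ :=
        Finset.sum_le_sum_of_subset (Finset.subset_univ _)
    _ = d := hdsum.symm

end Cfsg.Agent.CharLib.Ito
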