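/-
Ito's theorem on p-solvable linear groups of small degree (lead), part C:
the general lemma on a `p`-power order automorphism of a `q`-group and an invariant irreducible character on
which it acts nontrivially, by induction on the order.
-/
import Mathlib
import Cfsg.Prelude.Def_Characters
import Cfsg.Agent.Lib.Lead.ItoA
import Cfsg.Agent.Lib.Lead.ItoB

set_option autoImplicit false

namespace Cfsg.Agent.CharLib.Ito

open Cfsg Representation Module Cfsg.Agent.Lib.Helper6
open scoped ComplexConjugate

universe u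

variable {R : Type u} [Group R]

section restrict

variable [Finite R] (σ : MulAut R) (S : Subgroup R) (hS : ∀ a ∈ S, σ a ∈ S)

include hS in
theorem map_eq_of_invariant : S.map ((σ : R ≃* R) : R →* R) = S := by
  apply Subgroup.eq_of_le_of_card_ge
  · rintro _ ⟨a, ha, rfl⟩
    exact hS a ha
  · rw [Subgroup.card_map_of_injective (σ : R ≃* R).injective]

/-- Restriction of an automorphism to an invariant subgroup. -/
noncomputable def restrictAut : MulAut S :=
  ((σ : R ≃* R).subgroupMap S).trans (MulEquiv.subgroupCongr (map_eq_of_invariant σ S hS))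

theorem restrictAut_apply (x : S) : ((restrictAut σ S hS x : S) : R) = σ x := rfl

theorem restrictAut_pow_apply (j : ℕ) (x : S) : (((restrictAut σ S hS) ^ j) x : R) = (σ ^ j) x := by
  induction j generalizing x with
  | zero => simp
  | succ j ih => rw [pow_succ, MulAut.mul_apply, ih, restrictAut_apply, pow_succ, MulAut.mul_apply]

end restrict

section quot

variable (σ : MulAut R) (K : Subgroup R) [K.Normal] (hK : K.map ((σ : R ≃* R) : R →* R) = K)

/-- The automorphism induced on a quotient by an invariant normal subgroup. -/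
def quotAut : MulAut (R ⧸ K) := QuotientGroup.congr K K σ hK

theorem quotAut_mk (a : R) : quotAut σ K hK (a : R ⧸ K) = ((σ a : R) : R ⧸ K) := rfl

theorem quotAut_pow_mk (j : ℕ) (a : R) : ((quotAut σ K hK) ^ j) (a : R ⧸ K) = (((σ ^ j) a : R) : R ⧸ K) := by
  induction j generalizing a with
  | zero => simp
  | succ j ih => rw [pow_succ, MulAut.mul_apply, quotAut_mk, ih, pow_succ, MulAut.mul_apply]

end quot


/-- **Ito's lemma.** A `p`-power order automorphism `σ` of a `q`-group `R` (`q ≠ p`) and a `σ`-invariant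
irreducible character `θ` of `R` with `[R, σ] ⊄ ker θ`: then `p ≤ θ(1) + 1`, and in case of equality `θ(1)` is
a power of `2`. -/
theorem ito_general {p q : ℕ} (hp : p.Prime) (hq : q.Prime) (hpq : p ≠ q) (k : ℕ) :
    ∀ (N : ℕ) (R : Type u) [Group R] [Finite R], Nat.card R ≤ N → IsPGroup q R →
    ∀ (σ : MulAut R), σ ^ (p ^ k) = 1 →
    ∀ (θ : R → ℂ), IsIrrCharacter R θ → (∀ a, θ (σ a) = θ a) → (∃ a, θ (a⁻¹ * σ a) ≠ θ 1) →
    ∀ d : ℕ, θ 1 = d → p ≤ d + 1 ∧ (d + 1 = p → ∃ m, d = 2 ^ m) := by
  intro N
  induction N with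
  | zero =>
    intro R _ _ hN
    have := Nat.card_pos (α := R)
    omega
  | succ N ih =>
    intro R _ _ hN hR σ hσ θ hθ hinv hnt d hd
    obtain ⟨d', ρ, hirr, rfl⟩ := hθ
    haveI := hirr
    have hdd : d' = d := by
      rw [char_one, Module.finrank_fin_fun] at hd
      exact_mod_cast hd
    subst hdd
    have hchar1 : ρ.character 1 = (d' : ℂ) := hd
    let K : Subgroup R := MonoidHom.ker (ρ : R →* _)
    have hKmem : ∀ a, a ∈ K ↔ ρ a = 1 := fun a => MonoidHom.mem_ker
    have hKchar : ∀ a, a ∈ K ↔ ρ.character a = (d' : ℂ) := by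
      intro a
      rw [hKmem]
      constructor
      · intro h
        rw [← hchar1]
        show LinearMap.trace ℂ _ (ρ a) = LinearMap.trace ℂ _ (ρ 1)
        rw [h, map_one ρ]
      · intro h
        apply Cfsg.Agent.Lib.Helper24.rep_eq_one_of_char_eq_finrank ρ a
        rw [h, Module.finrank_fin_fun]
    have hKσ : K.map ((σ : R ≃* R) : R →* R) = K := by
      apply map_eq_of_invariant σ K
      intro a ha
      rw [hKchar] at ha ⊢
      rw [hinv, ha]
    by_cases hKbot : K = ⊥
    · have hfaith : ∀ a, ρ a = 1 → a = 1 := by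
        intro a ha
        have : a ∈ K := (hKmem a).mpr ha
        rw [hKbot] at this
        exact Subgroup.mem_bot.mp this
      by_cases hmin : ∀ S : Subgroup R, S ≠ ⊤ → (∀ a ∈ S, σ a ∈ S) → ∀ a ∈ S, σ a = a
      · have hσ1 : ∃ a, σ a ≠ a := by
          obtain ⟨a, ha⟩ := hnt
          refine ⟨a, fun h => ha ?_⟩
          rw [h, inv_mul_cancel]
        exact ito_minimal hp hq hpq hR σ k hσ hσ1 hmin ρ hfaith hinv
      · push Not at hmin
        obtain ⟨S, hStop, hSinv, a₀, ha₀S, ha₀⟩ := hmin
        letI : Fintype S := Fintype.ofFinite S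
        let τ : MulAut S := restrictAut σ S hSinv
        have hτ : τ ^ (p ^ k) = 1 := by
          ext x
          rw [restrictAut_pow_apply, hσ]
          rfl
        let Θ : S → ℂ := fun x => ρ.character x
        have hΘ : IsCharacter S Θ := IsCharacter.restrict ⟨d', ρ, rfl⟩ S
        have hΘτ : ∀ x, Θ (τ x) = Θ x := fun x => hinv x
        have hΘ1 : Θ 1 = d' := hchar1
        have hb1 : Θ ((⟨a₀, ha₀S⟩ : S)⁻¹ * τ ⟨a₀, ha₀S⟩) ≠ Θ 1 := by
          intro h
          have h0 : ρ.character (a₀⁻¹ * σ a₀) = (d' : ℂ) := by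
            rw [← hΘ1]
            exact h
          have h1 : a₀⁻¹ * σ a₀ ∈ K := (hKchar _).mpr h0
          rw [hKbot, Subgroup.mem_bot, inv_mul_eq_one] at h1
          exact ha₀ h1.symm
        obtain ⟨ψ, hψ, hc, hψb⟩ := exists_constituent_ne hΘ hb1
        obtain ⟨e, he0, he⟩ := IsIrrCharacter.apply_one_pos hψ
        have hed : e ≤ d' := constituent_degree_le hΘ hψ hc hΘ1 he
        by_cases hψτ : ∀ x, ψ (τ x) = ψ x
        · have hcardS : Nat.card S ≤ N := by
            have h1 : Nat.card S ≤ Nat.card R := Subgroup.card_le_card_group S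
            have h2 : Nat.card S ≠ Nat.card R := fun h => hStop ((Subgroup.card_eq_iff_eq_top S).mp h)
            omega
          obtain ⟨h1, h2⟩ := ih S hcardS (hR.to_subgroup S) τ hτ ψ hψ hψτ ⟨⟨a₀, ha₀S⟩, hψb⟩ e he
          refine ⟨by omega, fun h => ?_⟩
          have hed' : e = d' := by omega
          rw [← hed']
          exact h2 (by omega)
        · have := degree_ge_of_orbit hp k τ hτ hΘ hΘτ hψ hc hψτ hΘ1
          exact ⟨by omega, fun h => by omega⟩
    · haveI : K.Normal := MonoidHom.normal_ker _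
      let σ' : MulAut (R ⧸ K) := quotAut σ K hKσ
      have hσ' : σ' ^ (p ^ k) = 1 := by
        ext x
        induction x using QuotientGroup.induction_on with
        | H a =>
          rw [quotAut_pow_mk, hσ]
          rfl
      have hK1 : ∀ n ∈ K, ρ n = 1 := fun n hn => (hKmem n).mp hn
      let ρ' := Cfsg.Agent.Lib.Helper24.deflate K ρ hK1
      haveI : ρ'.IsIrreducible := Cfsg.Agent.Lib.Helper24.deflate_isIrreducible K ρ hK1
      have hcard : Nat.card (R ⧸ K) ≤ N := by
        have h1 := Subgroup.card_eq_card_quotient_mul_card_subgroup K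
        have h2 : 1 < Nat.card K := (Subgroup.one_lt_card_iff_ne_bot K).mpr hKbot
        have h3 : 0 < Nat.card (R ⧸ K) := Nat.card_pos
        nlinarith
      have hθ' : IsIrrCharacter (R ⧸ K) ρ'.character := ⟨d', ρ', inferInstance, rfl⟩
      have hinv' : ∀ x, ρ'.character (σ' x) = ρ'.character x := by
        intro x
        induction x using QuotientGroup.induction_on with
        | H a => exact hinv a
      have hnt' : ∃ x, ρ'.character (x⁻¹ * σ' x) ≠ ρ'.character 1 := by
        obtain ⟨a, ha⟩ := hnt
        exact ⟨(a : R ⧸ K), ha⟩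
      exact ih (R ⧸ K) hcard (hR.to_quotient K) σ' hσ' _ hθ' hinv' hnt' d'
        (by rw [char_one, Module.finrank_fin_fun])

end Cfsg.Agent.CharLib.Ito
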