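/-
Ito's theorem on p-solvable linear groups of small degree (lead), group theory:
in a finite `p`-solvable group whose Sylow `p`-subgroup is not normal, some `p`-element normalizes but does not
centralize a `q`-subgroup for a prime `q ≠ p`.
-/
import Mathlib
import Cfsg.Prelude.Def_Local
import Cfsg.Agent.Lib.Helper1.Coprime
import Cfsg.Agent.Lib.Helper24.PSolvable
import Cfsg.Agent.Lib.Helper24.SylowNormalize
import Cfsg.Agent.Lib.Helper25.PSolvableSub

set_option autoImplicit false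

namespace Cfsg.Agent.CharLib.Ito

open Cfsg

universe u

/-- Some `p`-element normalizes but does not centralize a `q`-subgroup, for a prime `q ≠ p`. -/
def Trip (p : ℕ) (G : Type*) [Group G] : Prop :=
  ∃ (q : ℕ) (Q : Subgroup G) (x : G), q.Prime ∧ q ≠ p ∧ IsPGroup q Q ∧ (∃ k : ℕ, x ^ (p ^ k) = 1) ∧
    (∀ z ∈ Q, x * z * x⁻¹ ∈ Q) ∧ ∃ a ∈ Q, x * a ≠ a * x

theorem Trip.of_injective {p : ℕ} {H G : Type*} [Group H] [Group G] (f : H →* G) (hf : Function.Injective f)
    (h : Trip p H) : Trip p G := by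
  obtain ⟨q, Q, x, hq, hqp, hQ, ⟨k, hk⟩, hnorm, a, ha, hxa⟩ := h
  refine ⟨q, Q.map f, f x, hq, hqp, hQ.map f, ⟨k, by rw [← map_pow, hk, map_one]⟩, ?_, f a,
    Subgroup.mem_map_of_mem f ha, ?_⟩
  · rintro _ ⟨z, hz, rfl⟩
    exact ⟨x * z * x⁻¹, hnorm z hz, by rw [map_mul, map_mul, map_inv]⟩
  · intro h
    apply hxa
    apply hf
    rw [map_mul, map_mul, h]

variable {G : Type u} [Group G]

/-- Coprime action: a `p`-element not centralizing a normal `p'`-subgroup gives a triple. -/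
theorem Trip.of_normal_coprime [Finite G] {p : ℕ} [hp : Fact p.Prime] (N : Subgroup G) [N.Normal]
    (hN : (Nat.card N).Coprime p) (x : G) (k : ℕ) (hx : x ^ (p ^ k) = 1) (a : G) (ha : a ∈ N)
    (hxa : x * a ≠ a * x) : Trip p G := by
  -- a Sylow p-subgroup containing x
  have hxp : IsPGroup p (Subgroup.zpowers x) := by
    rintro ⟨g, hg⟩
    obtain ⟨j, rfl⟩ := Subgroup.mem_zpowers_iff.mp hg
    refine ⟨k, ?_⟩
    apply Subtype.ext
    rw [Subgroup.coe_pow, Subgroup.coe_one, ← zpow_natCast, ← zpow_mul, mul_comm, zpow_mul, zpow_natCast, hx,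
      one_zpow]
  obtain ⟨P, hP⟩ := hxp.exists_le_sylow
  have hxP : x ∈ (P : Subgroup G) := hP (Subgroup.mem_zpowers x)
  by_contra hno
  -- every invariant Sylow subgroup of N is centralized
  have hcent : ∀ q : ℕ, q.Prime → ∃ T : Subgroup G, T ≤ N ∧ ¬ q ∣ T.relIndex N ∧ ∀ z ∈ T, x * z = z * x := by
    intro q hq
    haveI : Fact q.Prime := ⟨hq⟩
    obtain ⟨T, hTN, hTq, hTidx, hTinv⟩ :=
      Cfsg.Agent.Lib.Helper24.exists_invariant_sylow_of_normal q p N hN P
    refine ⟨T, hTN, hTidx, ?_⟩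
    intro z hz
    by_contra hxz
    by_cases hqp : q = p
    · subst hqp
      -- T is a p-subgroup of the p'-group N, hence trivial
      have hz1 : z = 1 := by
        obtain ⟨j, hj⟩ := (IsPGroup.iff_orderOf.mp hTq) ⟨z, hz⟩
        have h1 : orderOf z ∣ Nat.card N := by
          have : orderOf (⟨z, hTN hz⟩ : N) ∣ Nat.card N := orderOf_dvd_natCard _
          rwa [Subgroup.orderOf_mk] at this
        have h2 : orderOf z = q ^ j := by
          rw [← hj, Subgroup.orderOf_mk]
        have h3 : orderOf z ∣ Nat.gcd (Nat.card N) (q ^ j) := Nat.dvd_gcd h1 (h2 ▸ dvd_rfl)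
        rw [Nat.Coprime.pow_right j hN, Nat.dvd_one, orderOf_eq_one_iff] at h3
        exact h3
      apply hxz
      rw [hz1, mul_one, one_mul]
    · exact hno ⟨q, T, x, hq, hqp, hTq, ⟨k, hx⟩, fun z hz => hTinv x hxP z hz, z, hz, hxz⟩
  -- so x centralizes N
  let C : Subgroup G := N ⊓ Subgroup.centralizer {x}
  have hCN : C ≤ N := inf_le_left
  have hrel : C.relIndex N = 1 := by
    by_contra hne
    obtain ⟨q, hq, hqdvd⟩ := Nat.exists_prime_and_dvd hne
    obtain ⟨T, hTN, hTidx, hTc⟩ := hcent q hq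
    have hTC : T ≤ C := by
      intro z hz
      refine Subgroup.mem_inf.mpr ⟨hTN hz, ?_⟩
      rw [Subgroup.mem_centralizer_iff]
      intro y hy
      rw [Set.mem_singleton_iff] at hy
      subst hy
      exact hTc z hz
    exact hTidx (dvd_trans hqdvd (Subgroup.relIndex_dvd_of_le_left N hTC))
  have hNC : N ≤ C := Subgroup.relIndex_eq_one.mp hrel
  have := (Subgroup.mem_inf.mp (hNC ha)).2
  rw [Subgroup.mem_centralizer_iff] at this
  exact hxa (this x rfl)


/-- Lifting a `p`-element through a surjection of finite groups. -/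
theorem exists_pElt_lift [Finite G] {p : ℕ} [hp : Fact p.Prime] {G' : Type*} [Group G'] (f : G →* G')
    (hf : Function.Surjective f) (y : G') (k : ℕ) (hy : y ^ (p ^ k) = 1) :
    ∃ x : G, (∃ j : ℕ, x ^ (p ^ j) = 1) ∧ f x = y := by
  obtain ⟨x₀, rfl⟩ := hf y
  by_cases hk : k = 0
  · subst hk
    rw [pow_zero, pow_one] at hy
    exact ⟨1, ⟨0, one_pow _⟩, by rw [map_one, hy]⟩
  obtain ⟨a, m, hm, ho⟩ := Nat.exists_eq_pow_mul_and_not_dvd (orderOf_pos x₀).ne' p hp.out.ne_one
  have hcop : Nat.Coprime m (p ^ k) :=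
    Nat.Coprime.pow_right k ((Nat.coprime_comm.mp ((Nat.Prime.coprime_iff_not_dvd hp.out).mpr hm)))
  have h1 : 1 < p ^ k := Nat.one_lt_pow hk hp.out.one_lt
  obtain ⟨m', _, hm'⟩ := Nat.exists_mul_mod_eq_one_of_coprime hcop h1
  refine ⟨x₀ ^ (m * m'), ⟨a, ?_⟩, ?_⟩
  · rw [← pow_mul]
    have : m * m' * p ^ a = orderOf x₀ * m' := by rw [ho]; ring
    rw [this, pow_mul, pow_orderOf_eq_one, one_pow]
  · rw [map_pow]
    have h2 : m * m' = p ^ k * (m * m' / p ^ k) + 1 := by
      have := Nat.div_add_mod (m * m') (p ^ k)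
      rw [hm'] at this
      exact this.symm
    rw [h2, pow_succ, pow_mul, hy, one_pow, one_mul]

/-- Lifting a triple through a quotient by a normal `p'`-subgroup. -/
theorem Trip.of_quotient_coprime [Finite G] {p : ℕ} [hp : Fact p.Prime] (M : Subgroup G) [M.Normal]
    (hM : (Nat.card M).Coprime p) (h : Trip p (G ⧸ M)) : Trip p G := by
  obtain ⟨q, Qb, xb, hq, hqp, hQb, ⟨k, hk⟩, hnorm, ab, hab, hxab⟩ := h
  obtain ⟨x, ⟨j, hxj⟩, rfl⟩ :=
    exists_pElt_lift (QuotientGroup.mk' M) (QuotientGroup.mk'_surjective M) xb k hk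
  obtain ⟨a, rfl⟩ := QuotientGroup.mk'_surjective M ab
  let L : Subgroup G := Qb.comap (QuotientGroup.mk' M)
  have haL : a ∈ L := hab
  have hxL : ∀ z ∈ L, x * z * x⁻¹ ∈ L := by
    intro z hz
    show QuotientGroup.mk' M (x * z * x⁻¹) ∈ Qb
    rw [map_mul, map_mul, map_inv]
    exact hnorm _ hz
  have hxN : x ∈ Subgroup.normalizer (L : Set G) :=
    Cfsg.Agent.Lib.Helper1.mem_normalizer_of_forall_conj_mem L x hxL
  haveI : Fact q.Prime := ⟨hq⟩
  have hLcard : (Nat.card L).Coprime p := by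
    rw [Cfsg.Agent.Lib.Helper12.card_comap_mk']
    obtain ⟨b, hb⟩ := IsPGroup.iff_card.mp hQb
    rw [hb]
    exact Nat.Coprime.mul_left hM (Nat.Coprime.pow_left b ((Nat.coprime_primes hq hp.out).mpr hqp))
  have hLH : (Nat.card (L.subgroupOf (Subgroup.normalizer (L : Set G)))).Coprime p := by
    rw [Cfsg.Agent.Lib.Helper1.card_subgroupOf_of_le Subgroup.le_normalizer]
    exact hLcard
  haveI : (L.subgroupOf (Subgroup.normalizer (L : Set G))).Normal := Subgroup.normal_in_normalizer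
  have key := Trip.of_normal_coprime (G := Subgroup.normalizer (L : Set G))
    (L.subgroupOf (Subgroup.normalizer (L : Set G))) hLH ⟨x, hxN⟩ j
    (by apply Subtype.ext; rw [Subgroup.coe_pow, Subgroup.coe_one]; exact hxj)
    ⟨a, Subgroup.le_normalizer haL⟩ (Subgroup.mem_subgroupOf.mpr haL)
    (by
      intro h
      apply hxab
      have h2 : x * a = a * x := congrArg Subtype.val h
      rw [← map_mul, ← map_mul, h2])
  exact Trip.of_injective (Subgroup.normalizer (L : Set G)).subtype (Subgroup.subtype_injective _) key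


/-- Lifting a triple through a quotient by a normal `p`-subgroup. -/
theorem Trip.of_quotient_pGroup [Finite G] {p : ℕ} [hp : Fact p.Prime] (U : Subgroup G) [U.Normal]
    (hU : IsPGroup p U) (h : Trip p (G ⧸ U)) : Trip p G := by
  obtain ⟨q, Qb, xb, hq, hqp, hQb, ⟨k, hk⟩, hnorm, ab, hab, hxab⟩ := h
  obtain ⟨x, rfl⟩ := QuotientGroup.mk'_surjective U xb
  obtain ⟨a, rfl⟩ := QuotientGroup.mk'_surjective U ab
  haveI : Fact q.Prime := ⟨hq⟩
  let π : G →* G ⧸ U := QuotientGroup.mk' U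
  let L : Subgroup G := Qb.comap π
  have haL : a ∈ L := hab
  have hxL : ∀ z ∈ L, x * z * x⁻¹ ∈ L := by
    intro z hz
    show π (x * z * x⁻¹) ∈ Qb
    rw [map_mul, map_mul, map_inv]
    exact hnorm _ hz
  have hxN : x ∈ Subgroup.normalizer (L : Set G) :=
    Cfsg.Agent.Lib.Helper1.mem_normalizer_of_forall_conj_mem L x hxL
  obtain ⟨Q₀⟩ : Nonempty (Sylow q L) := inferInstance
  let Q : Subgroup G := (Q₀ : Subgroup L).map L.subtype
  have hQL : Q ≤ L := Subgroup.map_subtype_le _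
  have hQq : IsPGroup q Q := Q₀.isPGroup'.map _
  have hπU : ∀ g : G, π g = 1 ↔ g ∈ U := fun g => QuotientGroup.eq_one_iff g
  -- every element of L is congruent mod U to an element of Q
  have hcover : ∀ l ∈ L, ∃ g ∈ Q, g⁻¹ * l ∈ U := by
    let f : L →* Qb := π.subgroupComap Qb
    have hf : Function.Surjective f :=
      π.subgroupComap_surjective_of_surjective Qb (QuotientGroup.mk'_surjective U)
    let S : Sylow q Qb := Q₀.mapSurjective hf
    have hS : (⊤ : Subgroup Qb) = (S : Subgroup Qb) := by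
      apply S.is_maximal' _ le_top
      intro g
      obtain ⟨j, hj⟩ := hQb g.1
      exact ⟨j, Subtype.ext hj⟩
    intro l hl
    have h1 : f ⟨l, hl⟩ ∈ (S : Subgroup Qb) := by rw [← hS]; trivial
    rw [Sylow.coe_mapSurjective] at h1
    obtain ⟨g, hg, hgl⟩ := h1
    refine ⟨g, ⟨g, hg, rfl⟩, ?_⟩
    have h2 : π g = π l := congrArg Subtype.val hgl
    rw [← hπU, map_mul, map_inv, h2, inv_mul_cancel]
  obtain ⟨l, hl, hnl⟩ := Cfsg.Agent.Lib.Helper1.frattini_sylow L Q₀ x hxN
  obtain ⟨g, hg, hgu⟩ := hcover l⁻¹ (L.inv_mem hl)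
  -- y := (g⁻¹ * l⁻¹) * x normalizes Q
  have hyN : g⁻¹ * l⁻¹ * x ∈ Subgroup.normalizer (Q : Set G) := by
    have := Subgroup.mul_mem _ (Subgroup.inv_mem _ (Subgroup.le_normalizer hg)) hnl
    rwa [← mul_assoc] at this
  have hπy : π (g⁻¹ * l⁻¹ * x) = π x := by
    rw [map_mul, (hπU _).mpr hgu, one_mul]
  obtain ⟨g', hg', hg'u⟩ := hcover a haL
  have hπg' : π g' = π a := by
    have := (hπU _).mpr hg'u
    rw [map_mul, map_inv, inv_mul_eq_one] at this
    exact this
  refine ⟨q, Q, g⁻¹ * l⁻¹ * x, hq, hqp, hQq, ?_, ?_, g', hg', ?_⟩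
  · have h1 : (g⁻¹ * l⁻¹ * x) ^ (p ^ k) ∈ U := by
      rw [← hπU, map_pow, hπy]
      exact hk
    obtain ⟨j, hj⟩ := hU ⟨_, h1⟩
    refine ⟨k + j, ?_⟩
    rw [pow_add, pow_mul]
    exact congrArg Subtype.val hj
  · intro z hz
    exact (Subgroup.mem_normalizer_iff.mp hyN z).mp hz
  · intro h
    apply hxab
    have h2 := congrArg π h
    rw [map_mul _ (g⁻¹ * l⁻¹ * x) g', map_mul _ g' (g⁻¹ * l⁻¹ * x), hπy, hπg'] at h2
    exact h2


/-- If the image of a Sylow `p`-subgroup `P` modulo a normal `p'`-subgroup `M` centralized by `P` is normal,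
then `P` is normal. -/
theorem sylow_normal_of_map_normal [Finite G] {p : ℕ} [hp : Fact p.Prime] (M : Subgroup G) [M.Normal]
    (hM : (Nat.card M).Coprime p) (P : Sylow p G)
    (hPb : ((P : Subgroup G).map (QuotientGroup.mk' M)).Normal)
    (hcen : ∀ y ∈ (P : Subgroup G), ∀ m ∈ M, y * m = m * y) : (P : Subgroup G).Normal := by
  constructor
  intro w hw g
  have h1 : QuotientGroup.mk' M (g * w * g⁻¹) ∈ (P : Subgroup G).map (QuotientGroup.mk' M) := by
    rw [map_mul, map_mul, map_inv]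
    exact hPb.conj_mem _ (Subgroup.mem_map_of_mem _ hw) _
  obtain ⟨u, hu, hu2⟩ := h1
  have hm : u⁻¹ * (g * w * g⁻¹) ∈ M := by
    rw [← QuotientGroup.eq_one_iff, QuotientGroup.mk_mul, QuotientGroup.mk_inv]
    have : (QuotientGroup.mk' M) u = (QuotientGroup.mk' M) (g * w * g⁻¹) := hu2
    rw [QuotientGroup.mk'_apply, QuotientGroup.mk'_apply] at this
    rw [this, inv_mul_cancel]
  have hcomm : Commute u (u⁻¹ * (g * w * g⁻¹)) := hcen u hu _ hm
  obtain ⟨a, ha⟩ := P.isPGroup' ⟨u, hu⟩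
  obtain ⟨b, hb⟩ := P.isPGroup' ⟨w, hw⟩
  have ha' : u ^ (p ^ a) = 1 := congrArg Subtype.val ha
  have hb' : w ^ (p ^ b) = 1 := congrArg Subtype.val hb
  have h2 : g * w * g⁻¹ = u * (u⁻¹ * (g * w * g⁻¹)) := by group
  have h3 : (u⁻¹ * (g * w * g⁻¹)) ^ (p ^ (a + b)) = 1 := by
    have h4 := hcomm.mul_pow (p ^ (a + b))
    rw [← h2, conj_pow] at h4
    have h5 : w ^ (p ^ (a + b)) = 1 := by
      rw [add_comm, pow_add, pow_mul, hb', one_pow]
    have h6 : u ^ (p ^ (a + b)) = 1 := by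
      rw [pow_add, pow_mul, ha', one_pow]
    rw [h5, h6, mul_one, mul_inv_cancel, one_mul] at h4
    exact h4.symm
  have hm1 : u⁻¹ * (g * w * g⁻¹) = 1 := by
    have h7 : orderOf (u⁻¹ * (g * w * g⁻¹)) ∣ Nat.card M := by
      have : orderOf (⟨_, hm⟩ : M) ∣ Nat.card M := orderOf_dvd_natCard _
      rwa [Subgroup.orderOf_mk] at this
    have h8 : orderOf (u⁻¹ * (g * w * g⁻¹)) ∣ p ^ (a + b) := orderOf_dvd_of_pow_eq_one h3
    have h9 := Nat.dvd_gcd h7 h8
    rw [Nat.Coprime.pow_right (a + b) hM, Nat.dvd_one, orderOf_eq_one_iff] at h9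
    exact h9
  rw [h2, hm1, mul_one]
  exact hu

/-- In a finite `p`-solvable group whose Sylow `p`-subgroup is not normal, some `p`-element normalizes but does
not centralize a `q`-subgroup, `q ≠ p`. -/
theorem trip_of_not_normal {p : ℕ} [hp : Fact p.Prime] :
    ∀ (n : ℕ) (G : Type u) [Group G] [Finite G], Nat.card G ≤ n → IsPSolvable p G →
    ∀ P : Sylow p G, ¬ (P : Subgroup G).Normal → Trip p G := by
  intro n
  induction n with
  | zero =>
    intro G _ _ hn
    have := Nat.card_pos (α := G)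
    omega
  | succ n ih =>
    intro G _ _ hn hsolv P hP
    haveI : Nontrivial G := by
      by_contra h
      rw [not_nontrivial_iff_subsingleton] at h
      apply hP
      constructor
      intro a ha g
      rw [Subsingleton.elim (g * a * g⁻¹) a]
      exact ha
    obtain ⟨M, hMn, hM1, hM2⟩ := Cfsg.Agent.Lib.Helper24.exists_normal_of_isPSolvable p hsolv
    haveI := hMn
    have hcard : Nat.card (G ⧸ M) ≤ n := by
      have h1 := Subgroup.card_eq_card_quotient_mul_card_subgroup M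
      have h2 : 1 < Nat.card M := (Subgroup.one_lt_card_iff_ne_bot M).mpr hM1
      have h3 : 0 < Nat.card (G ⧸ M) := Nat.card_pos
      nlinarith
    have hsolvq : IsPSolvable p (G ⧸ M) :=
      Cfsg.Agent.Lib.Helper24.isPSolvable_of_surjective p (QuotientGroup.mk' M)
        (QuotientGroup.mk'_surjective M) hsolv
    let Pb : Sylow p (G ⧸ M) := P.mapSurjective (QuotientGroup.mk'_surjective M)
    have hPbcoe : (Pb : Subgroup (G ⧸ M)) = (P : Subgroup G).map (QuotientGroup.mk' M) :=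
      Sylow.coe_mapSurjective _ _
    by_cases hPb : (Pb : Subgroup (G ⧸ M)).Normal
    · rcases hM2 with hMp | hMc
      · exfalso
        apply hP
        have hMP : M ≤ P := Cfsg.Agent.Lib.Helper24.normal_pgroup_le_sylow M hMp P
        have h1 : (P : Subgroup G) = (Pb : Subgroup _).comap (QuotientGroup.mk' M) := by
          rw [hPbcoe, Subgroup.comap_map_eq, QuotientGroup.ker_mk', sup_eq_left.mpr hMP]
        rw [h1]
        exact Subgroup.Normal.comap hPb _
      · by_cases hcen : ∀ y ∈ (P : Subgroup G), ∀ m ∈ M, y * m = m * y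
        · exfalso
          apply hP
          rw [hPbcoe] at hPb
          exact sylow_normal_of_map_normal M hMc P hPb hcen
        · push Not at hcen
          obtain ⟨y, hy, m, hm, hym⟩ := hcen
          obtain ⟨k, hk⟩ := P.isPGroup' ⟨y, hy⟩
          exact Trip.of_normal_coprime M hMc y k (congrArg Subtype.val hk) m hm hym
    · have key := ih (G ⧸ M) hcard hsolvq Pb hPb
      rcases hM2 with hMp | hMc
      · exact Trip.of_quotient_pGroup M hMp key
      · exact Trip.of_quotient_coprime M hMc key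

end Cfsg.Agent.CharLib.Ito
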