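/-
Ito's theorem on p-solvable linear groups of small degree (lead), assembly:
a finite `p`-solvable group with a faithful character of degree `n ≤ p - 1` and a non-normal Sylow `p`-subgroup
has `n = p - 1`, `n` a power of `2` and the character irreducible.
-/
import Mathlib
import Cfsg.Prelude.Def_Characters
import Cfsg.Prelude.Def_Local
import Cfsg.Agent.Lib.Lead.ItoC
import Cfsg.Agent.Lib.Lead.ItoG

set_option autoImplicit false

namespace Cfsg.Agent.CharLib.Ito

open Cfsg Representation Module Cfsg.Agent.Lib.Helper6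
open scoped ComplexConjugate

universe u

variable {G : Type u} [Group G]

/-- A character whose restriction to a subgroup is irreducible is irreducible. -/
theorem isIrrCharacter_of_restrict [Finite G] (Q : Subgroup G) {χ : G → ℂ} (hχ : IsCharacter G χ)
    (hres : IsIrrCharacter Q (fun y : Q => χ y)) : IsIrrCharacter G χ := by
  classical
  letI := Fintype.ofFinite G
  letI : Fintype Q := Fintype.ofFinite Q
  letI := fintypeIrr G
  obtain ⟨m, hm, hcoef⟩ := IsCharacter.exists_decomp_sum hχ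
  have h1 : classInner (fun y : Q => χ y) (fun y : Q => χ y) = 1 := by
    rw [classInner_irr hres hres, if_pos rfl]
  have h2 : (fun y : Q => χ y) = ∑ φ : IrrCharacter G, m φ • (fun y : Q => (φ : G → ℂ) y) := by
    funext y
    have := congrFun hm (y : G)
    rw [Finset.sum_apply] at this
    rw [Finset.sum_apply]
    exact this
  have h3 : ∑ φ : IrrCharacter G, (m φ : ℂ) * classInner (fun y : Q => (φ : G → ℂ) y) (fun y : Q => χ y) = 1 := by
    rw [← h1]
    conv_rhs => arg 1; rw [h2]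
    rw [classInner_sum_left]
    apply Finset.sum_congr rfl
    intro φ _
    rw [← Nat.cast_smul_eq_nsmul ℂ, classInner_smul_left]
  obtain ⟨φ₀, -, hφ₀⟩ := Finset.exists_ne_zero_of_sum_ne_zero (by rw [h3]; exact one_ne_zero)
  have hm0 : m φ₀ ≠ 0 := by
    intro h
    apply hφ₀
    rw [h, Nat.cast_zero, zero_mul]
  have hc0 : classInner (fun y : Q => (φ₀ : G → ℂ) y) (fun y : Q => χ y) ≠ 0 := by
    intro h
    apply hφ₀
    rw [h, mul_zero]
  obtain ⟨D, hD⟩ := IsCharacter.apply_one hχ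
  obtain ⟨d, hd0, hd⟩ := IsIrrCharacter.apply_one_pos φ₀.2
  have hle : D ≤ d :=
    constituent_degree_le (IsCharacter.restrict (IsIrrCharacter.isCharacter φ₀.2) Q) hres hc0
      (d := d) (e := D) hd hD
  have hcne : classInner χ (φ₀ : G → ℂ) ≠ 0 := by
    rw [hcoef]
    exact_mod_cast hm0
  have : χ = φ₀.1 := IsCharacter.eq_of_constituent_of_degree_le hχ φ₀.2 hcne hD hd hle
  rw [this]
  exact φ₀.2

/-- **Ito's theorem.** -/
theorem ito_theorem [Finite G] (χ : G → ℂ) (hχ : IsCharacter G χ)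
    (hfaith : ∀ g : G, χ g = χ 1 → g = 1) (n : ℕ) (hn : χ 1 = n) (p : ℕ) (hp : p.Prime)
    (hsolv : IsPSolvable p G) (hnp : n + 1 ≤ p) (P : Sylow p G) (hP : ¬ (P : Subgroup G).Normal) :
    n + 1 = p ∧ (∃ k : ℕ, n = 2 ^ k) ∧ IsIrrCharacter G χ := by
  haveI : Fact p.Prime := ⟨hp⟩
  obtain ⟨q, Q, x, hq, hqp, hQ, ⟨k, hxk⟩, hnorm, a, ha, hxa⟩ :=
    trip_of_not_normal (Nat.card G) G le_rfl hsolv P hP
  have hinvQ : ∀ z ∈ Q, (MulAut.conj x) z ∈ Q := by
    intro z hz
    rw [MulAut.conj_apply]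
    exact hnorm z hz
  let σ : MulAut Q := restrictAut (MulAut.conj x) Q hinvQ
  have hσ_apply : ∀ y : Q, ((σ y : Q) : G) = x * y * x⁻¹ := fun y => rfl
  have hσ : σ ^ (p ^ k) = 1 := by
    ext y
    rw [restrictAut_pow_apply, ← map_pow, hxk, map_one]
    rfl
  letI : Fintype Q := Fintype.ofFinite Q
  let Θ : Q → ℂ := fun y => χ y
  have hΘ : IsCharacter Q Θ := IsCharacter.restrict hχ Q
  have hΘσ : ∀ y, Θ (σ y) = Θ y := by
    intro y
    show χ (x * y * x⁻¹) = χ y
    exact (IsCharacter.isClassFunction hχ) y x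
  have hΘ1 : Θ 1 = n := hn
  have hb : Θ ((⟨a, ha⟩ : Q)⁻¹ * σ ⟨a, ha⟩) ≠ Θ 1 := by
    intro h
    have h1 : a⁻¹ * (x * a * x⁻¹) = 1 := hfaith _ h
    apply hxa
    have h2 : x * a = a * (a⁻¹ * (x * a * x⁻¹)) * x := by group
    rw [h2, h1, mul_one]
  obtain ⟨ψ, hψ, hc, hψb⟩ := exists_constituent_ne hΘ hb
  obtain ⟨e, he0, he⟩ := IsIrrCharacter.apply_one_pos hψ
  have hed : e ≤ n := constituent_degree_le hΘ hψ hc hΘ1 he
  have hψσ : ∀ y, ψ (σ y) = ψ y := by
    by_contra hne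
    have := degree_ge_of_orbit hp k σ hσ hΘ hΘσ hψ hc hne hΘ1
    omega
  obtain ⟨h1, h2⟩ := ito_general hp hq (Ne.symm hqp) k (Nat.card Q) Q le_rfl hQ σ hσ ψ hψ hψσ
    ⟨⟨a, ha⟩, hψb⟩ e he
  have hen : e = n := by omega
  have hnp' : n + 1 = p := by omega
  refine ⟨hnp', ?_, ?_⟩
  · rw [← hen]
    exact h2 (by omega)
  · apply isIrrCharacter_of_restrict Q hχ
    have hΘψ : Θ = ψ := IsCharacter.eq_of_constituent_of_degree_le hΘ hψ hc hΘ1 he (by omega)
    show IsIrrCharacter Q Θ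
    rw [hΘψ]
    exact hψ

end Cfsg.Agent.CharLib.Ito
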