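import Mathlib
import Cfsg.Agent.Lib.Lead.CharMain
import Cfsg.Agent.Lib.Lead.RealOddBlock
import Cfsg.Agent.Lib.Lead.FrobSchur
import Cfsg.Agent.Lib.Helper10.TICount
import Cfsg.Prelude.Def_OddOrderLocal
/-! Endgame for groups partitioned by TI Frobenius kernels (Peterfalvi 7.1), part 1:
the data attached to one coherent family, counting over the conjugates of a TI subgroup. -/
set_option autoImplicit false
open Cfsg Cfsg.Agent.CharLib
open scoped ComplexConjugate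

namespace Cfsg.Agent.Lib.Lead.CNEnd
universe u

variable {G : Type u} [Group G] [Fintype G]

open Classical in
/-- The character-theoretic data attached to a coherent family of a TI Frobenius kernel `H`
with `|N(H):H| = e` and `|H| = e w + 1`. -/
structure ExcData (G : Type u) [Group G] [Fintype G] (H : Subgroup G) (e w : ℕ) where
  X : Finset (IrrCharacter G)
  n : IrrCharacter G → ℕ
  m : IrrCharacter G → ℤ
  ε : ℤ
  c : ℤ
  χ₁ : IrrCharacter G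
  hε : ε = 1 ∨ ε = -1
  hχ₁ : χ₁ ∈ X
  hn₁ : n χ₁ = 1
  hw : ∑ χ ∈ X, (n χ) ^ 2 = w
  hconj : ∀ χ ∈ X, cjIrr χ ∈ X
  hnonreal : ∀ χ ∈ X, cjIrr χ ≠ χ
  hreal : ∀ χ ∈ X, ∀ y : G, y ≠ 1 → (∀ g : G, g * y * g⁻¹ ∉ H) →
    conj ((χ : G → ℂ) y) = (χ : G → ℂ) y
  hconst : ∀ χ : IrrCharacter G, χ ∉ X → ∀ x ∈ H, x ≠ 1 → (χ : G → ℂ) x = (m χ : ℂ)
  hsum1 : ∀ x ∈ H, x ≠ 1 →
    ∑ χ ∈ X, (n χ : ℂ) * (χ : G → ℂ) x = -(ε : ℂ) + (c : ℂ) * (w : ℂ)
  hsum2 : ∀ x ∈ H, x ≠ 1 → ∑ χ ∈ X, (χ : G → ℂ) x * conj ((χ : G → ℂ) x) =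
    (Nat.card (Subgroup.centralizer ({x} : Set G)) : ℂ) - (e : ℂ) - 2 * (ε : ℂ) * (c : ℂ)
      + (c : ℂ) ^ 2 * (w : ℂ)
  hrow : ∑ x ∈ Finset.univ.filter (fun x : G => x ∈ H ∧ x ≠ 1),
      (χ₁ : G → ℂ) x * conj ((χ₁ : G → ℂ) x) =
    (e : ℂ) * ((e : ℂ) * (w : ℂ) + 1) - (e : ℂ) ^ 2 - 2 * (ε : ℂ) * (c : ℂ) * (e : ℂ)
      + (e : ℂ) * (w : ℂ) * (c : ℂ) ^ 2
  hoff : ∀ χ ∈ X, ∀ y : G, y ≠ 1 → (∀ g : G, g * y * g⁻¹ ∉ H) →
    (χ : G → ℂ) y = (n χ : ℂ) * (χ₁ : G → ℂ) y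

/-- For `z ≠ 1` conjugate into the TI subgroup `H`, the conjugators form a coset of `N(H)`. -/
theorem card_conjugators [DecidableEq G] (H : Subgroup G) [DecidablePred (· ∈ H)]
    (hTI : IsTISubset (H : Set G)) (z : G) (hz : z ≠ 1) (hex : ∃ x : G, x * z * x⁻¹ ∈ H) :
    (Finset.univ.filter (fun x : G => x * z * x⁻¹ ∈ H)).card =
      Nat.card (Subgroup.normalizer (H : Set G)) := by
  classical
  obtain ⟨xt, hxt⟩ := hex
  have ht1 : xt * z * xt⁻¹ ≠ 1 := Cfsg.Agent.Lib.Helper10.conj_ne_one_of_ne_one hz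
  rw [Nat.card_eq_fintype_card, Fintype.card_subtype]
  apply Finset.card_bij (fun x _ => x * xt⁻¹)
  · intro x hx
    rw [Finset.mem_filter] at hx ⊢
    refine ⟨Finset.mem_univ _, ?_⟩
    apply Cfsg.Agent.Lib.Helper10.mem_normalizer_of_ti hTI hxt ht1
    have e : x * xt⁻¹ * (xt * z * xt⁻¹) * (x * xt⁻¹)⁻¹ = x * z * x⁻¹ := by group
    rw [e]; exact hx.2
  · intro a _ b _ hab
    exact mul_right_cancel hab
  · intro y hy
    rw [Finset.mem_filter] at hy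
    refine ⟨y * xt, ?_, by group⟩
    rw [Finset.mem_filter]
    refine ⟨Finset.mem_univ _, ?_⟩
    have := (Subgroup.mem_set_normalizer_iff.mp hy.2 (xt * z * xt⁻¹)).mp hxt
    have e : y * (xt * z * xt⁻¹) * y⁻¹ = y * xt * z * (y * xt)⁻¹ := by group
    rwa [e] at this

open Classical in
/-- Summing a class function over the non-identity elements conjugate into a TI subgroup. -/
theorem sum_conj_TI (H : Subgroup G) (hTI : IsTISubset (H : Set G)) (f : G → ℂ)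
    (hf : ∀ g z : G, f (g * z * g⁻¹) = f z) :
    (∑ z ∈ Finset.univ.filter (fun z : G => z ≠ 1 ∧ ∃ x : G, x * z * x⁻¹ ∈ H), f z) *
        (Nat.card (Subgroup.normalizer (H : Set G)) : ℂ) =
      (Nat.card G : ℂ) * ∑ h ∈ Finset.univ.filter (fun h : G => h ∈ H ∧ h ≠ 1), f h := by
  have h1 : ∀ x : G, ∑ z ∈ Finset.univ.filter (fun z : G => z ≠ 1 ∧ x * z * x⁻¹ ∈ H), f z =
      ∑ h ∈ Finset.univ.filter (fun h : G => h ∈ H ∧ h ≠ 1), f h := by
    intro x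
    apply Finset.sum_nbij' (fun z => x * z * x⁻¹) (fun h => x⁻¹ * h * x)
    · intro z hz
      rw [Finset.mem_filter] at hz ⊢
      exact ⟨Finset.mem_univ _, hz.2.2, Cfsg.Agent.Lib.Helper10.conj_ne_one_of_ne_one hz.2.1⟩
    · intro h hh
      rw [Finset.mem_filter] at hh ⊢
      refine ⟨Finset.mem_univ _, ?_, ?_⟩
      · have := Cfsg.Agent.Lib.Helper10.conj_ne_one_of_ne_one (x := x⁻¹) hh.2.2
        simpa using this
      · have e : x * (x⁻¹ * h * x) * x⁻¹ = h := by group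
        rw [e]; exact hh.2.1
    · intro z _; group
    · intro h _; group
    · intro z _; exact (hf x z).symm
  have h2 : ∑ x : G, ∑ z ∈ Finset.univ.filter (fun z : G => z ≠ 1 ∧ x * z * x⁻¹ ∈ H), f z =
      (Nat.card G : ℂ) * ∑ h ∈ Finset.univ.filter (fun h : G => h ∈ H ∧ h ≠ 1), f h := by
    rw [Finset.sum_congr rfl (fun x _ => h1 x), Finset.sum_const, Finset.card_univ,
      nsmul_eq_mul, Nat.card_eq_fintype_card]
  rw [← h2]
  have h3 : ∑ x : G, ∑ z ∈ Finset.univ.filter (fun z : G => z ≠ 1 ∧ x * z * x⁻¹ ∈ H), f z =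
      ∑ z : G, ∑ x : G, if (z ≠ 1 ∧ x * z * x⁻¹ ∈ H) then f z else 0 := by
    rw [Finset.sum_comm]
    apply Finset.sum_congr rfl
    intro x _
    rw [Finset.sum_filter]
  rw [h3, Finset.sum_mul, Finset.sum_filter]
  apply Finset.sum_congr rfl
  intro z _
  by_cases hz : z ≠ 1 ∧ ∃ x : G, x * z * x⁻¹ ∈ H
  · rw [if_pos hz]
    have : ∑ x : G, (if (z ≠ 1 ∧ x * z * x⁻¹ ∈ H) then f z else 0) =
        ∑ x ∈ Finset.univ.filter (fun x : G => x * z * x⁻¹ ∈ H), f z := by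
      rw [Finset.sum_filter]
      apply Finset.sum_congr rfl
      intro x _
      by_cases hx : x * z * x⁻¹ ∈ H
      · rw [if_pos ⟨hz.1, hx⟩, if_pos hx]
      · rw [if_neg (fun h => hx h.2), if_neg hx]
    rw [this, Finset.sum_const, nsmul_eq_mul, card_conjugators H hTI z hz.1 hz.2, mul_comm]
  · rw [if_neg hz]
    symm
    apply Finset.sum_eq_zero
    intro x _
    rw [if_neg]
    intro h
    exact hz ⟨h.1, x, h.2⟩

end Cfsg.Agent.Lib.Lead.CNEnd
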