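import Mathlib
import Cfsg.Agent.Lib.Lead.CNEnd1
/-! Endgame for groups partitioned by TI Frobenius kernels (Peterfalvi 7.1), part 2:
the family, uniqueness of the kernel containing a conjugate, the class-sum formula. -/
set_option autoImplicit false
open Cfsg Cfsg.Agent.CharLib
open scoped ComplexConjugate

namespace Cfsg.Agent.Lib.Lead.CNEnd
universe u v

/-- A family of TI Frobenius kernels partitioning `G`, each with its exceptional-character data. -/
structure Fam (G : Type u) [Group G] [Fintype G] (ι : Type v) where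
  H : ι → Subgroup G
  e : ι → ℕ
  w : ι → ℕ
  hTI : ∀ i, IsTISubset (H i : Set G)
  hcardH : ∀ i, Nat.card (H i) = e i * w i + 1
  hcardN : ∀ i, Nat.card (Subgroup.normalizer (H i : Set G)) = e i * Nat.card (H i)
  he : ∀ i, 3 ≤ e i
  hw2 : ∀ i, 2 ≤ w i
  hcop : ∀ i j, i ≠ j → Nat.Coprime (Nat.card (H i)) (Nat.card (H j))
  hcover : ∀ g : G, g ≠ 1 → ∃ i, ∃ x : G, x * g * x⁻¹ ∈ H i
  D : ∀ i, ExcData G (H i) (e i) (w i)

variable {G : Type u} [Group G] [Fintype G] {ι : Type v} (F : Fam G ι)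

theorem Fam.uniq {y : G} (hy : y ≠ 1) {i k : ι} {x x' : G} (h1 : x * y * x⁻¹ ∈ F.H i)
    (h2 : x' * y * x'⁻¹ ∈ F.H k) : i = k := by
  by_contra hik
  have hc := F.hcop i k hik
  have o1 : orderOf y ∣ Nat.card (F.H i) := by
    have := Subgroup.orderOf_dvd_natCard (F.H i) h1
    have e : orderOf (x * y * x⁻¹) = orderOf y := by
      have := MulEquiv.orderOf_eq (MulAut.conj x) y
      rwa [MulAut.conj_apply] at this
    rwa [e] at this
  have o2 : orderOf y ∣ Nat.card (F.H k) := by
    have := Subgroup.orderOf_dvd_natCard (F.H k) h2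
    have e : orderOf (x' * y * x'⁻¹) = orderOf y := by
      have := MulEquiv.orderOf_eq (MulAut.conj x') y
      rwa [MulAut.conj_apply] at this
    rwa [e] at this
  have := Nat.eq_one_of_dvd_coprimes hc o1 o2
  exact hy (orderOf_eq_one_iff.mp this)

theorem Fam.exists_ne_one (i : ι) : ∃ x ∈ F.H i, x ≠ 1 := by
  by_contra hcon
  push Not at hcon
  have hbot : F.H i = ⊥ := by
    rw [Subgroup.eq_bot_iff_forall]
    exact hcon
  have h1 := F.hcardH i
  rw [hbot, Subgroup.card_bot] at h1
  have := F.he i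
  have := F.hw2 i
  nlinarith

theorem Fam.not_conj {i k : ι} (hik : i ≠ k) {y : G} (hy : y ∈ F.H k) (hy1 : y ≠ 1) (g : G) :
    g * y * g⁻¹ ∉ F.H i := by
  intro h
  apply hik
  have h2 : (1 : G) * y * (1 : G)⁻¹ ∈ F.H k := by simpa using hy
  exact F.uniq hy1 h h2

theorem Fam.triv_not_mem (i : ι) : trivIrr G ∉ (F.D i).X := by
  intro h
  apply (F.D i).hnonreal _ h
  apply Subtype.ext
  funext g
  simp [cjIrr, trivIrr]

theorem Fam.disjoint {i k : ι} (hik : i ≠ k) {χ : IrrCharacter G} (hi : χ ∈ (F.D i).X) :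
    χ ∉ (F.D k).X := by
  intro hk
  apply (F.D i).hnonreal χ hi
  apply Subtype.ext
  funext y
  show conj ((χ : G → ℂ) y) = (χ : G → ℂ) y
  by_cases hy : y = 1
  · rw [hy]
    obtain ⟨d, hd⟩ := IsCharacter.apply_one (IsIrrCharacter.isCharacter χ.2)
    rw [hd, Complex.conj_natCast]
  · obtain ⟨j, x, hx⟩ := F.hcover y hy
    by_cases hji : j = i
    · subst hji
      apply (F.D k).hreal χ hk y hy
      intro g hg
      exact hik (F.uniq hy hx hg)
    · apply (F.D i).hreal χ hi y hy
      intro g hg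
      exact hji (F.uniq hy hx hg)

open Classical in
/-- The class-sum formula: a class function summed over `G`, sorted by the kernel containing a
conjugate. -/
theorem Fam.sum_eq [Fintype ι] (f : G → ℂ) (hf : ∀ g z : G, f (g * z * g⁻¹) = f z) :
    ∑ z : G, f z = f 1 + ∑ i : ι, (Nat.card G : ℂ) /
      (Nat.card (Subgroup.normalizer (F.H i : Set G)) : ℂ) *
        ∑ h ∈ Finset.univ.filter (fun h : G => h ∈ F.H i ∧ h ≠ 1), f h := by
  set A : ι → Finset G := fun i =>
    Finset.univ.filter (fun z : G => z ≠ 1 ∧ ∃ x : G, x * z * x⁻¹ ∈ F.H i) with hA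
  have huniv : (Finset.univ : Finset G) = insert 1 (Finset.univ.biUnion A) := by
    ext z
    simp only [Finset.mem_univ, Finset.mem_insert, Finset.mem_biUnion, true_and, true_iff]
    by_cases hz : z = 1
    · exact Or.inl hz
    · right
      obtain ⟨i, x, hx⟩ := F.hcover z hz
      refine ⟨i, ?_⟩
      rw [hA, Finset.mem_filter]
      exact ⟨Finset.mem_univ _, hz, x, hx⟩
  have h1 : (1 : G) ∉ Finset.univ.biUnion A := by
    simp only [Finset.mem_biUnion, Finset.mem_univ, true_and, not_exists]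
    intro i hi
    rw [hA, Finset.mem_filter] at hi
    exact hi.2.1 rfl
  have hdisj : Set.PairwiseDisjoint (↑(Finset.univ : Finset ι)) A := by
    intro i _ k _ hik
    rw [Function.onFun, Finset.disjoint_left]
    intro z hzi hzk
    rw [hA, Finset.mem_filter] at hzi hzk
    obtain ⟨x, hx⟩ := hzi.2.2
    obtain ⟨x', hx'⟩ := hzk.2.2
    exact hik (F.uniq hzi.2.1 hx hx')
  have hsum : ∑ z : G, f z = ∑ z ∈ insert 1 (Finset.univ.biUnion A), f z := by rw [← huniv]
  rw [hsum, Finset.sum_insert h1, Finset.sum_biUnion hdisj]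
  congr 1
  apply Finset.sum_congr rfl
  intro i _
  have h2 := sum_conj_TI (F.H i) (F.hTI i) f hf
  have hN : (Nat.card (Subgroup.normalizer (F.H i : Set G)) : ℂ) ≠ 0 :=
    Nat.cast_ne_zero.mpr Nat.card_pos.ne'
  rw [div_mul_eq_mul_div, eq_div_iff hN]
  exact h2

end Cfsg.Agent.Lib.Lead.CNEnd
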