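import Mathlib
import Cfsg.Agent.Lib.Lead.CNEnd2
import Cfsg.Agent.Lib.Lead.OddIndexReal
/-! Endgame for groups partitioned by TI Frobenius kernels (Peterfalvi 7.1), part 3:
the parity relation between two families. -/
set_option autoImplicit false
open Cfsg Cfsg.Agent.CharLib
open scoped ComplexConjugate

namespace Cfsg.Agent.Lib.Lead.CNEnd
universe u v

variable {G : Type u} [Group G] [Fintype G] {ι : Type v} (F : Fam G ι)

theorem ExcData.cj_not_mem {H : Subgroup G} {e w : ℕ} (D : ExcData G H e w) {χ : IrrCharacter G}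
    (hχ : χ ∉ D.X) : cjIrr χ ∉ D.X := by
  intro h
  apply hχ
  have := D.hconj _ h
  rwa [cjIrr_cjIrr] at this

theorem ExcData.m_cj {H : Subgroup G} {e w : ℕ} (D : ExcData G H e w) (hx : ∃ x ∈ H, x ≠ 1)
    {χ : IrrCharacter G} (hχ : χ ∉ D.X) : D.m (cjIrr χ) = D.m χ := by
  obtain ⟨x, hxH, hx1⟩ := hx
  have h1 := D.hconst χ hχ x hxH hx1
  have h2 := D.hconst (cjIrr χ) (D.cj_not_mem hχ) x hxH hx1
  have h3 : ((cjIrr χ : IrrCharacter G) : G → ℂ) x = conj ((χ : G → ℂ) x) := rfl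
  rw [h3, h1, map_intCast] at h2
  exact_mod_cast h2.symm

theorem ExcData.m_triv {H : Subgroup G} {e w : ℕ} (D : ExcData G H e w) (hx : ∃ x ∈ H, x ≠ 1)
    (ht : trivIrr G ∉ D.X) : D.m (trivIrr G) = 1 := by
  obtain ⟨x, hxH, hx1⟩ := hx
  have h1 := D.hconst _ ht x hxH hx1
  have h2 : ((trivIrr G : IrrCharacter G) : G → ℂ) x = 1 := rfl
  rw [h2] at h1
  exact_mod_cast h1.symm

theorem Fam.odd_card_parts (hodd : Odd (Nat.card G)) (i : ι) :
    Odd (F.e i) ∧ Even (F.w i) := by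
  have h1 : Nat.card (Subgroup.normalizer (F.H i : Set G)) ∣ Nat.card G :=
    Subgroup.card_subgroup_dvd_card _
  rw [F.hcardN i, F.hcardH i] at h1
  have h2 : Odd (F.e i * (F.e i * F.w i + 1)) := Odd.of_dvd_nat hodd h1
  rw [Nat.odd_mul] at h2
  refine ⟨h2.1, ?_⟩
  have h3 : Even (F.e i * F.w i) := by
    have := h2.2
    rcases Nat.even_or_odd (F.e i * F.w i) with h | h
    · exact h
    · exfalso
      have h4 : Even (F.e i * F.w i + 1) := Odd.add_one h
      exact (Nat.not_even_iff_odd.mpr this) h4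
  rw [Nat.even_mul] at h3
  rcases h3 with h | h
  · exact absurd h2.1 (Nat.not_odd_iff_even.mpr h)
  · exact h

/-- The value of the degree-`e` exceptional character of family `i` on the kernel of family `k`. -/
noncomputable def Fam.a (i k : ι) : ℤ := (F.D k).m (F.D i).χ₁

theorem Fam.chi1_apply {i k : ι} (hik : i ≠ k) {y : G} (hy : y ∈ F.H k) (hy1 : y ≠ 1) :
    ((F.D i).χ₁ : G → ℂ) y = (F.a i k : ℂ) :=
  (F.D k).hconst _ (F.disjoint hik (F.D i).hχ₁) y hy hy1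

theorem Fam.apply_off {i k : ι} (hik : i ≠ k) {χ : IrrCharacter G} (hχ : χ ∈ (F.D i).X)
    {y : G} (hy : y ∈ F.H k) (hy1 : y ≠ 1) :
    (χ : G → ℂ) y = ((F.D i).n χ : ℂ) * (F.a i k : ℂ) := by
  rw [(F.D i).hoff χ hχ y hy1 (fun g => F.not_conj hik hy hy1 g), F.chi1_apply hik hy hy1]

open Classical in
/-- The integer relation from column orthogonality of `x ∈ H_i`, `y ∈ H_k`. -/
theorem Fam.ortho_rel [Fintype (IrrCharacter G)] {i k : ι} (hik : i ≠ k) :
    F.a i k * (-(F.D i).ε + (F.D i).c * (F.w i : ℤ)) +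
      F.a k i * (-(F.D k).ε + (F.D k).c * (F.w k : ℤ)) +
      ∑ χ ∈ Finset.univ.filter (fun χ : IrrCharacter G => χ ∉ (F.D i).X ∧ χ ∉ (F.D k).X),
        (F.D i).m χ * (F.D k).m χ = 0 := by
  obtain ⟨x, hxH, hx1⟩ := F.exists_ne_one i
  obtain ⟨y, hyH, hy1⟩ := F.exists_ne_one k
  have hnc : ¬ IsConj x y := by
    intro hc
    obtain ⟨c, hc⟩ := isConj_iff.mp hc
    have : c * x * c⁻¹ ∈ F.H k := by rw [hc]; exact hyH
    exact F.not_conj (Ne.symm hik) hxH hx1 c this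
  have h0 := sum_irr_mul_conj x y
  have hci : classIndicator y x = 0 := by
    simp only [classIndicator]
    rw [if_neg hnc]
  rw [hci, zero_mul] at h0
  set Xi := (F.D i).X with hXi
  set Xk := (F.D k).X with hXk
  have hdisj : Disjoint Xi Xk := by
    rw [Finset.disjoint_left]
    intro χ h1 h2
    exact F.disjoint hik h1 h2
  have hsplit : ∑ χ : IrrCharacter G, (χ : G → ℂ) x * conj ((χ : G → ℂ) y) =
      ∑ χ ∈ Xi, (χ : G → ℂ) x * conj ((χ : G → ℂ) y) +
      ∑ χ ∈ Xk, (χ : G → ℂ) x * conj ((χ : G → ℂ) y) +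
      ∑ χ ∈ Finset.univ.filter (fun χ : IrrCharacter G => χ ∉ Xi ∧ χ ∉ Xk),
        (χ : G → ℂ) x * conj ((χ : G → ℂ) y) := by
    rw [← Finset.sum_union hdisj]
    have hcompl : Finset.univ.filter (fun χ : IrrCharacter G => χ ∉ Xi ∧ χ ∉ Xk) =
        Finset.univ \ (Xi ∪ Xk) := by
      ext χ
      simp only [Finset.mem_filter, Finset.mem_univ, true_and, Finset.mem_sdiff,
        Finset.mem_union, not_or]
    rw [hcompl, add_comm, Finset.sum_sdiff (Finset.subset_univ _)]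
  have hS1 : ∑ χ ∈ Xi, (χ : G → ℂ) x * conj ((χ : G → ℂ) y) =
      (F.a i k : ℂ) * (-((F.D i).ε : ℂ) + ((F.D i).c : ℂ) * (F.w i : ℂ)) := by
    rw [← (F.D i).hsum1 x hxH hx1, Finset.mul_sum]
    apply Finset.sum_congr rfl
    intro χ hχ
    rw [F.apply_off hik hχ hyH hy1, map_mul, map_natCast, map_intCast]
    ring
  have hS2 : ∑ χ ∈ Xk, (χ : G → ℂ) x * conj ((χ : G → ℂ) y) =
      (F.a k i : ℂ) * (-((F.D k).ε : ℂ) + ((F.D k).c : ℂ) * (F.w k : ℂ)) := by
    have h5 := congrArg conj ((F.D k).hsum1 y hyH hy1)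
    rw [map_sum] at h5
    simp only [map_add, map_neg, map_mul, map_intCast, map_natCast] at h5
    rw [← h5, Finset.mul_sum]
    apply Finset.sum_congr rfl
    intro χ hχ
    rw [F.apply_off (Ne.symm hik) hχ hxH hx1]
    ring
  have hS3 : ∑ χ ∈ Finset.univ.filter (fun χ : IrrCharacter G => χ ∉ Xi ∧ χ ∉ Xk),
        (χ : G → ℂ) x * conj ((χ : G → ℂ) y) =
      ((∑ χ ∈ Finset.univ.filter (fun χ : IrrCharacter G => χ ∉ Xi ∧ χ ∉ Xk),
        (F.D i).m χ * (F.D k).m χ : ℤ) : ℂ) := by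
    rw [Int.cast_sum]
    apply Finset.sum_congr rfl
    intro χ hχ
    rw [Finset.mem_filter] at hχ
    rw [(F.D i).hconst χ hχ.2.1 x hxH hx1, (F.D k).hconst χ hχ.2.2 y hyH hy1,
      map_intCast, Int.cast_mul]
  rw [hsplit, hS1, hS2, hS3] at h0
  exact_mod_cast h0

end Cfsg.Agent.Lib.Lead.CNEnd
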