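import Mathlib
import Cfsg.Agent.Lib.Lead.CNEnd3
/-! Endgame for groups partitioned by TI Frobenius kernels (Peterfalvi 7.1), part 4: parity. -/
set_option autoImplicit false
open Cfsg Cfsg.Agent.CharLib
open scoped ComplexConjugate

namespace Cfsg.Agent.Lib.Lead.CNEnd
universe u v

variable {G : Type u} [Group G] [Fintype G] {ι : Type v} (F : Fam G ι)

theorem cjIrr_ne_of_odd (hodd : Odd (Nat.card G)) {χ : IrrCharacter G} (hχ : χ ≠ trivIrr G) :
    cjIrr χ ≠ χ := by
  intro h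
  apply hχ
  apply Subtype.ext
  have hreal : ∀ g : G, ((χ : G → ℂ) g).im = 0 := by
    intro g
    have h1 : conj ((χ : G → ℂ) g) = (χ : G → ℂ) g :=
      congrArg (fun ψ : IrrCharacter G => (ψ : G → ℂ) g) h
    exact Complex.conj_eq_iff_im.mp h1
  rw [eq_one_of_real_of_odd hodd χ hreal]
  rfl

open Classical in
theorem Fam.parity [Fintype (IrrCharacter G)] (hodd : Odd (Nat.card G)) {i k : ι} (hik : i ≠ k) :
    Odd (F.a i k + F.a k i) := by
  have hrel := F.ortho_rel hik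
  set R := Finset.univ.filter (fun χ : IrrCharacter G => χ ∉ (F.D i).X ∧ χ ∉ (F.D k).X) with hR
  have htR : trivIrr G ∈ R := by
    rw [hR, Finset.mem_filter]
    exact ⟨Finset.mem_univ _, F.triv_not_mem i, F.triv_not_mem k⟩
  have hsum : ∑ χ ∈ R, (F.D i).m χ * (F.D k).m χ =
      1 + ∑ χ ∈ R.erase (trivIrr G), (F.D i).m χ * (F.D k).m χ := by
    rw [← Finset.add_sum_erase R _ htR, (F.D i).m_triv (F.exists_ne_one i) (F.triv_not_mem i),
      (F.D k).m_triv (F.exists_ne_one k) (F.triv_not_mem k), one_mul]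
  have heven : ((∑ χ ∈ R.erase (trivIrr G), (F.D i).m χ * (F.D k).m χ : ℤ) : ZMod 2) = 0 := by
    rw [Int.cast_sum]
    apply sum_zmod_two_of_involution cjIrr
      (fun χ => (((F.D i).m χ * (F.D k).m χ : ℤ) : ZMod 2))
    · intro χ hχ
      rw [Finset.mem_erase, hR, Finset.mem_filter] at hχ ⊢
      refine ⟨?_, Finset.mem_univ _, (F.D i).cj_not_mem hχ.2.2.1, (F.D k).cj_not_mem hχ.2.2.2⟩
      intro h
      apply hχ.1
      have := congrArg cjIrr h
      rw [cjIrr_cjIrr] at this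
      rw [this]
      apply Subtype.ext
      funext g
      simp [cjIrr, trivIrr]
    · intro χ _
      exact cjIrr_cjIrr χ
    · intro χ hχ
      rw [Finset.mem_erase] at hχ
      exact cjIrr_ne_of_odd hodd hχ.1
    · intro χ hχ
      rw [Finset.mem_erase, hR, Finset.mem_filter] at hχ
      show (((F.D i).m (cjIrr χ) * (F.D k).m (cjIrr χ) : ℤ) : ZMod 2) = _
      rw [(F.D i).m_cj (F.exists_ne_one i) hχ.2.2.1, (F.D k).m_cj (F.exists_ne_one k) hχ.2.2.2]
  have hcast := congrArg (Int.cast : ℤ → ZMod 2) hrel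
  rw [hsum] at hcast
  push_cast at hcast heven
  rw [heven, add_zero] at hcast
  have hwi : ((F.w i : ℕ) : ZMod 2) = 0 :=
    ZMod.natCast_eq_zero_iff_even.mpr (F.odd_card_parts hodd i).2
  have hwk : ((F.w k : ℕ) : ZMod 2) = 0 :=
    ZMod.natCast_eq_zero_iff_even.mpr (F.odd_card_parts hodd k).2
  have hεi : (((F.D i).ε : ℤ) : ZMod 2) = 1 := by
    rcases (F.D i).hε with h | h <;> rw [h] <;> decide
  have hεk : (((F.D k).ε : ℤ) : ZMod 2) = 1 := by
    rcases (F.D k).hε with h | h <;> rw [h] <;> decide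
  rw [hwi, hwk, hεi, hεk] at hcast
  rw [← ZMod.intCast_eq_one_iff_odd]
  push_cast
  have h2 : ∀ t : ZMod 2, -t = t := by decide
  have key : (F.a i k : ZMod 2) * (-1 + ((F.D i).c : ZMod 2) * 0) +
      (F.a k i : ZMod 2) * (-1 + ((F.D k).c : ZMod 2) * 0) + 1 = 0 := hcast
  simp only [mul_zero, add_zero, mul_neg, mul_one, h2] at key
  have h3 : ∀ s t : ZMod 2, s + t + 1 = 0 → s + t = 1 := by decide
  exact h3 _ _ key

end Cfsg.Agent.Lib.Lead.CNEnd
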