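import Mathlib
import Cfsg.Agent.Lib.Lead.CNEnd4
import Cfsg.Agent.Lib.Lead.KGVRegular
/-! Endgame for groups partitioned by TI Frobenius kernels (Peterfalvi 7.1), part 5:
the column bound and the row bound. -/
set_option autoImplicit false
open Cfsg Cfsg.Agent.CharLib
open scoped ComplexConjugate

namespace Cfsg.Agent.Lib.Lead.CNEnd
universe u v

variable {G : Type u} [Group G] [Fintype G] {ι : Type v} (F : Fam G ι)

theorem int_sq_bound (c ε : ℤ) (w : ℕ) (hε : ε = 1 ∨ ε = -1) (hw : 2 ≤ w) :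
    0 ≤ c ^ 2 * (w : ℤ) - 2 * ε * c := by
  have hw' : (2 : ℤ) ≤ (w : ℤ) := by exact_mod_cast hw
  rcases hε with h | h <;> subst h
  · rcases le_or_gt c 0 with hc | hc
    · nlinarith [sq_nonneg c]
    · have : 1 ≤ c := hc
      nlinarith [sq_nonneg c]
  · rcases le_or_gt 0 c with hc | hc
    · nlinarith [sq_nonneg c]
    · have : c ≤ -1 := by omega
      nlinarith [sq_nonneg c]

open Classical in
/-- Column bound: from `∑_χ |χ(x)|² = |C(x)|` for `x ∈ H_k`. -/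
theorem Fam.column_bound [Fintype ι] [Fintype (IrrCharacter G)] (k : ι) :
    ∑ m ∈ Finset.univ.erase k, (F.w m : ℤ) * (F.a m k) ^ 2 ≤ (F.e k : ℤ) - 1 := by
  obtain ⟨x, hxH, hx1⟩ := F.exists_ne_one k
  have h0 := sum_irr_normSq (G := G) x
  set T : Finset (IrrCharacter G) :=
    insert (trivIrr G) (Finset.univ.biUnion (fun m : ι => (F.D m).X)) with hT
  have hle : ∑ χ ∈ T, ‖(χ : G → ℂ) x‖ ^ 2 ≤ ∑ χ : IrrCharacter G, ‖(χ : G → ℂ) x‖ ^ 2 :=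
    Finset.sum_le_sum_of_subset_of_nonneg (Finset.subset_univ _) (fun _ _ _ => sq_nonneg _)
  have htriv : trivIrr G ∉ Finset.univ.biUnion (fun m : ι => (F.D m).X) := by
    simp only [Finset.mem_biUnion, Finset.mem_univ, true_and, not_exists]
    intro m
    exact F.triv_not_mem m
  have hdisj : Set.PairwiseDisjoint (↑(Finset.univ : Finset ι)) (fun m : ι => (F.D m).X) := by
    intro i _ j _ hij
    rw [Function.onFun, Finset.disjoint_left]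
    intro χ h1 h2
    exact F.disjoint hij h1 h2
  have hTsum : ∑ χ ∈ T, ‖(χ : G → ℂ) x‖ ^ 2 =
      1 + ∑ m : ι, ∑ χ ∈ (F.D m).X, ‖(χ : G → ℂ) x‖ ^ 2 := by
    rw [hT, Finset.sum_insert htriv, Finset.sum_biUnion hdisj]
    congr 1
    have : ((trivIrr G : IrrCharacter G) : G → ℂ) x = 1 := rfl
    rw [this]
    simp
  have hk : ∑ χ ∈ (F.D k).X, ‖(χ : G → ℂ) x‖ ^ 2 =
      (Nat.card (Subgroup.centralizer ({x} : Set G)) : ℝ) - (F.e k : ℝ)
        - 2 * ((F.D k).ε : ℝ) * ((F.D k).c : ℝ) + ((F.D k).c : ℝ) ^ 2 * (F.w k : ℝ) := by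
    have h2 := (F.D k).hsum2 x hxH hx1
    simp only [Complex.mul_conj'] at h2
    exact_mod_cast h2
  have hm : ∀ m ∈ Finset.univ.erase k, ∑ χ ∈ (F.D m).X, ‖(χ : G → ℂ) x‖ ^ 2 =
      (((F.w m : ℤ) * (F.a m k) ^ 2 : ℤ) : ℝ) := by
    intro m hm
    rw [Finset.mem_erase] at hm
    have h3 : ∀ χ ∈ (F.D m).X, ‖(χ : G → ℂ) x‖ ^ 2 =
        (((F.D m).n χ) ^ 2 : ℕ) * ((F.a m k : ℤ) : ℝ) ^ 2 := by
      intro χ hχ
      rw [F.apply_off hm.1 hχ hxH hx1, norm_mul, mul_pow]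
      congr 1
      · rw [Complex.norm_natCast]; push_cast; ring
      · rw [Complex.norm_intCast, sq_abs]
    rw [Finset.sum_congr rfl h3, ← Finset.sum_mul]
    have h4 := (F.D m).hw
    have h5 : (∑ χ ∈ (F.D m).X, ((((F.D m).n χ) ^ 2 : ℕ) : ℝ)) = (F.w m : ℝ) := by
      exact_mod_cast h4
    rw [h5]
    push_cast
    ring
  have hsplit : ∑ m : ι, ∑ χ ∈ (F.D m).X, ‖(χ : G → ℂ) x‖ ^ 2 =
      ∑ χ ∈ (F.D k).X, ‖(χ : G → ℂ) x‖ ^ 2 +
        ∑ m ∈ Finset.univ.erase k, ∑ χ ∈ (F.D m).X, ‖(χ : G → ℂ) x‖ ^ 2 :=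
    (Finset.add_sum_erase Finset.univ _ (Finset.mem_univ k)).symm
  rw [hTsum, hsplit, hk, Finset.sum_congr rfl hm, h0] at hle
  have hb := int_sq_bound (F.D k).c (F.D k).ε (F.w k) (F.D k).hε (F.hw2 k)
  have hb' : (0 : ℝ) ≤ ((F.D k).c : ℝ) ^ 2 * (F.w k : ℝ) - 2 * ((F.D k).ε : ℝ) * ((F.D k).c : ℝ) := by
    exact_mod_cast hb
  have hfin : ((∑ m ∈ Finset.univ.erase k, (F.w m : ℤ) * (F.a m k) ^ 2 : ℤ) : ℝ) ≤
      (((F.e k : ℤ) - 1 : ℤ) : ℝ) := by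
    push_cast
    push_cast at hle
    linarith
  exact_mod_cast hfin

end Cfsg.Agent.Lib.Lead.CNEnd
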