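import Mathlib
import Cfsg.Agent.Lib.Lead.CNEnd5
/-! Endgame for groups partitioned by TI Frobenius kernels (Peterfalvi 7.1), part 6:
the row bound (norm of the degree-`e` exceptional character). -/
set_option autoImplicit false
open Cfsg Cfsg.Agent.CharLib
open scoped ComplexConjugate

namespace Cfsg.Agent.Lib.Lead.CNEnd
universe u v

variable {G : Type u} [Group G] [Fintype G] {ι : Type v} (F : Fam G ι)

open Classical in
theorem card_filter_mem_ne_one (H : Subgroup G) :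
    (Finset.univ.filter (fun h : G => h ∈ H ∧ h ≠ 1)).card + 1 = Nat.card H := by
  have h1 : Finset.univ.filter (fun h : G => h ∈ H ∧ h ≠ 1) =
      (Finset.univ.filter (fun h : G => h ∈ H)).erase 1 := by
    ext h
    simp only [Finset.mem_filter, Finset.mem_univ, true_and, Finset.mem_erase]
    tauto
  have h2 : (1 : G) ∈ Finset.univ.filter (fun h : G => h ∈ H) := by
    simp only [Finset.mem_filter, Finset.mem_univ, true_and]
    exact H.one_mem
  rw [h1, Finset.card_erase_add_one h2, Nat.card_eq_fintype_card, Fintype.card_subtype]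

open Classical in
/-- Row bound: from `‖χ‖² = 1` for the degree-`e` exceptional character of family `k`. -/
theorem Fam.row_bound [Fintype ι] [Fintype (IrrCharacter G)] (k : ι) :
    ∑ m ∈ Finset.univ.erase k,
        ((F.w m : ℚ) / (Nat.card (F.H m) : ℚ)) * ((F.a k m : ℤ) : ℚ) ^ 2 <
      (F.e k : ℚ) / (Nat.card (F.H k) : ℚ) := by
  set χ := (F.D k).χ₁ with hχ
  set f : G → ℂ := fun z => (χ : G → ℂ) z * conj ((χ : G → ℂ) z) with hf
  have hcf : IsClassFunction G (χ : G → ℂ) :=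
    IsCharacter.isClassFunction (IsIrrCharacter.isCharacter χ.2)
  have hfc : ∀ g z : G, f (g * z * g⁻¹) = f z := by
    intro g z
    simp only [hf]
    rw [hcf z g]
  have hGpos : 0 < Nat.card G := Nat.card_pos
  have hGne : (Nat.card G : ℂ) ≠ 0 := Nat.cast_ne_zero.mpr hGpos.ne'
  have h1 : ∑ z : G, f z = (Nat.card G : ℂ) := by
    have := classInner_irr' χ χ
    rw [if_pos rfl, classInner] at this
    have h' : (Nat.card G : ℂ) * ((Nat.card G : ℂ)⁻¹ * ∑ g : G, (χ : G → ℂ) g * conj ((χ : G → ℂ) g)) =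
        (Nat.card G : ℂ) * 1 := by rw [this]
    rw [← mul_assoc, mul_inv_cancel₀ hGne, one_mul, mul_one] at h'
    exact h'
  have h2 := F.sum_eq f hfc
  obtain ⟨d, hdpos, hd⟩ := IsIrrCharacter.apply_one_pos χ.2
  have hf1 : f 1 = ((d ^ 2 : ℕ) : ℂ) := by
    simp only [hf]
    rw [hd, Complex.conj_natCast]
    push_cast
    ring
  -- the inner sums
  have hSm : ∀ m ∈ Finset.univ.erase k,
      ∑ h ∈ Finset.univ.filter (fun h : G => h ∈ F.H m ∧ h ≠ 1), f h =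
        ((F.e m * F.w m : ℕ) : ℂ) * ((F.a k m : ℤ) : ℂ) ^ 2 := by
    intro m hm
    rw [Finset.mem_erase] at hm
    have h3 : ∀ h ∈ Finset.univ.filter (fun h : G => h ∈ F.H m ∧ h ≠ 1),
        f h = ((F.a k m : ℤ) : ℂ) ^ 2 := by
      intro h hh
      rw [Finset.mem_filter] at hh
      simp only [hf]
      rw [hχ, F.chi1_apply (Ne.symm hm.1) hh.2.1 hh.2.2, map_intCast]
      ring
    rw [Finset.sum_congr rfl h3, Finset.sum_const, nsmul_eq_mul]
    congr 1
    have h4 := card_filter_mem_ne_one (F.H m)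
    rw [F.hcardH m] at h4
    have h5 : (Finset.univ.filter (fun h : G => h ∈ F.H m ∧ h ≠ 1)).card = F.e m * F.w m := by
      omega
    rw [h5]
  have hSk : ∑ h ∈ Finset.univ.filter (fun h : G => h ∈ F.H k ∧ h ≠ 1), f h =
      (F.e k : ℂ) * ((F.e k : ℂ) * (F.w k : ℂ) + 1) - (F.e k : ℂ) ^ 2
        - 2 * ((F.D k).ε : ℂ) * ((F.D k).c : ℂ) * (F.e k : ℂ)
        + (F.e k : ℂ) * (F.w k : ℂ) * ((F.D k).c : ℂ) ^ 2 := (F.D k).hrow
  rw [h1, hf1, ← Finset.add_sum_erase Finset.univ _ (Finset.mem_univ k), hSk] at h2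
  have h6 : ∑ m ∈ Finset.univ.erase k, (Nat.card G : ℂ) /
        (Nat.card (Subgroup.normalizer (F.H m : Set G)) : ℂ) *
        ∑ h ∈ Finset.univ.filter (fun h : G => h ∈ F.H m ∧ h ≠ 1), f h =
      ∑ m ∈ Finset.univ.erase k, (Nat.card G : ℂ) / ((F.e m * Nat.card (F.H m) : ℕ) : ℂ) *
        (((F.e m * F.w m : ℕ) : ℂ) * ((F.a k m : ℤ) : ℂ) ^ 2) := by
    apply Finset.sum_congr rfl
    intro m hm
    rw [hSm m hm, F.hcardN m]
  rw [h6, F.hcardN k] at h2
  -- move to ℚ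
  have hQ : (Nat.card G : ℚ) = ((d ^ 2 : ℕ) : ℚ) +
      ((Nat.card G : ℚ) / ((F.e k * Nat.card (F.H k) : ℕ) : ℚ) *
        ((F.e k : ℚ) * ((F.e k : ℚ) * (F.w k : ℚ) + 1) - (F.e k : ℚ) ^ 2
        - 2 * ((F.D k).ε : ℚ) * ((F.D k).c : ℚ) * (F.e k : ℚ)
        + (F.e k : ℚ) * (F.w k : ℚ) * ((F.D k).c : ℚ) ^ 2) +
      ∑ m ∈ Finset.univ.erase k, (Nat.card G : ℚ) / ((F.e m * Nat.card (F.H m) : ℕ) : ℚ) *
        (((F.e m * F.w m : ℕ) : ℚ) * ((F.a k m : ℤ) : ℚ) ^ 2)) := by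
    apply Rat.cast_injective (α := ℂ)
    push_cast
    push_cast at h2
    exact h2
  have hg : (0 : ℚ) < (Nat.card G : ℚ) := by exact_mod_cast hGpos
  have hterm : ∀ m ∈ Finset.univ.erase k,
      (Nat.card G : ℚ) / ((F.e m * Nat.card (F.H m) : ℕ) : ℚ) *
        (((F.e m * F.w m : ℕ) : ℚ) * ((F.a k m : ℤ) : ℚ) ^ 2) =
      (Nat.card G : ℚ) * (((F.w m : ℚ) / (Nat.card (F.H m) : ℚ)) * ((F.a k m : ℤ) : ℚ) ^ 2) := by
    intro m _
    have he : (F.e m : ℚ) ≠ 0 := by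
      have := F.he m
      exact_mod_cast (by omega : F.e m ≠ 0)
    have hh : (Nat.card (F.H m) : ℚ) ≠ 0 := by
      exact_mod_cast (Nat.card_pos (α := F.H m)).ne'
    push_cast
    field_simp
  rw [Finset.sum_congr rfl hterm, ← Finset.mul_sum] at hQ
  set Q := ∑ m ∈ Finset.univ.erase k,
    ((F.w m : ℚ) / (Nat.card (F.H m) : ℚ)) * ((F.a k m : ℤ) : ℚ) ^ 2 with hQdef
  have hek : (F.e k : ℚ) ≠ 0 := by
    have := F.he k
    exact_mod_cast (by omega : F.e k ≠ 0)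
  have hhk : (0 : ℚ) < (Nat.card (F.H k) : ℚ) := by
    exact_mod_cast (Nat.card_pos (α := F.H k))
  have hhk' : (Nat.card (F.H k) : ℚ) = (F.e k : ℚ) * (F.w k : ℚ) + 1 := by
    exact_mod_cast F.hcardH k
  have hb := int_sq_bound (F.D k).c (F.D k).ε (F.w k) (F.D k).hε (F.hw2 k)
  have hb' : (0 : ℚ) ≤ ((F.D k).c : ℚ) ^ 2 * (F.w k : ℚ) - 2 * ((F.D k).ε : ℚ) * ((F.D k).c : ℚ) := by
    exact_mod_cast hb
  have hd' : (0 : ℚ) < ((d ^ 2 : ℕ) : ℚ) := by
    exact_mod_cast (pow_pos hdpos 2)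
  push_cast at hQ
  rw [hhk'] at hQ ⊢
  set g := (Nat.card G : ℚ) with hgdef
  set e := (F.e k : ℚ) with hedef
  set w := (F.w k : ℚ) with hwdef
  set u := ((F.D k).c : ℚ) ^ 2 * w - 2 * ((F.D k).ε : ℚ) * ((F.D k).c : ℚ) with hudef
  have hhpos : (0 : ℚ) < e * w + 1 := by rw [← hhk']; exact hhk
  have hT : e * (e * w + 1) - e ^ 2 - 2 * ((F.D k).ε : ℚ) * ((F.D k).c : ℚ) * e
      + e * w * ((F.D k).c : ℚ) ^ 2 = e * ((e * w + 1) - e + u) := by
    rw [hudef]; ring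
  rw [hT] at hQ
  have hdiv : g / (e * (e * w + 1)) * (e * ((e * w + 1) - e + u)) =
      g * (((e * w + 1) - e + u) / (e * w + 1)) := by
    field_simp
  rw [hdiv] at hQ
  -- g = d² + g (h - e + u)/h + g Q
  have hQ2 : g * Q = g * (e / (e * w + 1)) - (d : ℚ) ^ 2 - g * (u / (e * w + 1)) := by
    have : g * (((e * w + 1) - e + u) / (e * w + 1)) =
        g - g * (e / (e * w + 1)) + g * (u / (e * w + 1)) := by
      field_simp
    rw [this] at hQ
    linarith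
  have hupos : 0 ≤ g * (u / (e * w + 1)) :=
    mul_nonneg hg.le (div_nonneg hb' hhpos.le)
  have hd2 : (0 : ℚ) < (d : ℚ) ^ 2 := by exact_mod_cast hd'
  have : g * Q < g * (e / (e * w + 1)) := by linarith
  exact lt_of_mul_lt_mul_left this hg.le

end Cfsg.Agent.Lib.Lead.CNEnd
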