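import Mathlib
import Cfsg.Agent.Lib.Lead.CharMain
import Cfsg.Agent.Lib.Lead.RealOddBlock
import Cfsg.Agent.Lib.Lead.FrobSchur
import Cfsg.Agent.Lib.Lead.CNEnd4
import Cfsg.Agent.Lib.Helper25.Inflate
import Cfsg.Agent.Lib.Helper10.SeqInd
import Cfsg.Agent.Lib.Helper10.SylowInduced
import Cfsg.Agent.S1528
/-! Characters of a group `L` with a normal subgroup `K` containing the centralizers of its
non-identity elements (a Frobenius kernel): the irreducible characters not trivial on `K`. -/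
set_option autoImplicit false
open Cfsg Cfsg.Agent.CharLib Cfsg.Agent.Lib.Helper25 Cfsg.Agent.Lib.Helper10
open scoped ComplexConjugate

namespace Cfsg.Agent.Lib.Lead.CNExc
universe u

variable {L : Type u} [Group L] [Fintype L] (K : Subgroup L) [hKn : K.Normal]
  [Fintype (IrrCharacter L)]

open Classical in
/-- irreducible characters of `L` with `K` in the kernel -/
noncomputable def inKer : Finset (IrrCharacter L) :=
  Finset.univ.filter (fun ψ : IrrCharacter L => ∀ k ∈ K, (ψ : L → ℂ) k = (ψ : L → ℂ) 1)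

open Classical in
/-- irreducible characters of `L` not trivial on `K` -/
noncomputable def exc : Finset (IrrCharacter L) :=
  Finset.univ.filter (fun ψ : IrrCharacter L => ¬ ∀ k ∈ K, (ψ : L → ℂ) k = (ψ : L → ℂ) 1)

theorem mem_inKer {ψ : IrrCharacter L} :
    ψ ∈ inKer K ↔ ∀ k ∈ K, (ψ : L → ℂ) k = (ψ : L → ℂ) 1 := by
  classical
  simp [inKer]

theorem mem_exc {ψ : IrrCharacter L} :
    ψ ∈ exc K ↔ ¬ ∀ k ∈ K, (ψ : L → ℂ) k = (ψ : L → ℂ) 1 := by
  classical
  simp [exc]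

theorem sum_split (F : IrrCharacter L → ℂ) :
    ∑ ψ : IrrCharacter L, F ψ = ∑ ψ ∈ inKer K, F ψ + ∑ ψ ∈ exc K, F ψ := by
  classical
  unfold inKer exc
  rw [Finset.sum_filter_add_sum_filter_not]

include hKn in
theorem sum_inKer_deg_sq :
    ∑ ψ ∈ inKer K, (ψ : L → ℂ) 1 * conj ((ψ : L → ℂ) 1) = (K.index : ℂ) := by
  classical
  letI := fintypeIrr (L ⧸ K)
  have h1 := sum_irr_quotient K (fun ψ : IrrCharacter L => (ψ : L → ℂ) 1 * conj ((ψ : L → ℂ) 1))
  unfold inKer
  rw [← h1]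
  have h2 := sum_irr_mul_conj (1 : L ⧸ K) (1 : L ⧸ K)
  have hci : classIndicator (1 : L ⧸ K) (1 : L ⧸ K) = 1 := by
    simp only [classIndicator]
    rw [if_pos (IsConj.refl _)]
  rw [hci, one_mul] at h2
  have h3 : Subgroup.centralizer ({(1 : L ⧸ K)} : Set (L ⧸ K)) = ⊤ := by
    ext x
    simp [Subgroup.mem_centralizer_iff]
  rw [h3] at h2
  have h4 : Nat.card (⊤ : Subgroup (L ⧸ K)) = K.index := by
    rw [Subgroup.card_top, Subgroup.index_eq_card]
  rw [h4] at h2
  rw [← h2]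
  apply Finset.sum_congr rfl
  intro θ _
  rw [inflateIrr_apply]
  rfl

theorem inKer_apply {ψ : IrrCharacter L} (hψ : ψ ∈ inKer K) {x : L} (hx : x ∈ K) :
    (ψ : L → ℂ) x = (ψ : L → ℂ) 1 := (mem_inKer K).mp hψ x hx

include hKn in
theorem sum_exc_deg_sq :
    ∑ ψ ∈ exc K, (ψ : L → ℂ) 1 * conj ((ψ : L → ℂ) 1) = (Nat.card L : ℂ) - (K.index : ℂ) := by
  have h2 := sum_irr_mul_conj (1 : L) (1 : L)
  have hci : classIndicator (1 : L) (1 : L) = 1 := by
    classical
    simp only [classIndicator]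
    rw [if_pos (IsConj.refl _)]
  rw [hci, one_mul] at h2
  have h3 : Subgroup.centralizer ({(1 : L)} : Set L) = ⊤ := by
    ext x
    simp [Subgroup.mem_centralizer_iff]
  rw [h3, Subgroup.card_top, sum_split K, sum_inKer_deg_sq K] at h2
  rw [← h2]; ring

include hKn in
theorem sum_exc_deg_mul {x : L} (hx : x ∈ K) (hx1 : x ≠ 1) :
    ∑ ψ ∈ exc K, (ψ : L → ℂ) x * conj ((ψ : L → ℂ) 1) = -(K.index : ℂ) := by
  have h2 := sum_irr_mul_conj x (1 : L)
  have hci : classIndicator (1 : L) x = 0 := by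
    classical
    simp only [classIndicator]
    rw [if_neg]
    intro h
    exact hx1 (isConj_one_left.mp h)
  rw [hci, zero_mul, sum_split K] at h2
  have h3 : ∑ ψ ∈ inKer K, (ψ : L → ℂ) x * conj ((ψ : L → ℂ) 1) = (K.index : ℂ) := by
    rw [← sum_inKer_deg_sq K]
    apply Finset.sum_congr rfl
    intro ψ hψ
    rw [inKer_apply K hψ hx]
  rw [h3] at h2
  linear_combination h2

include hKn in
theorem sum_exc_normSq {x : L} (hx : x ∈ K) :
    ∑ ψ ∈ exc K, (ψ : L → ℂ) x * conj ((ψ : L → ℂ) x) =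
      (Nat.card (Subgroup.centralizer ({x} : Set L)) : ℂ) - (K.index : ℂ) := by
  have h2 := sum_irr_mul_conj x x
  have hci : classIndicator x x = 1 := by
    classical
    simp only [classIndicator]
    rw [if_pos (IsConj.refl _)]
  rw [hci, one_mul, sum_split K] at h2
  have h3 : ∑ ψ ∈ inKer K, (ψ : L → ℂ) x * conj ((ψ : L → ℂ) x) = (K.index : ℂ) := by
    rw [← sum_inKer_deg_sq K]
    apply Finset.sum_congr rfl
    intro ψ hψ
    rw [inKer_apply K hψ hx]
  rw [h3] at h2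
  rw [← h2]; ring

theorem triv_mem_inKer : CharLib.trivIrr L ∈ inKer K := by
  rw [mem_inKer]
  intro k _
  rfl

theorem cj_mem_exc {ψ : IrrCharacter L} (hψ : ψ ∈ exc K) : cjIrr ψ ∈ exc K := by
  rw [mem_exc] at hψ ⊢
  intro h
  apply hψ
  intro k hk
  have := h k hk
  have h2 : conj (conj ((ψ : L → ℂ) k)) = conj (conj ((ψ : L → ℂ) 1)) := congrArg conj this
  simpa using h2

theorem cj_ne_of_exc (hodd : Odd (Nat.card L)) {ψ : IrrCharacter L} (hψ : ψ ∈ exc K) :
    cjIrr ψ ≠ ψ := by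
  apply Cfsg.Agent.Lib.Lead.CNEnd.cjIrr_ne_of_odd hodd
  intro h
  rw [h, mem_exc] at hψ
  exact hψ ((mem_inKer K).mp (triv_mem_inKer K))

end Cfsg.Agent.Lib.Lead.CNExc
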