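import Mathlib
import Cfsg.Agent.Lib.Lead.CNExc1
import Cfsg.Agent.Lib.Lead.CharInd
import Cfsg.Agent.Lib.Helper6.CliffordCorr
/-! Characters of a group with a Frobenius kernel, part 2: the characters not trivial on the kernel
are induced, vanish off the kernel, and one of them has degree the index. -/
set_option autoImplicit false
open Cfsg Cfsg.Agent.CharLib Cfsg.Agent.Lib.Helper25 Cfsg.Agent.Lib.Helper10
  Cfsg.Agent.Lib.Helper6
open scoped ComplexConjugate

namespace Cfsg.Agent.Lib.Lead.CNExc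
universe u

theorem indFun_eq_zero_of_not_conj {G : Type u} [Group G] [Fintype G] (H : Subgroup G)
    (θ : H → ℂ) (g : G) (h : ∀ x : G, x⁻¹ * g * x ∉ H) : indFun H θ g = 0 := by
  unfold indFun
  rw [Finset.sum_eq_zero, mul_zero]
  intro x _
  exact Cfsg.Agent.CharLib.extendByZero_apply_of_not_mem H θ (h x)

variable {L : Type u} [Group L] [Fintype L] (K : Subgroup L) [hKn : K.Normal]
  [Fintype (IrrCharacter L)]

include hKn in
theorem indFun_one_const (k : L) (hk : k ∈ K) :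
    indFun K (fun _ : K => (1 : ℂ)) k = indFun K (fun _ : K => (1 : ℂ)) 1 := by
  unfold indFun
  congr 1
  apply Finset.sum_congr rfl
  intro x _
  have h1 : x⁻¹ * k * x ∈ K := by
    have := hKn.conj_mem k hk x⁻¹
    simpa using this
  have h2 : x⁻¹ * 1 * x ∈ K := by simp
  rw [show x⁻¹ * k * x = ((⟨x⁻¹ * k * x, h1⟩ : K) : L) from rfl,
    Cfsg.Agent.CharLib.extendByZero_apply_coe,
    show x⁻¹ * 1 * x = ((⟨x⁻¹ * 1 * x, h2⟩ : K) : L) from rfl,
    Cfsg.Agent.CharLib.extendByZero_apply_coe]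

variable (hC : ∀ k ∈ K, k ≠ 1 → Subgroup.centralizer ({k} : Set L) ≤ K)

include hKn hC in
theorem exc_induced {ψ : IrrCharacter L} (hψ : ψ ∈ exc K) :
    ∃ φ : K → ℂ, IsIrrCharacter K φ ∧ φ ≠ (fun _ => 1) ∧ (ψ : L → ℂ) = indFun K φ := by
  have hψ' := (mem_exc K).mp hψ
  push Not at hψ'
  obtain ⟨k, hk, hne⟩ := hψ'
  obtain ⟨φ, hφ, heq⟩ := Cfsg.Agent.S1528.result' K hC (ψ : L → ℂ) ψ.2 ⟨k, hk, hne⟩
  refine ⟨φ, hφ, ?_, heq⟩
  intro h1
  apply hne
  rw [heq, h1]
  exact indFun_one_const K k hk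

include hKn hC in
theorem exc_vanish {ψ : IrrCharacter L} (hψ : ψ ∈ exc K) {x : L} (hx : x ∉ K) :
    (ψ : L → ℂ) x = 0 := by
  obtain ⟨φ, -, -, heq⟩ := exc_induced K hC hψ
  rw [heq]
  apply indFun_eq_zero_of_not_conj
  intro y hy
  apply hx
  have := hKn.conj_mem _ hy y
  simpa [mul_assoc] using this

include hKn hC in
theorem exc_degree {ψ : IrrCharacter L} (hψ : ψ ∈ exc K) :
    ∃ n : ℕ, 0 < n ∧ (ψ : L → ℂ) 1 = ((K.index * n : ℕ) : ℂ) := by
  obtain ⟨φ, hφ, -, heq⟩ := exc_induced K hC hψ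
  obtain ⟨n, hn, hn1⟩ := IsIrrCharacter.apply_one_pos hφ
  refine ⟨n, hn, ?_⟩
  rw [heq, indFun_apply_one_index, hn1]
  push_cast
  ring

include hKn hC in
theorem exc_mem_induced {ψ : IrrCharacter L} (hψ : ψ ∈ exc K) :
    (ψ : L → ℂ) ∈ inducedIrrAbove K ⊥ := by
  obtain ⟨φ, hφ, hne, heq⟩ := exc_induced K hC hψ
  refine ⟨φ, hφ, hne, ?_, heq⟩
  intro a ha
  rw [Subgroup.mem_bot] at ha
  have : a = 1 := Subtype.ext ha
  rw [this]

include hKn hC in
/-- Some irreducible character not trivial on `K` has degree `|L : K|`. -/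
theorem exists_exc_linear (hsolv : Group.IsSolvable K) (hK1 : K ≠ ⊥) :
    ∃ ψ ∈ exc K, (ψ : L → ℂ) 1 = (K.index : ℂ) := by
  classical
  haveI : ((⊥ : Subgroup L).subgroupOf K).Normal := by
    rw [Subgroup.bot_subgroupOf]; infer_instance
  obtain ⟨θ, hθ, hθ1⟩ := exists_linear_seqT K ⊥ hsolv (bot_lt_iff_ne_bot.mpr hK1)
  rw [mem_seqT] at hθ
  have hθc : IsCharacter K θ.1 := IsIrrCharacter.isCharacter θ.2
  have hIc : IsCharacter L (indFun K θ.1) := IsCharacter.indFun K hθc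
  have hI1 : indFun K θ.1 1 = (K.index : ℂ) := by
    rw [indFun_apply_one_index, hθ1, mul_one]
  have hne : indFun K θ.1 ≠ 0 := by
    intro h0
    rw [h0, Pi.zero_apply] at hI1
    exact (index_ne_zero_complex K) hI1.symm
  obtain ⟨χ, hχ, hc⟩ := IsCharacter.exists_constituent hIc hne
  set ψ : IrrCharacter L := ⟨χ, hχ⟩ with hψdef
  have hrec : classInner (indFun K θ.1) χ = classInner θ.1 (fun k : K => χ k) :=
    frobenius_reciprocity K θ.1 (IsCharacter.isClassFunction (IsIrrCharacter.isCharacter hχ))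
  have hψexc : ψ ∈ exc K := by
    rw [mem_exc]
    intro htriv
    apply hc
    rw [hrec]
    have h1 : (fun k : K => χ k) = fun _ : K => χ 1 := by
      funext k
      exact htriv k k.2
    rw [h1]
    obtain ⟨d, hd⟩ := IsCharacter.apply_one (IsIrrCharacter.isCharacter hχ)
    have h2 : (fun _ : K => χ 1) = (d : ℂ) • (fun _ : K => (1 : ℂ)) := by
      funext k
      simp [hd]
    rw [h2, Cfsg.Agent.CharLib.classInner_smul_right]
    have h3 : classInner θ.1 (fun _ : K => (1 : ℂ)) = 0 := by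
      have h4 := CharLib.classInner_irr θ.2 (isIrrCharacter_one (G := K))
      rw [if_neg] at h4
      · exact h4
      · exact hθ.1
    rw [h3, mul_zero]
  refine ⟨ψ, hψexc, ?_⟩
  obtain ⟨n, hn, hn1⟩ := exc_degree K hC hψexc
  have hle : K.index * n ≤ K.index :=
    irr_apply_one_le hIc hχ hc (a := K.index) (b := K.index * n) hI1 hn1
  have hidx : 0 < K.index := Nat.pos_of_ne_zero Subgroup.index_ne_zero_of_finite
  have hn' : n = 1 := by nlinarith
  rw [hn1, hn', mul_one]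

end Cfsg.Agent.Lib.Lead.CNExc
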