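import Mathlib
import Cfsg.Agent.Lib.Lead.CNExc2
/-! Characters of a group with a Frobenius kernel, part 3: row sums, and class functions whose
multiplicities along the exceptional characters are proportional to the degrees. -/
set_option autoImplicit false
open Cfsg Cfsg.Agent.CharLib Cfsg.Agent.Lib.Helper25 Cfsg.Agent.Lib.Helper10
  Cfsg.Agent.Lib.Helper6
open scoped ComplexConjugate

namespace Cfsg.Agent.Lib.Lead.CNExc
universe u

variable {L : Type u} [Group L] [Fintype L] (K : Subgroup L) [hKn : K.Normal]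
  [Fintype (IrrCharacter L)]
variable (hC : ∀ k ∈ K, k ≠ 1 → Subgroup.centralizer ({k} : Set L) ≤ K)

open Classical in
theorem sum_eq_sum_kernel (f : L → ℂ) (hf : ∀ x : L, x ∉ K → f x = 0) :
    ∑ x : L, f x = f 1 + ∑ x ∈ Finset.univ.filter (fun x : L => x ∈ K ∧ x ≠ 1), f x := by
  have h1 : ∑ x : L, f x = ∑ x ∈ Finset.univ.filter (fun x : L => x ∈ K), f x := by
    symm
    apply Finset.sum_subset (Finset.subset_univ _)
    intro x _ hx
    rw [Finset.mem_filter] at hx
    exact hf x (fun h => hx ⟨Finset.mem_univ _, h⟩)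
  have h2 : Finset.univ.filter (fun x : L => x ∈ K ∧ x ≠ 1) =
      (Finset.univ.filter (fun x : L => x ∈ K)).erase 1 := by
    ext x
    simp only [Finset.mem_filter, Finset.mem_univ, true_and, Finset.mem_erase]
    tauto
  have h3 : (1 : L) ∈ Finset.univ.filter (fun x : L => x ∈ K) := by
    simp only [Finset.mem_filter, Finset.mem_univ, true_and]
    exact K.one_mem
  rw [h1, h2, Finset.add_sum_erase _ _ h3]

include hKn hC in
open Classical in
theorem exc_row_sq {ψ : IrrCharacter L} (hψ : ψ ∈ exc K) :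
    ∑ x ∈ Finset.univ.filter (fun x : L => x ∈ K ∧ x ≠ 1), (ψ : L → ℂ) x * conj ((ψ : L → ℂ) x) =
      (Nat.card L : ℂ) - (ψ : L → ℂ) 1 * conj ((ψ : L → ℂ) 1) := by
  have h1 := classInner_irr' ψ ψ
  rw [if_pos rfl, classInner] at h1
  have hL : (Nat.card L : ℂ) ≠ 0 := Nat.cast_ne_zero.mpr Nat.card_pos.ne'
  have h2 : ∑ g : L, (ψ : L → ℂ) g * conj ((ψ : L → ℂ) g) = (Nat.card L : ℂ) := by
    have h' : (Nat.card L : ℂ) * ((Nat.card L : ℂ)⁻¹ *
        ∑ g : L, (ψ : L → ℂ) g * conj ((ψ : L → ℂ) g)) = (Nat.card L : ℂ) * 1 := by rw [h1]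
    rw [← mul_assoc, mul_inv_cancel₀ hL, one_mul, mul_one] at h'
    exact h'
  rw [sum_eq_sum_kernel K (fun x => (ψ : L → ℂ) x * conj ((ψ : L → ℂ) x))
    (fun x hx => by rw [exc_vanish K hC hψ hx, zero_mul])] at h2
  rw [← h2]; ring

include hKn hC in
open Classical in
theorem exc_row_sum {ψ : IrrCharacter L} (hψ : ψ ∈ exc K) :
    ∑ x ∈ Finset.univ.filter (fun x : L => x ∈ K ∧ x ≠ 1), (ψ : L → ℂ) x = -(ψ : L → ℂ) 1 := by
  have hne : ψ ≠ CharLib.trivIrr L := by
    intro h
    rw [h, mem_exc] at hψ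
    exact hψ ((mem_inKer K).mp (triv_mem_inKer K))
  have h1 := classInner_irr' ψ (CharLib.trivIrr L)
  rw [if_neg hne, classInner] at h1
  have hL : (Nat.card L : ℂ) ≠ 0 := Nat.cast_ne_zero.mpr Nat.card_pos.ne'
  have h2 : ∑ g : L, (ψ : L → ℂ) g = 0 := by
    have h3 : ∑ g : L, (ψ : L → ℂ) g * conj (((CharLib.trivIrr L : IrrCharacter L) : L → ℂ) g) =
        ∑ g : L, (ψ : L → ℂ) g := by
      apply Finset.sum_congr rfl
      intro g _
      have : ((CharLib.trivIrr L : IrrCharacter L) : L → ℂ) g = 1 := rfl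
      rw [this, map_one, mul_one]
    rw [h3] at h1
    rcases mul_eq_zero.mp h1 with h | h
    · exact absurd (inv_eq_zero.mp h) hL
    · exact h
  rw [sum_eq_sum_kernel K (fun x => (ψ : L → ℂ) x) (fun x hx => exc_vanish K hC hψ hx)] at h2
  linear_combination h2

include hKn in
/-- A class function whose multiplicities along the exceptional characters are proportional to
their degrees is constant on the non-identity elements of the kernel. -/
theorem const_on_kernel {ψ₁ : IrrCharacter L} (h1 : (ψ₁ : L → ℂ) 1 = (K.index : ℂ))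
    (F : L → ℂ) (hF : IsClassFunction L F)
    (hprop : ∀ ψ' ∈ exc K, (ψ' : L → ℂ) 1 * classInner F (ψ₁ : L → ℂ) =
      (K.index : ℂ) * classInner F (ψ' : L → ℂ))
    {x : L} (hx : x ∈ K) (hx1 : x ≠ 1) :
    F x = -classInner F (ψ₁ : L → ℂ) +
      ∑ ξ ∈ inKer K, classInner F (ξ : L → ℂ) * (ξ : L → ℂ) 1 := by
  have hexp := congrFun (classFunction_eq_sum hF) x
  simp only [Finset.sum_apply, Pi.smul_apply, smul_eq_mul] at hexp
  rw [sum_split K] at hexp
  have he : (K.index : ℂ) ≠ 0 := index_ne_zero_complex K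
  have hA : ∑ ψ ∈ exc K, classInner F (ψ : L → ℂ) * (ψ : L → ℂ) x =
      -classInner F (ψ₁ : L → ℂ) := by
    have h2 : ∀ ψ ∈ exc K, classInner F (ψ : L → ℂ) * (ψ : L → ℂ) x =
        (classInner F (ψ₁ : L → ℂ) / (K.index : ℂ)) *
          ((ψ : L → ℂ) x * conj ((ψ : L → ℂ) 1)) := by
      intro ψ hψ
      have h3 := hprop ψ hψ
      obtain ⟨d, hd⟩ := IsCharacter.apply_one (IsIrrCharacter.isCharacter ψ.2)
      rw [hd, Complex.conj_natCast]
      rw [hd] at h3
      field_simp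
      linear_combination (-(ψ : L → ℂ) x) * h3
    rw [Finset.sum_congr rfl h2, ← Finset.mul_sum, sum_exc_deg_mul K hx hx1]
    field_simp
  have hB : ∑ ξ ∈ inKer K, classInner F (ξ : L → ℂ) * (ξ : L → ℂ) x =
      ∑ ξ ∈ inKer K, classInner F (ξ : L → ℂ) * (ξ : L → ℂ) 1 := by
    apply Finset.sum_congr rfl
    intro ξ hξ
    rw [inKer_apply K hξ hx]
  rw [hexp, hA, hB]
  ring

end Cfsg.Agent.Lib.Lead.CNExc
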