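import Mathlib
import Cfsg.Agent.Lib.Lead.CNExc3
import Cfsg.Agent.S1529
import Cfsg.Agent.Lib.Helper10.Coherence2
import Cfsg.Agent.Lib.Helper10.TIInd
/-! Characters of a group with a Frobenius kernel, part 4: from coherence of the induced
characters to the exceptional characters of the big group. -/
set_option autoImplicit false
open Cfsg Cfsg.Agent.CharLib Cfsg.Agent.Lib.Helper25 Cfsg.Agent.Lib.Helper10
  Cfsg.Agent.Lib.Helper6
open scoped ComplexConjugate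

namespace Cfsg.Agent.Lib.Lead.CNExc
universe u

variable {G : Type u} [Group G] [Fintype G] (N : Subgroup G) [Fintype N] (K : Subgroup N)
  [hKn : K.Normal] [Fintype (IrrCharacter N)]

/-- The outcome of coherence: a sign and an injection from the exceptional characters of `N`
to irreducible characters of `G`, compatible with induction on combinations of degree zero. -/
structure CohData where
  ε : ℤ
  hε : ε = 1 ∨ ε = -1
  Xf : IrrCharacter N → IrrCharacter G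
  inj : ∀ ψ ∈ exc K, ∀ ψ' ∈ exc K, Xf ψ = Xf ψ' → ψ = ψ'
  rel : ∀ ψ ∈ exc K, ∀ ψ' ∈ exc K, ∀ a b : ℤ,
    (a : ℂ) * (ψ : N → ℂ) 1 + (b : ℂ) * (ψ' : N → ℂ) 1 = 0 →
    indFun N (a • (ψ : N → ℂ) + b • (ψ' : N → ℂ)) =
      (ε : ℂ) • (a • ((Xf ψ : IrrCharacter G) : G → ℂ) + b • ((Xf ψ' : IrrCharacter G) : G → ℂ))

variable (hC : ∀ k ∈ K, k ≠ 1 → Subgroup.centralizer ({k} : Set N) ≤ K)

include hKn hC in
theorem cohData_of_coherent (hodd : Odd (Nat.card N)) (hsolv : Group.IsSolvable K)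
    (hK1 : K ≠ ⊥)
    (hcoh : IsCoherent (inducedIrrAbove K ⊥) {1}ᶜ (fun α : N → ℂ => indFun N α)) :
    Nonempty (CohData N K) := by
  classical
  obtain ⟨-, τ₁, hτ₁, hagree⟩ := hcoh
  set S' : Set (N → ℂ) := {φ | ∃ ψ ∈ exc K, (ψ : N → ℂ) = φ} with hS'
  have hsub : S' ⊆ inducedIrrAbove K ⊥ := by
    rintro φ ⟨ψ, hψ, rfl⟩
    exact exc_mem_induced K hC hψ
  have hzs : zspan S' ⊆ zspan (inducedIrrAbove K ⊥) := zspan_mono hsub
  have hτ' : IsLinearIsometryOn (zspan S') τ₁ :=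
    ⟨fun α hα β hβ => hτ₁.1 α (hzs hα) β (hzs hβ), fun α hα n => hτ₁.2.1 α (hzs hα) n,
      fun α hα β hβ => hτ₁.2.2.1 α (hzs hα) β (hzs hβ), fun α hα => hτ₁.2.2.2 α (hzs hα)⟩
  have hag : ∀ α ∈ zspan S', α 1 = 0 → τ₁ α = indFun N α := by
    intro α hα h1
    apply hagree
    refine ⟨hzs hα, ?_⟩
    intro x hx
    have : x = 1 := by simpa using hx
    rw [this, h1]
  have h0 : ∀ α ∈ zspan S', α 1 = 0 → τ₁ α 1 = 0 := by
    intro α hα h1
    rw [hag α hα h1, Cfsg.Agent.Lib.Helper10.indFun_apply_one, h1]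
    simp
  obtain ⟨ψ₀, hψ₀, -⟩ := exists_exc_linear K hC hsolv hK1
  have htwo : ∃ χ ∈ S', ∃ ψ ∈ S', χ ≠ ψ := by
    refine ⟨(ψ₀ : N → ℂ), ⟨ψ₀, hψ₀, rfl⟩, (cjIrr ψ₀ : N → ℂ),
      ⟨cjIrr ψ₀, cj_mem_exc K hψ₀, rfl⟩, ?_⟩
    intro h
    exact cj_ne_of_exc K hodd hψ₀ (Subtype.ext h.symm)
  obtain ⟨εc, hεc, hirr, hinj⟩ := Cfsg.Agent.S1529.result N S'
    (by rintro φ ⟨ψ, -, rfl⟩; exact ψ.2) htwo τ₁ hτ' h0
  have hεsq : εc * εc = 1 := by rcases hεc with rfl | rfl <;> norm_num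
  have hmemS : ∀ ψ ∈ exc K, (ψ : N → ℂ) ∈ S' := fun ψ hψ => ⟨ψ, hψ, rfl⟩
  let Xf : IrrCharacter N → IrrCharacter G := fun ψ =>
    if h : ψ ∈ exc K then ⟨εc • τ₁ (ψ : N → ℂ), hirr _ (hmemS ψ h)⟩ else CharLib.trivIrr G
  have hXf : ∀ ψ ∈ exc K, ((Xf ψ : IrrCharacter G) : G → ℂ) = εc • τ₁ (ψ : N → ℂ) := by
    intro ψ hψ
    simp only [Xf, dif_pos hψ]
  have hτX : ∀ ψ ∈ exc K, τ₁ (ψ : N → ℂ) = εc • ((Xf ψ : IrrCharacter G) : G → ℂ) := by
    intro ψ hψ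
    rw [hXf ψ hψ, smul_smul, hεsq, one_smul]
  let εz : ℤ := if εc = 1 then 1 else -1
  have hεz : (εz : ℂ) = εc := by
    rcases hεc with h | h
    · simp only [εz, if_pos h, h]; norm_num
    · have : ¬ εc = 1 := by rw [h]; norm_num
      simp only [εz, if_neg this, h]; norm_num
  refine ⟨⟨εz, ?_, Xf, ?_, ?_⟩⟩
  · by_cases h : εc = 1
    · left; simp only [εz, if_pos h]
    · right; simp only [εz, if_neg h]
  · intro ψ hψ ψ' hψ' heq
    have h1 : εc • τ₁ (ψ : N → ℂ) = εc • τ₁ (ψ' : N → ℂ) := by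
      rw [← hXf ψ hψ, ← hXf ψ' hψ', heq]
    have h2 : τ₁ (ψ : N → ℂ) = τ₁ (ψ' : N → ℂ) := by
      have := congrArg (fun f => εc • f) h1
      simp only [smul_smul, hεsq, one_smul] at this
      exact this
    exact Subtype.ext (hinj _ (hmemS ψ hψ) _ (hmemS ψ' hψ') h2)
  · intro ψ hψ ψ' hψ' a b hab
    have hα : a • (ψ : N → ℂ) + b • (ψ' : N → ℂ) ∈ zspan S' :=
      zspan_add (zspan_zsmul (subset_zspan (hmemS ψ hψ)) a)
        (zspan_zsmul (subset_zspan (hmemS ψ' hψ')) b)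
    have h1 : (a • (ψ : N → ℂ) + b • (ψ' : N → ℂ)) 1 = 0 := by
      simp only [Pi.add_apply, Pi.smul_apply, zsmul_eq_mul]
      exact hab
    rw [← hag _ hα h1, isometry_lin2 hτ' (fun α hα n => zspan_zsmul hα n)
      (subset_zspan (hmemS ψ hψ)) (subset_zspan (hmemS ψ' hψ')), hτX ψ hψ, hτX ψ' hψ', hεz]
    funext g
    simp only [Pi.add_apply, Pi.smul_apply]
    simp only [zsmul_eq_mul, smul_eq_mul]
    ring

end Cfsg.Agent.Lib.Lead.CNExc
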