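import Mathlib
import Cfsg.Agent.Lib.Lead.CNExc4
import Cfsg.Agent.Lib.Lead.CNEnd1
/-! Characters of a group with a Frobenius kernel, part 5: the normalizer of a TI subgroup:
values of induced class functions, centralizers, transfer of sums. -/
set_option autoImplicit false
open Cfsg Cfsg.Agent.CharLib Cfsg.Agent.Lib.Helper25 Cfsg.Agent.Lib.Helper10
  Cfsg.Agent.Lib.Helper6
open scoped ComplexConjugate

namespace Cfsg.Agent.Lib.Lead.CNExc
universe u

variable {G : Type u} [Group G] [Fintype G] (H : Subgroup G)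

theorem ti_ind_apply_mem (hTI : IsTISubset (H : Set G))
    (α : Subgroup.normalizer (H : Set G) → ℂ)
    (hα : IsClassFunction (Subgroup.normalizer (H : Set G)) α)
    (hvan : ∀ x : Subgroup.normalizer (H : Set G), (x : G) ∉ H → α x = 0)
    (x : Subgroup.normalizer (H : Set G)) (hx : (x : G) ∈ H) (hx1 : (x : G) ≠ 1) :
    indFun (Subgroup.normalizer (H : Set G)) α x = α x :=
  Cfsg.Agent.Lib.Helper10.indFun_apply_of_TI (H : Set G) hTI α hα hvan x hx hx1

theorem ti_ind_apply_off (α : Subgroup.normalizer (H : Set G) → ℂ)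
    (hvan : ∀ x : Subgroup.normalizer (H : Set G), (x : G) ∉ H → α x = 0)
    (y : G) (hy : ∀ g : G, g * y * g⁻¹ ∉ H) :
    indFun (Subgroup.normalizer (H : Set G)) α y = 0 := by
  unfold indFun
  rw [Finset.sum_eq_zero, mul_zero]
  intro x _
  by_cases hmem : x⁻¹ * y * x ∈ Subgroup.normalizer (H : Set G)
  · rw [Cfsg.Agent.Lib.Helper10.extendByZero_apply_mem _ _ hmem]
    apply hvan
    have := hy x⁻¹
    simpa using this
  · exact Cfsg.Agent.CharLib.extendByZero_apply_of_not_mem _ _ hmem

theorem ti_centralizer_le (hTI : IsTISubset (H : Set G)) {x : G} (hx : x ∈ H) (hx1 : x ≠ 1) :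
    Subgroup.centralizer ({x} : Set G) ≤ Subgroup.normalizer (H : Set G) := by
  intro g hg
  by_contra hgn
  apply hx1
  apply hTI g hgn x hx
  have h1 : g * x = x * g := (Subgroup.mem_centralizer_singleton_iff.mp hg)
  have : g * x * g⁻¹ = x := by rw [h1]; group
  rw [this]
  exact hx

theorem ti_card_centralizer (hTI : IsTISubset (H : Set G))
    (x : Subgroup.normalizer (H : Set G)) (hx : (x : G) ∈ H) (hx1 : (x : G) ≠ 1) :
    Nat.card (Subgroup.centralizer ({x} : Set (Subgroup.normalizer (H : Set G)))) =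
      Nat.card (Subgroup.centralizer ({(x : G)} : Set G)) := by
  apply Nat.card_congr
  refine ⟨fun g => ⟨(g : Subgroup.normalizer (H : Set G)), ?_⟩,
    fun g => ⟨⟨g, ti_centralizer_le H hTI hx hx1 g.2⟩, ?_⟩, ?_, ?_⟩
  · have := Subgroup.mem_centralizer_singleton_iff.mp g.2
    apply Subgroup.mem_centralizer_singleton_iff.mpr
    have h2 := congrArg Subtype.val this
    simpa using h2
  · have := Subgroup.mem_centralizer_singleton_iff.mp g.2
    apply Subgroup.mem_centralizer_singleton_iff.mpr
    apply Subtype.ext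
    simpa using this
  · intro g; rfl
  · intro g; rfl

theorem frob_transfer
    (hfrob : ∀ h ∈ H, h ≠ 1 →
      Subgroup.normalizer (H : Set G) ⊓ Subgroup.centralizer ({h} : Set G) ≤ H) :
    ∀ k ∈ H.subgroupOf (Subgroup.normalizer (H : Set G)), k ≠ 1 →
      Subgroup.centralizer ({k} : Set (Subgroup.normalizer (H : Set G))) ≤
        H.subgroupOf (Subgroup.normalizer (H : Set G)) := by
  intro k hk hk1 g hg
  rw [Subgroup.mem_subgroupOf] at hk ⊢
  apply hfrob (k : G) hk (fun h => hk1 (Subtype.ext h))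
  refine ⟨g.2, Subgroup.mem_centralizer_singleton_iff.mpr ?_⟩
  have := Subgroup.mem_centralizer_singleton_iff.mp hg
  have h2 := congrArg Subtype.val this
  simpa using h2

open Classical in
theorem sum_transfer [Fintype (Subgroup.normalizer (H : Set G))] (f : G → ℂ) :
    ∑ x ∈ Finset.univ.filter (fun x : G => x ∈ H ∧ x ≠ 1), f x =
      ∑ y ∈ Finset.univ.filter (fun y : Subgroup.normalizer (H : Set G) =>
        y ∈ H.subgroupOf (Subgroup.normalizer (H : Set G)) ∧ y ≠ 1), f (y : G) := by
  symm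
  apply Finset.sum_bij (fun (y : Subgroup.normalizer (H : Set G)) _ => (y : G))
  · intro y hy
    rw [Finset.mem_filter] at hy ⊢
    refine ⟨Finset.mem_univ _, Subgroup.mem_subgroupOf.mp hy.2.1, ?_⟩
    intro h
    exact hy.2.2 (Subtype.ext h)
  · intro a _ b _ hab
    exact Subtype.ext hab
  · intro x hx
    rw [Finset.mem_filter] at hx
    refine ⟨⟨x, Subgroup.le_normalizer hx.2.1⟩, ?_, rfl⟩
    rw [Finset.mem_filter]
    refine ⟨Finset.mem_univ _, Subgroup.mem_subgroupOf.mpr hx.2.1, ?_⟩
    intro h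
    exact hx.2.2 (congrArg Subtype.val h)
  · intro y _; rfl

theorem card_subgroupOf_normalizer :
    Nat.card (H.subgroupOf (Subgroup.normalizer (H : Set G))) = Nat.card H :=
  Nat.card_congr (Subgroup.subgroupOfEquivOfLe Subgroup.le_normalizer).toEquiv

theorem solvable_subgroupOf_normalizer (hsolv : Group.IsSolvable H) :
    Group.IsSolvable (H.subgroupOf (Subgroup.normalizer (H : Set G))) :=
  haveI := hsolv
  Group.isSolvable_of_isSolvable_injective
    (f := (Subgroup.subgroupOfEquivOfLe (Subgroup.le_normalizer (H := H))).toMonoidHom)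
    (Subgroup.subgroupOfEquivOfLe (Subgroup.le_normalizer (H := H))).injective

theorem subgroupOf_normalizer_ne_bot (hH1 : H ≠ ⊥) :
    H.subgroupOf (Subgroup.normalizer (H : Set G)) ≠ ⊥ := by
  intro h
  apply hH1
  rw [Subgroup.subgroupOf_eq_bot] at h
  rw [eq_bot_iff]
  intro x hx
  have : x ∈ H ⊓ Subgroup.normalizer (H : Set G) := ⟨hx, Subgroup.le_normalizer hx⟩
  exact (disjoint_iff.mp h) ▸ this

theorem subgroupOf_normalizer_ne_top (hlt : H < Subgroup.normalizer (H : Set G)) :
    H.subgroupOf (Subgroup.normalizer (H : Set G)) ≠ ⊤ := by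
  intro h
  rw [Subgroup.subgroupOf_eq_top] at h
  exact (not_le_of_gt hlt) h

end Cfsg.Agent.Lib.Lead.CNExc
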