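import Mathlib
import Cfsg.Agent.Lib.Lead.CNExc5
/-! Characters of a group with a Frobenius kernel, part 6: values of the exceptional characters
of `G` on the TI subgroup and away from it. -/
set_option autoImplicit false
open Cfsg Cfsg.Agent.CharLib
open scoped ComplexConjugate

namespace Cfsg.Agent.Lib.Lead.CNExc
universe u

section generic
variable {L : Type u} [Group L] [Fintype L] (K : Subgroup L) [hKn : K.Normal]
  [Fintype (IrrCharacter L)]
variable (hC : ∀ k ∈ K, k ≠ 1 → Subgroup.centralizer ({k} : Set L) ≤ K)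

include hKn hC in
/-- A class function orthogonal to all `ψ' - n ψ₁` is constant on `K` minus the identity. -/
theorem const_of_orth {ψ₁ : IrrCharacter L} (h1 : (ψ₁ : L → ℂ) 1 = (K.index : ℂ))
    (F : L → ℂ) (hF : IsClassFunction L F)
    (horth : ∀ ψ' ∈ exc K, ∀ n : ℕ, (ψ' : L → ℂ) 1 = ((K.index * n : ℕ) : ℂ) →
      classInner (fun x => (ψ' : L → ℂ) x - (n : ℂ) * (ψ₁ : L → ℂ) x) F = 0)
    {x : L} (hx : x ∈ K) (hx1 : x ≠ 1) :
    F x = -classInner F (ψ₁ : L → ℂ) +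
      ∑ ξ ∈ inKer K, classInner F (ξ : L → ℂ) * (ξ : L → ℂ) 1 := by
  apply const_on_kernel K h1 F hF _ hx hx1
  intro ψ' hψ'
  obtain ⟨n, -, hn⟩ := exc_degree K hC hψ'
  have h2 := horth ψ' hψ' n hn
  have h3 : (fun x => (ψ' : L → ℂ) x - (n : ℂ) * (ψ₁ : L → ℂ) x) =
      (ψ' : L → ℂ) - (n : ℂ) • (ψ₁ : L → ℂ) := by
    funext y; simp
  rw [h3, CharLib.classInner_sub_left, CharLib.classInner_smul_left] at h2
  have h4 : classInner F (ψ' : L → ℂ) = (n : ℂ) * classInner F (ψ₁ : L → ℂ) := by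
    rw [← CharLib.classInner_conj_symm (ψ' : L → ℂ) F, ← CharLib.classInner_conj_symm (ψ₁ : L → ℂ) F]
    have h5 : classInner (ψ' : L → ℂ) F = (n : ℂ) * classInner (ψ₁ : L → ℂ) F := by
      linear_combination h2
    rw [h5, map_mul, Complex.conj_natCast]
  rw [h4, hn]
  push_cast
  ring

end generic

section main
variable {G : Type u} [Group G] [Fintype G] (H : Subgroup G)
  [Fintype (Subgroup.normalizer (H : Set G))]
  [Fintype (IrrCharacter (Subgroup.normalizer (H : Set G)))]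

local notation "NH" => Subgroup.normalizer (H : Set G)
local notation "KH" => H.subgroupOf (Subgroup.normalizer (H : Set G))

variable (hTI : IsTISubset (H : Set G))
variable (hC : ∀ k ∈ H.subgroupOf (Subgroup.normalizer (H : Set G)), k ≠ 1 →
  Subgroup.centralizer ({k} : Set (Subgroup.normalizer (H : Set G))) ≤
    H.subgroupOf (Subgroup.normalizer (H : Set G)))
variable (D : CohData (Subgroup.normalizer (H : Set G))
  (H.subgroupOf (Subgroup.normalizer (H : Set G))))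

/-- the difference `ψ - n ψ₁` as a function -/
theorem diff_eq (ψ ψ₁ : IrrCharacter NH) (n : ℕ) :
    ((1 : ℤ) • (ψ : NH → ℂ) + (-(n : ℤ)) • (ψ₁ : NH → ℂ)) =
      (fun x => (ψ : NH → ℂ) x - (n : ℂ) * (ψ₁ : NH → ℂ) x) := by
  funext y
  simp only [Pi.add_apply, Pi.smul_apply]
  simp only [zsmul_eq_mul]
  push_cast
  ring

theorem rel1 {ψ ψ₁ : IrrCharacter NH} (hψ : ψ ∈ exc KH) (hψ₁ : ψ₁ ∈ exc KH)
    (h1 : (ψ₁ : NH → ℂ) 1 = ((KH).index : ℂ)) (n : ℕ)
    (hn : (ψ : NH → ℂ) 1 = (((KH).index * n : ℕ) : ℂ)) (g : G) :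
    indFun NH (fun x => (ψ : NH → ℂ) x - (n : ℂ) * (ψ₁ : NH → ℂ) x) g =
      (D.ε : ℂ) * (((D.Xf ψ : IrrCharacter G) : G → ℂ) g -
        (n : ℂ) * ((D.Xf ψ₁ : IrrCharacter G) : G → ℂ) g) := by
  have h := D.rel ψ hψ ψ₁ hψ₁ 1 (-(n : ℤ)) (by rw [hn, h1]; push_cast; ring)
  rw [diff_eq] at h
  rw [h]
  simp only [Pi.add_apply, Pi.smul_apply]
  simp only [zsmul_eq_mul, smul_eq_mul]
  push_cast
  ring

theorem diff_classFunction (ψ ψ₁ : IrrCharacter NH) (n : ℕ) :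
    IsClassFunction NH (fun x => (ψ : NH → ℂ) x - (n : ℂ) * (ψ₁ : NH → ℂ) x) := by
  intro g h
  have h1 := IsCharacter.isClassFunction (IsIrrCharacter.isCharacter ψ.2) g h
  have h2 := IsCharacter.isClassFunction (IsIrrCharacter.isCharacter ψ₁.2) g h
  simp only [h1, h2]

include hC in
theorem diff_vanish {ψ ψ₁ : IrrCharacter NH} (hψ : ψ ∈ exc KH) (hψ₁ : ψ₁ ∈ exc KH) (n : ℕ)
    (x : NH) (hx : (x : G) ∉ H) :
    (fun x => (ψ : NH → ℂ) x - (n : ℂ) * (ψ₁ : NH → ℂ) x) x = 0 := by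
  have hxK : x ∉ KH := fun h => hx (Subgroup.mem_subgroupOf.mp h)
  simp only [exc_vanish KH hC hψ hxK, exc_vanish KH hC hψ₁ hxK]
  ring

theorem inner_rel {ψ ψ₁ : IrrCharacter NH} (hψ : ψ ∈ exc KH) (hψ₁ : ψ₁ ∈ exc KH)
    (h1 : (ψ₁ : NH → ℂ) 1 = ((KH).index : ℂ)) (n : ℕ)
    (hn : (ψ : NH → ℂ) 1 = (((KH).index * n : ℕ) : ℂ)) (χ : IrrCharacter G) :
    classInner (fun x => (ψ : NH → ℂ) x - (n : ℂ) * (ψ₁ : NH → ℂ) x)
      (fun x : NH => (χ : G → ℂ) x) =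
      (D.ε : ℂ) * ((if D.Xf ψ = χ then 1 else 0) - (n : ℂ) * (if D.Xf ψ₁ = χ then 1 else 0)) := by
  rw [← frobenius_reciprocity NH _ (IsCharacter.isClassFunction (IsIrrCharacter.isCharacter χ.2))]
  have h2 : indFun NH (fun x => (ψ : NH → ℂ) x - (n : ℂ) * (ψ₁ : NH → ℂ) x) =
      (D.ε : ℂ) • (((D.Xf ψ : IrrCharacter G) : G → ℂ) -
        (n : ℂ) • ((D.Xf ψ₁ : IrrCharacter G) : G → ℂ)) := by
    funext g
    rw [rel1 H D hψ hψ₁ h1 n hn g]
    simp
  rw [h2, CharLib.classInner_smul_left, CharLib.classInner_sub_left, CharLib.classInner_smul_left,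
    classInner_irr', classInner_irr']

end main

end Cfsg.Agent.Lib.Lead.CNExc
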