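import Mathlib
import Cfsg.Agent.Lib.Lead.CNExc6
/-! Characters of a group with a Frobenius kernel, part 7: the non-exceptional characters are
constant on the TI subgroup; values of the exceptional ones. -/
set_option autoImplicit false
open Cfsg Cfsg.Agent.CharLib
open scoped ComplexConjugate

namespace Cfsg.Agent.Lib.Lead.CNExc
universe u

variable {G : Type u} [Group G] [Fintype G] (H : Subgroup G)
  [Fintype (Subgroup.normalizer (H : Set G))]
  [Fintype (IrrCharacter (Subgroup.normalizer (H : Set G)))]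

local notation "NH" => Subgroup.normalizer (H : Set G)
local notation "KH" => H.subgroupOf (Subgroup.normalizer (H : Set G))

variable (hTI : IsTISubset (H : Set G))
variable (hC : ∀ k ∈ H.subgroupOf (Subgroup.normalizer (H : Set G)), k ≠ 1 →
  Subgroup.centralizer ({k} : Set (Subgroup.normalizer (H : Set G))) ≤
    H.subgroupOf (Subgroup.normalizer (H : Set G)))
variable (D : CohData (Subgroup.normalizer (H : Set G))
  (H.subgroupOf (Subgroup.normalizer (H : Set G))))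

theorem res_classFunction (χ : IrrCharacter G) :
    IsClassFunction NH (fun x : NH => (χ : G → ℂ) x) := by
  intro g h
  have := IsCharacter.isClassFunction (IsIrrCharacter.isCharacter χ.2) (g : G) (h : G)
  simpa using this

theorem sum_inKer_nat (F : NH → ℂ) (hF : IsCharacter NH F) :
    ∃ t : ℕ, ∑ ξ ∈ inKer KH, classInner F (ξ : NH → ℂ) * (ξ : NH → ℂ) 1 = (t : ℂ) := by
  have h : ∀ ξ : IrrCharacter NH, ∃ k : ℕ,
      classInner F (ξ : NH → ℂ) * (ξ : NH → ℂ) 1 = (k : ℂ) := by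
    intro ξ
    obtain ⟨a, ha⟩ := IsCharacter.classInner_nat hF (IsIrrCharacter.isCharacter ξ.2)
    obtain ⟨d, hd⟩ := IsCharacter.apply_one (IsIrrCharacter.isCharacter ξ.2)
    exact ⟨a * d, by rw [ha, hd]; push_cast; ring⟩
  choose k hk using h
  refine ⟨∑ ξ ∈ inKer KH, k ξ, ?_⟩
  rw [Nat.cast_sum]
  exact Finset.sum_congr rfl (fun ξ _ => hk ξ)

include hC in
/-- irreducible characters of `G` outside the exceptional family are constant (an integer) on
the non-identity elements of `H` -/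
theorem const_outside {ψ₁ : IrrCharacter NH} (hψ₁ : ψ₁ ∈ exc KH)
    (h1 : (ψ₁ : NH → ℂ) 1 = ((KH).index : ℂ)) (χ : IrrCharacter G)
    (hχ : ∀ ψ ∈ exc KH, D.Xf ψ ≠ χ) :
    ∃ m : ℤ, ∀ x ∈ H, x ≠ 1 → (χ : G → ℂ) x = (m : ℂ) := by
  have hFc : IsCharacter NH (fun x : NH => (χ : G → ℂ) x) :=
    IsCharacter.restrict (IsIrrCharacter.isCharacter χ.2) NH
  obtain ⟨a, ha⟩ := IsCharacter.classInner_nat hFc (IsIrrCharacter.isCharacter ψ₁.2)
  obtain ⟨t, ht⟩ := sum_inKer_nat H _ hFc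
  refine ⟨-(a : ℤ) + (t : ℤ), ?_⟩
  intro x hx hx1
  have hxK : (⟨x, Subgroup.le_normalizer hx⟩ : NH) ∈ KH := Subgroup.mem_subgroupOf.mpr hx
  have hx1' : (⟨x, Subgroup.le_normalizer hx⟩ : NH) ≠ 1 := fun h => hx1 (congrArg Subtype.val h)
  have h2 := const_of_orth KH hC h1 (fun x : NH => (χ : G → ℂ) x) (res_classFunction H χ)
    (by
      intro ψ' hψ' n hn
      rw [inner_rel H D hψ' hψ₁ h1 n hn χ, if_neg (hχ ψ' hψ'), if_neg (hχ ψ₁ hψ₁)]
      ring) hxK hx1'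
  simp only at h2
  rw [h2, ha, ht]
  push_cast
  ring

include hC in
/-- values of the base exceptional character on `H` minus the identity -/
theorem chi1_values {ψ₁ : IrrCharacter NH} (hψ₁ : ψ₁ ∈ exc KH)
    (h1 : (ψ₁ : NH → ℂ) 1 = ((KH).index : ℂ)) :
    ∃ c : ℤ, ∀ x : NH, x ∈ KH → x ≠ 1 →
      ((D.Xf ψ₁ : IrrCharacter G) : G → ℂ) x = (D.ε : ℂ) * (ψ₁ : NH → ℂ) x + (c : ℂ) := by
  set R : NH → ℂ := fun x : NH => ((D.Xf ψ₁ : IrrCharacter G) : G → ℂ) x with hR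
  have hRc : IsCharacter NH R := IsCharacter.restrict (IsIrrCharacter.isCharacter (D.Xf ψ₁).2) NH
  have hψc : IsCharacter NH (ψ₁ : NH → ℂ) := IsIrrCharacter.isCharacter ψ₁.2
  set F₁ : NH → ℂ := R - (D.ε : ℂ) • (ψ₁ : NH → ℂ) with hF₁
  have hF₁c : IsClassFunction NH F₁ :=
    IsClassFunction.sub (res_classFunction H _)
      (IsClassFunction.smul _ (IsCharacter.isClassFunction hψc))
  have hεconj : conj (D.ε : ℂ) = (D.ε : ℂ) := map_intCast _ _
  obtain ⟨a, ha⟩ := IsCharacter.classInner_nat hRc hψc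
  obtain ⟨t, ht⟩ := sum_inKer_nat H R hRc
  refine ⟨-((a : ℤ) - D.ε) + (t : ℤ), ?_⟩
  intro x hxK hx1
  have h2 := const_of_orth KH hC h1 F₁ hF₁c
    (by
      intro ψ' hψ' n hn
      rw [hF₁, Cfsg.Agent.Lib.Helper10.classInner_sub_right, CharLib.classInner_smul_right, hεconj,
        inner_rel H D hψ' hψ₁ h1 n hn (D.Xf ψ₁), if_pos rfl]
      have h3 : (fun x => (ψ' : NH → ℂ) x - (n : ℂ) * (ψ₁ : NH → ℂ) x) =
          (ψ' : NH → ℂ) - (n : ℂ) • (ψ₁ : NH → ℂ) := by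
        funext y; simp
      rw [h3, CharLib.classInner_sub_left, CharLib.classInner_smul_left, classInner_irr',
        classInner_irr', if_pos rfl]
      by_cases he : ψ' = ψ₁
      · rw [if_pos he, if_pos (by rw [he])]; ring
      · rw [if_neg he, if_neg (fun h => he (D.inj ψ' hψ' ψ₁ hψ₁ h))]; ring) hxK hx1
  have h4 : classInner F₁ (ψ₁ : NH → ℂ) = (a : ℂ) - (D.ε : ℂ) := by
    rw [hF₁, CharLib.classInner_sub_left, CharLib.classInner_smul_left, classInner_irr', if_pos rfl, ha]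
    ring
  have h5 : ∑ ξ ∈ inKer KH, classInner F₁ (ξ : NH → ℂ) * (ξ : NH → ℂ) 1 = (t : ℂ) := by
    rw [← ht]
    apply Finset.sum_congr rfl
    intro ξ hξ
    have hne : ψ₁ ≠ ξ := by
      intro h
      rw [h, mem_exc] at hψ₁
      exact hψ₁ ((mem_inKer KH).mp hξ)
    rw [hF₁, CharLib.classInner_sub_left, CharLib.classInner_smul_left, classInner_irr', if_neg hne]
    ring
  rw [h4, h5] at h2
  have h6 : F₁ x = R x - (D.ε : ℂ) * (ψ₁ : NH → ℂ) x := by
    rw [hF₁]; simp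
  rw [h6] at h2
  have h7 : R x = ((D.Xf ψ₁ : IrrCharacter G) : G → ℂ) x := rfl
  rw [← h7]
  push_cast
  linear_combination h2

include hTI hC in
/-- values of all exceptional characters on `H` minus the identity -/
theorem exc_values {ψ₁ : IrrCharacter NH} (hψ₁ : ψ₁ ∈ exc KH)
    (h1 : (ψ₁ : NH → ℂ) 1 = ((KH).index : ℂ)) (c : ℤ)
    (hc : ∀ x : NH, x ∈ KH → x ≠ 1 →
      ((D.Xf ψ₁ : IrrCharacter G) : G → ℂ) x = (D.ε : ℂ) * (ψ₁ : NH → ℂ) x + (c : ℂ))
    {ψ : IrrCharacter NH} (hψ : ψ ∈ exc KH) (n : ℕ)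
    (hn : (ψ : NH → ℂ) 1 = (((KH).index * n : ℕ) : ℂ)) (x : NH) (hxK : x ∈ KH) (hx1 : x ≠ 1) :
    ((D.Xf ψ : IrrCharacter G) : G → ℂ) x = (D.ε : ℂ) * (ψ : NH → ℂ) x + (n : ℂ) * (c : ℂ) := by
  have hxH : (x : G) ∈ H := Subgroup.mem_subgroupOf.mp hxK
  have hx1' : (x : G) ≠ 1 := fun h => hx1 (Subtype.ext h)
  have h2 := rel1 H D hψ hψ₁ h1 n hn (x : G)
  rw [ti_ind_apply_mem H hTI _ (diff_classFunction H ψ ψ₁ n)
    (fun y hy => diff_vanish H hC hψ hψ₁ n y hy) x hxH hx1'] at h2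
  have hεsq : (D.ε : ℂ) * (D.ε : ℂ) = 1 := by
    rcases D.hε with h | h <;> rw [h] <;> norm_num
  have h3 := hc x hxK hx1
  linear_combination (-(D.ε : ℂ)) * h2 + (n : ℂ) * h3 -
    (((D.Xf ψ : IrrCharacter G) : G → ℂ) x - (n : ℂ) * ((D.Xf ψ₁ : IrrCharacter G) : G → ℂ) x) *
      hεsq

include hC in
/-- values of the exceptional characters away from the conjugates of `H` -/
theorem exc_off {ψ₁ : IrrCharacter NH} (hψ₁ : ψ₁ ∈ exc KH)
    (h1 : (ψ₁ : NH → ℂ) 1 = ((KH).index : ℂ))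
    {ψ : IrrCharacter NH} (hψ : ψ ∈ exc KH) (n : ℕ)
    (hn : (ψ : NH → ℂ) 1 = (((KH).index * n : ℕ) : ℂ)) (y : G) (hy : ∀ g : G, g * y * g⁻¹ ∉ H) :
    ((D.Xf ψ : IrrCharacter G) : G → ℂ) y =
      (n : ℂ) * ((D.Xf ψ₁ : IrrCharacter G) : G → ℂ) y := by
  have h2 := rel1 H D hψ hψ₁ h1 n hn y
  rw [ti_ind_apply_off H _ (fun x hx => diff_vanish H hC hψ hψ₁ n x hx) y hy] at h2
  have hε0 : (D.ε : ℂ) ≠ 0 := by
    rcases D.hε with h | h <;> rw [h] <;> norm_num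
  have h3 := (mul_eq_zero.mp h2.symm).resolve_left hε0
  linear_combination h3

end Cfsg.Agent.Lib.Lead.CNExc
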