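import Mathlib
import Cfsg.Agent.Lib.Lead.CNExc7
/-! Characters of a group with a Frobenius kernel, part 8: the exceptional family of `G` is
closed under complex conjugation. -/
set_option autoImplicit false
open Cfsg Cfsg.Agent.CharLib
open scoped ComplexConjugate

namespace Cfsg.Agent.Lib.Lead.CNExc
universe u

variable {G : Type u} [Group G] [Fintype G] (H : Subgroup G)
  [Fintype (Subgroup.normalizer (H : Set G))]
  [Fintype (IrrCharacter (Subgroup.normalizer (H : Set G)))]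

local notation "NH" => Subgroup.normalizer (H : Set G)
local notation "KH" => H.subgroupOf (Subgroup.normalizer (H : Set G))

variable (D : CohData (Subgroup.normalizer (H : Set G))
  (H.subgroupOf (Subgroup.normalizer (H : Set G))))

theorem cjIrr_apply {X : Type u} [Group X] [Finite X] (χ : IrrCharacter X) (g : X) :
    ((cjIrr χ : IrrCharacter X) : X → ℂ) g = conj ((χ : X → ℂ) g) := rfl

theorem Xf_cj (hodd : Odd (Nat.card NH)) {ψ : IrrCharacter NH} (hψ : ψ ∈ exc KH) :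
    D.Xf (cjIrr ψ) = cjIrr (D.Xf ψ) ∧ cjIrr (D.Xf (cjIrr ψ)) ≠ D.Xf (cjIrr ψ) := by
  have hψb := cj_mem_exc KH hψ
  have hne : cjIrr ψ ≠ ψ := cj_ne_of_exc KH hodd hψ
  have hdeg : ((cjIrr ψ : IrrCharacter NH) : NH → ℂ) 1 = (ψ : NH → ℂ) 1 := by
    rw [cjIrr_apply]
    exact IsCharacter.conj_apply_one (IsIrrCharacter.isCharacter ψ.2)
  have E1 := D.rel ψ hψ (cjIrr ψ) hψb 1 (-1) (by rw [hdeg]; push_cast; ring)
  have E2 := D.rel (cjIrr ψ) hψb ψ hψ 1 (-1) (by rw [hdeg]; push_cast; ring)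
  have hcf : conjFun ((1 : ℤ) • (ψ : NH → ℂ) + (-1 : ℤ) • ((cjIrr ψ : IrrCharacter NH) : NH → ℂ)) =
      (1 : ℤ) • ((cjIrr ψ : IrrCharacter NH) : NH → ℂ) + (-1 : ℤ) • (ψ : NH → ℂ) := by
    funext y
    simp only [conjFun, Pi.add_apply, Pi.smul_apply, cjIrr_apply]
    simp
  have E3 := congrArg conjFun E1
  rw [Cfsg.Agent.Lib.Helper10.conjFun_indFun, hcf, E2] at E3
  have hε0 : (D.ε : ℂ) ≠ 0 := by
    rcases D.hε with h | h <;> rw [h] <;> norm_num
  have hfun : ((D.Xf (cjIrr ψ) : IrrCharacter G) : G → ℂ) - ((D.Xf ψ : IrrCharacter G) : G → ℂ) =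
      ((cjIrr (D.Xf ψ) : IrrCharacter G) : G → ℂ) -
        ((cjIrr (D.Xf (cjIrr ψ)) : IrrCharacter G) : G → ℂ) := by
    funext g
    have h1 := congrFun E3 g
    simp only [conjFun, Pi.add_apply, Pi.smul_apply, Pi.sub_apply] at h1 ⊢
    simp only [zsmul_eq_mul, smul_eq_mul, map_mul, map_add, map_intCast] at h1
    rw [cjIrr_apply, cjIrr_apply]
    push_cast at h1
    have h2 : (D.ε : ℂ) * ((((D.Xf (cjIrr ψ) : IrrCharacter G) : G → ℂ) g -
        ((D.Xf ψ : IrrCharacter G) : G → ℂ) g) -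
        (conj (((D.Xf ψ : IrrCharacter G) : G → ℂ) g) -
          conj (((D.Xf (cjIrr ψ) : IrrCharacter G) : G → ℂ) g))) = 0 := by
      linear_combination h1
    have h3 := (mul_eq_zero.mp h2).resolve_left hε0
    linear_combination h3
  have hin := congrArg (fun f => classInner f ((D.Xf (cjIrr ψ) : IrrCharacter G) : G → ℂ)) hfun
  simp only [CharLib.classInner_sub_left, classInner_irr'] at hin
  rw [if_pos trivial, if_neg (fun h => hne (D.inj ψ hψ (cjIrr ψ) hψb h).symm)] at hin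
  by_cases ha : cjIrr (D.Xf ψ) = D.Xf (cjIrr ψ)
  · by_cases hb : cjIrr (D.Xf (cjIrr ψ)) = D.Xf (cjIrr ψ)
    · rw [if_pos ha, if_pos hb] at hin
      norm_num at hin
    · exact ⟨ha.symm, hb⟩
  · exfalso
    rw [if_neg ha] at hin
    by_cases hb : cjIrr (D.Xf (cjIrr ψ)) = D.Xf (cjIrr ψ)
    · rw [if_pos hb] at hin
      norm_num at hin
    · rw [if_neg hb] at hin
      norm_num at hin

theorem Xf_nonreal (hodd : Odd (Nat.card NH)) {ψ : IrrCharacter NH} (hψ : ψ ∈ exc KH) :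
    cjIrr (D.Xf ψ) ≠ D.Xf ψ := by
  have h := (Xf_cj H D hodd (cj_mem_exc KH hψ)).2
  rwa [cjIrr_cjIrr] at h

end Cfsg.Agent.Lib.Lead.CNExc
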