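import Mathlib
import Cfsg.Agent.Lib.Lead.CNExc8
import Cfsg.Agent.Lib.Lead.CNEnd6
/-! Characters of a group with a Frobenius kernel, part 9: the sums over the exceptional
characters, expressed through the degree quotients `n ψ = ψ(1)/|L:K|`. -/
set_option autoImplicit false
open Cfsg Cfsg.Agent.CharLib
open scoped ComplexConjugate

namespace Cfsg.Agent.Lib.Lead.CNExc
universe u

variable {L : Type u} [Group L] [Fintype L] (K : Subgroup L) [hKn : K.Normal]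
  [Fintype (IrrCharacter L)]
variable (nL : IrrCharacter L → ℕ)
  (hnL : ∀ ψ ∈ exc K, (ψ : L → ℂ) 1 = ((K.index * nL ψ : ℕ) : ℂ))

include hKn hnL in
theorem sum_nL_mul {x : L} (hx : x ∈ K) (hx1 : x ≠ 1) :
    ∑ ψ ∈ exc K, (nL ψ : ℂ) * (ψ : L → ℂ) x = -1 := by
  have h := sum_exc_deg_mul K hx hx1
  have he : (K.index : ℂ) ≠ 0 := Cfsg.Agent.Lib.Helper10.index_ne_zero_complex K
  have h2 : ∑ ψ ∈ exc K, (ψ : L → ℂ) x * conj ((ψ : L → ℂ) 1) =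
      (K.index : ℂ) * ∑ ψ ∈ exc K, (nL ψ : ℂ) * (ψ : L → ℂ) x := by
    rw [Finset.mul_sum]
    apply Finset.sum_congr rfl
    intro ψ hψ
    rw [hnL ψ hψ, Complex.conj_natCast]
    push_cast
    ring
  rw [h2] at h
  have h3 : (K.index : ℂ) * (∑ ψ ∈ exc K, (nL ψ : ℂ) * (ψ : L → ℂ) x + 1) = 0 := by
    linear_combination h
  have h4 := (mul_eq_zero.mp h3).resolve_left he
  linear_combination h4

include hKn hnL in
theorem sum_nL_mul_conj {x : L} (hx : x ∈ K) (hx1 : x ≠ 1) :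
    ∑ ψ ∈ exc K, (nL ψ : ℂ) * conj ((ψ : L → ℂ) x) = -1 := by
  have h := congrArg conj (sum_nL_mul K nL hnL hx hx1)
  rw [map_sum] at h
  simp only [map_mul, Complex.conj_natCast, map_neg, map_one] at h
  exact h

include hKn hnL in
theorem index_mul_sum_sq :
    K.index * (∑ ψ ∈ exc K, (nL ψ) ^ 2) + 1 = Nat.card K := by
  have h := sum_exc_deg_sq K
  have he : (K.index : ℂ) ≠ 0 := Cfsg.Agent.Lib.Helper10.index_ne_zero_complex K
  have h2 : ∑ ψ ∈ exc K, (ψ : L → ℂ) 1 * conj ((ψ : L → ℂ) 1) =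
      (K.index : ℂ) * ((K.index : ℂ) * ∑ ψ ∈ exc K, ((nL ψ : ℂ)) ^ 2) := by
    rw [Finset.mul_sum, Finset.mul_sum]
    apply Finset.sum_congr rfl
    intro ψ hψ
    rw [hnL ψ hψ, Complex.conj_natCast]
    push_cast
    ring
  rw [h2] at h
  have hcard : (Nat.card L : ℂ) = (K.index : ℂ) * (Nat.card K : ℂ) := by
    rw [← Nat.cast_mul, Subgroup.index_mul_card]
  rw [hcard] at h
  have h3 : (K.index : ℂ) * ((K.index : ℂ) * ∑ ψ ∈ exc K, ((nL ψ : ℂ)) ^ 2 + 1 -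
      (Nat.card K : ℂ)) = 0 := by
    linear_combination h
  have h4 := (mul_eq_zero.mp h3).resolve_left he
  have h5 : ((K.index * (∑ ψ ∈ exc K, (nL ψ) ^ 2) + 1 : ℕ) : ℂ) = ((Nat.card K : ℕ) : ℂ) := by
    push_cast
    linear_combination h4
  exact_mod_cast h5

include hKn hnL in
/-- the first column relation -/
theorem sum1_core (ε c : ℂ) {x : L} (hx : x ∈ K) (hx1 : x ≠ 1) :
    ∑ ψ ∈ exc K, (nL ψ : ℂ) * (ε * (ψ : L → ℂ) x + (nL ψ : ℂ) * c) =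
      -ε + c * ((∑ ψ ∈ exc K, (nL ψ) ^ 2 : ℕ) : ℂ) := by
  have h1 := sum_nL_mul K nL hnL hx hx1
  have h2 : ∑ ψ ∈ exc K, (nL ψ : ℂ) * (ε * (ψ : L → ℂ) x + (nL ψ : ℂ) * c) =
      ε * ∑ ψ ∈ exc K, (nL ψ : ℂ) * (ψ : L → ℂ) x + c * ∑ ψ ∈ exc K, ((nL ψ : ℂ)) ^ 2 := by
    rw [Finset.mul_sum, Finset.mul_sum, ← Finset.sum_add_distrib]
    apply Finset.sum_congr rfl
    intro ψ _
    ring
  rw [h2, h1]
  push_cast
  ring

include hKn hnL in
/-- the second column relation -/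
theorem sum2_core (ε c : ℂ) (hε : conj ε = ε) (hεsq : ε * ε = 1) (hc : conj c = c)
    {x : L} (hx : x ∈ K) (hx1 : x ≠ 1) :
    ∑ ψ ∈ exc K, (ε * (ψ : L → ℂ) x + (nL ψ : ℂ) * c) *
        conj (ε * (ψ : L → ℂ) x + (nL ψ : ℂ) * c) =
      (Nat.card (Subgroup.centralizer ({x} : Set L)) : ℂ) - (K.index : ℂ) - 2 * ε * c +
        c ^ 2 * ((∑ ψ ∈ exc K, (nL ψ) ^ 2 : ℕ) : ℂ) := by
  have h1 := sum_nL_mul K nL hnL hx hx1
  have h1' := sum_nL_mul_conj K nL hnL hx hx1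
  have h0 := sum_exc_normSq K hx
  have h2 : ∑ ψ ∈ exc K, (ε * (ψ : L → ℂ) x + (nL ψ : ℂ) * c) *
        conj (ε * (ψ : L → ℂ) x + (nL ψ : ℂ) * c) =
      ∑ ψ ∈ exc K, (ψ : L → ℂ) x * conj ((ψ : L → ℂ) x) +
        ε * c * ∑ ψ ∈ exc K, (nL ψ : ℂ) * (ψ : L → ℂ) x +
        ε * c * ∑ ψ ∈ exc K, (nL ψ : ℂ) * conj ((ψ : L → ℂ) x) +
        c ^ 2 * ∑ ψ ∈ exc K, ((nL ψ : ℂ)) ^ 2 := by
    rw [Finset.mul_sum, Finset.mul_sum, Finset.mul_sum, ← Finset.sum_add_distrib,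
      ← Finset.sum_add_distrib, ← Finset.sum_add_distrib]
    apply Finset.sum_congr rfl
    intro ψ _
    simp only [map_add, map_mul, Complex.conj_natCast, hε, hc]
    linear_combination ((ψ : L → ℂ) x * conj ((ψ : L → ℂ) x)) * hεsq
  rw [h2, h0, h1, h1']
  push_cast
  ring

open Classical in
include hKn hnL in
/-- the row relation for a character of degree `|L:K|` -/
theorem row_core (hC : ∀ k ∈ K, k ≠ 1 → Subgroup.centralizer ({k} : Set L) ≤ K)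
    (ε c : ℂ) (hε : conj ε = ε) (hεsq : ε * ε = 1) (hc : conj c = c)
    {ψ₁ : IrrCharacter L} (hψ₁ : ψ₁ ∈ exc K) (h1 : (ψ₁ : L → ℂ) 1 = (K.index : ℂ)) :
    ∑ x ∈ Finset.univ.filter (fun x : L => x ∈ K ∧ x ≠ 1),
        (ε * (ψ₁ : L → ℂ) x + c) * conj (ε * (ψ₁ : L → ℂ) x + c) =
      (Nat.card L : ℂ) - (K.index : ℂ) ^ 2 - 2 * ε * c * (K.index : ℂ) +
        c ^ 2 * ((K.index * (∑ ψ ∈ exc K, (nL ψ) ^ 2) : ℕ) : ℂ) := by
  have hsq := exc_row_sq K hC hψ₁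
  have hsum := exc_row_sum K hC hψ₁
  have hsum' : ∑ x ∈ Finset.univ.filter (fun x : L => x ∈ K ∧ x ≠ 1), conj ((ψ₁ : L → ℂ) x) =
      -(K.index : ℂ) := by
    have := congrArg conj hsum
    rw [map_sum, map_neg, h1, Complex.conj_natCast] at this
    exact this
  have hcard := index_mul_sum_sq K nL hnL
  have hcard2 := Cfsg.Agent.Lib.Lead.CNEnd.card_filter_mem_ne_one K
  have hcnt : ((Finset.univ.filter (fun x : L => x ∈ K ∧ x ≠ 1)).card : ℂ) =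
      ((K.index * (∑ ψ ∈ exc K, (nL ψ) ^ 2) : ℕ) : ℂ) := by
    congr 1
    omega
  have h2 : ∑ x ∈ Finset.univ.filter (fun x : L => x ∈ K ∧ x ≠ 1),
        (ε * (ψ₁ : L → ℂ) x + c) * conj (ε * (ψ₁ : L → ℂ) x + c) =
      ∑ x ∈ Finset.univ.filter (fun x : L => x ∈ K ∧ x ≠ 1),
          (ψ₁ : L → ℂ) x * conj ((ψ₁ : L → ℂ) x) +
        ε * c * ∑ x ∈ Finset.univ.filter (fun x : L => x ∈ K ∧ x ≠ 1), (ψ₁ : L → ℂ) x +
        ε * c * ∑ x ∈ Finset.univ.filter (fun x : L => x ∈ K ∧ x ≠ 1), conj ((ψ₁ : L → ℂ) x) +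
        c ^ 2 * ((Finset.univ.filter (fun x : L => x ∈ K ∧ x ≠ 1)).card : ℂ) := by
    rw [Finset.mul_sum, Finset.mul_sum, Finset.card_eq_sum_ones, Nat.cast_sum, Finset.mul_sum,
      ← Finset.sum_add_distrib, ← Finset.sum_add_distrib, ← Finset.sum_add_distrib]
    apply Finset.sum_congr rfl
    intro x _
    simp only [map_add, map_mul, hε, hc]
    push_cast
    linear_combination ((ψ₁ : L → ℂ) x * conj ((ψ₁ : L → ℂ) x)) * hεsq
  rw [h2, hsq, hsum, hsum', hcnt, h1, Complex.conj_natCast]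
  ring

end Cfsg.Agent.Lib.Lead.CNExc
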