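import Mathlib
import Cfsg.Prelude.Def_Solvable
import Cfsg.Agent.Lib.Lead.Kazarin2
import Cfsg.Agent.Lib.Helper24.QBA1
import Cfsg.Agent.Lib.Helper24.QBA2
import Cfsg.Agent.Lib.Helper24.QBA4
import Cfsg.Agent.Lib.Helper12.QBA3
import Cfsg.Agent.Lib.Helper12.QBA5

/-!
lead: S4125 (q-Baer groups), Case A of the uniqueness of the prime: two q-elements of types `p ≠ r`,
both different from `q`, cannot coexist.  Assembled from the leaves QBA1 .. QBA5.
-/

set_option autoImplicit false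
open Cfsg

namespace Cfsg.Agent.Lib.Lead.QBLeaf

variable {G : Type*} [Group G] [Finite G]

local notation "C(" x ")" => Subgroup.centralizer ({x} : Set G)

open Cfsg.Agent.Lib.Helper24.QBLeaf Cfsg.Agent.Lib.Helper12.QBLeaf

/-! ### small facts -/

theorem orderOf_conj_eq (g y : G) : orderOf (g * y * g⁻¹) = orderOf y := by
  have := orderOf_injective (MulAut.conj g).toMonoidHom (MulAut.conj g).injective y
  simpa [MulAut.conj_apply] using this

theorem coprime_pow_of_ne {p r : ℕ} (hp : p.Prime) (hr : r.Prime) (hpr : p ≠ r) (a b : ℕ) :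
    (p ^ a).Coprime (r ^ b) :=
  Nat.Coprime.pow a b ((Nat.coprime_primes hp hr).mpr hpr)

/-- product of commuting `q`-elements is a `q`-element. -/
theorem isQElt_mul (q : ℕ) [hq : Fact q.Prime] {x y : G} (hcomm : Commute x y)
    (hx : ∃ k : ℕ, orderOf x = q ^ k) (hy : ∃ k : ℕ, orderOf y = q ^ k) :
    ∃ k : ℕ, orderOf (x * y) = q ^ k := by
  obtain ⟨k, hk⟩ := hx
  obtain ⟨l, hl⟩ := hy
  have h1 : orderOf (x * y) ∣ Nat.lcm (orderOf x) (orderOf y) := hcomm.orderOf_mul_dvd_lcm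
  have h2 : Nat.lcm (orderOf x) (orderOf y) ∣ q ^ (max k l) := by
    rw [hk, hl]
    exact Nat.lcm_dvd (pow_dvd_pow q (le_max_left k l)) (pow_dvd_pow q (le_max_right k l))
  obtain ⟨j, _, hj⟩ := (Nat.dvd_prime_pow hq.out).mp (h1.trans h2)
  exact ⟨j, hj⟩

/-- the closure of the "differences" `y (g y g⁻¹)⁻¹` is a normal subgroup. -/
theorem closure_diff_normal (y : G) :
    (Subgroup.closure {w : G | ∃ g : G, w = y * (g * y * g⁻¹)⁻¹}).Normal := by
  constructor
  intro n hn h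
  induction hn using Subgroup.closure_induction with
  | mem w hw =>
    obtain ⟨g, rfl⟩ := hw
    have h1 : y * (h * y * h⁻¹)⁻¹ ∈ Subgroup.closure {w : G | ∃ g : G, w = y * (g * y * g⁻¹)⁻¹} :=
      Subgroup.subset_closure ⟨h, rfl⟩
    have h2 : y * ((h * g) * y * (h * g)⁻¹)⁻¹ ∈
        Subgroup.closure {w : G | ∃ g : G, w = y * (g * y * g⁻¹)⁻¹} :=
      Subgroup.subset_closure ⟨h * g, rfl⟩
    have : h * (y * (g * y * g⁻¹)⁻¹) * h⁻¹ =
        (y * (h * y * h⁻¹)⁻¹)⁻¹ * (y * ((h * g) * y * (h * g)⁻¹)⁻¹) := by group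
    rw [this]
    exact mul_mem (inv_mem h1) h2
  | one => simp
  | mul a b _ _ ha hb =>
    have : h * (a * b) * h⁻¹ = (h * a * h⁻¹) * (h * b * h⁻¹) := by group
    rw [this]; exact mul_mem ha hb
  | inv a _ ha =>
    have : h * a⁻¹ * h⁻¹ = (h * a * h⁻¹)⁻¹ := by group
    rw [this]; exact inv_mem ha

/-- **Core of Case A**: `x` of type `p`, `y` of type `r`, commuting, `x y` of type `p`. -/
theorem false_of_two_types_core (q : ℕ) [Fact q.Prime] (p r a b c : ℕ) (hp : p.Prime) (hr : r.Prime)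
    (hpr : p ≠ r) (hpq : p ≠ q) (hrq : r ≠ q) (hb : 1 ≤ b) (x y : G)
    (hx : ∃ k : ℕ, orderOf x = q ^ k) (hy : ∃ k : ℕ, orderOf y = q ^ k)
    (hxi : (C(x)).index = p ^ a) (hyi : (C(y)).index = r ^ b) (hxyi : (C(x * y)).index = p ^ c)
    (hcomm : Commute x y) : False := by
  have hq : q.Prime := Fact.out
  haveI : Fact r.Prime := ⟨hr⟩
  -- conjugates of `y`
  have hyconj_ord : ∀ g : G, ∃ k : ℕ, orderOf (g * y * g⁻¹) = q ^ k := fun g => by
    rw [orderOf_conj_eq]; exact hy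
  have hyconj_idx : ∀ g : G, (C(g * y * g⁻¹)).index = r ^ b := fun g => by
    rw [Cfsg.Agent.CharLib.index_centralizer_conj_kz, hyi]
  have hxq : (C(x)).index.Coprime q := by
    rw [hxi]; exact Nat.Coprime.pow_left a ((Nat.coprime_primes hp hq).mpr hpq)
  have hxyq : (C(x * y)).index.Coprime q := by
    rw [hxyi]; exact Nat.Coprime.pow_left c ((Nat.coprime_primes hp hq).mpr hpq)
  have hyq : ∀ g : G, (C(g * y * g⁻¹)).index.Coprime q := fun g => by
    rw [hyconj_idx]; exact Nat.Coprime.pow_left b ((Nat.coprime_primes hr hq).mpr hrq)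
  have hxyelt : ∃ k : ℕ, orderOf (x * y) = q ^ k := isQElt_mul q hcomm hx hy
  -- `x` and `x y` commute with all conjugates of `y`
  have hx_c : ∀ g : G, Commute x (g * y * g⁻¹) := fun g =>
    commute_of_coprime_index q x _ hx (hyconj_ord g) hxq (hyq g)
      (by rw [hxi, hyconj_idx]; exact coprime_pow_of_ne hp hr hpr a b)
  have hxy_c : ∀ g : G, Commute (x * y) (g * y * g⁻¹) := fun g =>
    commute_of_coprime_index q _ _ hxyelt (hyconj_ord g) hxyq (hyq g)
      (by rw [hxyi, hyconj_idx]; exact coprime_pow_of_ne hp hr hpr c b)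
  have hy_c : ∀ g : G, Commute y (g * y * g⁻¹) := fun g => by
    have h1 : Commute x⁻¹ (g * y * g⁻¹) := (hx_c g).inv_left
    have h2 : Commute (x⁻¹ * (x * y)) (g * y * g⁻¹) := h1.mul_left (hxy_c g)
    simpa using h2
  -- the subgroup `Y`
  set S : Set G := {w : G | ∃ g : G, w = y * (g * y * g⁻¹)⁻¹} with hS
  set Y : Subgroup G := Subgroup.closure S with hY
  haveI hYn : Y.Normal := closure_diff_normal y
  -- conjugates of `y` commute pairwise
  have hconj_comm : ∀ g h : G, (g * y * g⁻¹) * (h * y * h⁻¹) = (h * y * h⁻¹) * (g * y * g⁻¹) := by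
    intro g h
    have h1 := (hy_c (g⁻¹ * h)).eq
    have h2 : g * (y * ((g⁻¹ * h) * y * (g⁻¹ * h)⁻¹)) * g⁻¹ =
        g * (((g⁻¹ * h) * y * (g⁻¹ * h)⁻¹) * y) * g⁻¹ := by rw [h1]
    have e1 : g * (y * ((g⁻¹ * h) * y * (g⁻¹ * h)⁻¹)) * g⁻¹ = (g * y * g⁻¹) * (h * y * h⁻¹) := by
      group
    have e2 : g * (((g⁻¹ * h) * y * (g⁻¹ * h)⁻¹) * y) * g⁻¹ = (h * y * h⁻¹) * (g * y * g⁻¹) := by
      group
    rw [e1, e2] at h2
    exact h2
  -- `Y` lies in the commutative closure of the class of `y`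
  set T : Set G := {w : G | ∃ g : G, w = g * y * g⁻¹} with hT
  have hTcomm : ∀ u ∈ T, ∀ v ∈ T, u * v = v * u := by
    rintro _ ⟨g, rfl⟩ _ ⟨h, rfl⟩
    exact hconj_comm g h
  have hYT : Y ≤ Subgroup.closure T := by
    rw [hY, Subgroup.closure_le]
    rintro _ ⟨g, rfl⟩
    refine mul_mem (Subgroup.subset_closure ⟨1, by simp⟩) (inv_mem (Subgroup.subset_closure ⟨g, rfl⟩))
  have hYab : ∀ u ∈ Y, ∀ v ∈ Y, u * v = v * u := by
    intro u hu v hv
    letI := Subgroup.closureCommGroupOfComm hTcomm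
    have := mul_comm (⟨u, hYT hu⟩ : Subgroup.closure T) ⟨v, hYT hv⟩
    exact congrArg Subtype.val this
  -- `x` centralises `Y`
  have hxY : ∀ u ∈ Y, x * u = u * x := by
    have hle : Y ≤ C(x) := by
      rw [hY, Subgroup.closure_le]
      rintro _ ⟨g, rfl⟩
      rw [SetLike.mem_coe, Subgroup.mem_centralizer_iff]
      intro z hz
      rw [Set.mem_singleton_iff] at hz
      subst hz
      have h1 : Commute z y := hcomm
      have h2 : Commute z (g * y * g⁻¹)⁻¹ := (hx_c g).inv_right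
      exact (h1.mul_right h2).eq
    intro u hu
    have := Subgroup.mem_centralizer_iff.mp (hle hu) x rfl
    exact this
  -- the `r`-group `R`
  obtain ⟨R, hRp, hRx, hRtr⟩ := exists_pgroup_le_centralizer_transitive r b x y
    (by rw [hxi, hyi]; exact coprime_pow_of_ne hp hr hpr a b) hyi
  have hRx' : ∀ ρ ∈ R, ρ * x = x * ρ := by
    intro ρ hρ
    exact (Subgroup.mem_centralizer_iff.mp (hRx hρ) x rfl).symm
  have hfix : ∀ u ∈ Y, (∀ ρ ∈ R, ρ * u = u * ρ) → u = 1 := by
    intro u hu hfu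
    exact eq_one_of_fixed_of_mem_closure q r (Ne.symm hrq) y hy hy_c R hRp hRtr u hu hfu
  have hcop : (C(x)).index.Coprime (orderOf x) := by
    obtain ⟨k, hk⟩ := hx
    rw [hxi, hk]
    exact coprime_pow_of_ne hp hq hpq a k
  -- conclusion: `y` is central
  have hcentral : ∀ g : G, g * y * g⁻¹ = y := by
    intro g
    obtain ⟨t, ht⟩ := exists_conj_eq_mul x y
      (by rw [hxyi, hyi]; exact coprime_pow_of_ne hp hr hpr c b) g
    have hu : y * (g * y * g⁻¹)⁻¹ ∈ Y := Subgroup.subset_closure ⟨g, rfl⟩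
    have := eq_one_of_mul_mem_conj Y R hYab x hxY hRx' hfix hcop _ hu t ht
    have h2 : y = g * y * g⁻¹ := by
      have := mul_inv_eq_one.mp this
      exact this
    exact h2.symm
  have htop : C(y) = ⊤ := by
    rw [eq_top_iff]
    intro g _
    rw [Subgroup.mem_centralizer_iff]
    intro z hz
    rw [Set.mem_singleton_iff] at hz
    subst hz
    have := hcentral g
    calc z * g = (g * z * g⁻¹) * g := by rw [this]
      _ = g * z := by group
  rw [htop, Subgroup.index_top] at hyi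
  have : 1 < r ^ b := Nat.one_lt_pow (by omega) hr.one_lt
  omega

/-- QBA (Case A). -/
theorem false_of_two_types (q : ℕ) [Fact q.Prime]
    (hBaer : ∀ x : G, (∃ k : ℕ, orderOf x = q ^ k) →
      ∃ (r : ℕ) (a : ℕ), r.Prime ∧ (C(x)).index = r ^ a)
    (p r a b : ℕ) (hp : p.Prime) (hr : r.Prime) (hpr : p ≠ r) (hpq : p ≠ q) (hrq : r ≠ q)
    (ha : 1 ≤ a) (hb : 1 ≤ b) (x y : G)
    (hx : ∃ k : ℕ, orderOf x = q ^ k) (hy : ∃ k : ℕ, orderOf y = q ^ k)
    (hxi : (C(x)).index = p ^ a) (hyi : (C(y)).index = r ^ b) : False := by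
  have hq : q.Prime := Fact.out
  have hxq : (C(x)).index.Coprime q := by
    rw [hxi]; exact Nat.Coprime.pow_left a ((Nat.coprime_primes hp hq).mpr hpq)
  have hyq : (C(y)).index.Coprime q := by
    rw [hyi]; exact Nat.Coprime.pow_left b ((Nat.coprime_primes hr hq).mpr hrq)
  have hcop : (C(x)).index.Coprime (C(y)).index := by
    rw [hxi, hyi]; exact coprime_pow_of_ne hp hr hpr a b
  have hcomm : Commute x y := commute_of_coprime_index q x y hx hy hxq hyq hcop
  have hxyelt := isQElt_mul q hcomm hx hy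
  obtain ⟨s, c, hs, hsc⟩ := hBaer (x * y) hxyelt
  -- the index of `C(xy)` divides `p^a r^b`
  have hle : C(x) ⊓ C(y) ≤ C(x * y) := by
    intro g hg
    rw [Subgroup.mem_inf, Subgroup.mem_centralizer_iff, Subgroup.mem_centralizer_iff] at hg
    rw [Subgroup.mem_centralizer_iff]
    intro z hz
    rw [Set.mem_singleton_iff] at hz
    subst hz
    have h1 := hg.1 x rfl
    have h2 := hg.2 y rfl
    calc x * y * g = x * (y * g) := by group
      _ = x * (g * y) := by rw [h2]
      _ = (x * g) * y := by group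
      _ = (g * x) * y := by rw [h1]
      _ = g * (x * y) := by group
  have hinf : (C(x) ⊓ C(y)).index = p ^ a * r ^ b := by
    have h1 : p ^ a ∣ (C(x) ⊓ C(y)).index := by
      rw [← hxi]; exact Subgroup.index_dvd_of_le inf_le_left
    have h2 : r ^ b ∣ (C(x) ⊓ C(y)).index := by
      rw [← hyi]; exact Subgroup.index_dvd_of_le inf_le_right
    have h3 : p ^ a * r ^ b ∣ (C(x) ⊓ C(y)).index :=
      Nat.Coprime.mul_dvd_of_dvd_of_dvd (coprime_pow_of_ne hp hr hpr a b) h1 h2
    have h4 : (C(x) ⊓ C(y)).index ≤ p ^ a * r ^ b := by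
      have := Subgroup.index_inf_le (H := C(x)) (K := C(y))
      rwa [hxi, hyi] at this
    have h5 : (C(x) ⊓ C(y)).index ≠ 0 := Subgroup.index_ne_zero_of_finite
    exact le_antisymm h4 (Nat.le_of_dvd (Nat.pos_of_ne_zero h5) h3)
  have hdvd : s ^ c ∣ p ^ a * r ^ b := by
    rw [← hsc, ← hinf]; exact Subgroup.index_dvd_of_le hle
  -- case analysis
  by_cases hc : c = 0
  · subst hc
    exact false_of_two_types_core q p r a b 0 hp hr hpr hpq hrq hb x y hx hy hxi hyi
      (by rw [hsc]; simp) hcomm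
  · have hsd : s ∣ p ^ a * r ^ b := (dvd_pow_self s hc).trans hdvd
    rcases (Nat.Prime.dvd_mul hs).mp hsd with h | h
    · have : s = p := (Nat.prime_dvd_prime_iff_eq hs hp).mp (hs.dvd_of_dvd_pow h)
      subst this
      exact false_of_two_types_core q s r a b c hp hr hpr hpq hrq hb x y hx hy hxi hyi hsc hcomm
    · have : s = r := (Nat.prime_dvd_prime_iff_eq hs hr).mp (hs.dvd_of_dvd_pow h)
      subst this
      exact false_of_two_types_core q s p b a c hr hp (Ne.symm hpr) hrq hpq ha y x hy hx hyi hxi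
        (by rw [← hcomm.eq]; exact hsc) hcomm.symm

end Cfsg.Agent.Lib.Lead.QBLeaf
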