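import Mathlib
import Cfsg.Agent.Lib.Lead.FrobConj
import Cfsg.Agent.Lib.Helper2.FrobeniusClass
/-! A Frobenius group acting on an abelian group with kernel acting fixed-point-freely:
the complement has nontrivial fixed points (S0666). -/
open scoped Pointwise
namespace Cfsg.Agent.CharLib
universe u

theorem frob_complement_fixed_point {G : Type u} [Group G] [Finite G] (V F : Subgroup G)
    (hVab : IsMulCommutative V) (hV1 : V ≠ ⊥) (hFV : F ≤ Subgroup.normalizer (V : Set G))
    (H : Subgroup ↥F) (hH : Cfsg.IsFrobeniusComplement H)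
    (hcop : (Nat.card V).Coprime (Nat.card (Cfsg.frobeniusKernel H)))
    (hCK : V ⊓ Subgroup.centralizer (Subtype.val '' Cfsg.frobeniusKernel H : Set G) = ⊥) :
    V ⊓ Subgroup.centralizer ((H.map F.subtype : Subgroup G) : Set G) ≠ ⊥ := by
  classical
  intro hbot
  obtain ⟨K, hK, hKn, hc, hKne, hfpf⟩ := frob_setup H hH
  haveI := hKn
  letI : CommGroup V := { (inferInstance : Group V) with mul_comm := hVab.is_comm.comm }
  letI : Fintype F := Fintype.ofFinite F
  -- conjugation action of F on V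
  have hconj : ∀ (x : F) (v : V), (x : G) * (v : G) * (x : G)⁻¹ ∈ V := by
    intro x v
    exact ((Subgroup.mem_normalizer_iff.1 (hFV x.2)) v).1 v.2
  let φ : F → V → V := fun x v => ⟨(x : G) * (v : G) * (x : G)⁻¹, hconj x v⟩
  have hφmul : ∀ x y v, φ (x * y) v = φ x (φ y v) := by
    intro x y v
    apply Subtype.ext
    simp only [φ, Subgroup.coe_mul, mul_inv_rev]
    group
  have hφone : ∀ v, φ 1 v = v := by
    intro v
    apply Subtype.ext
    simp [φ]
  let φh : F → (V →* V) := fun x =>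
    { toFun := φ x
      map_one' := by apply Subtype.ext; simp [φ]
      map_mul' := by
        intro v w
        apply Subtype.ext
        simp only [φ, Subgroup.coe_mul]
        group }
  have hφprod : ∀ (x : F) {ι : Type u} [Fintype ι] (f : ι → V), φ x (∏ i, f i) = ∏ i, φ x (f i) := by
    intro x ι _ f
    exact map_prod (φh x) f Finset.univ
  -- fixed by a subgroup L
  have hfixL : ∀ (L : Subgroup F) [Fintype L] (v : V) (y : F), y ∈ L →
      φ y (∏ x : L, φ x v) = ∏ x : L, φ x v := by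
    intro L _ v y hy
    rw [hφprod]
    have : ∀ x : L, φ y (φ x v) = φ ((⟨y, hy⟩ * x : L) : F) v := by
      intro x; rw [Subgroup.coe_mul, hφmul]
    simp_rw [this]
    exact Fintype.prod_equiv (Equiv.mulLeft ⟨y, hy⟩) _ _ (fun x => rfl)
  -- fixed means commute
  have hcomm : ∀ (y : F) (w : V), φ y w = w → (y : G) * (w : G) = (w : G) * (y : G) := by
    intro y w h
    have := congrArg Subtype.val h
    simp only [φ] at this
    calc (y : G) * (w : G) = ((y : G) * (w : G) * (y : G)⁻¹) * (y : G) := by group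
      _ = (w : G) * (y : G) := by rw [this]
  -- products over K vanish
  have hPK : ∀ v : V, ∏ x : K, φ x v = 1 := by
    intro v
    have hmem : ((∏ x : K, φ x v : V) : G) ∈
        V ⊓ Subgroup.centralizer (Subtype.val '' Cfsg.frobeniusKernel H : Set G) := by
      refine Subgroup.mem_inf.2 ⟨SetLike.coe_mem _, ?_⟩
      rw [Subgroup.mem_centralizer_iff]
      rintro _ ⟨y, hy, rfl⟩
      have hyK : y ∈ K := by
        have : y ∈ (K : Set F) := by rw [hK]; exact hy
        exact this
      exact hcomm y _ (hfixL K v y hyK)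
    rw [hCK, Subgroup.mem_bot] at hmem
    exact Subtype.ext hmem
  have hPH : ∀ v : V, ∏ x : H, φ x v = 1 := by
    intro v
    have hmem : ((∏ x : H, φ x v : V) : G) ∈
        V ⊓ Subgroup.centralizer ((H.map F.subtype : Subgroup G) : Set G) := by
      refine Subgroup.mem_inf.2 ⟨SetLike.coe_mem _, ?_⟩
      rw [Subgroup.mem_centralizer_iff]
      rintro _ ⟨y, hy, rfl⟩
      exact hcomm y _ (hfixL H v y hy)
    rw [hbot, Subgroup.mem_bot] at hmem
    exact Subtype.ext hmem
  have hPF : ∀ v : V, ∏ x : F, φ x v = 1 := by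
    intro v
    have hfix : ∀ y : F, φ y (∏ x : F, φ x v) = ∏ x : F, φ x v := by
      intro y
      rw [hφprod]
      simp_rw [← hφmul]
      exact Fintype.prod_equiv (Equiv.mulLeft y) _ _ (fun x => rfl)
    have hmem : ((∏ x : F, φ x v : V) : G) ∈
        V ⊓ Subgroup.centralizer (Subtype.val '' Cfsg.frobeniusKernel H : Set G) := by
      refine Subgroup.mem_inf.2 ⟨SetLike.coe_mem _, ?_⟩
      rw [Subgroup.mem_centralizer_iff]
      rintro _ ⟨y, hy, rfl⟩
      exact hcomm y _ (hfix y)
    rw [hCK, Subgroup.mem_bot] at hmem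
    exact Subtype.ext hmem
  -- decomposition
  have hKH : K ⊓ H = ⊥ := hc.disjoint.eq_bot
  have hKH' : K ⊔ H = ⊤ := hc.sup_eq_top
  have hfpf' : ∀ h ∈ H, h ≠ 1 → ∀ k ∈ K, h * k = k * h → k = 1 := by
    intro h hh h1 k hk e
    have : k ∈ K ⊓ Subgroup.centralizer {h} := by
      refine Subgroup.mem_inf.2 ⟨hk, ?_⟩
      rw [Subgroup.mem_centralizer_singleton_iff]; exact e.symm
    rwa [hfpf h hh h1, Subgroup.mem_bot] at this
  have hbij := Cfsg.Agent.Lib.Helper2.frobMap_bijective K H hKH hKH' hfpf'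
  have hpow : ∀ v : V, v⁻¹ ^ (Fintype.card K) = 1 := by
    intro v
    have h1 := hPF v
    rw [← Fintype.prod_subtype_mul_prod_subtype (fun x : F => x ∈ K) (fun x => φ x v)] at h1
    have h2 : ∏ x : {x : F // x ∈ K}, φ x v = 1 := hPK v
    rw [h2, one_mul] at h1
    rw [← hbij.prod_comp (fun x : {x : F // x ∉ K} => φ x v), Fintype.prod_prod_type] at h1
    have h3 : ∀ k : K, ∏ h : {h : H // h ≠ 1},
        φ ((Cfsg.Agent.Lib.Helper2.frobMap K H hKH (k, h) : {x : F // x ∉ K}) : F) v = v⁻¹ := by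
      intro k
      have e1 : ∀ h : H, φ ((k : F) * (h : F) * (k : F)⁻¹) v = φ k (φ h (φ (k : F)⁻¹ v)) := by
        intro h; rw [hφmul, hφmul]
      have e2 : ∏ h : H, φ ((k : F) * (h : F) * (k : F)⁻¹) v = 1 := by
        simp_rw [e1]
        rw [← hφprod, hPH]
        exact map_one (φh k)
      rw [Fintype.prod_eq_mul_prod_compl (1 : H)] at e2
      simp only [Subgroup.coe_one, mul_one, mul_inv_cancel] at e2
      rw [hφone v] at e2
      have e4 : ∏ h ∈ ({1}ᶜ : Finset H), φ ((k : F) * (h : F) * (k : F)⁻¹) v =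
          ∏ h : {h : H // h ≠ 1}, φ ((k : F) * ((h : H) : F) * (k : F)⁻¹) v :=
        Finset.prod_subtype _ (by simp) _
      rw [e4] at e2
      exact eq_inv_of_mul_eq_one_right e2
    simp_rw [h3] at h1
    rw [Finset.prod_const, Finset.card_univ] at h1
    exact h1
  -- conclude V = ⊥
  apply hV1
  rw [eq_bot_iff]
  intro v hv
  rw [Subgroup.mem_bot]
  have h1 : (⟨v, hv⟩ : V) ^ (Fintype.card K) = 1 := by
    have := hpow ⟨v, hv⟩
    rwa [inv_pow, inv_eq_one] at this
  have h2 : (⟨v, hv⟩ : V) ^ (Nat.card V) = 1 := pow_card_eq_one'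
  have hcardK : Fintype.card K = Nat.card (Cfsg.frobeniusKernel H) := by
    rw [← Nat.card_eq_fintype_card, ← hK]; rfl
  have h3 : orderOf (⟨v, hv⟩ : V) ∣ Nat.gcd (Nat.card V) (Nat.card (Cfsg.frobeniusKernel H)) :=
    Nat.dvd_gcd (orderOf_dvd_of_pow_eq_one h2) (hcardK ▸ orderOf_dvd_of_pow_eq_one h1)
  rw [hcop.gcd_eq_one, Nat.dvd_one, orderOf_eq_one_iff] at h3
  exact congrArg Subtype.val h3

end Cfsg.Agent.CharLib
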