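/-
lead: S4729 — a perfect group with a faithful irreducible character of degree `< 2p` in the
principal `p`-block has `C_G(P)` a `p`-group.  Elementary argument via central characters,
a Fourier sum over a cyclic `p'`-subgroup of `C_G(P)`, and the determinant.
-/
import Mathlib
import Cfsg.Prelude.Def_Blocks
import Cfsg.Agent.Lib.Helper24.LocalRing
import Cfsg.Agent.Lib.Helper24.CentralChar
import Cfsg.Agent.Lib.Lead.CharBasic
import Cfsg.Agent.Lib.Helper19.IPSmallA

set_option autoImplicit false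

namespace Cfsg.Agent.Lib.Lead.SmallFaith

open Cfsg Cfsg.Agent.Lib.Helper24 Cfsg.Agent.CharLib
open Module

universe u

/-- geometric sum of an `r`-th root of unity -/
theorem geom_sum_root (ζ : ℂ) (r : ℕ) (hζ : ζ ^ r = 1) :
    ∑ k ∈ Finset.range r, ζ ^ k = if ζ = 1 then (r : ℂ) else 0 := by
  split_ifs with h
  · subst h; simp
  · rw [geom_sum_eq h, hζ, sub_self, zero_div]

open Classical in
/-- Fourier coefficient: multiplicity of an eigenvalue -/
theorem fourier_mult {ι : Type*} [Fintype ι] (μ : ι → ℂ) (r : ℕ) (hr : 0 < r)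
    (hμ : ∀ i, μ i ^ r = 1) (j : ι) :
    ∑ k ∈ Finset.range r, (μ j ^ (r - 1)) ^ k * ∑ i, μ i ^ k =
      (r : ℂ) * ((Finset.univ.filter (fun i => μ i = μ j)).card : ℂ) := by
  set ω := μ j ^ (r - 1) with hω
  have hωj : ω * μ j = 1 := by
    rw [hω, ← pow_succ, Nat.sub_add_cancel hr, hμ j]
  have hω0 : ω ≠ 0 := left_ne_zero_of_mul_eq_one hωj
  have h1 : ∀ i, (ω * μ i) ^ r = 1 := by
    intro i
    rw [mul_pow, hμ i, mul_one, hω, ← pow_mul, mul_comm, pow_mul, hμ j, one_pow]
  calc ∑ k ∈ Finset.range r, ω ^ k * ∑ i, μ i ^ k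
      = ∑ i, ∑ k ∈ Finset.range r, (ω * μ i) ^ k := by
        rw [Finset.sum_comm]
        apply Finset.sum_congr rfl
        intro k _
        rw [Finset.mul_sum]
        apply Finset.sum_congr rfl
        intro i _
        rw [mul_pow]
    _ = ∑ i, (if μ i = μ j then (r : ℂ) else 0) := by
        apply Finset.sum_congr rfl
        intro i _
        rw [geom_sum_root _ r (h1 i)]
        have : (ω * μ i = 1) ↔ (μ i = μ j) := by
          constructor
          · intro h
            have : ω * μ i = ω * μ j := by rw [h, hωj]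
            exact mul_left_cancel₀ hω0 this
          · intro h; rw [h, hωj]
        simp only [this]
    _ = (r : ℂ) * ((Finset.univ.filter (fun i => μ i = μ j)).card : ℂ) := by
        rw [← Finset.sum_filter, Finset.sum_const, nsmul_eq_mul, mul_comm]

theorem dvd_of_memLocalIdeal_natCast {M : Ideal AlgInt} {p : ℕ} (hM : IsPModular p M) {k : ℕ}
    (h : MemLocalIdeal M (k : ℂ)) : p ∣ k := by
  have : M.IsPrime := isPrime_of_isPModular hM
  by_contra hk
  have h1 := natCast_not_mem_of_not_dvd hM hk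
  apply h1
  rw [← memLocalIdeal_coe_iff]
  simpa using h

theorem memLocalRing_of_isIntegral {M : Ideal AlgInt} [hp : M.IsPrime] {z : ℂ}
    (hz : IsIntegral ℤ z) : MemLocalRing M z :=
  memLocalRing_of_algInt (⟨z, hz⟩ : AlgInt) hp.one_notMem

theorem memLocalRing_inv_natCast {M : Ideal AlgInt} {p : ℕ} (hM : IsPModular p M) {k : ℕ}
    (hk : ¬ p ∣ k) : MemLocalRing M ((k : ℂ)⁻¹) := by
  refine ⟨1, (k : AlgInt), natCast_not_mem_of_not_dvd hM hk, ?_⟩
  simp

/-- For `g ∈ C_G(P)` and `χ` in the principal block, `χ(g) ≡ χ(1)` modulo the local ideal. -/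
theorem memLocalIdeal_degree_sub_apply {G : Type u} [Group G] [Finite G] {p : ℕ} [Fact p.Prime]
    {M : Ideal AlgInt} (hM : IsPModular p M) (P : Sylow p G) (χ : IrrCharacter G)
    (hχ : χ ∈ principalBlock M G) (n : ℕ) (hn : (χ : G → ℂ) 1 = n) (hn0 : n ≠ 0) (g : G)
    (hg : g ∈ Subgroup.centralizer ((P : Subgroup G) : Set G)) :
    MemLocalIdeal M ((n : ℂ) - (χ : G → ℂ) g) := by
  have : M.IsPrime := isPrime_of_isPModular hM
  have h1 : MemLocalIdeal M (centralChar (fun _ : G => (1:ℂ)) g - centralChar (χ : G → ℂ) g) :=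
    hχ g
  unfold centralChar at h1
  rw [hn] at h1
  have hPC : (P : Subgroup G) ≤ Subgroup.centralizer ({g} : Set G) := by
    intro x hx
    rw [Subgroup.mem_centralizer_iff]
    intro h hh
    rw [Set.mem_singleton_iff] at hh
    subst hh
    exact ((Subgroup.mem_centralizer_iff.mp hg) x hx).symm
  have h2 : (Subgroup.centralizer ({g} : Set G)).index ∣ (P : Subgroup G).index :=
    Subgroup.index_dvd_of_le hPC
  have h3 : ¬ p ∣ (Subgroup.centralizer ({g} : Set G)).index :=
    fun h => P.not_dvd_index (dvd_trans h h2)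
  set c := (Subgroup.centralizer ({g} : Set G)).index with hc
  have hc0 : (c : ℂ) ≠ 0 := by
    have : c ≠ 0 := fun h0 => h3 (h0 ▸ dvd_zero p)
    exact_mod_cast this
  have hnC : (n : ℂ) ≠ 0 := by exact_mod_cast hn0
  have hR : MemLocalRing M ((n : ℂ) * (c : ℂ)⁻¹) :=
    memLocalRing_mul (memLocalRing_of_isIntegral (isIntegral_algebraMap (R := ℤ) (x := (n : ℤ)) |> fun h => by simpa using h))
      (memLocalRing_inv_natCast hM h3)
  have := memLocalIdeal_mul_left hR h1
  convert this using 1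
  field_simp

open Classical in
theorem dvd_mult_of_congr {M : Ideal AlgInt} {p : ℕ} (hM : IsPModular p M) {ι : Type*} [Fintype ι]
    (μ : ι → ℂ) (r : ℕ) (hr : 0 < r) (hμ : ∀ i, μ i ^ r = 1) (n : ℕ)
    (hcong : ∀ k : ℕ, MemLocalIdeal M ((n : ℂ) - ∑ i, μ i ^ k)) (j : ι) (hj : μ j ≠ 1) :
    p ∣ r * (Finset.univ.filter (fun i => μ i = μ j)).card := by
  have : M.IsPrime := isPrime_of_isPModular hM
  set ω := μ j ^ (r - 1) with hω
  have hωj : ω * μ j = 1 := by
    rw [hω, ← pow_succ, Nat.sub_add_cancel hr, hμ j]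
  have hωr : ω ^ r = 1 := by
    rw [hω, ← pow_mul, mul_comm, pow_mul, hμ j, one_pow]
  have hω1 : ω ≠ 1 := by
    intro h
    rw [h, one_mul] at hωj
    exact hj hωj
  have hint : ∀ k, IsIntegral ℤ (ω ^ k) := fun k =>
    (IsIntegral.of_pow hr (by rw [hωr]; exact isIntegral_one)).pow k
  have h1 : MemLocalIdeal M (∑ k ∈ Finset.range r, ω ^ k * ((n : ℂ) - ∑ i, μ i ^ k)) :=
    sum_memLocalIdeal _ _ (fun k _ =>
      memLocalIdeal_mul_left (memLocalRing_of_isIntegral (hint k)) (hcong k))
  have h2 : ∑ k ∈ Finset.range r, ω ^ k * ((n : ℂ) - ∑ i, μ i ^ k) =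
      - ((r * (Finset.univ.filter (fun i => μ i = μ j)).card : ℕ) : ℂ) := by
    simp only [mul_sub]
    rw [Finset.sum_sub_distrib, ← Finset.sum_mul, geom_sum_root ω r hωr, if_neg hω1, zero_mul,
      zero_sub, fourier_mult μ r hr hμ j]
    push_cast
    ring
  rw [h2] at h1
  have h3 := memLocalIdeal_neg h1
  rw [neg_neg] at h3
  exact dvd_of_memLocalIdeal_natCast hM h3

open Classical in
theorem eigen_structure {ι : Type*} [Fintype ι] (μ : ι → ℂ) (p : ℕ)
    (hcard : Fintype.card ι < 2 * p)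
    (hdiv : ∀ j, μ j ≠ 1 → p ∣ (Finset.univ.filter (fun i => μ i = μ j)).card) :
    (∀ i, μ i = 1) ∨ ∃ ξ : ℂ, ξ ≠ 1 ∧ (Finset.univ.filter (fun i => μ i ≠ 1)).card = p ∧
      ∀ i, μ i ≠ 1 → μ i = ξ := by
  by_cases hall : ∀ i, μ i = 1
  · left; exact hall
  right
  push Not at hall
  obtain ⟨j, hj⟩ := hall
  have hge : ∀ i, μ i ≠ 1 → p ≤ (Finset.univ.filter (fun i' => μ i' = μ i)).card := by
    intro i hi
    apply Nat.le_of_dvd
    · exact Finset.card_pos.mpr ⟨i, by simp⟩
    · exact hdiv i hi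
  have hsame : ∀ i, μ i ≠ 1 → μ i = μ j := by
    intro i hi
    by_contra hne
    have hdisj : Disjoint (Finset.univ.filter (fun i' => μ i' = μ i))
        (Finset.univ.filter (fun i' => μ i' = μ j)) := by
      rw [Finset.disjoint_filter]
      intro x _ h1 h2
      exact hne (h1.symm.trans h2)
    have := Finset.card_le_univ ((Finset.univ.filter (fun i' => μ i' = μ i)) ∪
      (Finset.univ.filter (fun i' => μ i' = μ j)))
    rw [Finset.card_union_of_disjoint hdisj] at this
    have h1 := hge i hi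
    have h2 := hge j hj
    omega
  refine ⟨μ j, hj, ?_, hsame⟩
  have heq : Finset.univ.filter (fun i => μ i ≠ 1) = Finset.univ.filter (fun i => μ i = μ j) := by
    ext i
    simp only [Finset.mem_filter, Finset.mem_univ, true_and]
    constructor
    · exact hsame i
    · intro h; rw [h]; exact hj
  rw [heq]
  have h1 := hge j hj
  have h2 := hdiv j hj
  have h3 := Finset.card_le_univ (Finset.univ.filter (fun i => μ i = μ j))
  obtain ⟨t, ht⟩ := h2
  have : t = 1 := by
    rcases t with _ | _ | t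
    · rw [Nat.mul_zero] at ht; omega
    · rfl
    · exfalso; nlinarith
  rw [ht, this, mul_one]

open Classical in
theorem prod_eq_pow_of_structure {ι : Type*} [Fintype ι] (μ : ι → ℂ) (ξ : ℂ) (p : ℕ)
    (hcard : (Finset.univ.filter (fun i => μ i ≠ 1)).card = p) (h : ∀ i, μ i ≠ 1 → μ i = ξ) :
    ∏ i, μ i = ξ ^ p := by
  have : ∀ i, μ i = if μ i ≠ 1 then ξ else 1 := by
    intro i
    split_ifs with hi
    · exact h i hi
    · push Not at hi; exact hi
  rw [Finset.prod_congr rfl (fun i _ => this i), Finset.prod_ite, Finset.prod_const,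
    Finset.prod_const_one, mul_one]
  rw [hcard]

theorem det_eq_one_of_perfect {G : Type u} [Group G] (hperf : commutator G = ⊤) {V : Type*}
    [AddCommGroup V] [Module ℂ V] (ρ : Representation ℂ G V) (g : G) :
    LinearMap.det (ρ g) = 1 := by
  let f : G →* ℂ := (LinearMap.det : (V →ₗ[ℂ] V) →* ℂ).comp ρ
  have hle : commutator G ≤ f.ker := by
    rw [commutator_def, Subgroup.commutator_le]
    intro a _ b _
    rw [MonoidHom.mem_ker, commutatorElement_def, map_mul, map_mul, map_mul]
    have h1 : f a * f a⁻¹ = 1 := by rw [← map_mul, mul_inv_cancel, map_one]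
    have h2 : f b * f b⁻¹ = 1 := by rw [← map_mul, mul_inv_cancel, map_one]
    calc f a * f b * f a⁻¹ * f b⁻¹ = (f a * f a⁻¹) * (f b * f b⁻¹) := by ring
      _ = 1 := by rw [h1, h2, one_mul]
  have : g ∈ f.ker := hle (hperf ▸ Subgroup.mem_top g)
  exact MonoidHom.mem_ker.mp this

theorem pow_apply_of_eigen {V : Type*} [AddCommGroup V] [Module ℂ V] (f : End ℂ V) (v : V) (c : ℂ)
    (h : f v = c • v) (k : ℕ) : (f ^ k) v = c ^ k • v := by
  induction k with
  | zero => simp
  | succ k ih =>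
    rw [pow_succ, Module.End.mul_apply, h, map_smul, ih, smul_smul, pow_succ, mul_comm]

end Cfsg.Agent.Lib.Lead.SmallFaith
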