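import Mathlib

/-!
# A `p`-group whose characteristic abelian subgroups are cyclic and whose centre has order the exponent has class ≤ 2
(lead; pure group theory, used for `c6_pow` of the SLnMax market)
-/

set_option autoImplicit false

namespace Cfsg.Agent.Lib.Lead.SLMClassTwo

open Subgroup

variable {G : Type*} [Group G]

/-- a nontrivial normal subgroup of a finite `p`-group meets the centre nontrivially -/
theorem exists_mem_center_of_normal [Finite G] {p : ℕ} [hp : Fact p.Prime] (hG : IsPGroup p G)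
    (N : Subgroup G) [hN : N.Normal] (hne : N ≠ ⊥) : ∃ x ∈ N, x ∈ center G ∧ x ≠ 1 := by
  classical
  haveI : Fintype G := Fintype.ofFinite G
  -- the conjugation action of `G` on `N`
  let φ : G →* MulAut N := MulAut.conjNormal
  letI : MulAction G N := MulAction.compHom N φ
  have hsmul : ∀ (g : G) (x : N), ((g • x : N) : G) = g * x * g⁻¹ := fun g x => rfl
  have hNp : IsPGroup p N := hG.to_subgroup N
  have hdvd : p ∣ Nat.card N := by
    have hnt : Nontrivial N := (Subgroup.nontrivial_iff_ne_bot N).mpr hne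
    obtain ⟨k, hk⟩ := IsPGroup.iff_card.mp hNp
    have hk0 : k ≠ 0 := by
      rintro rfl
      rw [pow_zero] at hk
      have := Finite.one_lt_card (α := N)
      omega
    rw [hk]
    exact dvd_pow_self p hk0
  have h1 : (1 : N) ∈ MulAction.fixedPoints G N := by
    intro g
    apply Subtype.ext
    rw [hsmul]
    simp
  obtain ⟨b, hb, hb1⟩ := hG.exists_fixed_point_of_prime_dvd_card_of_fixed_point N hdvd h1
  refine ⟨b, b.2, ?_, ?_⟩
  · rw [Subgroup.mem_center_iff]
    intro g
    have := congrArg Subtype.val (hb g)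
    rw [hsmul] at this
    calc g * (b : G) = g * b * g⁻¹ * g := by group
      _ = b * g := by rw [this]
  · intro h
    apply hb1
    apply Subtype.ext
    simpa using h.symm

/-- class at most two -/
theorem comm_mem_center [Finite G] {r : ℕ} (hr : r.Prime) (hG : IsPGroup r G)
    (hchar : ∀ A : Subgroup G, A.Characteristic → IsMulCommutative A → IsCyclic A)
    (hZ : Nat.card (center G) = Monoid.exponent G) : ∀ x y : G, x * y * x⁻¹ * y⁻¹ ∈ center G := by
  classical
  haveI : Fact r.Prime := ⟨hr⟩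
  let D : Subgroup G := ⁅(⊤ : Subgroup G), (⊤ : Subgroup G)⁆
  haveI hDc : D.Characteristic := by
    show (⁅(⊤ : Subgroup G), (⊤ : Subgroup G)⁆).Characteristic
    infer_instance
  let P : Subgroup G := D ⊔ center G
  haveI hPc : P.Characteristic := by
    show (D ⊔ center G).Characteristic
    infer_instance
  let C : Subgroup G := P ⊓ centralizer (P : Set G)
  haveI hCc : C.Characteristic := by
    show (P ⊓ centralizer (P : Set G)).Characteristic
    infer_instance
  have hmemC : ∀ x : G, x ∈ C ↔ x ∈ P ∧ ∀ y ∈ P, y * x = x * y := by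
    intro x
    show x ∈ P ⊓ centralizer (P : Set G) ↔ _
    rw [mem_inf, mem_centralizer_iff]
    rfl
  have hCcomm : IsMulCommutative C := by
    refine ⟨⟨fun a b => ?_⟩⟩
    apply Subtype.ext
    have ha := (hmemC a).mp a.2
    have hb := (hmemC b).mp b.2
    have := ha.2 b hb.1
    simpa using this.symm
  have hZC : center G ≤ C := by
    intro z hz
    rw [hmemC]
    refine ⟨le_sup_right (a := D) hz, ?_⟩
    intro y _
    exact (mem_center_iff.mp hz y)
  have hCcyc : IsCyclic C := hchar C hCc hCcomm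
  have hCZ : C = center G := by
    have hcard : Nat.card C ≤ Nat.card (center G) := by
      rw [hZ]
      haveI := hCcyc
      have h1 : Monoid.exponent C = Nat.card C := IsCyclic.exponent_eq_card
      rw [← h1]
      apply Nat.le_of_dvd
      · exact Monoid.exponent_pos_of_exists (Nat.card G) Nat.card_pos (fun g => pow_card_eq_one')
      · exact Monoid.exponent_dvd_of_monoidHom C.subtype C.subtype_injective
    exact (Subgroup.eq_of_le_of_card_ge hZC hcard).symm
  -- `P ≤ Z`
  have hPZ : P ≤ center G := by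
    by_contra hnot
    let π := QuotientGroup.mk' (center G)
    let Pb : Subgroup (G ⧸ center G) := P.map π
    haveI : Pb.Normal := Subgroup.Normal.map inferInstance π (QuotientGroup.mk'_surjective _)
    have hPbne : Pb ≠ ⊥ := by
      intro h
      apply hnot
      intro x hx
      have : π x ∈ Pb := Subgroup.mem_map_of_mem π hx
      rw [h, Subgroup.mem_bot] at this
      have h2 : x ∈ π.ker := this
      rwa [QuotientGroup.ker_mk'] at h2
    obtain ⟨bb, hbb, hbbc, hbb1⟩ := exists_mem_center_of_normal (hG.to_quotient (center G)) Pb hPbne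
    obtain ⟨b, hbP, rfl⟩ := hbb
    have hbZ : b ∉ center G := by
      intro h
      apply hbb1
      have : b ∈ π.ker := by rwa [QuotientGroup.ker_mk']
      exact this
    have hcomm : ∀ g : G, g * b * g⁻¹ * b⁻¹ ∈ center G := by
      intro g
      have h1 := (Subgroup.mem_center_iff.mp hbbc) (π g)
      have : π (g * b * g⁻¹ * b⁻¹) = 1 := by
        rw [map_mul, map_mul, map_mul, map_inv, map_inv, h1]
        group
      have h2 : g * b * g⁻¹ * b⁻¹ ∈ π.ker := this
      rwa [QuotientGroup.ker_mk'] at h2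
    -- the centraliser of `b` is normal with abelian quotient: it contains all commutators
    have hK : D ≤ centralizer ({b} : Set G) := by
      show ⁅(⊤ : Subgroup G), (⊤ : Subgroup G)⁆ ≤ _
      rw [Subgroup.commutator_le]
      intro x _ y _
      rw [mem_centralizer_iff]
      intro c hc
      rw [Set.mem_singleton_iff] at hc
      subst hc
      rw [commutatorElement_def]
      have hx := hcomm x
      have hy := hcomm y
      -- `x c = zx c x`, etc.
      obtain ⟨zx, hzx, ex⟩ : ∃ z ∈ center G, x * c = z * c * x := ⟨_, hx, by group⟩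
      obtain ⟨zy, hzy, ey⟩ : ∃ z ∈ center G, y * c = z * c * y := ⟨_, hy, by group⟩
      have czx : ∀ g : G, g * zx = zx * g := fun g => Subgroup.mem_center_iff.mp hzx g
      have czy : ∀ g : G, g * zy = zy * g := fun g => Subgroup.mem_center_iff.mp hzy g
      have czxi : ∀ g : G, g * zx⁻¹ = zx⁻¹ * g :=
        fun g => Subgroup.mem_center_iff.mp ((center G).inv_mem hzx) g
      have czyi : ∀ g : G, g * zy⁻¹ = zy⁻¹ * g :=
        fun g => Subgroup.mem_center_iff.mp ((center G).inv_mem hzy) g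
      have exi : x⁻¹ * c = zx⁻¹ * c * x⁻¹ := by
        have h3 : c * x = zx⁻¹ * (x * c) := by rw [ex]; group
        calc x⁻¹ * c = x⁻¹ * (c * x) * x⁻¹ := by group
          _ = x⁻¹ * (zx⁻¹ * (x * c)) * x⁻¹ := by rw [h3]
          _ = (x⁻¹ * zx⁻¹) * x * c * x⁻¹ := by group
          _ = (zx⁻¹ * x⁻¹) * x * c * x⁻¹ := by rw [czxi]
          _ = zx⁻¹ * c * x⁻¹ := by group
      have eyi : y⁻¹ * c = zy⁻¹ * c * y⁻¹ := by
        have h3 : c * y = zy⁻¹ * (y * c) := by rw [ey]; group
        calc y⁻¹ * c = y⁻¹ * (c * y) * y⁻¹ := by group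
          _ = y⁻¹ * (zy⁻¹ * (y * c)) * y⁻¹ := by rw [h3]
          _ = (y⁻¹ * zy⁻¹) * y * c * y⁻¹ := by group
          _ = (zy⁻¹ * y⁻¹) * y * c * y⁻¹ := by rw [czyi]
          _ = zy⁻¹ * c * y⁻¹ := by group
      symm
      calc x * y * x⁻¹ * y⁻¹ * c = x * y * x⁻¹ * (y⁻¹ * c) := by group
        _ = x * y * x⁻¹ * (zy⁻¹ * c * y⁻¹) := by rw [eyi]
        _ = (x * y * x⁻¹ * zy⁻¹) * c * y⁻¹ := by group
        _ = (zy⁻¹ * (x * y * x⁻¹)) * c * y⁻¹ := by rw [czyi]
        _ = zy⁻¹ * (x * y * (x⁻¹ * c) * y⁻¹) := by group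
        _ = zy⁻¹ * (x * y * (zx⁻¹ * c * x⁻¹) * y⁻¹) := by rw [exi]
        _ = zy⁻¹ * ((x * y * zx⁻¹) * c * x⁻¹ * y⁻¹) := by group
        _ = zy⁻¹ * ((zx⁻¹ * (x * y)) * c * x⁻¹ * y⁻¹) := by rw [czxi]
        _ = zy⁻¹ * zx⁻¹ * (x * (y * c) * x⁻¹ * y⁻¹) := by group
        _ = zy⁻¹ * zx⁻¹ * (x * (zy * c * y) * x⁻¹ * y⁻¹) := by rw [ey]
        _ = zy⁻¹ * zx⁻¹ * ((x * zy) * c * y * x⁻¹ * y⁻¹) := by group
        _ = zy⁻¹ * zx⁻¹ * ((zy * x) * c * y * x⁻¹ * y⁻¹) := by rw [czy]
        _ = zy⁻¹ * zx⁻¹ * zy * ((x * c) * y * x⁻¹ * y⁻¹) := by group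
        _ = zy⁻¹ * zx⁻¹ * zy * ((zx * c * x) * y * x⁻¹ * y⁻¹) := by rw [ex]
        _ = (zy⁻¹ * (zx⁻¹ * zy) * zx) * (c * (x * y * x⁻¹ * y⁻¹)) := by group
        _ = (zy⁻¹ * (zy * zx⁻¹) * zx) * (c * (x * y * x⁻¹ * y⁻¹)) := by rw [czy zx⁻¹]
        _ = c * (x * y * x⁻¹ * y⁻¹) := by group
    have hPK : P ≤ centralizer ({b} : Set G) := by
      refine sup_le hK ?_
      intro z hz
      rw [mem_centralizer_iff]
      intro c hc
      rw [Set.mem_singleton_iff] at hc
      subst hc
      exact (mem_center_iff.mp hz c)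
    have hbC : b ∈ C := by
      rw [hmemC]
      refine ⟨hbP, ?_⟩
      intro y hy
      exact mem_centralizer_iff.mp (hPK hy) b (Set.mem_singleton b) |>.symm
    rw [hCZ] at hbC
    exact hbZ hbC
  intro x y
  apply hPZ
  apply le_sup_left (a := D) (b := center G)
  have := Subgroup.commutator_mem_commutator (mem_top x) (mem_top y)
  rwa [commutatorElement_def] at this

end Cfsg.Agent.Lib.Lead.SLMClassTwo
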