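import Mathlib
import Cfsg.Agent.Lib.Helper17.SLMDefs
import Cfsg.Agent.Lib.Helper20.AschDefs
import Cfsg.Agent.Lib.Helper12.AschBurnside
import Cfsg.Agent.Lib.Helper15.AschA7B
import Cfsg.Agent.Lib.Helper27.AschA7L2
import Cfsg.Agent.Lib.Lead.SLMClassTwo

/-!
# SLnMax leaf N3 `c6_pow` (lead): the degree of a class-6 symplectic-type group is a power of `r`
-/

set_option autoImplicit false
set_option linter.unusedSectionVars false
set_option linter.unusedVariables false
set_option linter.style.haveILetI false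

namespace Cfsg.Agent.Lib.Lead.SLMLeaf

open Cfsg.Geo Matrix Module Cfsg.Agent.Lib.Helper17.SLM Cfsg.Agent.Lib.Helper20.Asch

variable {n : ℕ} {F : Type*} [Field F] [Fintype F]

/-- `n * n = r ^ (2 m)` gives `n = r ^ m` -/
theorem eq_pow_of_sq {n r m : ℕ} (h : n * n = r ^ (2 * m)) : n = r ^ m := by
  have h1 : n ^ 2 = (r ^ m) ^ 2 := by
    rw [sq, h, ← pow_mul, mul_comm]
  exact Nat.pow_left_injective (by norm_num : 2 ≠ 0) h1

/-- the commutator subgroup of a symplectic-type group with `|Z| = exponent` is scalar, and `|R| = n² |Z(R)|` -/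
theorem card_of_data (hn : 3 ≤ n) {r : ℕ} {R : Subgroup (GL (Fin n) F)} (hR : IsLinearSymplecticTypeData r R)
    (hZ : Nat.card (Subgroup.center R) = Monoid.exponent R) :
    Nat.card R = n * n * Nat.card (Subgroup.center R) := by
  have habs : AbsIrr R := hR.absIrred
  have hcl := Cfsg.Agent.Lib.Lead.SLMClassTwo.comm_mem_center hR.symplecticType.prime hR.symplecticType.pGroup
    hR.symplecticType.cyclic_of_characteristic hZ
  have hcomm : ⁅R, R⁆ ≤ scalars (Fin n) F := by
    rw [Subgroup.commutator_le]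
    intro x hx y hy
    have h1 := hcl ⟨x, hx⟩ ⟨y, hy⟩
    have h2 := (Cfsg.Agent.Lib.Helper15.AschA7Leaf.mem_center_iff_scalar habs _).mp h1
    rw [commutatorElement_def]
    exact h2
  exact Cfsg.Agent.Lib.Helper27.AschA7Leaf.card_eq_sq_mul (by omega) habs
    (Cfsg.Agent.Lib.Helper12.AschLeaf.burnside habs) hcomm

/-- N3. -/
theorem c6_pow (hn : 3 ≤ n) {r : ℕ} {R : Subgroup (GL (Fin n) F)} (hR : IsLinearSymplecticTypeData r R) :
    ∃ k : ℕ, n = r ^ k := by
  obtain ⟨p, e, hrp, hmin, hcase⟩ := hR.field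
  have hexp := hR.symplecticType.exponent_eq
  rcases hcase with ⟨hodd, -, hcen, m, -, hcard⟩ | ⟨rfl, -, hcen, -, m, hcard⟩ | ⟨-, -, h2, -⟩
  · -- `r` odd
    have hg : Nat.gcd 2 r = 1 := Nat.coprime_two_left.mpr hodd
    have hZ : Nat.card (Subgroup.center R) = Monoid.exponent R := by
      rw [hexp, hg, mul_one, hcen]
    have h := card_of_data hn hR hZ
    rw [hcard, hcen] at h
    refine ⟨m, eq_pow_of_sq ?_⟩
    have hr0 : 0 < r := hR.symplecticType.prime.pos
    have : r ^ (1 + 2 * m) = r ^ (2 * m) * r := by rw [add_comm, pow_succ]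
    rw [this] at h
    exact (Nat.eq_of_mul_eq_mul_right hr0 h).symm
  · -- `r = 2`, centre of order 4
    have hZ : Nat.card (Subgroup.center R) = Monoid.exponent R := by
      rw [hexp, hcen]; rfl
    have h := card_of_data hn hR hZ
    rw [hcard, hcen] at h
    refine ⟨m, eq_pow_of_sq ?_⟩
    have : 2 ^ (2 + 2 * m) = 2 ^ (2 * m) * 4 := by rw [add_comm, pow_add]; norm_num
    rw [this] at h
    exact (Nat.eq_of_mul_eq_mul_right (by norm_num) h).symm
  · -- `|ι| = 2`
    exfalso
    rw [Fintype.card_fin] at h2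
    omega

end Cfsg.Agent.Lib.Lead.SLMLeaf
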