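import Mathlib
import Cfsg.Agent.Lib.Helper17.SLMDefs
import Cfsg.Agent.Lib.Helper4.AschA4

/-!
SLnMax stage 2, leaf Q6 `field_three_four` (lead): `q = 4`, `K` a field subalgebra of degree `3` of `M_3(F)`:
`N(K) ⊓ SL_3(4)` lies in a subfield group `P (GL_3(2) · Z) P⁻¹`.

Route: `K` is a field with 64 elements; `s ∈ K` of order seven with `s³ = s + 1`; `1, s, s²` are independent over `F`
(Frobenius `x ↦ x⁴`), so `v, s v, s² v` is a basis (matrix `P`); for `g` in the normaliser `g s g⁻¹ = s ^ m`,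
`g v = k v` with `k ∈ K`, and `g P = k P T` with `T` over the prime field, hence `det k = 1`; the determinant
`Kˣ → Fˣ` is onto (`det (ω + s) = ω`), so `k²¹ = 1`, `k = c s ^ l`, and `P⁻¹ g P = c U` with `U` over the prime field.
-/

set_option autoImplicit false
set_option linter.unusedSectionVars false
set_option linter.style.haveILetI false

namespace Cfsg.Agent.Lib.Lead.SLMQ6

section field4
variable {F : Type*} [Field F] [Fintype F]

theorem two_eq_zero_of_card (hq : Fintype.card F = 4) : (2 : F) = 0 := by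
  have h4 : ((Fintype.card F : ℕ) : F) = 0 := Nat.cast_card_eq_zero F
  rw [hq] at h4
  have : (2 : F) * 2 = 0 := by
    have : ((4 : ℕ) : F) = 2 * 2 := by norm_num
    rw [← this]; exact h4
  exact mul_self_eq_zero.mp this

theorem pow_four_of_card (hq : Fintype.card F = 4) (x : F) : x ^ 4 = x := by
  have := FiniteField.pow_card x
  rwa [hq] at this

/-- the prime subfield `{0, 1}` -/
def F0 (h2 : (2 : F) = 0) : Subfield F where
  carrier := {x | x ^ 2 = x}
  mul_mem' := by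
    intro a b ha hb
    simp only [Set.mem_setOf_eq] at *
    rw [mul_pow, ha, hb]
  one_mem' := by simp
  add_mem' := by
    intro a b ha hb
    simp only [Set.mem_setOf_eq] at *
    have : (a + b) ^ 2 = a ^ 2 + b ^ 2 + 2 * (a * b) := by ring
    rw [this, ha, hb, h2]; ring
  zero_mem' := by simp
  neg_mem' := by
    intro a ha
    simp only [Set.mem_setOf_eq] at *
    rw [neg_sq, ha]
    have : a + a = 0 := by
      have : a + a = 2 * a := by ring
      rw [this, h2, zero_mul]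
    exact eq_neg_of_add_eq_zero_left this
  inv_mem' := by
    intro a ha
    simp only [Set.mem_setOf_eq] at *
    rw [inv_pow, ha]

theorem mem_F0_iff (h2 : (2 : F) = 0) (x : F) : x ∈ F0 h2 ↔ x = 0 ∨ x = 1 := by
  show x ^ 2 = x ↔ _
  constructor
  · intro h
    have : x * (x - 1) = 0 := by linear_combination h
    rcases mul_eq_zero.mp this with h | h
    · exact Or.inl h
    · exact Or.inr (sub_eq_zero.mp h)
  · rintro (rfl | rfl) <;> simp

theorem card_F0 (h2 : (2 : F) = 0) : Nat.card (F0 h2) = 2 := by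
  rw [Nat.card_eq_two_iff]
  refine ⟨⟨0, (F0 h2).zero_mem⟩, ⟨1, (F0 h2).one_mem⟩, ?_, ?_⟩
  · intro h
    exact zero_ne_one (congrArg Subtype.val h)
  · ext x
    simp only [Set.mem_insert_iff, Set.mem_singleton_iff, Set.mem_univ, iff_true]
    rcases (mem_F0_iff h2 x.1).mp x.2 with h | h
    · exact Or.inl (Subtype.ext h)
    · exact Or.inr (Subtype.ext h)

theorem exists_omega (hq : Fintype.card F = 4) : ∃ ω : F, ω ^ 2 + ω + 1 = 0 ∧ ω ^ 3 = 1 ∧ ω ≠ 1 := by
  have hcard : 2 < Fintype.card F := by rw [hq]; norm_num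
  obtain ⟨ω, h0, h1⟩ : ∃ ω : F, ω ≠ 0 ∧ ω ≠ 1 := by
    by_contra hcon
    push Not at hcon
    have : Fintype.card F ≤ 2 := by
      classical
      have hsub : (Finset.univ : Finset F) ⊆ {0, 1} := by
        intro x _
        by_cases hx : x = 0
        · simp [hx]
        · simp [hcon x hx]
      calc Fintype.card F = (Finset.univ : Finset F).card := rfl
        _ ≤ ({0, 1} : Finset F).card := Finset.card_le_card hsub
        _ ≤ 2 := Finset.card_le_two
    omega
  have h4 := pow_four_of_card hq ω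
  have h3 : ω ^ 3 = 1 := by
    have : ω * (ω ^ 3 - 1) = 0 := by linear_combination h4
    rcases mul_eq_zero.mp this with h | h
    · exact absurd h h0
    · exact sub_eq_zero.mp h
  refine ⟨ω, ?_, h3, h1⟩
  have : (ω - 1) * (ω ^ 2 + ω + 1) = 0 := by linear_combination h3
  rcases mul_eq_zero.mp this with h | h
  · exact absurd (sub_eq_zero.mp h) h1
  · exact h

end field4

end Cfsg.Agent.Lib.Lead.SLMQ6

namespace Cfsg.Agent.Lib.Lead.SLMQ6

section fieldL
variable {F : Type*} [Field F] [Fintype F] {L : Type*} [Field L] [Fintype L] [Algebra F L]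

theorem two_eq_zero_L (hq : Fintype.card F = 4) : (2 : L) = 0 := by
  have h := congrArg (algebraMap F L) (two_eq_zero_of_card hq)
  rwa [map_ofNat, map_zero] at h

theorem frob4 (h2 : (2 : L) = 0) (x y : L) : (x + y) ^ 4 = x ^ 4 + y ^ 4 := by
  linear_combination (2 * x ^ 3 * y + 3 * x ^ 2 * y ^ 2 + 2 * x * y ^ 3) * h2

/-- (A) an element of order seven with minimal polynomial `X³ + X + 1` -/
theorem exists_s (h2 : (2 : L) = 0) (hL : Fintype.card L = 64) :
    ∃ s : L, s ^ 7 = 1 ∧ s ≠ 1 ∧ s ^ 3 = s + 1 := by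
  classical
  have hcard : Fintype.card Lˣ = 63 := by rw [Fintype.card_units, hL]
  haveI : Fact (Nat.Prime 7) := ⟨by norm_num⟩
  obtain ⟨u, hu⟩ := exists_prime_orderOf_dvd_card 7 (by rw [hcard]; norm_num : 7 ∣ Fintype.card Lˣ)
  have hu7 : (u : L) ^ 7 = 1 := by
    rw [← Units.val_pow_eq_pow_val, ← hu, pow_orderOf_eq_one]; rfl
  have hu1 : (u : L) ≠ 1 := by
    intro h
    have : u = 1 := Units.ext h
    rw [this, orderOf_one] at hu
    norm_num at hu
  obtain ⟨s₀, hs₀⟩ : ∃ s₀ : L, s₀ = (u : L) := ⟨_, rfl⟩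
  rw [← hs₀] at hu7 hu1
  have hsum : s₀ ^ 6 + s₀ ^ 5 + s₀ ^ 4 + s₀ ^ 3 + s₀ ^ 2 + s₀ + 1 = 0 := by
    have : (s₀ - 1) * (s₀ ^ 6 + s₀ ^ 5 + s₀ ^ 4 + s₀ ^ 3 + s₀ ^ 2 + s₀ + 1) = 0 := by
      linear_combination hu7
    rcases mul_eq_zero.mp this with h | h
    · exact absurd (sub_eq_zero.mp h) hu1
    · exact h
  have hprod : (s₀ ^ 3 + s₀ + 1) * (s₀ ^ 3 + s₀ ^ 2 + 1) = 0 := by
    linear_combination hsum + s₀ ^ 3 * h2
  rcases mul_eq_zero.mp hprod with h | h
  · exact ⟨s₀, hu7, hu1, by linear_combination h - (s₀ + 1) * h2⟩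
  · refine ⟨s₀ ^ 6, ?_, ?_, ?_⟩
    · rw [← pow_mul, show 6 * 7 = 7 * 6 from rfl, pow_mul, hu7, one_pow]
    · intro h6
      apply hu1
      have : s₀ ^ 7 = s₀ ^ 6 * s₀ := by ring
      rw [hu7, h6, one_mul] at this
      exact this.symm
    · linear_combination (s₀ ^ 4 * (s₀ ^ 7 + 1)) * hu7 - (s₀ ^ 3 - s₀ ^ 2 - 1) * h - (s₀ ^ 2 + 1) * h2

theorem orderOf_s {s : L} (h7 : s ^ 7 = 1) (h1 : s ≠ 1) : orderOf s = 7 := by
  haveI : Fact (Nat.Prime 7) := ⟨by norm_num⟩
  exact orderOf_eq_prime h7 h1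

theorem quad3 {A B C x y z : L} (hxy : x ≠ y) (hxz : x ≠ z) (hyz : y ≠ z)
    (hx : A + B * x + C * x ^ 2 = 0) (hy : A + B * y + C * y ^ 2 = 0) (hz : A + B * z + C * z ^ 2 = 0) :
    A = 0 ∧ B = 0 ∧ C = 0 := by
  have e1 : B + C * (x + y) = 0 := by
    have : (x - y) * (B + C * (x + y)) = 0 := by linear_combination hx - hy
    rcases mul_eq_zero.mp this with h | h
    · exact absurd (sub_eq_zero.mp h) hxy
    · exact h
  have e2 : B + C * (x + z) = 0 := by
    have : (x - z) * (B + C * (x + z)) = 0 := by linear_combination hx - hz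
    rcases mul_eq_zero.mp this with h | h
    · exact absurd (sub_eq_zero.mp h) hxz
    · exact h
  have hC : C = 0 := by
    have : C * (y - z) = 0 := by linear_combination e1 - e2
    rcases mul_eq_zero.mp this with h | h
    · exact h
    · exact absurd (sub_eq_zero.mp h) hyz
  have hB : B = 0 := by rw [hC] at e1; simpa using e1
  refine ⟨?_, hB, hC⟩
  rw [hB, hC] at hx
  simpa using hx

/-- (B) `1, s, s²` are independent over `F` -/
theorem indep_s (hq : Fintype.card F = 4) {s : L} (h7 : s ^ 7 = 1) (h1 : s ≠ 1) (a b c : F)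
    (h : algebraMap F L a + algebraMap F L b * s + algebraMap F L c * s ^ 2 = 0) :
    a = 0 ∧ b = 0 ∧ c = 0 := by
  have h2 : (2 : L) = 0 := two_eq_zero_L (F := F) hq
  have hfix : ∀ a : F, (algebraMap F L a) ^ 4 = algebraMap F L a := by
    intro a
    rw [← map_pow, pow_four_of_card hq]
  have hfrob : ∀ x : L, algebraMap F L a + algebraMap F L b * x + algebraMap F L c * x ^ 2 = 0 →
      algebraMap F L a + algebraMap F L b * x ^ 4 + algebraMap F L c * (x ^ 4) ^ 2 = 0 := by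
    intro x hx
    have : (algebraMap F L a + algebraMap F L b * x + algebraMap F L c * x ^ 2) ^ 4 = 0 := by
      rw [hx, zero_pow (by norm_num)]
    rw [frob4 h2, frob4 h2, mul_pow, mul_pow, hfix, hfix, hfix] at this
    rw [← this]
    ring
  have hs4 := hfrob s h
  have hs16 := hfrob (s ^ 4) hs4
  have e16 : (s ^ 4) ^ 4 = s ^ 2 := by
    have : (s ^ 4) ^ 4 = s ^ 2 * (s ^ 7) ^ 2 := by ring
    rw [this, h7, one_pow, mul_one]
  rw [e16] at hs16
  have ho := orderOf_s h7 h1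
  have hinj := pow_injOn_Iio_orderOf (x := s)
  rw [ho] at hinj
  have hne : ∀ i j : ℕ, i < 7 → j < 7 → i ≠ j → s ^ i ≠ s ^ j := by
    intro i j hi hj hij heq
    exact hij (hinj (Set.mem_Iio.mpr hi) (Set.mem_Iio.mpr hj) heq)
  have h12 : s ≠ s ^ 2 := by
    have := hne 1 2 (by norm_num) (by norm_num) (by norm_num)
    simpa using this
  have h14 : s ≠ s ^ 4 := by
    have := hne 1 4 (by norm_num) (by norm_num) (by norm_num)
    simpa using this
  have h24 : s ^ 4 ≠ s ^ 2 := hne 4 2 (by norm_num) (by norm_num) (by norm_num)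
  obtain ⟨hA, hB, hC⟩ := quad3 h14 h12 h24 h hs4 hs16
  have hinjF := (algebraMap F L).injective
  exact ⟨hinjF (by rw [hA, map_zero]), hinjF (by rw [hB, map_zero]), hinjF (by rw [hC, map_zero])⟩

/-- (C) the seventh roots of unity are the powers of `s` -/
theorem pow_seven_eq_one {s : L} (h7 : s ^ 7 = 1) (h1 : s ≠ 1) (x : L) (hx : x ^ 7 = 1) :
    ∃ l : ℕ, x = s ^ l := by
  classical
  have hs0 : s ≠ 0 := by
    rintro rfl
    norm_num at h7
  have hx0 : x ≠ 0 := by
    rintro rfl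
    norm_num at hx
  obtain ⟨u, hu⟩ : ∃ u : Lˣ, u = Units.mk0 s hs0 := ⟨_, rfl⟩
  have hu7 : u ^ 7 = 1 := by
    apply Units.ext
    rw [Units.val_pow_eq_pow_val, hu, Units.val_mk0, h7, Units.val_one]
  have hu1 : u ≠ 1 := by
    intro h
    apply h1
    have := congrArg Units.val h
    rwa [hu, Units.val_mk0, Units.val_one] at this
  haveI : Fact (Nat.Prime 7) := ⟨by norm_num⟩
  have ho : orderOf u = 7 := orderOf_eq_prime hu7 hu1
  have hle := IsCyclic.card_pow_eq_one_le (α := Lˣ) (n := 7) (by norm_num)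
  have hsub : (Finset.univ.image fun i : Fin 7 => u ^ (i : ℕ)) ⊆
      (Finset.univ.filter fun a : Lˣ => a ^ 7 = 1) := by
    intro y hy
    rw [Finset.mem_image] at hy
    obtain ⟨i, _, rfl⟩ := hy
    rw [Finset.mem_filter]
    refine ⟨Finset.mem_univ _, ?_⟩
    rw [← pow_mul, mul_comm, pow_mul, hu7, one_pow]
  have hcard : (Finset.univ.image fun i : Fin 7 => u ^ (i : ℕ)).card = 7 := by
    rw [Finset.card_image_of_injective, Finset.card_univ, Fintype.card_fin]
    intro i j hij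
    have hinj := pow_injOn_Iio_orderOf (x := u)
    rw [ho] at hinj
    exact Fin.ext (hinj (Set.mem_Iio.mpr i.2) (Set.mem_Iio.mpr j.2) hij)
  have heq := Finset.eq_of_subset_of_card_le hsub (by rw [hcard]; exact hle)
  have hmem : Units.mk0 x hx0 ∈ (Finset.univ.filter fun a : Lˣ => a ^ 7 = 1) := by
    rw [Finset.mem_filter]
    refine ⟨Finset.mem_univ _, ?_⟩
    apply Units.ext
    rw [Units.val_pow_eq_pow_val, Units.val_mk0, hx, Units.val_one]
  rw [← heq, Finset.mem_image] at hmem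
  obtain ⟨i, _, hi⟩ := hmem
  refine ⟨i, ?_⟩
  have := congrArg Units.val hi
  rw [Units.val_pow_eq_pow_val, hu, Units.val_mk0, Units.val_mk0] at this
  exact this.symm

/-- (D) the cube roots of unity are scalars -/
theorem pow_three_eq_one (hq : Fintype.card F = 4) (x : L) (hx : x ^ 3 = 1) :
    ∃ c : F, c ≠ 0 ∧ x = algebraMap F L c := by
  classical
  have hx0 : x ≠ 0 := by
    rintro rfl
    norm_num at hx
  have hcardF : Fintype.card Fˣ = 3 := by rw [Fintype.card_units, hq]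
  have hle := IsCyclic.card_pow_eq_one_le (α := Lˣ) (n := 3) (by norm_num)
  have hsub : (Finset.univ.image fun c : Fˣ => Units.map (algebraMap F L).toMonoidHom c) ⊆
      (Finset.univ.filter fun a : Lˣ => a ^ 3 = 1) := by
    intro y hy
    rw [Finset.mem_image] at hy
    obtain ⟨c, _, rfl⟩ := hy
    rw [Finset.mem_filter]
    refine ⟨Finset.mem_univ _, ?_⟩
    rw [← map_pow]
    have : c ^ 3 = 1 := by
      rw [← hcardF]; exact pow_card_eq_one
    rw [this, map_one]
  have hcard : (Finset.univ.image fun c : Fˣ => Units.map (algebraMap F L).toMonoidHom c).card = 3 := by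
    rw [Finset.card_image_of_injective, Finset.card_univ, hcardF]
    exact Units.map_injective (algebraMap F L).injective
  have heq := Finset.eq_of_subset_of_card_le hsub (by rw [hcard]; exact hle)
  have hmem : Units.mk0 x hx0 ∈ (Finset.univ.filter fun a : Lˣ => a ^ 3 = 1) := by
    rw [Finset.mem_filter]
    refine ⟨Finset.mem_univ _, ?_⟩
    apply Units.ext
    rw [Units.val_pow_eq_pow_val, Units.val_mk0, hx, Units.val_one]
  rw [← heq, Finset.mem_image] at hmem
  obtain ⟨c, _, hc⟩ := hmem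
  refine ⟨c, c.ne_zero, ?_⟩
  have := congrArg Units.val hc
  rw [Units.val_mk0] at this
  rw [← this]
  rfl

/-- (E) the powers of `s` have coordinates in the prime field -/
theorem pow_s_coords (h2F : (2 : F) = 0) {s : L} (h3 : s ^ 3 = s + 1) (e : ℕ) :
    ∃ x y z : F, x ∈ F0 h2F ∧ y ∈ F0 h2F ∧ z ∈ F0 h2F ∧
      s ^ e = algebraMap F L x + algebraMap F L y * s + algebraMap F L z * s ^ 2 := by
  induction e with
  | zero =>
    refine ⟨1, 0, 0, (F0 h2F).one_mem, (F0 h2F).zero_mem, (F0 h2F).zero_mem, ?_⟩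
    simp
  | succ e ih =>
    obtain ⟨x, y, z, hx, hy, hz, h⟩ := ih
    refine ⟨z, x + z, y, hz, (F0 h2F).add_mem hx hz, hy, ?_⟩
    rw [pow_succ, h, map_add]
    linear_combination (algebraMap F L z) * h3

end fieldL

end Cfsg.Agent.Lib.Lead.SLMQ6

namespace Cfsg.Agent.Lib.Lead.SLMQ6

open Matrix

section mat
variable {F : Type*} [Field F] [Fintype F] {L : Type*} [Field L] [Fintype L] [Algebra F L]
variable (φ : L →ₐ[F] Matrix (Fin 3) (Fin 3) F)

/-- the element `t₀ + t₁ s + t₂ s²` -/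
def kap (s : L) (t : Fin 3 → F) : L :=
  algebraMap F L (t 0) + algebraMap F L (t 1) * s + algebraMap F L (t 2) * s ^ 2

/-- the matrix with columns `v, s v, s² v` -/
def Pm (s : L) (v : Fin 3 → F) : Matrix (Fin 3) (Fin 3) F :=
  Matrix.of fun i j => (φ (s ^ (j : ℕ)) *ᵥ v) i

theorem phi_alg (a : F) : φ (algebraMap F L a) = a • (1 : Matrix (Fin 3) (Fin 3) F) := by
  rw [AlgHom.commutes, Algebra.algebraMap_eq_smul_one]

theorem phi_kap_mulVec (s : L) (v t : Fin 3 → F) :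
    φ (kap s t) *ᵥ v = t 0 • v + t 1 • (φ s *ᵥ v) + t 2 • (φ (s ^ 2) *ᵥ v) := by
  simp only [kap, map_add, map_mul, phi_alg, add_mulVec, smul_mul_assoc, one_mul, smul_mulVec, one_mulVec]

theorem Pm_mulVec (s : L) (v t : Fin 3 → F) : Pm φ s v *ᵥ t = φ (kap s t) *ᵥ v := by
  rw [phi_kap_mulVec]
  ext i
  simp only [Pm, mulVec, dotProduct, Fin.sum_univ_three, of_apply, Pi.add_apply, Pi.smul_apply, smul_eq_mul,
    Fin.val_zero, Fin.val_one, Fin.val_two, pow_zero, pow_one, map_one, Matrix.one_apply]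
  have h1 : ((if i = 0 then 1 else 0) * v 0 + (if i = 1 then 1 else 0) * v 1 + (if i = 2 then 1 else 0) * v 2 : F)
      = v i := by
    fin_cases i <;> simp
  rw [h1]
  ring

theorem phi_mulVec_eq_zero {κ : L} (hκ : κ ≠ 0) {v : Fin 3 → F} (h : φ κ *ᵥ v = 0) : v = 0 := by
  have h1 : φ κ⁻¹ * φ κ = 1 := by rw [← map_mul, inv_mul_cancel₀ hκ, map_one]
  calc v = (φ κ⁻¹ * φ κ) *ᵥ v := by rw [h1, one_mulVec]
    _ = φ κ⁻¹ *ᵥ (φ κ *ᵥ v) := by rw [mulVec_mulVec]
    _ = 0 := by rw [h, mulVec_zero]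

theorem kap_sub (s : L) (t t' : Fin 3 → F) : kap s (t - t') = kap s t - kap s t' := by
  simp only [kap, Pi.sub_apply, map_sub]
  ring

theorem Pm_isUnit (hq : Fintype.card F = 4) {s : L} (h7 : s ^ 7 = 1) (h1 : s ≠ 1) {v : Fin 3 → F}
    (hv : v ≠ 0) : IsUnit (Pm φ s v) := by
  rw [← Matrix.mulVec_injective_iff_isUnit]
  intro t t' htt
  have h0 : Pm φ s v *ᵥ (t - t') = 0 := by rw [mulVec_sub, htt, sub_self]
  rw [Pm_mulVec] at h0
  by_contra hne
  have hk : kap s (t - t') ≠ 0 := by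
    intro hk
    obtain ⟨ha, hb, hc⟩ := indep_s hq h7 h1 _ _ _ hk
    apply hne
    have : t - t' = 0 := by
      ext i
      fin_cases i
      · exact ha
      · exact hb
      · exact hc
    exact sub_eq_zero.mp this
  exact hv (phi_mulVec_eq_zero φ hk h0)

end mat

end Cfsg.Agent.Lib.Lead.SLMQ6

namespace Cfsg.Agent.Lib.Lead.SLMQ6

open Matrix

section mat2
variable {F : Type*} [Field F] [Fintype F] {L : Type*} [Field L] [Fintype L] [Algebra F L]
variable (φ : L →ₐ[F] Matrix (Fin 3) (Fin 3) F)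

theorem mul_apply_mulVec (A B : Matrix (Fin 3) (Fin 3) F) (i j : Fin 3) :
    (A * B) i j = (A *ᵥ (fun l => B l j)) i := rfl

theorem Pm_col (s : L) (v : Fin 3 → F) (j : Fin 3) :
    (fun l => Pm φ s v l j) = φ (s ^ (j : ℕ)) *ᵥ v := rfl

/-- the companion matrix of `X³ + X + 1` -/
def Cm : Matrix (Fin 3) (Fin 3) F := !![0, 0, 1; 1, 0, 1; 0, 1, 0]

theorem s_mul_Pm {s : L} (h3 : s ^ 3 = s + 1) (v : Fin 3 → F) :
    φ s * Pm φ s v = Pm φ s v * Cm := by
  ext i j
  rw [mul_apply_mulVec, mul_apply_mulVec, Pm_col, Pm_mulVec, mulVec_mulVec, ← map_mul, ← pow_succ']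
  congr 3
  fin_cases j
  · simp [kap, Cm]
  · simp [kap, Cm]
  · simp [kap, Cm, h3]
    ring

theorem det_omega_add_Cm (h2 : (2 : F) = 0) {ω : F} (hω : ω ^ 3 = 1) :
    (ω • (1 : Matrix (Fin 3) (Fin 3) F) + Cm).det = ω := by
  rw [Matrix.det_fin_three]
  simp [Cm]
  linear_combination hω + (1 - ω) * h2

theorem det_phi_omega_add_s (hq : Fintype.card F = 4) {s : L} (h7 : s ^ 7 = 1) (h1 : s ≠ 1)
    (h3 : s ^ 3 = s + 1) {ω : F} (hω : ω ^ 3 = 1) :
    (φ (algebraMap F L ω + s)).det = ω := by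
  obtain ⟨v, hv⟩ : ∃ v : Fin 3 → F, v ≠ 0 :=
    ⟨Pi.single 0 1, by intro h; have := congrFun h 0; simp at this⟩
  have hPu := Pm_isUnit φ hq h7 h1 hv
  have hdetP : (Pm φ s v).det ≠ 0 := by
    have := (Matrix.isUnit_iff_isUnit_det _).mp hPu
    exact this.ne_zero
  have hmul : φ (algebraMap F L ω + s) * Pm φ s v = Pm φ s v * (ω • (1 : Matrix (Fin 3) (Fin 3) F) + Cm) := by
    rw [map_add, phi_alg, add_mul, mul_add, s_mul_Pm φ h3, smul_mul_assoc, one_mul, mul_smul_comm, mul_one]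
  have := congrArg Matrix.det hmul
  rw [det_mul, det_mul, det_omega_add_Cm (two_eq_zero_of_card hq) hω, mul_comm] at this
  exact mul_left_cancel₀ hdetP this

end mat2

end Cfsg.Agent.Lib.Lead.SLMQ6

namespace Cfsg.Agent.Lib.Lead.SLMQ6

open Matrix

section mat3
variable {F : Type*} [Field F] [Fintype F] {L : Type*} [Field L] [Fintype L] [Algebra F L]
variable (φ : L →ₐ[F] Matrix (Fin 3) (Fin 3) F)

/-- the determinant as a homomorphism `Lˣ → Fˣ` -/
noncomputable def detHom : Lˣ →* Fˣ :=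
  (Matrix.GeneralLinearGroup.det : GL (Fin 3) F →* Fˣ).comp
    (Units.map ((φ : L →+* Matrix (Fin 3) (Fin 3) F) : L →* Matrix (Fin 3) (Fin 3) F))

theorem detHom_val (u : Lˣ) : ((detHom φ u : Fˣ) : F) = (φ (u : L)).det := rfl

/-- (F) an element of `L` of determinant one has order dividing `21` -/
theorem pow_21_of_det (hq : Fintype.card F = 4) (hL : Fintype.card L = 64) {s : L} (h7 : s ^ 7 = 1)
    (h1 : s ≠ 1) (h3 : s ^ 3 = s + 1) {k : L} (hk0 : k ≠ 0) (hdet : (φ k).det = 1) : k ^ 21 = 1 := by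
  classical
  obtain ⟨ω, hω2, hω3, hω1⟩ := exists_omega hq
  have hcardF : Fintype.card Fˣ = 3 := by rw [Fintype.card_units, hq]
  have hcardL : Fintype.card Lˣ = 63 := by rw [Fintype.card_units, hL]
  -- the unit `ω + s`
  have hu0 : algebraMap F L ω + s ≠ 0 := by
    intro h
    have hd := det_phi_omega_add_s φ hq h7 h1 h3 hω3
    rw [h, map_zero, det_zero] at hd
    rw [← hd] at hω3
    norm_num at hω3
  have hδu : detHom φ (Units.mk0 _ hu0) ≠ 1 := by
    intro h
    have := congrArg Units.val h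
    rw [detHom_val, Units.val_mk0, det_phi_omega_add_s φ hq h7 h1 h3 hω3, Units.val_one] at this
    exact hω1 this
  haveI : Fact (Nat.card Fˣ).Prime := ⟨by rw [Nat.card_eq_fintype_card, hcardF]; norm_num⟩
  have hr : (detHom φ).range = ⊤ := by
    rcases Subgroup.eq_bot_or_eq_top_of_prime_card (detHom φ).range with h | h
    · exfalso
      apply hδu
      have : detHom φ (Units.mk0 _ hu0) ∈ (detHom φ).range := ⟨_, rfl⟩
      rw [h, Subgroup.mem_bot] at this
      exact this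
    · exact h
  have hker : Nat.card (detHom φ).ker = 21 := by
    have e1 := Subgroup.card_mul_index (detHom φ).ker
    have e2 := Subgroup.index_ker (detHom φ)
    rw [e2, hr, Subgroup.card_top, Nat.card_eq_fintype_card (α := Fˣ), Nat.card_eq_fintype_card (α := Lˣ),
      hcardF, hcardL] at e1
    omega
  have hmem : Units.mk0 k hk0 ∈ (detHom φ).ker := by
    rw [MonoidHom.mem_ker]
    apply Units.ext
    rw [detHom_val, Units.val_mk0, hdet, Units.val_one]
  have hp : (⟨Units.mk0 k hk0, hmem⟩ : (detHom φ).ker) ^ 21 = 1 := by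
    rw [← hker]
    exact pow_card_eq_one'
  have := congrArg (fun x : (detHom φ).ker => ((x : Lˣ) : L)) hp
  simpa using this

/-- (F') hence it is a scalar times a power of `s` -/
theorem decomp_of_det (hq : Fintype.card F = 4) (hL : Fintype.card L = 64) {s : L} (h7 : s ^ 7 = 1)
    (h1 : s ≠ 1) (h3 : s ^ 3 = s + 1) {k : L} (hk0 : k ≠ 0) (hdet : (φ k).det = 1) :
    ∃ (c : F) (l : ℕ), c ≠ 0 ∧ k = algebraMap F L c * s ^ l := by
  have h21 := pow_21_of_det φ hq hL h7 h1 h3 hk0 hdet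
  obtain ⟨l, hl⟩ := pow_seven_eq_one h7 h1 (k ^ 15) (by rw [← pow_mul, show 15 * 7 = 21 * 5 from rfl, pow_mul, h21, one_pow])
  obtain ⟨c, hc0, hc⟩ := pow_three_eq_one (F := F) hq (k ^ 7) (by rw [← pow_mul, h21])
  refine ⟨c, l, hc0, ?_⟩
  rw [← hc, ← hl]
  have : k ^ 7 * k ^ 15 = k * k ^ 21 := by ring
  rw [this, h21, mul_one]

end mat3

end Cfsg.Agent.Lib.Lead.SLMQ6

namespace Cfsg.Agent.Lib.Lead.SLMQ6

open Matrix

section mat4
variable {F : Type*} [Field F] [Fintype F] {L : Type*} [Field L] [Fintype L] [Algebra F L]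
variable (φ : L →ₐ[F] Matrix (Fin 3) (Fin 3) F)

/-- coordinates of `s ^ e` as a vector with entries in the prime field -/
theorem pow_s_coords' (h2F : (2 : F) = 0) {s : L} (h3 : s ^ 3 = s + 1) (e : ℕ) :
    ∃ t : Fin 3 → F, (∀ i, t i ∈ F0 h2F) ∧ s ^ e = kap s t := by
  obtain ⟨x, y, z, hx, hy, hz, h⟩ := pow_s_coords (L := L) h2F h3 e
  refine ⟨![x, y, z], ?_, ?_⟩
  · intro i
    fin_cases i
    · exact hx
    · exact hy
    · exact hz
  · rw [h]
    simp [kap]

theorem det_mem_F0 (h2F : (2 : F) = 0) (T : Matrix (Fin 3) (Fin 3) F) (hT : ∀ i j, T i j ∈ F0 h2F) :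
    T.det = 0 ∨ T.det = 1 := by
  rw [← mem_F0_iff h2F]
  obtain ⟨T₀, hT₀⟩ : ∃ T₀ : Matrix (Fin 3) (Fin 3) (F0 h2F), T₀ = fun i j => ⟨T i j, hT i j⟩ := ⟨_, rfl⟩
  have hmap : T = (F0 h2F).subtype.mapMatrix T₀ := by
    ext i j
    rw [hT₀]
    rfl
  rw [hmap, ← RingHom.map_det]
  exact (T₀.det).2

theorem main_abstract (hq : Fintype.card F = 4) (hL : Fintype.card L = 64) :
    ∃ P : GL (Fin 3) F, ∀ g : GL (Fin 3) F,
      (∀ x : L, ∃ x' : L, φ x' = (g : Matrix (Fin 3) (Fin 3) F) * φ x *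
        ((g⁻¹ : GL (Fin 3) F) : Matrix (Fin 3) (Fin 3) F)) →
      (g : Matrix (Fin 3) (Fin 3) F).det = 1 →
      g ∈ Cfsg.Geo.subfieldSubgroup (F0 (two_eq_zero_of_card hq)) P := by
  classical
  have h2F := two_eq_zero_of_card hq
  have h2L : (2 : L) = 0 := two_eq_zero_L (F := F) hq
  obtain ⟨s, h7, h1, h3⟩ := exists_s h2L hL
  obtain ⟨v, hv⟩ : ∃ v : Fin 3 → F, v ≠ 0 :=
    ⟨Pi.single 0 1, by intro h; have := congrFun h 0; simp at this⟩
  have hPu := Pm_isUnit φ hq h7 h1 hv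
  obtain ⟨P, hP⟩ : ∃ P : GL (Fin 3) F, (P : Matrix (Fin 3) (Fin 3) F) = Pm φ s v := ⟨hPu.unit, rfl⟩
  have hdetP : (Pm φ s v).det ≠ 0 := ((Matrix.isUnit_iff_isUnit_det _).mp hPu).ne_zero
  refine ⟨P, ?_⟩
  intro g hnorm hdet
  obtain ⟨G, hG⟩ : ∃ G : Matrix (Fin 3) (Fin 3) F, G = (g : Matrix (Fin 3) (Fin 3) F) := ⟨_, rfl⟩
  obtain ⟨Gi, hGi⟩ : ∃ Gi : Matrix (Fin 3) (Fin 3) F, Gi = ((g⁻¹ : GL (Fin 3) F) : Matrix (Fin 3) (Fin 3) F) :=
    ⟨_, rfl⟩
  have hGiG : Gi * G = 1 := by rw [hG, hGi, ← Units.val_mul, inv_mul_cancel, Units.val_one]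
  have hPiP : ((P⁻¹ : GL (Fin 3) F) : Matrix (Fin 3) (Fin 3) F) * Pm φ s v = 1 := by
    rw [← hP, ← Units.val_mul, inv_mul_cancel, Units.val_one]
  have hPPi : Pm φ s v * ((P⁻¹ : GL (Fin 3) F) : Matrix (Fin 3) (Fin 3) F) = 1 := by
    rw [← hP, ← Units.val_mul, mul_inv_cancel, Units.val_one]
  -- the automorphism induced by `g`
  obtain ⟨s', hs'⟩ := hnorm s
  rw [← hG, ← hGi] at hs'
  have hconj : ∀ j : ℕ, φ (s' ^ j) = G * φ (s ^ j) * Gi := by
    intro j
    rw [map_pow, hs', hG, hGi, Units.conj_pow, map_pow]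
  have hs'7 : s' ^ 7 = 1 := by
    apply (φ : L →+* Matrix (Fin 3) (Fin 3) F).injective
    show φ (s' ^ 7) = φ 1
    rw [hconj, h7, map_one, mul_one, hG, hGi, ← Units.val_mul, mul_inv_cancel, Units.val_one]
  obtain ⟨m, hm⟩ := pow_seven_eq_one h7 h1 s' hs'7
  -- `g v = k v`
  obtain ⟨k, hk⟩ : ∃ k : L, φ k *ᵥ v = G *ᵥ v := by
    refine ⟨kap s (((P⁻¹ : GL (Fin 3) F) : Matrix (Fin 3) (Fin 3) F) *ᵥ (G *ᵥ v)), ?_⟩
    rw [← Pm_mulVec, mulVec_mulVec, hPPi, one_mulVec]
  have hk0 : k ≠ 0 := by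
    rintro rfl
    rw [map_zero, zero_mulVec] at hk
    apply hv
    calc v = (Gi * G) *ᵥ v := by rw [hGiG, one_mulVec]
      _ = Gi *ᵥ (G *ᵥ v) := by rw [mulVec_mulVec]
      _ = 0 := by rw [← hk, mulVec_zero]
  -- action on the basis
  have hact : ∀ j : ℕ, G *ᵥ (φ (s ^ j) *ᵥ v) = φ (k * s ^ (m * j)) *ᵥ v := by
    intro j
    have e1 : G * φ (s ^ j) = φ (s' ^ j) * G := by
      rw [hconj, mul_assoc, mul_assoc, hGiG, mul_one]
    rw [mulVec_mulVec, e1, ← mulVec_mulVec, ← hk, mulVec_mulVec, ← map_mul, hm, ← pow_mul, mul_comm]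
  -- the matrix `T`
  have hT : ∀ j : Fin 3, ∃ t : Fin 3 → F, (∀ i, t i ∈ F0 h2F) ∧ s ^ (m * (j : ℕ)) = kap s t :=
    fun j => pow_s_coords' h2F h3 _
  choose tT htT0 htT using hT
  obtain ⟨T, hTdef⟩ : ∃ T : Matrix (Fin 3) (Fin 3) F, T = Matrix.of fun i j => tT j i := ⟨_, rfl⟩
  have hGP : G * Pm φ s v = φ k * Pm φ s v * T := by
    ext i j
    rw [mul_apply_mulVec, mul_apply_mulVec, Pm_col, hact]
    have : (fun l => T l j) = tT j := by
      rw [hTdef]; rfl
    rw [this, ← mulVec_mulVec, Pm_mulVec, ← htT, mulVec_mulVec, ← map_mul]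
  have hdetk : (φ k).det = 1 := by
    have hd := congrArg Matrix.det hGP
    rw [det_mul, det_mul, det_mul, hG, hdet, one_mul] at hd
    have hd' : (φ k).det * T.det = 1 := by
      have : (Pm φ s v).det * ((φ k).det * T.det) = (Pm φ s v).det * 1 := by
        linear_combination (-1 : F) * hd
      exact mul_left_cancel₀ hdetP this
    rcases det_mem_F0 h2F T (by intro i j; rw [hTdef]; exact htT0 j i) with h0 | h1'
    · rw [h0, mul_zero] at hd'
      exact absurd hd' zero_ne_one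
    · rwa [h1', mul_one] at hd'
  obtain ⟨c, l, hc0, hkc⟩ := decomp_of_det φ hq hL h7 h1 h3 hk0 hdetk
  -- the matrix `U`
  have hU : ∀ j : Fin 3, ∃ t : Fin 3 → F, (∀ i, t i ∈ F0 h2F) ∧ s ^ (l + m * (j : ℕ)) = kap s t :=
    fun j => pow_s_coords' h2F h3 _
  choose tU htU0 htU using hU
  obtain ⟨U, hUdef⟩ : ∃ U : Matrix (Fin 3) (Fin 3) F, U = Matrix.of fun i j => tU j i := ⟨_, rfl⟩
  have hGP2 : G * Pm φ s v = c • (Pm φ s v * U) := by
    ext i j
    rw [Matrix.smul_apply, mul_apply_mulVec, mul_apply_mulVec, Pm_col, hact]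
    have : (fun l => U l j) = tU j := by
      rw [hUdef]; rfl
    rw [this, Pm_mulVec, ← htU, hkc, mul_assoc, ← pow_add, map_mul, phi_alg, smul_mul_assoc, one_mul,
      smul_mulVec]
    rfl
  -- conclusion
  unfold Cfsg.Geo.subfieldSubgroup
  rw [Subgroup.mem_map]
  refine ⟨P⁻¹ * g * P, ?_, ?_⟩
  · apply Cfsg.Agent.Lib.Helper4.AschLeaf.mem_range_sup_scalars (F0 h2F) (P⁻¹ * g * P) c hc0
    intro i j
    refine ⟨U i j, by rw [hUdef]; exact htU0 j i, ?_⟩
    have : ((P⁻¹ * g * P : GL (Fin 3) F) : Matrix (Fin 3) (Fin 3) F) = c • U := by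
      rw [Units.val_mul, Units.val_mul, hP, ← hG, mul_assoc, hGP2, Matrix.mul_smul, ← mul_assoc, hPiP, one_mul]
    rw [this, Matrix.smul_apply, smul_eq_mul]
  · show P * (P⁻¹ * g * P) * P⁻¹ = g
    group

end mat4

end Cfsg.Agent.Lib.Lead.SLMQ6

namespace Cfsg.Agent.Lib.Lead.SLMLeaf

open Cfsg.Geo Matrix Module Cfsg.Agent.Lib.Helper17.SLM Cfsg.Agent.Lib.Lead.SLMQ6

variable {F : Type*} [Field F] [Fintype F]

theorem field_three_four (hq : Fintype.card F = 4) {K : Subalgebra F (Matrix (Fin 3) (Fin 3) F)}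
    (hK : IsFieldSubalgebra 3 K) :
    ∃ (F₀ : Subfield F) (P : GL (Fin 3) F), Fintype.card F = Nat.card F₀ ^ 2 ∧
      subalgebraNormalizer K ⊓ specialLinear (Fin 3) F ≤ subfieldSubgroup F₀ P := by
  classical
  have hIsField : IsField K :=
    { exists_pair_ne := ⟨0, 1, zero_ne_one⟩
      mul_comm := fun x y => Subtype.ext (hK.comm x.1 x.2 y.1 y.2)
      mul_inv_cancel := fun {a} ha => by
        obtain ⟨y, hy, h⟩ := hK.inv a.1 a.2 (fun h0 => ha (Subtype.ext h0))
        exact ⟨⟨y, hy⟩, Subtype.ext h⟩ }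
  letI : Field K := hIsField.toField
  haveI : Fintype K := Fintype.ofFinite K
  have hcard : Fintype.card K = 64 := by
    have := Module.card_eq_pow_finrank (K := F) (V := K)
    rw [hK.finrank_eq, hq] at this
    norm_num at this
    exact this
  obtain ⟨P, hP⟩ := main_abstract (L := K) K.val hq hcard
  refine ⟨F0 (two_eq_zero_of_card hq), P, by rw [card_F0, hq]; norm_num, ?_⟩
  intro g hg
  obtain ⟨hgN, hgS⟩ := hg
  apply hP g
  · intro x
    exact ⟨⟨_, (hgN x.1).mp x.2⟩, rfl⟩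
  · have h1 : Matrix.GeneralLinearGroup.det g = 1 := hgS
    have := congrArg Units.val h1
    simpa using this

end Cfsg.Agent.Lib.Lead.SLMLeaf
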