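import Cfsg.Agent.Lib.Lead.SteinE

/-! An automorphism of a Chevalley group stabilising `U` and `V` permutes the fundamental root
subgroups and their negatives in the same way; parametrisation on root subgroups (lead). -/

set_option autoImplicit false

namespace Cfsg.Agent.Lib.Lead.Stein

open Cfsg Cfsg.Lie Matrix Cfsg.Agent.Lib.Helper7 Cfsg.Agent.Lib.Helper3.BN Cfsg.Agent.Lib.Helper11

section
variable (D : ChevalleyDatum) (hD : D ∈ [chevG2, chevB2, chevD4, chevF4, chevE6, chevE7, chevE8])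
variable (F : Type*) [Field F]
include hD

theorem neg_neg_root (r : ℕ) (hr : r < D.nroots) : D.neg (D.neg r) = r := (negInvOK_of_mem D hD r hr).1

theorem neg_lt (r : ℕ) (hr : r < D.nroots) : D.neg r < D.nroots := (negInvOK_of_mem D hD r hr).2.1

theorem simple_lt (i : ℕ) (hi : i < D.rank) : D.simple i < D.nroots := (fundFacts_of_mem D hD i hi).hp

theorem neg_simple_lt (i : ℕ) (hi : i < D.rank) : D.neg (D.simple i) < D.nroots :=
  (fundFacts_of_mem D hD i hi).hpb

theorem simple_inj (i j : ℕ) (hi : i < D.rank) (hj : j < D.rank) (h : D.simple i = D.simple j) : i = j := by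
  by_contra hij
  exact (simpleNegComm_of_B D (simpleNegCommB_of_mem D hD) i j hi hj hij).2.2 h

/-- `x_{p_i}(t)` and `x_{-p_j}(u)` commute for `i ≠ j` -/
theorem xGL_simple_neg_comm (i j : ℕ) (hi : i < D.rank) (hj : j < D.rank) (hij : i ≠ j) (t u : F) :
    xGL D hD F (D.simple i) t * xGL D hD F (D.neg (D.simple j)) u =
      xGL D hD F (D.neg (D.simple j)) u * xGL D hD F (D.simple i) t := by
  obtain ⟨h1, h2, h3⟩ := simpleNegComm_of_B D (simpleNegCommB_of_mem D hD) i j hi hj hij
  have hsn : D.neg (D.simple j) ≠ D.neg (D.simple i) := by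
    intro h
    apply h3
    rw [← neg_neg_root D hD (D.simple i) (simple_lt D hD i hi),
      ← neg_neg_root D hD (D.simple j) (simple_lt D hD j hj), h]
  have := comm_formula_GL D hD F (D.simple i) (D.neg (D.simple j)) (simple_lt D hD i hi)
    (neg_simple_lt D hD j hj) (Ne.symm h2) hsn t u
  unfold ChevalleyDatum.commWord at this
  rw [h1] at this
  have e : wordGL D hD F ([] : List (ℕ × F)) = 1 := rfl
  rw [List.map_nil, e, mul_one] at this
  exact this.symm

/-- `x_{p}(1)` and `x_{-p}(1)` do not commute -/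
theorem xGL_simple_neg_not_comm (i : ℕ) (hi : i < D.rank) :
    xGL D hD F (D.simple i) 1 * xGL D hD F (D.neg (D.simple i)) 1 ≠
      xGL D hD F (D.neg (D.simple i)) 1 * xGL D hD F (D.simple i) 1 := by
  intro hcomm
  have hF := fundFacts_of_mem D hD i hi
  have hpos := (parFacts_of_mem D hD).simplePos i hi
  have hneg : D.IsNegRoot (D.neg (D.simple i)) := posNegOK_of_mem D hD _ hpos.1 hpos
  set a := xGL D hD F (D.simple i) 1 with ha
  set b := xGL D hD F (D.neg (D.simple i)) 1 with hb
  have hN : wordGL D hD F (D.nWord (D.simple i) (1 : F)) = a * b⁻¹ * a := by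
    rw [nGL_eq, hb, xGL_inv, inv_one]
  have h3 : wordGL D hD F (D.nWord (D.simple i) (1 : F)) * a *
      (wordGL D hD F (D.nWord (D.simple i) (1 : F)))⁻¹ =
      xGL D hD F (D.neg (D.simple i)) (((etaFn D i (D.simple i) : ℤ) : F) * 1) := by
    have := nGL_conj_xGL D hD F i hi (D.simple i) hF.hp (1 : F)
    rw [reflectRoot_simple] at this
    exact this
  have hba : b⁻¹ * a = a * b⁻¹ := by
    have : a = b⁻¹ * (b * a) := by group
    rw [← hcomm] at this
    calc b⁻¹ * a = b⁻¹ * a * (b * b⁻¹) := by group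
      _ = b⁻¹ * (a * b) * b⁻¹ := by group
      _ = a * b⁻¹ := by rw [← this]
  have h4 : wordGL D hD F (D.nWord (D.simple i) (1 : F)) * a *
      (wordGL D hD F (D.nWord (D.simple i) (1 : F)))⁻¹ = a := by
    rw [hN]
    calc a * b⁻¹ * a * a * (a * b⁻¹ * a)⁻¹ = a * (b⁻¹ * a) * b * a⁻¹ := by group
      _ = a * (a * b⁻¹) * b * a⁻¹ := by rw [hba]
      _ = a := by group
  rw [h4] at h3
  have : a ∈ D.posUnipotent F ⊓ D.negUnipotent F :=
    Subgroup.mem_inf.mpr ⟨xGL_pos_mem D hD F _ hpos 1, by rw [h3]; exact xGL_neg_mem D hD F _ hneg _⟩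
  rw [posUnipotent_inf_negUnipotent D hD F, Subgroup.mem_bot] at this
  exact xGL_one_ne_one D hD F _ hF.hp this

end

section
variable (D : ChevalleyDatum) (hD : D ∈ [chevG2, chevB2, chevD4, chevF4, chevE6, chevE7, chevE8])
variable (F : Type*) [Field F]

/-- `θ` maps `x_r(t)` to `x_s(f t)` with `f` an additive bijection -/
structure RootParam (θ : ↥(D.group F) ≃* ↥(D.group F)) (r s : ℕ) (f : F → F) : Prop where
  map : ∀ t : F, θ (xG D hD F r t) = xG D hD F s (f t)
  add : ∀ t u : F, f (t + u) = f t + f u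
  bij : Function.Bijective f

variable {D hD F}

theorem RootParam.zero {θ : ↥(D.group F) ≃* ↥(D.group F)} {r s : ℕ} {f : F → F}
    (h : RootParam D hD F θ r s f) : f 0 = 0 := by
  have := h.add 0 0
  rw [add_zero] at this
  exact left_eq_add.mp this

theorem RootParam.neg {θ : ↥(D.group F) ≃* ↥(D.group F)} {r s : ℕ} {f : F → F}
    (h : RootParam D hD F θ r s f) (t : F) : f (-t) = - f t := by
  have := h.add t (-t)
  rw [add_neg_cancel, h.zero] at this
  exact (neg_eq_of_add_eq_zero_right this.symm).symm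

theorem RootParam.ne_zero {θ : ↥(D.group F) ≃* ↥(D.group F)} {r s : ℕ} {f : F → F}
    (h : RootParam D hD F θ r s f) (t : F) (ht : t ≠ 0) : f t ≠ 0 := by
  intro h0
  apply ht
  apply h.bij.1
  rw [h0, h.zero]

variable (D hD F)

include hD in
theorem xG_mul (r : ℕ) (t u : F) : xG D hD F r t * xG D hD F r u = xG D hD F r (t + u) :=
  Subtype.ext (xGL_mul D hD F r t u)

include hD in
theorem xG_inj (r : ℕ) (hr : r < D.nroots) (t u : F) (h : xG D hD F r t = xG D hD F r u) : t = u :=
  xGL_param_inj D hD F r hr t u (congrArg Subtype.val h)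

include hD in
theorem exists_rootParam (θ : ↥(D.group F) ≃* ↥(D.group F)) (r s : ℕ) (hr : r < D.nroots)
    (hs : s < D.nroots)
    (h : Maps D F θ (D.rootSubgroup F r) (D.rootSubgroup F s)) : ∃ f : F → F, RootParam D hD F θ r s f := by
  have hex : ∀ t : F, ∃ c : F, θ (xG D hD F r t) = xG D hD F s c := by
    intro t
    have h1 : ((xG D hD F r t : ↥(D.group F)) : GL D.Idx F) ∈ D.rootSubgroup F r :=
      (mem_rootSubgroup_iff D hD F r _).mpr ⟨t, rfl⟩
    have h2 := (h _).mpr h1
    rw [mem_rootSubgroup_iff D hD F] at h2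
    obtain ⟨c, hc⟩ := h2
    exact ⟨c, Subtype.ext hc⟩
  choose f hf using hex
  refine ⟨f, hf, ?_, ?_, ?_⟩
  · intro t u
    apply xG_inj D hD F s hs
    rw [← hf, ← xG_mul, map_mul, hf, hf, xG_mul]
  · intro t u htu
    have : θ (xG D hD F r t) = θ (xG D hD F r u) := by rw [hf, hf, htu]
    exact xG_inj D hD F r hr t u (θ.injective this)
  · intro c
    have h6 : ((xG D hD F s c : ↥(D.group F)) : GL D.Idx F) ∈ D.rootSubgroup F s :=
      (mem_rootSubgroup_iff D hD F s _).mpr ⟨c, rfl⟩
    have h7 := (h.symm _).mpr h6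
    rw [mem_rootSubgroup_iff D hD F] at h7
    obtain ⟨t, ht⟩ := h7
    have h8 : θ.symm (xG D hD F s c) = xG D hD F r t := Subtype.ext ht
    refine ⟨t, ?_⟩
    apply xG_inj D hD F s hs
    rw [← hf, ← h8, MulEquiv.apply_symm_apply]

include hD in
/-- the permutations of the positive and of the negative fundamental root subgroups agree -/
theorem simple_map_unique (θ : ↥(D.group F) ≃* ↥(D.group F)) (k m j : ℕ) (hk : k < D.rank)
    (hm : m < D.rank) (hj : j < D.rank)
    (h1 : Maps D F θ (D.rootSubgroup F (D.simple k)) (D.rootSubgroup F (D.simple m)))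
    (h2 : Maps D F θ (D.rootSubgroup F (D.neg (D.simple k))) (D.rootSubgroup F (D.neg (D.simple j)))) :
    m = j := by
  by_contra hmj
  obtain ⟨f, hf⟩ := exists_rootParam D hD F θ _ _ (simple_lt D hD k hk) (simple_lt D hD m hm) h1
  obtain ⟨g, hg⟩ := exists_rootParam D hD F θ _ _ (neg_simple_lt D hD k hk) (neg_simple_lt D hD j hj) h2
  apply xGL_simple_neg_not_comm D hD F k hk
  have h3 : θ (xG D hD F (D.simple k) 1 * xG D hD F (D.neg (D.simple k)) 1) =
      θ (xG D hD F (D.neg (D.simple k)) 1 * xG D hD F (D.simple k) 1) := by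
    rw [map_mul, map_mul, hf.map, hg.map]
    exact Subtype.ext (xGL_simple_neg_comm D hD F m j hm hj hmj _ _)
  exact congrArg Subtype.val (θ.injective h3)

/-- the data of an automorphism stabilising `U` and `V` on the fundamental root subgroups -/
structure FundData (θ : ↥(D.group F) ≃* ↥(D.group F)) (ρ : ℕ → ℕ) (f g : ℕ → F → F) : Prop where
  lt : ∀ k < D.rank, ρ k < D.rank
  pos : ∀ k < D.rank, RootParam D hD F θ (D.simple k) (D.simple (ρ k)) (f k)
  neg : ∀ k < D.rank, RootParam D hD F θ (D.neg (D.simple k)) (D.neg (D.simple (ρ k))) (g k)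

include hD in
theorem exists_fundData (θ : ↥(D.group F) ≃* ↥(D.group F))
    (hU : Stab D F θ (D.posUnipotent F)) (hV : Stab D F θ (D.negUnipotent F)) :
    ∃ (ρ : ℕ → ℕ) (f g : ℕ → F → F), FundData D hD F θ ρ f g := by
  have hex : ∀ k : ℕ, ∃ (m : ℕ) (f g : F → F), k < D.rank → (m < D.rank ∧
      RootParam D hD F θ (D.simple k) (D.simple m) f ∧
      RootParam D hD F θ (D.neg (D.simple k)) (D.neg (D.simple m)) g) := by
    intro k
    by_cases hk : k < D.rank
    · obtain ⟨m, hm, h1⟩ := exists_pos_simple_map D hD F θ hU hV k hk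
      obtain ⟨j, hj, h2⟩ := exists_neg_simple_map D hD F θ hU hV k hk
      have hmj := simple_map_unique D hD F θ k m j hk hm hj h1 h2
      rw [← hmj] at h2
      obtain ⟨f, hf⟩ := exists_rootParam D hD F θ _ _ (simple_lt D hD k hk) (simple_lt D hD m hm) h1
      obtain ⟨g, hg⟩ := exists_rootParam D hD F θ _ _ (neg_simple_lt D hD k hk)
        (neg_simple_lt D hD m hm) h2
      exact ⟨m, f, g, fun _ => ⟨hm, hf, hg⟩⟩
    · exact ⟨0, id, id, fun h => absurd h hk⟩
  choose ρ f g h using hex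
  exact ⟨ρ, f, g, fun k hk => (h k hk).1, fun k hk => (h k hk).2.1, fun k hk => (h k hk).2.2⟩

variable {D hD F}

include hD in
theorem FundData.inj {θ : ↥(D.group F) ≃* ↥(D.group F)} {ρ : ℕ → ℕ} {f g : ℕ → F → F}
    (h : FundData D hD F θ ρ f g) (k k' : ℕ) (hk : k < D.rank) (hk' : k' < D.rank)
    (he : ρ k = ρ k') : k = k' := by
  obtain ⟨t, ht⟩ := (h.pos k' hk').bij.2 (f k 1)
  have h1 : θ (xG D hD F (D.simple k) 1) = θ (xG D hD F (D.simple k') t) := by
    rw [(h.pos k hk).map, (h.pos k' hk').map, ht, he]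
  have h2 := congrArg Subtype.val (θ.injective h1)
  rw [coe_xG, coe_xG] at h2
  have h3 := xGL_root_inj D hD F _ _ (simple_lt D hD k hk) (simple_lt D hD k' hk') 1 t one_ne_zero h2
  exact simple_inj D hD k k' hk hk' h3

end

end Cfsg.Agent.Lib.Lead.Stein
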