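import Cfsg.Agent.Lib.Lead.Sp4GraphS
import Cfsg.Agent.Lib.Helper18.PSpFldC

set_option autoImplicit false
set_option linter.unusedVariables false
set_option linter.unusedSectionVars false

/-!
# The action of field automorphisms and of conformal symplectic matrices on the transvection subgroups of `PSp_{2m}(F)`

`fieldA σ` maps `TS v` to `TS (σ ∘ v)`, `conjA g` maps `TS v` to `TS (g v)`; a field automorphism which is induced by
a conformal symplectic matrix is trivial.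
-/

namespace Cfsg.Agent.Lib.Lead.Sp4Graph

open Matrix Cfsg.Agent.Lib.Helper5 Cfsg.Agent.Lib.Helper14.SpPerfect
  Cfsg.Agent.Lib.Helper14.PSpSimple Cfsg.Agent.Lib.Helper18.FTPG Cfsg.Agent.Lib.Helper18.PSpAut

variable {m : ℕ} {F : Type*} [Field F]

theorem fieldS_Tr (σ : F ≃+* F) (v : Fin m ⊕ Fin m → F) (c : F) :
    fieldS σ (Tr v c) = Tr (fun i => σ (v i)) (σ c) := by
  apply sp_ext
  intro x
  have hx : x = fun i => σ (σ.symm (x i)) := by
    funext i
    rw [RingEquiv.apply_symm_apply]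
  rw [fieldS_coe]
  conv_lhs => rw [hx]
  rw [← map_mulVec', Tr_mulVec, Tr_mulVec]
  have h1 : Cfsg.sympForm m F x (fun i => σ (v i)) = σ (Cfsg.sympForm m F (fun i => σ.symm (x i)) v) := by
    rw [← sympForm_map, ← hx]
  rw [h1]
  funext i
  simp only [Pi.add_apply, Pi.smul_apply, smul_eq_mul, map_add, map_mul, RingEquiv.apply_symm_apply]

theorem map_TS_fieldA (σ : F ≃+* F) (v : Fin m ⊕ Fin m → F) :
    (TS v).map (fieldA σ).toMonoidHom = TS (fun i => σ (v i)) := by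
  ext x
  constructor
  · rintro ⟨y, hy, rfl⟩
    obtain ⟨c, rfl⟩ := (mem_TS v y).1 hy
    show fieldA σ (pi (Tr v c)) ∈ _
    rw [fieldA_pi, fieldS_Tr]
    exact pi_Tr_mem _ _
  · intro hx
    obtain ⟨c, rfl⟩ := (mem_TS _ x).1 hx
    refine ⟨pi (Tr v (σ.symm c)), pi_Tr_mem _ _, ?_⟩
    show fieldA σ (pi (Tr v (σ.symm c))) = _
    rw [fieldA_pi, fieldS_Tr, RingEquiv.apply_symm_apply]

theorem map_TS_conjA (g : Cfsg.GSp m F) (v : Fin m ⊕ Fin m → F) :
    (TS v).map (conjA g).toMonoidHom =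
      TS (((g : GL (Fin m ⊕ Fin m) F) : Matrix (Fin m ⊕ Fin m) (Fin m ⊕ Fin m) F) *ᵥ v) := by
  have h0 : (mult g : F) ≠ 0 := (mult g).ne_zero
  ext x
  constructor
  · rintro ⟨y, hy, rfl⟩
    obtain ⟨c, rfl⟩ := (mem_TS v y).1 hy
    show conjA g (pi (Tr v c)) ∈ _
    rw [conjA_pi, conjMat_Tr]
    exact pi_Tr_mem _ _
  · intro hx
    obtain ⟨c, rfl⟩ := (mem_TS _ x).1 hx
    refine ⟨pi (Tr v (c * (mult g : F))), pi_Tr_mem _ _, ?_⟩
    show conjA g (pi (Tr v (c * (mult g : F)))) = _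
    rw [conjA_pi, conjMat_Tr, mul_assoc, mul_inv_cancel₀ h0, mul_one]

theorem map_sigma_ne (σ : F ≃+* F) {v : Fin m ⊕ Fin m → F} (hv : v ≠ 0) : (fun i => σ (v i)) ≠ 0 := by
  intro h
  apply hv
  funext i
  have := congrFun h i
  simpa using this

theorem gl_mulVec_ne (g : GL (Fin m ⊕ Fin m) F) {v : Fin m ⊕ Fin m → F} (hv : v ≠ 0) :
    (g : Matrix (Fin m ⊕ Fin m) (Fin m ⊕ Fin m) F) *ᵥ v ≠ 0 := by
  intro h
  apply hv
  have := congrArg (fun w => ((g⁻¹ : GL (Fin m ⊕ Fin m) F) : Matrix (Fin m ⊕ Fin m) (Fin m ⊕ Fin m) F) *ᵥ w) h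
  simp only [Matrix.mulVec_mulVec, gl_inv_mul, Matrix.one_mulVec, Matrix.mulVec_zero] at this
  exact this

theorem permAt_fieldA (σ : F ≃+* F) : PermAt (fieldA (m := m) σ) :=
  fun v hv => ⟨_, map_sigma_ne σ hv, map_TS_fieldA σ v⟩

theorem permAt_conjA (g : Cfsg.GSp m F) : PermAt (conjA g) :=
  fun v hv => ⟨_, gl_mulVec_ne _ hv, map_TS_conjA g v⟩

theorem PermAt.trans {β γ : Cfsg.PSp m F ≃* Cfsg.PSp m F} (hβ : PermAt β) (hγ : PermAt γ) :
    PermAt (β.trans γ) := by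
  intro v hv
  obtain ⟨w, hw, h1⟩ := hβ v hv
  obtain ⟨u, hu, h2⟩ := hγ w hw
  refine ⟨u, hu, ?_⟩
  rw [← h2, ← h1, Subgroup.map_map]
  rfl

/-- a field automorphism induced by a conformal symplectic matrix is trivial -/
theorem sigma_eq_of_fieldA_eq_conjA (hm : 2 ≤ m) (σ : F ≃+* F) (g : Cfsg.GSp m F)
    (h : ∀ x, fieldA σ x = conjA g x) (a : F) : σ a = a := by
  have hpar : ∀ v : Fin m ⊕ Fin m → F, v ≠ 0 →
      Par (fun i => σ (v i))
        (((g : GL (Fin m ⊕ Fin m) F) : Matrix (Fin m ⊕ Fin m) (Fin m ⊕ Fin m) F) *ᵥ v) := by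
    intro v hv
    rw [← TS_eq_iff hm (map_sigma_ne σ hv), ← map_TS_fieldA, ← map_TS_conjA]
    congr 1
    ext x
    exact h x
  let i0 : Fin m ⊕ Fin m := Sum.inl ⟨0, by omega⟩
  let i1 : Fin m ⊕ Fin m := Sum.inl ⟨1, by omega⟩
  have h01 : i0 ≠ i1 := by
    intro h
    have := Sum.inl.inj h
    have := congrArg Fin.val this
    simp at this
  set M := ((g : GL (Fin m ⊕ Fin m) F) : Matrix (Fin m ⊕ Fin m) (Fin m ⊕ Fin m) F) with hM
  -- the vectors `a e₀ + e₁`
  let w : F → (Fin m ⊕ Fin m → F) := fun b => b • Pi.single i0 1 + Pi.single i1 1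
  have hw1 : ∀ b, w b i1 = 1 := by
    intro b
    simp [w, Pi.single_apply, h01.symm]
  have hw0 : ∀ b, w b i0 = b := by
    intro b
    simp [w, Pi.single_apply, h01]
  have hwne : ∀ b, w b ≠ 0 := by
    intro b h
    have := congrFun h i1
    rw [hw1] at this
    exact one_ne_zero this
  have hσw : ∀ b, (fun i => σ (w b i)) = w (σ b) := by
    intro b
    funext i
    simp only [w, Pi.add_apply, Pi.smul_apply, smul_eq_mul, Pi.single_apply, map_add, map_mul]
    by_cases h0 : i = i0 <;> by_cases h1 : i = i1 <;> simp [h0, h1]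
  have hσe : (fun i => σ ((Pi.single i0 (1 : F) : Fin m ⊕ Fin m → F) i)) = Pi.single i0 1 := by
    funext i
    simp only [Pi.single_apply]
    by_cases h0 : i = i0 <;> simp [h0]
  have he0 : (Pi.single i0 (1 : F) : Fin m ⊕ Fin m → F) ≠ 0 := by
    intro h
    have := congrFun h i0
    simp at this
  -- `M (w b) = c_b • w (σ b)`
  have key : ∀ b, ∃ c : F, c ≠ 0 ∧ M *ᵥ w b = c • w (σ b) := by
    intro b
    obtain ⟨c, hc, h1⟩ := (hpar (w b) (hwne b)).symm
    exact ⟨c, hc, by rw [h1, hσw]⟩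
  obtain ⟨c0, hc0, hM0⟩ := key 0
  obtain ⟨ca, hca, hMa⟩ := key a
  obtain ⟨ce, hce, hMe⟩ := (hpar _ he0).symm
  rw [hσe] at hMe
  -- `w a = w 0 + a • e₀`
  have hwa : w a = w 0 + a • Pi.single i0 1 := by
    simp only [w, zero_smul, zero_add]
    rw [add_comm]
  have h2 : ca • w (σ a) = c0 • w (σ 0) + a • (ce • Pi.single i0 1) := by
    rw [← hMa, hwa, Matrix.mulVec_add, Matrix.mulVec_smul, hM0, hMe]
  have e1 := congrFun h2 i1
  have e0 := congrFun h2 i0
  simp only [Pi.add_apply, Pi.smul_apply, smul_eq_mul, hw1, hw0, map_zero, Pi.single_apply,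
    if_neg h01.symm, if_true, mul_zero, add_zero, mul_one, zero_add] at e1 e0
  -- now `ca = c0`, `ca * σ a = a * ce`; the case `a = 1` gives `c0 = ce`
  obtain ⟨c1, hc1, hM1⟩ := key 1
  have hw1' : w 1 = w 0 + (1 : F) • Pi.single i0 1 := by
    simp only [w, zero_smul, zero_add]
    rw [add_comm]
  have h3 : c1 • w (σ 1) = c0 • w (σ 0) + (1 : F) • (ce • Pi.single i0 1) := by
    rw [← hM1, hw1', Matrix.mulVec_add, Matrix.mulVec_smul, hM0, hMe]
  have f1 := congrFun h3 i1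
  have f0 := congrFun h3 i0
  simp only [Pi.add_apply, Pi.smul_apply, smul_eq_mul, hw1, hw0, map_zero, map_one, Pi.single_apply,
    if_neg h01.symm, if_true, mul_zero, add_zero, mul_one, zero_add, one_mul] at f1 f0
  have h4 : ca * σ a = ca * a := by
    rw [e0, e1, ← f0, f1, mul_comm]
  exact mul_left_cancel₀ hca h4

end Cfsg.Agent.Lib.Lead.Sp4Graph
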