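import Cfsg.Agent.Lib.Lead.Sp4GraphF
import Cfsg.Agent.Lib.Lead.Sp4GraphH

set_option autoImplicit false
set_option linter.unusedVariables false
set_option linter.unusedSectionVars false

/-!
# Graph automorphism of `Sp₄` in characteristic 2, part I: the outer automorphism group of `PSp₄(2^f)`

`Out(PSp₄(F))`, `|F| = 2^f`, is cyclic of order `2f`, generated by the class of the graph automorphism `gamA`, whose
square is the Frobenius field automorphism.
-/

namespace Cfsg.Agent.Lib.Lead.Sp4Graph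

open Matrix Cfsg.Agent.Lib.Helper18.PSpAut Cfsg.Agent.Lib.Helper18.PSLnAut Cfsg.Agent.Lib.Helper14.SpPerfect

variable {F : Type*} [Field F] [Fintype F] [CharP F 2]

/-- restriction of scalars from `Gal(F/𝔽₂)` to `RingAut F` -/
noncomputable def galToRingAut :
    let _ : Algebra (ZMod 2) F := ZMod.algebra F 2
    (F ≃ₐ[ZMod 2] F) →* RingAut F :=
  let _ : Algebra (ZMod 2) F := ZMod.algebra F 2
  { toFun := fun ψ => ψ.toRingEquiv
    map_one' := rfl
    map_mul' := fun _ _ => rfl }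

theorem galToRingAut_surjective : Function.Surjective (galToRingAut (F := F)) := by
  let _ : Algebra (ZMod 2) F := ZMod.algebra F 2
  intro κ
  refine ⟨AlgEquiv.ofRingEquiv (f := κ) (fun r => ?_), by ext; rfl⟩
  have : (κ : F →+* F).comp (algebraMap (ZMod 2) F) = algebraMap (ZMod 2) F :=
    Subsingleton.elim _ _
  exact RingHom.congr_fun this r

theorem galToRingAut_injective : Function.Injective (galToRingAut (F := F)) := by
  let _ : Algebra (ZMod 2) F := ZMod.algebra F 2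
  intro a b h
  ext x
  exact RingEquiv.congr_fun h x

theorem galToRingAut_frob :
    let _ : Algebra (ZMod 2) F := ZMod.algebra F 2
    galToRingAut (FiniteField.frobeniusAlgEquivOfAlgebraic (ZMod 2) F) = (frob2 : RingAut F) := by
  let _ : Algebra (ZMod 2) F := ZMod.algebra F 2
  ext x
  show (FiniteField.frobeniusAlgEquivOfAlgebraic (ZMod 2) F) x = frob2 x
  rw [frob2_apply, FiniteField.coe_frobeniusAlgEquivOfAlgebraic, ZMod.card]

theorem exists_pow_frob2 (σ : RingAut F) : ∃ k : ℕ, σ = (frob2 : RingAut F) ^ k := by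
  let _ : Algebra (ZMod 2) F := ZMod.algebra F 2
  obtain ⟨ψ, rfl⟩ := galToRingAut_surjective σ
  obtain ⟨n, hn⟩ := (FiniteField.bijective_frobeniusAlgEquivOfAlgebraic_pow (ZMod 2) F).2 ψ
  refine ⟨n.1, ?_⟩
  rw [← hn, ← galToRingAut_frob]
  exact map_pow _ _ _

theorem orderOf_frob2 {f : ℕ} (hF : Fintype.card F = 2 ^ f) : orderOf (frob2 : RingAut F) = f := by
  let _ : Algebra (ZMod 2) F := ZMod.algebra F 2
  have hfin : Module.finrank (ZMod 2) F = f := by
    have h3 := Module.card_eq_pow_finrank (K := ZMod 2) (V := F)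
    rw [hF, ZMod.card] at h3
    exact (Nat.pow_right_injective (le_refl 2) h3).symm
  rw [← galToRingAut_frob, orderOf_injective _ galToRingAut_injective,
    FiniteField.orderOf_frobeniusAlgEquivOfAlgebraic, hfin]


/-! ### the outer automorphism group -/

/-- the graph automorphism as an element of the automorphism group -/
noncomputable def gamM : MulAut (Cfsg.PSp 2 F) := gamA

theorem gamM_apply (x : Cfsg.PSp 2 F) : (gamM (F := F)) x = gamA x := rfl

theorem gamM_mul_self : (gamM (F := F)) * gamM = fieldAHom (m := 2) (frob2 : RingAut F) := by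
  ext x
  rw [MulAut.mul_apply, gamM_apply, gamM_apply, gamA_gamA]
  rfl

theorem gamM_pow_two_mul (j : ℕ) :
    (gamM (F := F)) ^ (2 * j) = fieldAHom (m := 2) ((frob2 : RingAut F) ^ j) := by
  rw [pow_mul, pow_two, gamM_mul_self, map_pow]

theorem PermAt.congr {m : ℕ} {β γ : Cfsg.PSp m F ≃* Cfsg.PSp m F} (h : PermAt β) (hβγ : ∀ x, β x = γ x) :
    PermAt γ := by
  have : β = γ := MulEquiv.ext hβγ
  rwa [← this]

theorem not_permAt_gamA : ¬ PermAt (gamA (F := F)) := by
  intro h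
  obtain ⟨w, hw, hmap⟩ := h (eL 2 F 0) eL_zero_ne
  have h1 : gamA (pi (Tr (eL 2 F 0) (1 : F))) ∈ TS w := by
    rw [← hmap]
    exact ⟨_, pi_Tr_mem _ _, rfl⟩
  obtain ⟨c, hc⟩ := (mem_TS _ _).1 h1
  rw [gamA_pi, gamE_apply, ← zc_zero_right, gamS_zc, zero_pow (by norm_num)] at hc
  have hinj := pi_injective_of_two (m := 2) (F := F) (by norm_num) two_eq_zero'
  exact zc_ne_Tr (1 : F) one_ne_zero w c (hinj hc)

theorem conjAHom_mem_inn' (g : Cfsg.GSp 2 F) : conjAHom g ∈ Cfsg.Inn (Cfsg.PSp 2 F) := by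
  rw [← range_eq_inn_of_char_two (le_refl 2) two_eq_zero']
  exact ⟨g, rfl⟩

theorem permAt_of_mem_inn {β : MulAut (Cfsg.PSp 2 F)} (h : β ∈ Cfsg.Inn (Cfsg.PSp 2 F)) :
    PermAt (β : Cfsg.PSp 2 F ≃* Cfsg.PSp 2 F) := by
  rw [← range_eq_inn_of_char_two (le_refl 2) two_eq_zero'] at h
  obtain ⟨g, rfl⟩ := h
  exact permAt_conjA g

/-- every automorphism is, modulo inner automorphisms, a power of the graph automorphism -/
theorem aut_cases (β : MulAut (Cfsg.PSp 2 F)) :
    ∃ (i : MulAut (Cfsg.PSp 2 F)) (k : ℕ), i ∈ Cfsg.Inn (Cfsg.PSp 2 F) ∧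
      (β = i * gamM ^ (2 * k) ∨ β = gamM * (i * gamM ^ (2 * k))) := by
  obtain ⟨g, σ, h⟩ := aut_decomp β
  obtain ⟨k, hk⟩ := exists_pow_frob2 (σ : RingAut F)
  refine ⟨conjAHom g, k, conjAHom_mem_inn' g, ?_⟩
  have hσ : (gamM (F := F)) ^ (2 * k) = fieldAHom (m := 2) (σ : RingAut F) := by
    rw [gamM_pow_two_mul, ← hk]
  rcases h with h | h
  · left
    ext x
    rw [hσ, MulAut.mul_apply, h x]
    rfl
  · right
    ext x
    rw [hσ, MulAut.mul_apply, MulAut.mul_apply, h x]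
    rfl

/-- the class of the graph automorphism in the outer automorphism group -/
noncomputable def gamO : Cfsg.Out (Cfsg.PSp 2 F) := QuotientGroup.mk (gamM (F := F))

theorem mem_zpowers_gamO (o : Cfsg.Out (Cfsg.PSp 2 F)) : o ∈ Subgroup.zpowers (gamO (F := F)) := by
  obtain ⟨β, rfl⟩ := QuotientGroup.mk_surjective o
  obtain ⟨i, k, hi, h⟩ := aut_cases β
  have hi1 : (QuotientGroup.mk i : Cfsg.Out (Cfsg.PSp 2 F)) = 1 := (QuotientGroup.eq_one_iff i).2 hi
  rcases h with h | h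
  · rw [h, QuotientGroup.mk_mul, hi1, one_mul, QuotientGroup.mk_pow]
    exact Subgroup.npow_mem_zpowers _ _
  · rw [h, QuotientGroup.mk_mul, QuotientGroup.mk_mul, hi1, one_mul, QuotientGroup.mk_pow]
    exact Subgroup.mul_mem _ (Subgroup.mem_zpowers _) (Subgroup.npow_mem_zpowers _ _)

theorem gamM_not_mem (j : ℕ) : (gamM (F := F)) ^ (2 * j + 1) ∉ Cfsg.Inn (Cfsg.PSp 2 F) := by
  intro h
  have h1 := permAt_of_mem_inn h
  rw [pow_succ, gamM_pow_two_mul] at h1
  -- `gamA = (fieldA τ)⁻¹ ∘ (fieldA τ ∘ gamA)`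
  have h2 := PermAt.trans h1 (PermAt.symm (permAt_fieldA (m := 2) ((frob2 : RingAut F) ^ j)))
  apply not_permAt_gamA (F := F)
  refine PermAt.congr h2 fun x => ?_
  show (fieldA (m := 2) ((frob2 : RingAut F) ^ j)).symm
    (fieldA (m := 2) ((frob2 : RingAut F) ^ j) (gamA x)) = gamA x
  rw [MulEquiv.symm_apply_apply]

theorem two_mul_dvd_of_pow_mem {f : ℕ} (hF : Fintype.card F = 2 ^ f) (k : ℕ)
    (h : (gamM (F := F)) ^ k ∈ Cfsg.Inn (Cfsg.PSp 2 F)) : 2 * f ∣ k := by
  rcases Nat.even_or_odd' k with ⟨j, rfl | rfl⟩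
  · apply Nat.mul_dvd_mul_left
    rw [gamM_pow_two_mul, ← range_eq_inn_of_char_two (le_refl 2) two_eq_zero'] at h
    obtain ⟨g, hg⟩ := h
    have h1 : ((frob2 : RingAut F) ^ j) = 1 := by
      apply RingEquiv.ext
      intro a
      refine sigma_eq_of_fieldA_eq_conjA (le_refl 2) _ g (fun x => ?_) a
      have := congrArg (fun β : MulAut (Cfsg.PSp 2 F) => β x) hg
      exact this.symm
    rw [← orderOf_frob2 hF]
    exact orderOf_dvd_of_pow_eq_one h1
  · exact absurd h (gamM_not_mem j)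

/-- **`Out(PSp₄(2^f))` is cyclic of order `2f`** -/
theorem out_psp4_two {f : ℕ} (hf : 1 ≤ f) (hF : Fintype.card F = 2 ^ f) :
    IsCyclic (Cfsg.Out (Cfsg.PSp 2 F)) ∧ Nat.card (Cfsg.Out (Cfsg.PSp 2 F)) = 2 * f := by
  refine ⟨⟨⟨gamO, fun o => Subgroup.mem_zpowers_iff.1 (mem_zpowers_gamO o)⟩⟩, ?_⟩
  rw [← orderOf_eq_card_of_forall_mem_zpowers (mem_zpowers_gamO (F := F))]
  apply Nat.dvd_antisymm
  · apply orderOf_dvd_of_pow_eq_one
    show (QuotientGroup.mk (gamM (F := F)) : Cfsg.Out (Cfsg.PSp 2 F)) ^ (2 * f) = 1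
    rw [← QuotientGroup.mk_pow, QuotientGroup.eq_one_iff, gamM_pow_two_mul, ← orderOf_frob2 hF,
      pow_orderOf_eq_one, map_one]
    exact Subgroup.one_mem _
  · apply two_mul_dvd_of_pow_mem hF
    rw [← QuotientGroup.eq_one_iff, QuotientGroup.mk_pow]
    exact pow_orderOf_eq_one (gamO (F := F))

end Cfsg.Agent.Lib.Lead.Sp4Graph
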