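/-
lead: automorphisms of cyclic `p`-groups of order prime to `p`: they form a cyclic group of order
dividing `p - 1` acting freely on the non-identity elements.
-/
import Mathlib

set_option autoImplicit false

namespace Cfsg.Agent.CharLib

theorem mulAut_pow_apply_of_apply_eq_zpow {P : Type*} [Group P] (α : MulAut P) (g : P) (k : ℤ)
    (hk : α g = g ^ k) (j : ℕ) : (α ^ j) g = g ^ (k ^ j) := by
  induction j with
  | zero => simp
  | succ j ih =>
    rw [pow_succ', MulAut.mul_apply, ih, map_zpow, hk, ← zpow_mul, pow_succ']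

/-- An automorphism of order prime to `p` of a cyclic group of order `p ^ n` fixing a non-identity
element is trivial. -/
theorem cyclic_aut_free {P : Type*} [Group P] [Finite P] [IsCyclic P] {p n : ℕ} (hp : p.Prime)
    (hcard : Nat.card P = p ^ n) (α : MulAut P) (hα : (orderOf α).Coprime p) (x : P) (hx : x ≠ 1)
    (hfix : α x = x) : α = 1 := by
  obtain ⟨g, hg⟩ := IsCyclic.exists_generator (α := P)
  have hog : orderOf g = p ^ n := by
    rw [orderOf_eq_card_of_forall_mem_zpowers hg, hcard]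
  obtain ⟨k, hk⟩ := Subgroup.mem_zpowers_iff.mp (hg (α g))
  obtain ⟨m, hm⟩ := Subgroup.mem_zpowers_iff.mp (hg x)
  have hn : n ≠ 0 := by
    rintro rfl
    apply hx
    rw [pow_zero] at hog
    rw [orderOf_eq_one_iff] at hog
    rw [← hm, hog, one_zpow]
  have h1 : g ^ (k * m - m) = 1 := by
    have h : α (g ^ m) = g ^ m := by rw [hm]; exact hfix
    rw [map_zpow, ← hk, ← zpow_mul] at h
    rw [zpow_sub, h, mul_inv_cancel]
  have h2 : ((p ^ n : ℕ) : ℤ) ∣ k * m - m := by
    rw [← hog]; exact orderOf_dvd_iff_zpow_eq_one.mpr h1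
  have h3 : ¬ ((p ^ n : ℕ) : ℤ) ∣ m := by
    intro h
    apply hx
    rw [← hm]
    rw [← hog] at h
    exact orderOf_dvd_iff_zpow_eq_one.mp h
  have h4 : (p : ℤ) ∣ k - 1 := by
    by_contra hnd
    have hcop : IsCoprime (p : ℤ) (k - 1) :=
      (Nat.prime_iff_prime_int.mp hp).coprime_iff_not_dvd.mpr hnd
    have hcop' : IsCoprime ((p : ℤ) ^ n) (k - 1) := hcop.pow_left
    apply h3
    have h5 : ((p : ℤ) ^ n) ∣ m * (k - 1) := by
      have : m * (k - 1) = k * m - m := by ring
      rw [this]
      exact_mod_cast h2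
    have := hcop'.dvd_of_dvd_mul_right h5
    exact_mod_cast this
  obtain ⟨n', rfl⟩ := Nat.exists_eq_succ_of_ne_zero hn
  have h6 : ((p : ℤ) ^ (n' + 1)) ∣ k ^ p ^ n' - 1 ^ p ^ n' := dvd_sub_pow_of_dvd_sub h4 n'
  rw [one_pow] at h6
  have h7 : (α ^ (p ^ n')) g = g := by
    rw [mulAut_pow_apply_of_apply_eq_zpow α g k hk.symm]
    obtain ⟨c, hc⟩ := h6
    have : k ^ p ^ n' = 1 + (p : ℤ) ^ (n' + 1) * c := by rw [← hc]; ring
    rw [this, zpow_add, zpow_one, zpow_mul]
    have : g ^ ((p : ℤ) ^ (n' + 1)) = 1 := by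
      have := pow_orderOf_eq_one g
      rw [hog] at this
      rw [← this]
      norm_cast
    rw [this, one_zpow, mul_one]
  have h8 : α ^ (p ^ n') = 1 := by
    ext y
    obtain ⟨e, rfl⟩ := Subgroup.mem_zpowers_iff.mp (hg y)
    rw [map_zpow, h7, MulAut.one_apply]
  have h9 : orderOf α ∣ p ^ n' := orderOf_dvd_of_pow_eq_one h8
  have h10 : orderOf α = 1 := by
    have := Nat.Coprime.eq_one_of_dvd (hα.pow_right n') h9
    exact this
  exact orderOf_eq_one_iff.mp h10

/-- A subgroup of order prime to `p` of the automorphism group of a cyclic group of order `p ^ n`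
is cyclic of order dividing `p - 1` and acts freely on the non-identity elements. -/
theorem cyclic_aut_facts {P : Type*} [Group P] [Finite P] [IsCyclic P] {p n : ℕ} (hp : p.Prime)
    (hcard : Nat.card P = p ^ n) (Q : Subgroup (MulAut P)) (hQ : (Nat.card Q).Coprime p) :
    IsCyclic Q ∧ Nat.card Q ∣ p - 1 ∧
      ∀ α ∈ Q, ∀ x : P, x ≠ 1 → α x = x → α = 1 := by
  have hfin : Finite (MulAut P) := by
    apply Nat.finite_of_card_ne_zero
    rw [IsCyclic.card_mulAut, hcard]
    exact (Nat.totient_pos.mpr (pow_pos hp.pos n)).ne'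
  have hdvd : Nat.card Q ∣ Nat.card (MulAut P) := Subgroup.card_subgroup_dvd_card Q
  rw [IsCyclic.card_mulAut, hcard] at hdvd
  have hdvd' : Nat.card Q ∣ p - 1 := by
    rcases Nat.eq_zero_or_pos n with rfl | hn
    · rw [pow_zero, Nat.totient_one] at hdvd
      rw [Nat.dvd_one.mp hdvd]
      exact one_dvd _
    · rw [Nat.totient_prime_pow hp hn] at hdvd
      exact (hQ.pow_right (n - 1)).dvd_of_dvd_mul_left hdvd
  refine ⟨?_, hdvd', ?_⟩
  · by_cases hp2 : p = 2
    · subst hp2
      have h1 : Nat.card Q = 1 := Nat.dvd_one.mp (by simpa using hdvd')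
      have : Subsingleton Q := (Nat.card_eq_one_iff_unique.mp h1).1
      infer_instance
    · have hU : IsCyclic (ZMod (p ^ n))ˣ := ZMod.isCyclic_units_of_prime_pow p hp hp2 n
      have e : MulAut P ≃* (ZMod (p ^ n))ˣ := by
        have e0 := IsCyclic.mulAutMulEquiv P
        rw [hcard] at e0
        exact e0
      have hA : IsCyclic (MulAut P) := isCyclic_of_surjective e.symm e.symm.surjective
      infer_instance
  · intro α hαQ x hx hfix
    have hord : orderOf α ∣ Nat.card Q := by
      have := orderOf_dvd_natCard (⟨α, hαQ⟩ : Q)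
      rwa [Subgroup.orderOf_mk] at this
    exact cyclic_aut_free hp hcard α (Nat.Coprime.coprime_dvd_left hord hQ) x hx hfix

end Cfsg.Agent.CharLib
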