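import Mathlib
import Cfsg.Agent.Lib.Lead.CNEnd6
/-! Endgame for groups partitioned by TI Frobenius kernels (Peterfalvi 7.1), part 7:
the final contradiction. -/
set_option autoImplicit false
open Cfsg Cfsg.Agent.CharLib
open scoped ComplexConjugate

namespace Cfsg.Agent.Lib.Lead.CNEnd
universe u v

theorem poly_ineq (e w : ℚ) (he : 3 ≤ e) (hw : 2 ≤ w) :
    (w + e) / (e * w + 1) + (e - 1) / (e * w + 1 + 2) ≤
      1 - 4 / ((e * w + 1) * (e * w + 1 + 2)) := by
  have h1 : 0 < e * w + 1 := by nlinarith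
  have h2 : 0 < e * w + 1 + 2 := by linarith
  have ha : 0 ≤ e - 3 := by linarith
  have hb : 0 ≤ w - 2 := by linarith
  rw [← sub_nonneg]
  have hP : 1 - 4 / ((e * w + 1) * (e * w + 1 + 2)) -
      ((w + e) / (e * w + 1) + (e - 1) / (e * w + 1 + 2)) =
      (2 * (e - 3) + 18 * (w - 2) + 13 * ((e - 3) * (w - 2)) + 2 * ((e - 3) ^ 2 * (w - 2))
        + 6 * (w - 2) ^ 2 + 5 * ((e - 3) * (w - 2) ^ 2) + (e - 3) ^ 2 * (w - 2) ^ 2) /
        ((e * w + 1) * (e * w + 1 + 2)) := by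
    field_simp
    ring
  rw [hP]
  apply div_nonneg _ (mul_pos h1 h2).le
  positivity

variable {G : Type u} [Group G] [Fintype G] {ι : Type v} (F : Fam G ι)

open Classical in
/-- `1 - 1/|G| = ∑ w_i / h_i`. -/
theorem Fam.count [Fintype ι] :
    (1 : ℚ) - 1 / (Nat.card G : ℚ) = ∑ i : ι, (F.w i : ℚ) / (Nat.card (F.H i) : ℚ) := by
  have h2 := F.sum_eq (fun _ => (1 : ℂ)) (fun _ _ => rfl)
  have hGpos : 0 < Nat.card G := Nat.card_pos
  simp only [Finset.sum_const, Finset.card_univ, nsmul_eq_mul, mul_one] at h2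
  have h3 : ∀ i : ι, ((Finset.univ.filter (fun h : G => h ∈ F.H i ∧ h ≠ 1)).card : ℂ) =
      ((F.e i * F.w i : ℕ) : ℂ) := by
    intro i
    have h4 := card_filter_mem_ne_one (F.H i)
    rw [F.hcardH i] at h4
    have h5 : (Finset.univ.filter (fun h : G => h ∈ F.H i ∧ h ≠ 1)).card = F.e i * F.w i := by
      omega
    rw [h5]
  simp only [h3] at h2
  rw [← Nat.card_eq_fintype_card] at h2
  have hQ : (Nat.card G : ℚ) = 1 + ∑ i : ι, (Nat.card G : ℚ) /
      ((F.e i * Nat.card (F.H i) : ℕ) : ℚ) * ((F.e i * F.w i : ℕ) : ℚ) := by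
    have h2' : (Nat.card G : ℂ) = 1 + ∑ i : ι, (Nat.card G : ℂ) /
        ((F.e i * Nat.card (F.H i) : ℕ) : ℂ) * ((F.e i * F.w i : ℕ) : ℂ) := by
      refine h2.trans ?_
      congr 1
      apply Finset.sum_congr rfl
      intro i _
      rw [F.hcardN i]
    apply Rat.cast_injective (α := ℂ)
    push_cast
    push_cast at h2'
    exact h2'
  have hg : (0 : ℚ) < (Nat.card G : ℚ) := by exact_mod_cast hGpos
  have hterm : ∀ i ∈ (Finset.univ : Finset ι), (Nat.card G : ℚ) /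
      ((F.e i * Nat.card (F.H i) : ℕ) : ℚ) * ((F.e i * F.w i : ℕ) : ℚ) =
      (Nat.card G : ℚ) * ((F.w i : ℚ) / (Nat.card (F.H i) : ℚ)) := by
    intro i _
    have he : (F.e i : ℚ) ≠ 0 := by
      have := F.he i
      exact_mod_cast (by omega : F.e i ≠ 0)
    have hh : (Nat.card (F.H i) : ℚ) ≠ 0 := by
      exact_mod_cast (Nat.card_pos (α := F.H i)).ne'
    push_cast
    field_simp
  rw [Finset.sum_congr rfl hterm, ← Finset.mul_sum] at hQ
  field_simp
  linarith

end Cfsg.Agent.Lib.Lead.CNEnd
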