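import Mathlib
import Cfsg.Agent.Lib.Lead.CNEnd7
/-! Endgame for groups partitioned by TI Frobenius kernels (Peterfalvi 7.1), part 8:
the final contradiction. -/
set_option autoImplicit false
open Cfsg Cfsg.Agent.CharLib
open scoped ComplexConjugate

namespace Cfsg.Agent.Lib.Lead.CNEnd
universe u v

variable {G : Type u} [Group G] [Fintype G] {ι : Type v}

open Classical in
/-- **Peterfalvi (7.1), endgame**: no group of odd order carries such a family with at least two
members. -/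
theorem Fam.false_of [Fintype ι] (F : Fam G ι) (hodd : Odd (Nat.card G)) (hι : 2 ≤ Fintype.card ι) : False := by
  letI := fintypeIrr G
  have hne : (Finset.univ : Finset ι).Nonempty := by
    rw [Finset.univ_nonempty_iff]
    exact Fintype.card_pos_iff.mp (by omega)
  obtain ⟨k, -, hk⟩ := Finset.exists_min_image Finset.univ (fun i => Nat.card (F.H i)) hne
  have hodd_h : ∀ i, Odd (Nat.card (F.H i)) :=
    fun i => Odd.of_dvd_nat hodd (Subgroup.card_subgroup_dvd_card _)
  have hbig : ∀ i, 7 ≤ Nat.card (F.H i) := by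
    intro i
    have h1 := F.hcardH i
    have h2 := F.he i
    have h3 := F.hw2 i
    nlinarith
  have hstep : ∀ m, m ≠ k → Nat.card (F.H k) + 2 ≤ Nat.card (F.H m) := by
    intro m hm
    have h1 := hk m (Finset.mem_univ _)
    have h2 : Nat.card (F.H m) ≠ Nat.card (F.H k) := by
      intro heq
      have h3 := F.hcop m k hm
      rw [heq, Nat.coprime_self] at h3
      have := hbig k
      omega
    obtain ⟨a, ha⟩ := hodd_h m
    obtain ⟨b, hb⟩ := hodd_h k
    omega
  obtain ⟨m0, hm0⟩ : ∃ m, m ≠ k := by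
    by_contra hcon
    push Not at hcon
    have : Fintype.card ι ≤ 1 :=
      Fintype.card_le_one_iff.mpr (fun a b => by rw [hcon a, hcon b])
    omega
  have hg : Nat.card (F.H k) * (Nat.card (F.H k) + 2) ≤ Nat.card G := by
    have hd : Nat.card (F.H k) * Nat.card (F.H m0) ∣ Nat.card G :=
      Nat.Coprime.mul_dvd_of_dvd_of_dvd (F.hcop k m0 (Ne.symm hm0))
        (Subgroup.card_subgroup_dvd_card _) (Subgroup.card_subgroup_dvd_card _)
    have h1 := Nat.le_of_dvd Nat.card_pos hd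
    have h2 := hstep m0 hm0
    nlinarith
  have hcount := F.count
  have hrow := F.row_bound k
  have hcol := F.column_bound k
  set hk' : ℚ := (Nat.card (F.H k) : ℚ) with hk'def
  have hk'pos : (0 : ℚ) < hk' := by
    rw [hk'def]; exact_mod_cast (Nat.card_pos (α := F.H k))
  have hterm : ∀ m ∈ Finset.univ.erase k, (F.w m : ℚ) / (Nat.card (F.H m) : ℚ) ≤
      ((F.w m : ℚ) / (Nat.card (F.H m) : ℚ)) * ((F.a k m : ℤ) : ℚ) ^ 2 +
        (((F.w m : ℤ) * (F.a m k) ^ 2 : ℤ) : ℚ) / (hk' + 2) := by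
    intro m hm
    rw [Finset.mem_erase] at hm
    have hpar := F.parity hodd hm.1
    have hhm : (0 : ℚ) < (Nat.card (F.H m) : ℚ) := by
      exact_mod_cast (Nat.card_pos (α := F.H m))
    have hwm : (0 : ℚ) ≤ (F.w m : ℚ) := Nat.cast_nonneg _
    have hq : (0 : ℚ) ≤ (F.w m : ℚ) / (Nat.card (F.H m) : ℚ) := div_nonneg hwm hhm.le
    have hstep' : hk' + 2 ≤ (Nat.card (F.H m) : ℚ) := by
      rw [hk'def]; exact_mod_cast hstep m hm.1
    by_cases h0 : F.a k m = 0
    · have hodd' : Odd (F.a m k) := by rwa [h0, add_zero] at hpar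
      have h1 : (1 : ℤ) ≤ (F.a m k) ^ 2 := by
        have : F.a m k ≠ 0 := by
          intro h; rw [h] at hodd'; exact absurd hodd' (by decide)
        have := sq_pos_of_ne_zero this  -- 0 < a^2
        omega
      have h1' : (1 : ℚ) ≤ ((F.a m k : ℤ) : ℚ) ^ 2 := by exact_mod_cast h1
      rw [h0]
      push_cast
      have h2 : (F.w m : ℚ) / (Nat.card (F.H m) : ℚ) ≤ (F.w m : ℚ) / (hk' + 2) :=
        div_le_div_of_nonneg_left hwm (by linarith) hstep'
      have h3 : (F.w m : ℚ) / (hk' + 2) ≤ (F.w m : ℚ) * ((F.a m k : ℤ) : ℚ) ^ 2 / (hk' + 2) := by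
        apply div_le_div_of_nonneg_right _ (by linarith : (0 : ℚ) ≤ hk' + 2)
        nlinarith
      simp only [ne_eq, OfNat.ofNat_ne_zero, not_false_eq_true, zero_pow, mul_zero, zero_add]
      linarith
    · have h1 : (1 : ℤ) ≤ (F.a k m) ^ 2 := by
        have := sq_pos_of_ne_zero h0
        omega
      have h1' : (1 : ℚ) ≤ ((F.a k m : ℤ) : ℚ) ^ 2 := by exact_mod_cast h1
      have h2 : (0 : ℚ) ≤ (((F.w m : ℤ) * (F.a m k) ^ 2 : ℤ) : ℚ) / (hk' + 2) := by
        apply div_nonneg _ (by linarith)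
        push_cast
        positivity
      nlinarith
  have hsum := Finset.sum_le_sum hterm
  rw [Finset.sum_add_distrib, ← Finset.sum_div] at hsum
  have hcol' : ((∑ m ∈ Finset.univ.erase k, (F.w m : ℤ) * (F.a m k) ^ 2 : ℤ) : ℚ) ≤
      (F.e k : ℚ) - 1 := by
    have : ((∑ m ∈ Finset.univ.erase k, (F.w m : ℤ) * (F.a m k) ^ 2 : ℤ) : ℚ) ≤
        (((F.e k : ℤ) - 1 : ℤ) : ℚ) := by exact_mod_cast hcol
    push_cast at this ⊢
    exact this
  rw [Int.cast_sum] at hcol'
  have hcol2 : (∑ m ∈ Finset.univ.erase k, (((F.w m : ℤ) * (F.a m k) ^ 2 : ℤ) : ℚ)) / (hk' + 2) ≤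
      ((F.e k : ℚ) - 1) / (hk' + 2) :=
    div_le_div_of_nonneg_right hcol' (by linarith)
  rw [← Finset.add_sum_erase Finset.univ _ (Finset.mem_univ k)] at hcount
  have hhk : hk' = (F.e k : ℚ) * (F.w k : ℚ) + 1 := by
    rw [hk'def]; exact_mod_cast F.hcardH k
  have he3 : (3 : ℚ) ≤ (F.e k : ℚ) := by exact_mod_cast F.he k
  have hw2 : (2 : ℚ) ≤ (F.w k : ℚ) := by exact_mod_cast F.hw2 k
  have hpoly := poly_ineq (F.e k : ℚ) (F.w k : ℚ) he3 hw2
  rw [← hhk] at hpoly
  have hgq : hk' * (hk' + 2) ≤ (Nat.card G : ℚ) := by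
    rw [hk'def]; exact_mod_cast hg
  have hgpos : (0 : ℚ) < (Nat.card G : ℚ) := by
    exact_mod_cast (Nat.card_pos (α := G))
  have hfrac : 1 / (Nat.card G : ℚ) < 4 / (hk' * (hk' + 2)) := by
    have hpos : (0 : ℚ) < hk' * (hk' + 2) := by positivity
    rw [div_lt_div_iff₀ hgpos hpos]
    nlinarith
  have hsplit : ((F.w k : ℚ) + (F.e k : ℚ)) / hk' = (F.w k : ℚ) / hk' + (F.e k : ℚ) / hk' :=
    add_div _ _ _
  rw [hsplit] at hpoly
  linarith

end Cfsg.Agent.Lib.Lead.CNEnd
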