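import Mathlib
import Cfsg.Agent.Lib.Lead.CNExc9
/-! Characters of a group with a Frobenius kernel, part 10: the exceptional-character data of a
TI Frobenius kernel whose induced characters are coherent. -/
set_option autoImplicit false
open Cfsg Cfsg.Agent.CharLib
open scoped ComplexConjugate

namespace Cfsg.Agent.Lib.Lead.CNExc
universe u

variable {G : Type u} [Group G] [Fintype G] (H : Subgroup G)
  [Fintype (Subgroup.normalizer (H : Set G))]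
  [Fintype (IrrCharacter (Subgroup.normalizer (H : Set G)))]

local notation "NH" => Subgroup.normalizer (H : Set G)
local notation "KH" => H.subgroupOf (Subgroup.normalizer (H : Set G))

set_option maxHeartbeats 1600000 in
theorem excData_of_cohData (hodd : Odd (Nat.card G)) (hTI : IsTISubset (H : Set G))
    (hfrob : ∀ h ∈ H, h ≠ 1 →
      Subgroup.normalizer (H : Set G) ⊓ Subgroup.centralizer ({h} : Set G) ≤ H)
    (hsolv : Group.IsSolvable H) (hH1 : H ≠ ⊥) (hlt : H < Subgroup.normalizer (H : Set G))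
    (D : CohData (Subgroup.normalizer (H : Set G))
      (H.subgroupOf (Subgroup.normalizer (H : Set G)))) :
    ∃ e w : ℕ, 3 ≤ e ∧ 2 ≤ w ∧ Nat.card H = e * w + 1 ∧
      Nat.card (Subgroup.normalizer (H : Set G)) = e * Nat.card H ∧
      Nonempty (Cfsg.Agent.Lib.Lead.CNEnd.ExcData G H e w) := by
  classical
  have hC := frob_transfer H hfrob
  have hoddN : Odd (Nat.card NH) := Odd.of_dvd_nat hodd (Subgroup.card_subgroup_dvd_card _)
  have hsolvK := solvable_subgroupOf_normalizer H hsolv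
  have hK1 := subgroupOf_normalizer_ne_bot H hH1
  have hKtop := subgroupOf_normalizer_ne_top H hlt
  obtain ⟨ψ₁, hψ₁, h1⟩ := exists_exc_linear KH hC hsolvK hK1
  have hdeg : ∀ ψ : IrrCharacter NH, ∃ n : ℕ, ψ ∈ exc KH →
      (0 < n ∧ (ψ : NH → ℂ) 1 = (((KH).index * n : ℕ) : ℂ)) := by
    intro ψ
    by_cases h : ψ ∈ exc KH
    · obtain ⟨n, hn, hn1⟩ := exc_degree KH hC h
      exact ⟨n, fun _ => ⟨hn, hn1⟩⟩
    · exact ⟨0, fun h' => absurd h' h⟩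
  choose nL hnL' using hdeg
  have hnL : ∀ ψ ∈ exc KH, (ψ : NH → ℂ) 1 = (((KH).index * nL ψ : ℕ) : ℂ) :=
    fun ψ hψ => (hnL' ψ hψ).2
  have hcardK := index_mul_sum_sq KH nL hnL
  have hcardH : Nat.card H = (KH).index * (∑ ψ ∈ exc KH, (nL ψ) ^ 2) + 1 := by
    rw [← card_subgroupOf_normalizer H]; exact hcardK.symm
  have hcardN : Nat.card NH = (KH).index * Nat.card H := by
    rw [← card_subgroupOf_normalizer H, Subgroup.index_mul_card]
  have he_odd : Odd (KH).index := Odd.of_dvd_nat hoddN (Subgroup.index_dvd_card _)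
  have he1 : (KH).index ≠ 1 := fun h => hKtop (Subgroup.index_eq_one.mp h)
  have he3 : 3 ≤ (KH).index := by
    obtain ⟨k, hk⟩ := he_odd
    omega
  have hn1 : nL ψ₁ = 1 := by
    have h2 := hnL ψ₁ hψ₁
    rw [h1] at h2
    have h3 : (KH).index = (KH).index * nL ψ₁ := by exact_mod_cast h2
    have h4 : 0 < (KH).index := by omega
    nlinarith
  have hw1 : 1 ≤ ∑ ψ ∈ exc KH, (nL ψ) ^ 2 := by
    have h2 : (nL ψ₁) ^ 2 ≤ ∑ ψ ∈ exc KH, (nL ψ) ^ 2 :=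
      Finset.single_le_sum (f := fun ψ => (nL ψ) ^ 2) (fun _ _ => Nat.zero_le _) hψ₁
    rw [hn1] at h2
    simpa using h2
  have hHodd : Odd (Nat.card H) := Odd.of_dvd_nat hodd (Subgroup.card_subgroup_dvd_card _)
  have hw2 : 2 ≤ ∑ ψ ∈ exc KH, (nL ψ) ^ 2 := by
    rw [hcardH] at hHodd
    have hev : Even ((KH).index * ∑ ψ ∈ exc KH, (nL ψ) ^ 2) := by
      rcases Nat.even_or_odd ((KH).index * ∑ ψ ∈ exc KH, (nL ψ) ^ 2) with h | h
      · exact h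
      · exfalso
        exact (Nat.not_odd_iff_even.mpr (h.add_odd odd_one)) hHodd
    have hwe : Even (∑ ψ ∈ exc KH, (nL ψ) ^ 2) := by
      rcases Nat.even_mul.mp hev with h | h
      · exact absurd h (Nat.not_even_iff_odd.mpr he_odd)
      · exact h
    obtain ⟨k, hk⟩ := hwe
    omega
  obtain ⟨c, hc⟩ := chi1_values H hC D hψ₁ h1
  have hval : ∀ ψ ∈ exc KH, ∀ x : NH, x ∈ KH → x ≠ 1 →
      ((D.Xf ψ : IrrCharacter G) : G → ℂ) x = (D.ε : ℂ) * (ψ : NH → ℂ) x + (nL ψ : ℂ) * (c : ℂ) :=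
    fun ψ hψ x hx hx1 => exc_values H hTI hC D hψ₁ h1 c hc hψ (nL ψ) (hnL ψ hψ) x hx hx1
  have hoffL : ∀ ψ ∈ exc KH, ∀ y : G, (∀ g : G, g * y * g⁻¹ ∉ H) →
      ((D.Xf ψ : IrrCharacter G) : G → ℂ) y =
        (nL ψ : ℂ) * ((D.Xf ψ₁ : IrrCharacter G) : G → ℂ) y :=
    fun ψ hψ y hy => exc_off H hC D hψ₁ h1 hψ (nL ψ) (hnL ψ hψ) y hy
  have hinj : Set.InjOn D.Xf (exc KH : Set (IrrCharacter NH)) :=
    fun a ha b hb h => D.inj a ha b hb h
  let nG : IrrCharacter G → ℕ := fun χ =>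
    if h : ∃ ψ ∈ exc KH, D.Xf ψ = χ then nL (Classical.choose h) else 0
  have hnG : ∀ ψ ∈ exc KH, nG (D.Xf ψ) = nL ψ := by
    intro ψ hψ
    have h : ∃ ψ' ∈ exc KH, D.Xf ψ' = D.Xf ψ := ⟨ψ, hψ, rfl⟩
    simp only [nG, dif_pos h]
    have hs := Classical.choose_spec h
    rw [D.inj _ hs.1 ψ hψ hs.2]
  have hm : ∀ χ : IrrCharacter G, ∃ m : ℤ, (∀ ψ ∈ exc KH, D.Xf ψ ≠ χ) →
      ∀ x ∈ H, x ≠ 1 → (χ : G → ℂ) x = (m : ℂ) := by
    intro χ
    by_cases h : ∀ ψ ∈ exc KH, D.Xf ψ ≠ χ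
    · obtain ⟨m, hm⟩ := const_outside H hC D hψ₁ h1 χ h
      exact ⟨m, fun _ => hm⟩
    · exact ⟨0, fun h' => absurd h' h⟩
  choose mG hmG using hm
  have hnLcj : ∀ ψ ∈ exc KH, nL (cjIrr ψ) = nL ψ := by
    intro ψ hψ
    have h2 := hnL _ (cj_mem_exc KH hψ)
    have h3 := hnL ψ hψ
    have hdeg : ((cjIrr ψ : IrrCharacter NH) : NH → ℂ) 1 = (ψ : NH → ℂ) 1 := by
      rw [cjIrr_apply]
      exact IsCharacter.conj_apply_one (IsIrrCharacter.isCharacter ψ.2)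
    rw [hdeg, h3] at h2
    have h4 : (KH).index * nL ψ = (KH).index * nL (cjIrr ψ) := by exact_mod_cast h2
    have h5 : 0 < (KH).index := by omega
    exact (Nat.eq_of_mul_eq_mul_left h5 h4).symm
  have hεconj : conj (D.ε : ℂ) = (D.ε : ℂ) := map_intCast _ _
  have hcconj : conj (c : ℂ) = (c : ℂ) := map_intCast _ _
  have hεsq : (D.ε : ℂ) * (D.ε : ℂ) = 1 := by
    rcases D.hε with h | h <;> rw [h] <;> norm_num
  refine ⟨(KH).index, ∑ ψ ∈ exc KH, (nL ψ) ^ 2, he3, hw2, hcardH, hcardN,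
    ⟨{ X := (exc KH).image D.Xf, n := nG, m := mG, ε := D.ε, c := c, χ₁ := D.Xf ψ₁,
       hε := D.hε, hχ₁ := Finset.mem_image_of_mem _ hψ₁,
       hn₁ := by rw [hnG ψ₁ hψ₁, hn1],
       hw := ?_, hconj := ?_, hnonreal := ?_, hreal := ?_, hconst := ?_, hsum1 := ?_,
       hsum2 := ?_, hrow := ?_, hoff := ?_ }⟩⟩
  · rw [Finset.sum_image hinj]
    apply Finset.sum_congr rfl
    intro ψ hψ
    rw [hnG ψ hψ]
  · intro χ hχ
    obtain ⟨ψ, hψ, rfl⟩ := Finset.mem_image.mp hχ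
    rw [← (Xf_cj H D hoddN hψ).1]
    exact Finset.mem_image_of_mem _ (cj_mem_exc KH hψ)
  · intro χ hχ
    obtain ⟨ψ, hψ, rfl⟩ := Finset.mem_image.mp hχ
    exact Xf_nonreal H D hoddN hψ
  · intro χ hχ y _ hy
    obtain ⟨ψ, hψ, rfl⟩ := Finset.mem_image.mp hχ
    have h2 : conj (((D.Xf ψ : IrrCharacter G) : G → ℂ) y) =
        ((cjIrr (D.Xf ψ) : IrrCharacter G) : G → ℂ) y := rfl
    rw [h2, ← (Xf_cj H D hoddN hψ).1, hoffL _ (cj_mem_exc KH hψ) y hy, hoffL ψ hψ y hy,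
      hnLcj ψ hψ]
  · intro χ hχ x hx hx1
    apply hmG χ _ x hx hx1
    intro ψ hψ heq
    exact hχ (heq ▸ Finset.mem_image_of_mem _ hψ)
  · intro x hx hx1
    have hxK : (⟨x, Subgroup.le_normalizer hx⟩ : NH) ∈ KH := Subgroup.mem_subgroupOf.mpr hx
    have hx1' : (⟨x, Subgroup.le_normalizer hx⟩ : NH) ≠ 1 :=
      fun h => hx1 (congrArg Subtype.val h)
    rw [Finset.sum_image hinj]
    rw [← sum1_core KH nL hnL (D.ε : ℂ) (c : ℂ) hxK hx1']
    apply Finset.sum_congr rfl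
    intro ψ hψ
    rw [hnG ψ hψ, ← hval ψ hψ _ hxK hx1']
  · intro x hx hx1
    have hxK : (⟨x, Subgroup.le_normalizer hx⟩ : NH) ∈ KH := Subgroup.mem_subgroupOf.mpr hx
    have hx1' : (⟨x, Subgroup.le_normalizer hx⟩ : NH) ≠ 1 :=
      fun h => hx1 (congrArg Subtype.val h)
    rw [Finset.sum_image hinj]
    have hcent := ti_card_centralizer H hTI ⟨x, Subgroup.le_normalizer hx⟩ hx hx1
    have hcore := sum2_core KH nL hnL (D.ε : ℂ) (c : ℂ) hεconj hεsq hcconj hxK hx1'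
    rw [hcent] at hcore
    rw [← hcore]
    apply Finset.sum_congr rfl
    intro ψ hψ
    rw [← hval ψ hψ _ hxK hx1']
  · rw [sum_transfer H (fun x => ((D.Xf ψ₁ : IrrCharacter G) : G → ℂ) x *
      conj (((D.Xf ψ₁ : IrrCharacter G) : G → ℂ) x))]
    have hcore := row_core KH nL hnL hC (D.ε : ℂ) (c : ℂ) hεconj hεsq hcconj hψ₁ h1
    have hcongr : ∑ y ∈ Finset.univ.filter (fun y : NH => y ∈ KH ∧ y ≠ 1),
        ((D.Xf ψ₁ : IrrCharacter G) : G → ℂ) y * conj (((D.Xf ψ₁ : IrrCharacter G) : G → ℂ) y) =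
        ∑ x ∈ Finset.univ.filter (fun x : NH => x ∈ KH ∧ x ≠ 1),
          ((D.ε : ℂ) * (ψ₁ : NH → ℂ) x + (c : ℂ)) *
            conj ((D.ε : ℂ) * (ψ₁ : NH → ℂ) x + (c : ℂ)) := by
      apply Finset.sum_congr rfl
      intro y hy
      rw [Finset.mem_filter] at hy
      rw [hc y hy.2.1 hy.2.2]
    have hcore' : ∑ x ∈ Finset.univ.filter (fun x : NH => x ∈ KH ∧ x ≠ 1),
          ((D.ε : ℂ) * (ψ₁ : NH → ℂ) x + (c : ℂ)) *
            conj ((D.ε : ℂ) * (ψ₁ : NH → ℂ) x + (c : ℂ)) =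
        (Nat.card NH : ℂ) - ((KH).index : ℂ) ^ 2 - 2 * (D.ε : ℂ) * (c : ℂ) * ((KH).index : ℂ) +
          (c : ℂ) ^ 2 * (((KH).index * (∑ ψ ∈ exc KH, (nL ψ) ^ 2) : ℕ) : ℂ) := by
      convert hcore
    rw [hcongr, hcore', hcardN, hcardH]
    push_cast
    ring
  · intro χ hχ y _ hy
    obtain ⟨ψ, hψ, rfl⟩ := Finset.mem_image.mp hχ
    rw [hnG ψ hψ]
    exact hoffL ψ hψ y hy

end Cfsg.Agent.Lib.Lead.CNExc
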