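import Mathlib
import Cfsg.Agent.Lib.Lead.CNExc10
/-! Characters of a group with a Frobenius kernel, part 11: from coherence to the
exceptional-character data, for a subgroup `L` given as the normalizer of the TI subgroup. -/
set_option autoImplicit false
open Cfsg Cfsg.Agent.CharLib
open scoped ComplexConjugate

namespace Cfsg.Agent.Lib.Lead.CNExc
universe u

variable {G : Type u} [Group G] [Fintype G]

theorem excData_of_coherent (H L : Subgroup G) [Fintype L] (hodd : Odd (Nat.card G))
    (hTI : IsTISubset (H : Set G)) (hN : Subgroup.normalizer (H : Set G) = L)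
    (hfrob : ∀ h ∈ H, h ≠ 1 → L ⊓ Subgroup.centralizer ({h} : Set G) ≤ H)
    (hsolv : Group.IsSolvable H) (hH1 : H ≠ ⊥) (hlt : H < L)
    (hcoh : IsCoherent (inducedIrrAbove (H.subgroupOf L) ⊥) {1}ᶜ
      (fun α : L → ℂ => indFun L α)) :
    ∃ e w : ℕ, 3 ≤ e ∧ 2 ≤ w ∧ Nat.card H = e * w + 1 ∧
      Nat.card (Subgroup.normalizer (H : Set G)) = e * Nat.card H ∧
      Nonempty (Cfsg.Agent.Lib.Lead.CNEnd.ExcData G H e w) := by
  subst hN
  letI := fintypeIrr (Subgroup.normalizer (H : Set G))
  have hC := frob_transfer H hfrob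
  have hoddN : Odd (Nat.card (Subgroup.normalizer (H : Set G))) :=
    Odd.of_dvd_nat hodd (Subgroup.card_subgroup_dvd_card _)
  obtain ⟨D⟩ := cohData_of_coherent (Subgroup.normalizer (H : Set G))
    (H.subgroupOf (Subgroup.normalizer (H : Set G))) hC hoddN
    (solvable_subgroupOf_normalizer H hsolv) (subgroupOf_normalizer_ne_bot H hH1) hcoh
  exact excData_of_cohData H hodd hTI hfrob hsolv hH1 hlt D

end Cfsg.Agent.Lib.Lead.CNExc
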