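import Mathlib
import Cfsg.Agent.S1526
import Cfsg.Agent.S1473
import Cfsg.Agent.Lib.Helper12.CNMinI
import Cfsg.Agent.Lib.Helper22.Frobenius
/-! The CN-theorem for odd order (Feit-Hall-Thompson): a minimal simple CN-group of odd order
is partitioned by the conjugates of its maximal nilpotent subgroups, which are TI Frobenius
kernels of pairwise coprime orders; this is impossible. -/
set_option autoImplicit false
open Cfsg

namespace Cfsg.Agent.Lib.Lead.CNThm
open Cfsg.Agent.Lib.Helper12.CNMin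
universe u

variable {G : Type u} [Group G]

theorem map_conj_one (H : Subgroup G) : H.map (MulAut.conj (1 : G)).toMonoidHom = H := by
  ext x
  simp [Subgroup.mem_map]

theorem map_conj_mul (H : Subgroup G) (g h : G) :
    (H.map (MulAut.conj h).toMonoidHom).map (MulAut.conj g).toMonoidHom =
      H.map (MulAut.conj (g * h)).toMonoidHom := by
  rw [Subgroup.map_map]
  congr 1
  ext x
  simp [mul_assoc]

theorem mem_map_conj (H : Subgroup G) (g x : G) :
    x ∈ H.map (MulAut.conj g).toMonoidHom ↔ g⁻¹ * x * g ∈ H := by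
  rw [Subgroup.mem_map]
  constructor
  · rintro ⟨y, hy, rfl⟩
    have : g⁻¹ * (MulAut.conj g).toMonoidHom y * g = y := by
      simp [mul_assoc]
    rw [this]; exact hy
  · intro h
    refine ⟨g⁻¹ * x * g, h, ?_⟩
    simp [mul_assoc]

/-- conjugacy of maximal nilpotent subgroups -/
def mnSetoid (G : Type u) [Group G] : Setoid {H : Subgroup G // MaxNilp H} where
  r A B := ∃ g : G, B.1 = A.1.map (MulAut.conj g).toMonoidHom
  iseqv := by
    refine ⟨fun A => ⟨1, (map_conj_one A.1).symm⟩, ?_, ?_⟩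
    · rintro A B ⟨g, hg⟩
      refine ⟨g⁻¹, ?_⟩
      rw [hg, map_conj_mul, inv_mul_cancel, map_conj_one]
    · rintro A B C ⟨g, hg⟩ ⟨h, hh⟩
      refine ⟨h * g, ?_⟩
      rw [hh, hg, map_conj_mul]

variable [Finite G]

theorem no_minSimple_CN (hG : IsMinSimpleOddOrder G) (hCN : IsCNGroup G) : False := by
  classical
  haveI := nontrivial_of_minSimple hG
  letI : Fintype (Quotient (mnSetoid G)) := Fintype.ofFinite _
  let rep : Quotient (mnSetoid G) → {H : Subgroup G // MaxNilp H} := Quotient.out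
  let Hf : Quotient (mnSetoid G) → Subgroup G := fun i => (rep i).1
  have hmn : ∀ i, MaxNilp (Hf i) := fun i => (rep i).2
  have hrep : ∀ (L : Subgroup G) (hL : MaxNilp L),
      ∃ k : G, L = (Hf (Quotient.mk (mnSetoid G) ⟨L, hL⟩)).map (MulAut.conj k).toMonoidHom := by
    intro L hL
    have h1 : (mnSetoid G).r (rep (Quotient.mk (mnSetoid G) ⟨L, hL⟩)) ⟨L, hL⟩ :=
      Quotient.exact (s := mnSetoid G) (Quotient.out_eq _)
    exact h1
  have hex : ∀ x : G, x ≠ 1 → ∃ L : Subgroup G, MaxNilp L ∧ x ∈ L := by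
    intro x hx1
    obtain ⟨L, hCL, hLn, hLmax⟩ :=
      Cfsg.Agent.Lib.Helper10.exists_maxnilp_ge (Subgroup.centralizer ({x} : Set G)) (hCN x hx1)
    exact ⟨L, ⟨hLn, hLmax⟩, hCL (Subgroup.mem_centralizer_singleton_iff.mpr rfl)⟩
  have hcover : ∀ g : G, g ≠ 1 → ∃ i, ∃ x : G, x * g * x⁻¹ ∈ Hf i := by
    intro g hg1
    obtain ⟨L, hL, hgL⟩ := hex g hg1
    obtain ⟨k, hk⟩ := hrep L hL
    refine ⟨Quotient.mk (mnSetoid G) ⟨L, hL⟩, k⁻¹, ?_⟩
    rw [hk, mem_map_conj] at hgL
    simpa using hgL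
  refine Cfsg.Agent.S1526.result hG.1 (ι := Quotient (mnSetoid G)) ?_
    (fun i => Subgroup.normalizer ((Hf i : Subgroup G) : Set G)) Hf ?_ ?_ ?_ ?_ ?_ ?_ hcover
  · -- at least two classes
    by_contra hlt
    push Not at hlt
    obtain ⟨x₀, hx₀⟩ := exists_ne (1 : G)
    obtain ⟨i₀, -, -⟩ := hcover x₀ hx₀
    have hall : ∀ i : Quotient (mnSetoid G), i = i₀ := by
      intro i
      exact Fintype.card_le_one_iff.mp (by omega) i i₀
    have hne : Hf i₀ ≠ ⊤ := not_isNilpotent_top hG (Hf i₀) (hmn i₀).1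
    obtain ⟨x, hx1, hx⟩ := Cfsg.Agent.Lib.Helper22.exists_ne_one_forall_conj_not_mem (Hf i₀) hne
    obtain ⟨i, y, hy⟩ := hcover x hx1
    rw [hall i] at hy
    apply hx y⁻¹
    simpa using hy
  · intro i
    exact lt_of_le_of_ne Subgroup.le_normalizer (normalizer_ne_self hG hCN (hmn i)).symm
  · intro i
    exact (hmn i).ne_bot hCN
  · intro i x hx h hh
    exact (Subgroup.mem_normalizer_iff.mp hx h).mp hh
  · intro i h hh h1
    exact inf_le_right.trans (maxnilp_centralizer_le hG hCN (hmn i) h hh h1)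
  · intro i j hij
    rcases Cfsg.Agent.Lib.Helper10.cn_maxnilp_conj_or_coprime hCN (Hf i) (Hf j) (hmn i).1 (hmn j).1
      (hmn i).2 (hmn j).2 with ⟨g, hg⟩ | h
    · exfalso
      apply hij
      have h1 : (mnSetoid G).r (rep i) (rep j) := ⟨g, hg⟩
      have h2 := Quotient.sound (s := mnSetoid G) h1
      rw [Quotient.out_eq, Quotient.out_eq] at h2
      exact h2
    · exact h
  · intro i
    refine ⟨?_, rfl⟩
    intro g hg x hx hgx
    by_contra hx1
    have hK : (Hf i).map (MulAut.conj g⁻¹).toMonoidHom ≠ Hf i := by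
      intro heq
      apply hg
      have h1 : g⁻¹ ∈ Subgroup.normalizer ((Hf i : Subgroup G) : Set G) := by
        rw [Subgroup.mem_normalizer_iff]
        intro h
        have h2 : g⁻¹ * h * g⁻¹⁻¹ ∈ Hf i ↔ g⁻¹ * h * g⁻¹⁻¹ ∈ (Hf i).map (MulAut.conj g⁻¹).toMonoidHom := by
          rw [heq]
        rw [h2, mem_map_conj]
        have : g⁻¹⁻¹ * (g⁻¹ * h * g⁻¹⁻¹) * g⁻¹ = h := by group
        rw [this]
      have := Subgroup.inv_mem _ h1
      simpa using this
    have hti := maxnilp_ti hG hCN (hmn i) g⁻¹ hK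
    have hmem : x ∈ Hf i ⊓ (Hf i).map (MulAut.conj g⁻¹).toMonoidHom := by
      refine Subgroup.mem_inf.mpr ⟨hx, ?_⟩
      rw [mem_map_conj]
      simpa using hgx
    rw [hti, Subgroup.mem_bot] at hmem
    exact hx1 hmem

end Cfsg.Agent.Lib.Lead.CNThm
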