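import Mathlib
import Cfsg.Agent.Lib.Lead.CNThm1
/-! The CN-theorem for odd order: reduction to the minimal simple case. -/
set_option autoImplicit false
open Cfsg

namespace Cfsg.Agent.Lib.Lead.CNThm
open Cfsg.Agent.Lib.Helper12.CNMin
universe u

theorem cn_odd_solvable_aux : ∀ (n : ℕ) (G : Type u) [Group G] [Finite G], Nat.card G = n →
    Odd (Nat.card G) → IsCNGroup G → Group.IsSolvable G := by
  intro n
  induction n using Nat.strong_induction_on with
  | _ n ih =>
    intro G _ _ hn hodd hCN
    by_contra hns
    -- proper subgroups are solvable
    have hsub : ∀ K : Subgroup G, K ≠ ⊤ → Group.IsSolvable K := by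
      intro K hK
      have hlt : Nat.card K < n := by
        rw [← hn]
        apply lt_of_le_of_ne (Subgroup.card_le_card_group K)
        intro h
        exact hK (Subgroup.eq_top_of_card_eq K h)
      exact ih _ hlt K rfl (Odd.of_dvd_nat hodd (Subgroup.card_subgroup_dvd_card K))
        (cn_subgroup hCN K)
    have hnt : Nontrivial G := by
      by_contra h
      rw [not_nontrivial_iff_subsingleton] at h
      exact hns inferInstance
    have hsimple : IsSimpleGroup G := by
      refine { exists_pair_ne := hnt.exists_pair_ne, eq_bot_or_eq_top_of_normal := ?_ }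
      intro N hN
      by_contra hcon
      push Not at hcon
      obtain ⟨hNbot, hNtop⟩ := hcon
      haveI := hN
      haveI hNs : Group.IsSolvable N := hsub N hNtop
      have hq : Group.IsSolvable (G ⧸ N) := by
        have hcard : Nat.card G = Nat.card (G ⧸ N) * Nat.card N :=
          Subgroup.card_eq_card_quotient_mul_card_subgroup N
        have hN1 : 1 < Nat.card N := (Subgroup.one_lt_card_iff_ne_bot N).mpr hNbot
        have hqpos : 0 < Nat.card (G ⧸ N) := Nat.card_pos
        have hlt : Nat.card (G ⧸ N) < n := by
          rw [← hn, hcard]
          nlinarith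
        refine ih _ hlt (G ⧸ N) rfl ?_ (Cfsg.Agent.S1473.result hCN N hNs)
        exact Odd.of_dvd_nat hodd ⟨Nat.card N, hcard⟩
      apply hns
      exact Group.isSolvable_of_ker_le_range N.subtype (QuotientGroup.mk' N) (by
        rw [QuotientGroup.ker_mk', Subgroup.range_subtype])
    have hG : IsMinSimpleOddOrder G := by
      refine ⟨hodd, hsimple, ?_, hsub⟩
      intro hc
      apply hns
      haveI : IsMulCommutative G := hc
      letI : CommGroup G := { (inferInstance : Group G) with mul_comm := fun a b => mul_comm' a b }
      infer_instance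
    exact no_minSimple_CN hG hCN

theorem cn_odd_solvable {G : Type u} [Group G] [Finite G] (hodd : Odd (Nat.card G))
    (hCN : IsCNGroup G) : Group.IsSolvable G :=
  cn_odd_solvable_aux _ G rfl hodd hCN

end Cfsg.Agent.Lib.Lead.CNThm
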