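import Mathlib

/-!
lead: a family of fewer than `p - 1` roots of unity of `p`-power order whose power sums are invariant under the
Galois group consists of ones only.
-/

set_option autoImplicit false

namespace Cfsg.Agent.CharLib.Blich

theorem geom_sum_of_pow_eq_one {p : ℕ} (w : ℂ) (hw : w ^ p = 1) :
    ∑ k ∈ Finset.range p, w ^ k = if w = 1 then (p : ℂ) else 0 := by
  split_ifs with h
  · subst h
    simp
  · have h1 := geom_sum_mul w p
    rw [hw, sub_self] at h1
    rcases mul_eq_zero.mp h1 with h2 | h2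
    · exact h2
    · exact absurd (sub_eq_zero.mp h2) h

/-- The prime order case. -/
theorem all_eq_one_of_invariant_prime {ι : Type*} [Fintype ι] {p : ℕ} (hp : p.Prime) (μ : ι → ℂ)
    (hμ : ∀ i, μ i ^ p = 1) (hcard : Fintype.card ι + 1 < p)
    (hinv : ∀ k : ℕ, 0 < k → k < p → ∑ i, μ i ^ k = ∑ i, μ i) : ∀ i, μ i = 1 := by
  classical
  by_contra hcon
  push_neg at hcon
  obtain ⟨i₀, hi₀⟩ := hcon
  set ζ := μ i₀ with hζ
  have hζp : ζ ^ p = 1 := hμ i₀
  haveI : Fact p.Prime := ⟨hp⟩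
  have hord : orderOf ζ = p := orderOf_eq_prime hζp hi₀
  have hprim : IsPrimitiveRoot ζ p := by
    rw [← hord]
    exact IsPrimitiveRoot.orderOf ζ
  set η := ζ ^ (p - 1) with hη
  have hp1 : 1 ≤ p := hp.one_lt.le
  have hηζ : η * ζ = 1 := by
    rw [hη, ← pow_succ, Nat.sub_add_cancel hp1, hζp]
  have hηp : η ^ p = 1 := by
    rw [hη, ← pow_mul, mul_comm, pow_mul, hζp, one_pow]
  have hpow_ne : ∀ j : ℕ, 0 < j → j < p → ζ ^ j ≠ 1 := by
    intro j hj0 hjp h
    have := orderOf_dvd_of_pow_eq_one h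
    rw [hord] at this
    exact absurd (Nat.le_of_dvd hj0 this) (not_le.mpr hjp)
  have hηpow_ne : ∀ j : ℕ, 0 < j → j < p → η ^ j ≠ 1 := by
    intro j hj0 hjp h
    apply hpow_ne j hj0 hjp
    have h1 : η ^ j * ζ ^ j = 1 := by rw [← mul_pow, hηζ, one_pow]
    rw [h, one_mul] at h1
    exact h1
  set m := Fintype.card ι with hm
  set c := ∑ i, μ i with hc
  set N : ℕ → ℕ := fun j => (Finset.univ.filter (fun i => μ i = ζ ^ j)).card with hN
  have hkey : ∀ j : ℕ, 0 < j → j < p → (p : ℂ) * (N j : ℂ) = (m : ℂ) - c := by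
    intro j hj0 hjp
    have h1 : ∑ k ∈ Finset.range p, (∑ i, μ i ^ k) * (η ^ j) ^ k = (p : ℂ) * (N j : ℂ) := by
      have h2 : ∀ k ∈ Finset.range p, (∑ i, μ i ^ k) * (η ^ j) ^ k = ∑ i, (μ i * η ^ j) ^ k := by
        intro k _
        rw [Finset.sum_mul]
        exact Finset.sum_congr rfl (fun i _ => by rw [mul_pow])
      rw [Finset.sum_congr rfl h2, Finset.sum_comm]
      have h3 : ∀ i, ∑ k ∈ Finset.range p, (μ i * η ^ j) ^ k = if μ i = ζ ^ j then (p : ℂ) else 0 := by
        intro i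
        have hw : (μ i * η ^ j) ^ p = 1 := by
          rw [mul_pow, hμ i, one_mul, ← pow_mul, mul_comm, pow_mul, hηp, one_pow]
        rw [geom_sum_of_pow_eq_one _ hw]
        have hiff : μ i * η ^ j = 1 ↔ μ i = ζ ^ j := by
          have h4 : η ^ j * ζ ^ j = 1 := by rw [← mul_pow, hηζ, one_pow]
          constructor
          · intro h
            calc μ i = μ i * (η ^ j * ζ ^ j) := by rw [h4, mul_one]
              _ = (μ i * η ^ j) * ζ ^ j := by ring
              _ = ζ ^ j := by rw [h, one_mul]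
          · intro h
            rw [h, mul_comm, h4]
        simp only [hiff]
      rw [Finset.sum_congr rfl (fun i _ => h3 i), Finset.sum_ite, Finset.sum_const, Finset.sum_const_zero,
        add_zero, nsmul_eq_mul, mul_comm]
    rw [← h1]
    have hpos : 0 < p := hp.pos
    rw [← Nat.sub_add_cancel hp1, Finset.sum_range_succ']
    simp only [pow_zero, mul_one, Finset.sum_const, Finset.card_univ, nsmul_eq_mul]
    have h5 : ∀ k ∈ Finset.range (p - 1), (∑ i, μ i ^ (k + 1)) * (η ^ j) ^ (k + 1) = c * (η ^ j) ^ (k + 1) := by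
      intro k hk
      rw [Finset.mem_range] at hk
      rw [hinv (k + 1) (Nat.succ_pos k) (by omega)]
    rw [Finset.sum_congr rfl h5, ← Finset.mul_sum]
    have h6 : ∑ k ∈ Finset.range (p - 1), (η ^ j) ^ (k + 1) = -1 := by
      have h7 := geom_sum_of_pow_eq_one (η ^ j) (by rw [← pow_mul, mul_comm, pow_mul, hηp, one_pow])
      rw [if_neg (hηpow_ne j hj0 hjp)] at h7
      have h8 : ∑ k ∈ Finset.range p, (η ^ j) ^ k = ∑ k ∈ Finset.range (p - 1), (η ^ j) ^ (k + 1) + 1 := by
        conv_lhs => rw [← Nat.sub_add_cancel hp1]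
        rw [Finset.sum_range_succ']
        simp
      rw [h8] at h7
      linear_combination h7
    rw [h6]
    ring
  have hNeq : ∀ j : ℕ, 0 < j → j < p → N j = N 1 := by
    intro j hj0 hjp
    have h1 := hkey j hj0 hjp
    have h2 := hkey 1 one_pos hp.one_lt
    have h3 : (p : ℂ) * (N j : ℂ) = (p : ℂ) * (N 1 : ℂ) := by rw [h1, h2]
    have h4 : (p : ℂ) ≠ 0 := by exact_mod_cast hp.ne_zero
    exact_mod_cast mul_left_cancel₀ h4 h3
  have hN1 : 1 ≤ N 1 := by
    rw [hN]
    apply Finset.card_pos.mpr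
    exact ⟨i₀, Finset.mem_filter.mpr ⟨Finset.mem_univ _, by rw [pow_one]⟩⟩
  have hdisj : ∀ j ∈ Finset.Ico 1 p, ∀ j' ∈ Finset.Ico 1 p, j ≠ j' →
      Disjoint (Finset.univ.filter (fun i => μ i = ζ ^ j)) (Finset.univ.filter (fun i => μ i = ζ ^ j')) := by
    intro j hj j' hj' hne
    rw [Finset.mem_Ico] at hj hj'
    rw [Finset.disjoint_filter]
    intro i _ h1 h2
    apply hne
    exact hprim.pow_inj hj.2 hj'.2 (h1.symm.trans h2)
  have hsum : ∑ j ∈ Finset.Ico 1 p, N j ≤ m := by
    have h1 := Finset.card_biUnion (s := Finset.Ico 1 p)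
      (t := fun j => Finset.univ.filter (fun i => μ i = ζ ^ j)) hdisj
    rw [← h1, hm, ← Finset.card_univ]
    exact Finset.card_le_card (Finset.subset_univ _)
  have hsum2 : ∑ j ∈ Finset.Ico 1 p, N j = (p - 1) * N 1 := by
    rw [Finset.sum_congr rfl (fun j hj => hNeq j (Finset.mem_Ico.mp hj).1 (Finset.mem_Ico.mp hj).2),
      Finset.sum_const, Nat.card_Ico, smul_eq_mul]
  rw [hsum2] at hsum
  have : p - 1 ≤ (p - 1) * N 1 := Nat.le_mul_of_pos_right _ hN1
  omega

/-- The general case of `p`-power order. -/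
theorem all_eq_one_of_invariant {ι : Type*} [Fintype ι] {p : ℕ} (hp : p.Prime) (e : ℕ) (μ : ι → ℂ)
    (hμ : ∀ i, μ i ^ (p ^ e) = 1) (hcard : Fintype.card ι + 1 < p)
    (hinv : ∀ k u : ℕ, u.Coprime p → ∑ i, μ i ^ (k * u) = ∑ i, μ i ^ k) : ∀ i, μ i = 1 := by
  induction e generalizing μ with
  | zero =>
    intro i
    simpa using hμ i
  | succ e ih =>
    have h1 : ∀ i, μ i ^ p = 1 := by
      apply ih (fun i => μ i ^ p)
      · intro i
        rw [← pow_mul, ← pow_succ']
        exact hμ i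
      · intro k u hu
        have := hinv (p * k) u hu
        simp only [← pow_mul]
        rw [← mul_assoc]
        exact this
    apply all_eq_one_of_invariant_prime hp μ h1 hcard
    intro k hk0 hkp
    have hcop : k.Coprime p := (Nat.coprime_of_lt_prime hk0.ne' hkp hp).symm
    have := hinv 1 k hcop
    simpa using this

end Cfsg.Agent.CharLib.Blich
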