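import Mathlib
import Cfsg.Agent.Lib.Lead.Blich1
import Cfsg.Agent.Lib.Lead.CharOrtho
import Cfsg.Agent.Lib.Helper23.GaloisChar
import Cfsg.Agent.Lib.Helper24.GaloisNorm
import Cfsg.Agent.Lib.Lead.CharBurnside
import Cfsg.Agent.Lib.Lead.CharDecomp
import Cfsg.Agent.Lib.Helper6.DetChar
import Cfsg.Agent.Lib.Helper6.AbelianQuot
import Cfsg.Agent.Lib.Helper6.LinChar
import Cfsg.Agent.Lib.Helper24.CentralElt

/-!
lead: Galois arguments for Blichfeldt's theorem: the four-term identity forces invariance under one of two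
Galois groups, and an invariant character of degree `< p - 1` is trivial on `p`-elements.
-/

set_option autoImplicit false

namespace Cfsg.Agent.CharLib.Blich

open Cfsg Cfsg.Agent.CharLib Cfsg.Agent.Lib.Helper23 Cfsg.Agent.Lib.Helper6 Cfsg.Agent.Lib.Helper24
open scoped ComplexConjugate

universe u

variable {G : Type u} [Group G] [Finite G]

/-- If `ψ + ψ^{st} = ψ^s + ψ^t` for an irreducible character `ψ` then `ψ^s = ψ` or `ψ^t = ψ`. -/
theorem irr_invariant_of_four_term {ψ : G → ℂ} (hψ : IsIrrCharacter G ψ) (s t : ℕ)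
    (hs : s.Coprime (Nat.card G)) (ht : t.Coprime (Nat.card G))
    (h4 : ∀ g : G, ψ g + ψ (g ^ (s * t)) = ψ (g ^ s) + ψ (g ^ t)) :
    (∀ g, ψ (g ^ s) = ψ g) ∨ (∀ g, ψ (g ^ t) = ψ g) := by
  classical
  have : Fintype G := Fintype.ofFinite G
  have hψs := isIrrCharacter_comp_pow hψ s hs
  have hψt := isIrrCharacter_comp_pow hψ t ht
  have hψst := isIrrCharacter_comp_pow hψ (s * t) (Nat.Coprime.mul_left hs ht)
  have hfun : ψ + (fun g => ψ (g ^ (s * t))) = (fun g => ψ (g ^ s)) + (fun g => ψ (g ^ t)) := by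
    funext g
    exact h4 g
  have h1 := congrArg (fun f => classInner f ψ) hfun
  simp only [classInner_add_left, classInner_irr hψ hψ, classInner_irr hψst hψ, classInner_irr hψs hψ,
    classInner_irr hψt hψ, if_true] at h1
  by_cases hs' : (fun g => ψ (g ^ s)) = ψ
  · left
    exact fun g => congrFun hs' g
  · by_cases ht' : (fun g => ψ (g ^ t)) = ψ
    · right
      exact fun g => congrFun ht' g
    · exfalso
      rw [if_neg hs', if_neg ht'] at h1
      split_ifs at h1 <;> norm_num at h1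

/-- `x` is a `p`-element. -/
def IsPElt (p : ℕ) (x : G) : Prop := ∃ k : ℕ, x ^ (p ^ k) = 1

omit [Finite G] in
theorem IsPElt.pow {p : ℕ} {x : G} (h : IsPElt p x) (j : ℕ) : IsPElt p (x ^ j) := by
  obtain ⟨k, hk⟩ := h
  exact ⟨k, by rw [← pow_mul, mul_comm, pow_mul, hk, one_pow]⟩

/-- An element of `p`-power order has order dividing the `p`-part of `|G|`. -/
theorem IsPElt.pow_ordProj {p : ℕ} [hp : Fact p.Prime] {x : G} (h : IsPElt p x) :
    x ^ (p ^ (Nat.card G).factorization p) = 1 := by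
  obtain ⟨k, hk⟩ := h
  have h1 : orderOf x ∣ p ^ k := orderOf_dvd_of_pow_eq_one hk
  obtain ⟨e, he, he2⟩ := (Nat.dvd_prime_pow hp.out).mp h1
  have h2 : p ^ e ∣ Nat.card G := he2 ▸ orderOf_dvd_natCard x
  have h3 : e ≤ (Nat.card G).factorization p :=
    (hp.out.pow_dvd_iff_le_factorization Nat.card_pos.ne').mp h2
  apply orderOf_dvd_iff_pow_eq_one.mp
  rw [he2]
  exact pow_dvd_pow p h3

/-- A character of degree `m < p - 1` invariant under the Galois group of `p`-power roots of unity is constant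
`m` on `p`-elements. -/
theorem apply_eq_degree_of_invariant {p : ℕ} [hp : Fact p.Prime] {ψ : G → ℂ} (hψ : IsCharacter G ψ)
    {m : ℕ} (hm : ψ 1 = m) (hmp : m + 1 < p)
    (hinv : ∀ k : ℕ, k.Coprime (Nat.card G) →
      k ≡ 1 [MOD Nat.card G / p ^ (Nat.card G).factorization p] → ∀ g, ψ (g ^ k) = ψ g)
    {x : G} (hx : IsPElt p x) : ψ x = m := by
  obtain ⟨n, ρ, rfl⟩ := hψ
  have hn : n = m := by
    rw [Representation.char_one, Module.finrank_fin_fun] at hm
    exact_mod_cast hm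
  subst hn
  obtain ⟨ι, hι, μ, h1, h2, h3, h4⟩ := Cfsg.Agent.Lib.Helper24.exists_roots_char_pow ρ x
  rw [Module.finrank_fin_fun] at h3
  set a := (Nat.card G).factorization p with ha
  set N' := Nat.card G / p ^ a with hN'
  have hNeq : Nat.card G = p ^ a * N' := (Nat.mul_div_cancel' (Nat.ordProj_dvd _ _)).symm
  have hcop : (p ^ a).Coprime N' := by
    have := Nat.coprime_ordCompl hp.out (Nat.card_pos (α := G)).ne'
    exact Nat.Coprime.pow_left _ this
  have hxa : x ^ (p ^ a) = 1 := hx.pow_ordProj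
  have hμa : ∀ i, μ i ^ (p ^ a) = 1 := by
    intro i
    obtain ⟨c, hc⟩ := orderOf_dvd_of_pow_eq_one hxa
    rw [hc, pow_mul, h1 i, one_pow]
  have hall := all_eq_one_of_invariant hp.out a μ hμa (by rw [h3]; exact hmp) (by
    intro k u hu
    rw [← h4, ← h4]
    -- choose `k'` with `k' ≡ u mod p^a`, `k' ≡ 1 mod N'`
    obtain ⟨k', hk'1, hk'2⟩ := Nat.chineseRemainder hcop u 1
    have hk'cop : k'.Coprime (Nat.card G) := by
      rw [hNeq]
      apply Nat.Coprime.mul_right
      · unfold Nat.Coprime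
        rw [hk'1.gcd_eq]
        exact Nat.Coprime.pow_right a hu
      · unfold Nat.Coprime
        rw [hk'2.gcd_eq]
        exact Nat.gcd_one_left _
    have h5 := hinv k' hk'cop hk'2 (x ^ k)
    have h6 : (x ^ k) ^ k' = x ^ (k * u) := by
      rw [pow_mul]
      apply pow_eq_pow_iff_modEq.mpr
      apply hk'1.of_dvd
      apply orderOf_dvd_of_pow_eq_one
      rw [← pow_mul, mul_comm, pow_mul, hxa, one_pow]
    rw [← h6, h5])
  have h7 := h4 1
  rw [pow_one] at h7
  rw [h7, Finset.sum_congr rfl (fun i _ => by rw [hall i, one_pow]), Finset.sum_const, Finset.card_univ, h3]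
  simp

/-- Twist of an irreducible character by a power of its determinant, killing central elements of order prime to
the degree. -/
theorem exists_twist {ψ : G → ℂ} (hψ : IsIrrCharacter G ψ) {m : ℕ} (hm : ψ 1 = m) (M : ℕ)
    (hM : m.Coprime M) (hM1 : 1 < M) :
    ∃ ν : G →* ℂˣ, IsIrrCharacter G (fun g => ((ν g : ℂˣ) : ℂ) * ψ g) ∧
      ∀ z ∈ Subgroup.center G, z ^ M = 1 → ∀ g : G,
        ((ν (z * g) : ℂˣ) : ℂ) * ψ (z * g) = ((ν g : ℂˣ) : ℂ) * ψ g := by
  classical
  have : Fintype G := Fintype.ofFinite G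
  obtain ⟨n, ρ, hirr, rfl⟩ := hψ
  have hn : n = m := by
    rw [Representation.char_one, Module.finrank_fin_fun] at hm
    exact_mod_cast hm
  subst hn
  have := hirr
  have hV : Nontrivial (Fin n → ℂ) := nontrivial_of_isIrreducible ρ
  obtain ⟨t, -, ht⟩ := Nat.exists_mul_mod_eq_one_of_coprime hM hM1
  set δ : G →* ℂˣ := repDetHom ρ with hδ
  refine ⟨(δ ^ t)⁻¹, ?_, ?_⟩
  · have h1 := isIrrCharacter_linear_mul (lam := fun g => ((((δ ^ t)⁻¹ : G →* ℂˣ) g : ℂˣ) : ℂ))
      (isCharacter_of_hom _) (by simp) ⟨n, ρ, hirr, rfl⟩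
    exact h1
  · intro z hz hzM g
    obtain ⟨c, hc⟩ := exists_central_scalar ρ z hz
    have hone : (1 : Module.End ℂ (Fin n → ℂ)) ≠ 0 := one_ne_zero
    have hinj : ∀ a b : ℂ, a • (1 : Module.End ℂ (Fin n → ℂ)) = b • 1 → a = b := by
      intro a b hab
      rw [← Algebra.algebraMap_eq_smul_one, ← Algebra.algebraMap_eq_smul_one] at hab
      exact (algebraMap ℂ (Module.End ℂ (Fin n → ℂ))).injective hab
    have hcM : c ^ M = 1 := by
      apply hinj
      rw [one_smul]
      have h2 : ρ (z ^ M) = (c • (1 : Module.End ℂ (Fin n → ℂ))) ^ M := by rw [map_pow, hc]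
      rw [hzM, map_one, smul_pow, one_pow] at h2
      exact h2.symm
    have hdet : ((δ z : ℂˣ) : ℂ) = c ^ n := by
      rw [hδ, repDetHom_apply, hc]
      rw [LinearMap.det_smul, Module.finrank_fin_fun]
      simp
    have hc0 : c ≠ 0 := by
      intro h0
      rw [h0, zero_pow (by omega)] at hcM
      exact zero_ne_one hcM
    have hνz : ((((δ ^ t)⁻¹ : G →* ℂˣ) z : ℂˣ) : ℂ) = c⁻¹ := by
      rw [MonoidHom.inv_apply, MonoidHom.pow_apply, Units.val_inv_eq_inv_val, Units.val_pow_eq_pow_val, hdet,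
        ← pow_mul]
      congr 1
      have h3 : n * t = M * (n * t / M) + 1 := by
        have := Nat.div_add_mod (n * t) M
        rw [ht] at this
        omega
      rw [h3, pow_add, pow_mul, hcM, one_pow, one_mul, pow_one]
    rw [map_mul, Units.val_mul, hνz, char_scalar_mul ρ z c hc g]
    field_simp

/-- If `‖ψ x‖` equals the degree then `x` acts as a scalar and commutators with `x` lie in the kernel. -/
theorem apply_commutator_of_norm_eq {ψ : G → ℂ} (hψ : IsCharacter G ψ) {m : ℕ} (hm : ψ 1 = m)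
    {x : G} (hx : ‖ψ x‖ = m) (z : G) :
    ψ (x * z * x⁻¹ * z⁻¹) = ψ 1 ∧ ψ (z * x * z⁻¹ * x⁻¹) = ψ 1 := by
  obtain ⟨n, ρ, rfl⟩ := hψ
  have hn : n = m := by
    rw [Representation.char_one, Module.finrank_fin_fun] at hm
    exact_mod_cast hm
  subst hn
  obtain ⟨ω, hω⟩ := exists_scalar_of_norm_char_eq ρ x (by rw [hx, Module.finrank_fin_fun])
  have h1 : ρ x * ρ z = ρ z * ρ x := by
    rw [hω]
    ext v
    simp
  have h2 : ρ (x * z * x⁻¹ * z⁻¹) = 1 := by
    have : x * z * x⁻¹ * z⁻¹ = (x * z) * (z * x)⁻¹ := by group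
    rw [this, map_mul, map_mul, h1, ← map_mul, ← map_mul, mul_inv_cancel, map_one]
  have h3 : ρ (z * x * z⁻¹ * x⁻¹) = 1 := by
    have : z * x * z⁻¹ * x⁻¹ = (z * x) * (x * z)⁻¹ := by group
    rw [this, map_mul, map_mul, ← h1, ← map_mul, ← map_mul, mul_inv_cancel, map_one]
  constructor
  · show LinearMap.trace ℂ _ (ρ _) = LinearMap.trace ℂ _ (ρ 1)
    rw [h2, map_one ρ]
  · show LinearMap.trace ℂ _ (ρ _) = LinearMap.trace ℂ _ (ρ 1)
    rw [h3, map_one ρ]

theorem norm_hom_apply (ν : G →* ℂˣ) (g : G) : ‖((ν g : ℂˣ) : ℂ)‖ = 1 := by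
  have h1 : ((ν g : ℂˣ) : ℂ) ^ (Nat.card G) = 1 := by
    rw [← Units.val_pow_eq_pow_val, ← map_pow, pow_card_eq_one', map_one, Units.val_one]
  exact Complex.norm_eq_one_of_pow_eq_one h1 (Nat.card_pos).ne'

/-- The alternative for one irreducible character. -/
theorem irr_caseB {p q : ℕ} [hp : Fact p.Prime] [hq : Fact q.Prime] {ψ : G → ℂ}
    (hψ : IsIrrCharacter G ψ) {m : ℕ} (hm : ψ 1 = m) (hmp : m + 1 < p) (hmq : m + 1 < q)
    (hB : ∀ g : G, (∀ j : ℕ, IsPElt p (g ^ j) → g ^ j ∈ Subgroup.center G) ∨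
      (∀ j : ℕ, IsPElt q (g ^ j) → g ^ j ∈ Subgroup.center G)) :
    (∀ x : G, IsPElt p x → ‖ψ x‖ = m) ∨ (∀ z : G, IsPElt q z → ‖ψ z‖ = m) := by
  classical
  set N := Nat.card G with hN
  set a := N.factorization p with ha
  set b := N.factorization q with hb
  have hNpos : 0 < N := Nat.card_pos
  by_cases hM1 : p ^ a * q ^ b = 1
  · left
    intro x hx
    have h1 := hx.pow_ordProj
    rw [← hN, ← ha] at h1
    have h2 : p ^ a = 1 := Nat.eq_one_of_mul_eq_one_right hM1
    rw [h2, pow_one] at h1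
    rw [h1, hm]
    simp
  have hM1' : 1 < p ^ a * q ^ b := by
    have : 0 < p ^ a * q ^ b := Nat.mul_pos (pow_pos hp.out.pos _) (pow_pos hq.out.pos _)
    omega
  have hm0 : m ≠ 0 := by
    obtain ⟨k, hk, hk1⟩ := IsIrrCharacter.apply_one_pos hψ
    rw [hm] at hk1
    have : m = k := by exact_mod_cast hk1
    omega
  have hcopM : m.Coprime (p ^ a * q ^ b) := by
    apply Nat.Coprime.mul_right
    · exact Nat.Coprime.pow_right _ (Nat.coprime_of_lt_prime hm0 (by omega) hp.out).symm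
    · exact Nat.Coprime.pow_right _ (Nat.coprime_of_lt_prime hm0 (by omega) hq.out).symm
  obtain ⟨ν, hirr', htw⟩ := exists_twist hψ hm (p ^ a * q ^ b) hcopM hM1'
  set ψ' : G → ℂ := fun g => ((ν g : ℂˣ) : ℂ) * ψ g with hψ'
  have hψ'1 : ψ' 1 = m := by
    rw [hψ']
    simp [hm]
  have hnorm : ∀ g, ‖ψ' g‖ = ‖ψ g‖ := by
    intro g
    rw [hψ', norm_mul, norm_hom_apply, one_mul]
  -- the Galois invariance alternative for `ψ'`
  have hgen : ∀ (r : ℕ) [hr : Fact r.Prime] (g : G),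
      (∀ j : ℕ, IsPElt r (g ^ j) → g ^ j ∈ Subgroup.center G) → r ^ N.factorization r ∣ p ^ a * q ^ b →
      ∀ j k : ℕ, k.Coprime N → k ≡ 1 [MOD N / r ^ N.factorization r] → ψ' ((g ^ j) ^ k) = ψ' (g ^ j) := by
    intro r hr g hg hdvd j k hk hk1
    rcases Nat.eq_zero_or_pos k with hk0 | hk0
    · subst hk0
      have hN1 : N = 1 := by simpa using hk
      have : Subsingleton G := (Nat.card_eq_one_iff_unique.mp hN1).1
      rw [Subsingleton.elim ((g ^ j) ^ 0) (g ^ j)]
    · set e := N.factorization r with he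
      have hNeq : N = r ^ e * (N / r ^ e) := (Nat.mul_div_cancel' (Nat.ordProj_dvd _ _)).symm
      have hdvd1 : N / r ^ e ∣ k - 1 := (Nat.modEq_iff_dvd' hk0).mp hk1.symm
      obtain ⟨c, hc⟩ := hdvd1
      set z' := (g ^ j) ^ (k - 1) with hz'
      have hz'pow : z' = g ^ (j * (k - 1)) := by rw [hz', ← pow_mul]
      have hz're : z' ^ (r ^ e) = 1 := by
        rw [hz'pow, ← pow_mul, hc]
        have hQ : r ^ e * (N / r ^ e) = N := Nat.mul_div_cancel' (Nat.ordProj_dvd _ _)
        have : j * (N / r ^ e * c) * r ^ e = N * (j * c) := by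
          calc j * (N / r ^ e * c) * r ^ e = (r ^ e * (N / r ^ e)) * (j * c) := by ring
            _ = N * (j * c) := by rw [hQ]
        rw [this, pow_mul, hN, pow_card_eq_one', one_pow]
      have hz'cen : z' ∈ Subgroup.center G := by
        rw [hz'pow]
        apply hg
        rw [← hz'pow]
        exact ⟨e, hz're⟩
      have hz'M : z' ^ (p ^ a * q ^ b) = 1 := by
        obtain ⟨d, hd⟩ := hdvd
        rw [hd, pow_mul, hz're, one_pow]
      have h1 : (g ^ j) ^ k = z' * g ^ j := by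
        rw [hz', ← pow_succ, Nat.sub_add_cancel hk0]
      rw [h1]
      exact htw z' hz'cen hz'M (g ^ j)
  have hpdvd : p ^ N.factorization p ∣ p ^ a * q ^ b := Dvd.intro _ rfl
  have hqdvd : q ^ N.factorization q ∣ p ^ a * q ^ b := Dvd.intro_left _ rfl
  have halt : ∀ s t : ℕ, s.Coprime N → s ≡ 1 [MOD N / p ^ a] → t.Coprime N → t ≡ 1 [MOD N / q ^ b] →
      (∀ g, ψ' (g ^ s) = ψ' g) ∨ (∀ g, ψ' (g ^ t) = ψ' g) := by
    intro s t hs hs1 ht ht1
    apply irr_invariant_of_four_term hirr' s t hs ht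
    intro g
    rcases hB g with h | h
    · have h1 := hgen p g h hpdvd 1 s hs hs1
      have h2 := hgen p g h hpdvd t s hs hs1
      rw [pow_one] at h1
      rw [← pow_mul, mul_comm t s] at h2
      rw [h1, h2]
    · have h1 := hgen q g h hqdvd 1 t ht ht1
      have h2 := hgen q g h hqdvd s t ht ht1
      rw [pow_one] at h1
      rw [← pow_mul] at h2
      rw [h1, h2, add_comm]
  have halt2 : (∀ s : ℕ, s.Coprime N → s ≡ 1 [MOD N / p ^ a] → ∀ g, ψ' (g ^ s) = ψ' g) ∨
      (∀ t : ℕ, t.Coprime N → t ≡ 1 [MOD N / q ^ b] → ∀ g, ψ' (g ^ t) = ψ' g) := by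
    by_contra hcon
    push Not at hcon
    obtain ⟨⟨s, hs, hs1, hs2⟩, ⟨t, ht, ht1, ht2⟩⟩ := hcon
    rcases halt s t hs hs1 ht ht1 with h | h
    · obtain ⟨g, hg⟩ := hs2
      exact hg (h g)
    · obtain ⟨g, hg⟩ := ht2
      exact hg (h g)
  have hchar' : IsCharacter G ψ' := IsIrrCharacter.isCharacter hirr'
  rcases halt2 with h | h
  · left
    intro x hx
    have := apply_eq_degree_of_invariant hchar' hψ'1 hmp h hx
    rw [← hnorm, this]
    simp
  · right
    intro z hz
    have := apply_eq_degree_of_invariant hchar' hψ'1 hmq h hz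
    rw [← hnorm, this]
    simp

/-- Case B of the main lemma: if for every element the `p`-part or the `q`-part is central then all `p`-elements
commute with all `q`-elements. -/
theorem commute_of_caseB {p q : ℕ} [hp : Fact p.Prime] [hq : Fact q.Prime] {χ : G → ℂ}
    (hχ : IsCharacter G χ) (hfaith : ∀ g, χ g = χ 1 → g = 1) {n : ℕ} (hn : χ 1 = n) (hnp : n + 1 < p)
    (hnq : n + 1 < q)
    (hB : ∀ g : G, (∀ j : ℕ, IsPElt p (g ^ j) → g ^ j ∈ Subgroup.center G) ∨
      (∀ j : ℕ, IsPElt q (g ^ j) → g ^ j ∈ Subgroup.center G))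
    {x z : G} (hx : IsPElt p x) (hz : IsPElt q z) : x * z = z * x := by
  classical
  have : Fintype (IrrCharacter G) := Fintype.ofFinite _
  obtain ⟨mult, hmult⟩ := IsCharacter.exists_decomp hχ
  rw [finsum_eq_sum_of_fintype] at hmult
  have hval : ∀ g, χ g = ∑ ψ : IrrCharacter G, (mult ψ : ℂ) * (ψ : G → ℂ) g := by
    intro g
    rw [hmult, Finset.sum_apply]
    exact Finset.sum_congr rfl (fun ψ _ => by rw [Pi.smul_apply, nsmul_eq_mul])
  -- degrees
  have hdeg : ∀ ψ : IrrCharacter G, ∃ d : ℕ, 0 < d ∧ (ψ : G → ℂ) 1 = d := fun ψ =>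
    IsIrrCharacter.apply_one_pos ψ.2
  choose d hd0 hd using hdeg
  have hsum : ∑ ψ : IrrCharacter G, mult ψ * d ψ = n := by
    have h1 := hval 1
    rw [hn] at h1
    have h2 : (n : ℂ) = ((∑ ψ : IrrCharacter G, mult ψ * d ψ : ℕ) : ℂ) := by
      rw [h1]
      push_cast
      exact Finset.sum_congr rfl (fun ψ _ => by rw [hd ψ])
    exact_mod_cast h2.symm
  have hle : ∀ ψ : IrrCharacter G, mult ψ ≠ 0 → d ψ ≤ n := by
    intro ψ hψ
    have h1 : mult ψ * d ψ ≤ ∑ ψ : IrrCharacter G, mult ψ * d ψ :=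
      Finset.single_le_sum (f := fun ψ => mult ψ * d ψ) (fun _ _ => Nat.zero_le _) (Finset.mem_univ ψ)
    rw [hsum] at h1
    have h2 : d ψ ≤ mult ψ * d ψ := Nat.le_mul_of_pos_left _ (Nat.pos_of_ne_zero hψ)
    omega
  have hcomm : χ (x * z * x⁻¹ * z⁻¹) = χ 1 := by
    rw [hval, hval 1]
    apply Finset.sum_congr rfl
    intro ψ _
    by_cases hψ : mult ψ = 0
    · rw [hψ]; simp
    · have hdn := hle ψ hψ
      congr 1
      rcases irr_caseB ψ.2 (hd ψ) (by omega) (by omega) hB with h | h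
      · exact (apply_commutator_of_norm_eq (IsIrrCharacter.isCharacter ψ.2) (hd ψ) (h x hx) z).1
      · exact (apply_commutator_of_norm_eq (IsIrrCharacter.isCharacter ψ.2) (hd ψ) (h z hz) x).2
  have h1 := hfaith _ hcomm
  calc x * z = (x * z * x⁻¹ * z⁻¹) * (z * x) := by group
    _ = z * x := by rw [h1, one_mul]

end Cfsg.Agent.CharLib.Blich
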