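import Mathlib
import Cfsg.Agent.Lib.Lead.Blich2
import Cfsg.Agent.Lib.Lead.Taketa
import Cfsg.Agent.Lib.Helper24.IrrFacts
import Cfsg.Agent.Lib.Lead.BlockBasic

/-!
lead: the main lemma for Blichfeldt's theorem: a finite linear group of degree `n` has commuting Sylow `p`- and
`q`-subgroups for primes `p ≠ q` greater than `n + 1`.
-/

set_option autoImplicit false

namespace Cfsg.Agent.CharLib.Blich

open Cfsg Cfsg.Agent.CharLib
open scoped ComplexConjugate commutatorElement Pointwise

universe u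

section basic

variable {G : Type u} [Group G] [Finite G]

/-- A character takes the value `χ 1` at `w` as soon as all its irreducible constituents (which have degree at
most `χ 1`) do. -/
theorem apply_eq_apply_one_of_constituents {χ : G → ℂ} (hχ : IsCharacter G χ) {n : ℕ} (hn : χ 1 = n) (w : G)
    (h : ∀ ψ : IrrCharacter G, ∀ d : ℕ, (ψ : G → ℂ) 1 = d → d ≤ n → (ψ : G → ℂ) w = (ψ : G → ℂ) 1) :
    χ w = χ 1 := by
  classical
  have : Fintype (IrrCharacter G) := Fintype.ofFinite _
  obtain ⟨mult, hmult⟩ := IsCharacter.exists_decomp hχ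
  rw [finsum_eq_sum_of_fintype] at hmult
  have hval : ∀ g, χ g = ∑ ψ : IrrCharacter G, (mult ψ : ℂ) * (ψ : G → ℂ) g := by
    intro g
    rw [hmult, Finset.sum_apply]
    exact Finset.sum_congr rfl (fun ψ _ => by rw [Pi.smul_apply, nsmul_eq_mul])
  have hdeg : ∀ ψ : IrrCharacter G, ∃ d : ℕ, 0 < d ∧ (ψ : G → ℂ) 1 = d := fun ψ =>
    IsIrrCharacter.apply_one_pos ψ.2
  choose d hd0 hd using hdeg
  have hsum : ∑ ψ : IrrCharacter G, mult ψ * d ψ = n := by
    have h1 := hval 1
    rw [hn] at h1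
    have h2 : (n : ℂ) = ((∑ ψ : IrrCharacter G, mult ψ * d ψ : ℕ) : ℂ) := by
      rw [h1]
      push_cast
      exact Finset.sum_congr rfl (fun ψ _ => by rw [hd ψ])
    exact_mod_cast h2.symm
  have hle : ∀ ψ : IrrCharacter G, mult ψ ≠ 0 → d ψ ≤ n := by
    intro ψ hψ
    have h1 : mult ψ * d ψ ≤ ∑ ψ : IrrCharacter G, mult ψ * d ψ :=
      Finset.single_le_sum (f := fun ψ => mult ψ * d ψ) (fun _ _ => Nat.zero_le _) (Finset.mem_univ ψ)
    rw [hsum] at h1
    have h2 : d ψ ≤ mult ψ * d ψ := Nat.le_mul_of_pos_left _ (Nat.pos_of_ne_zero hψ)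
    omega
  rw [hval, hval 1]
  apply Finset.sum_congr rfl
  intro ψ _
  by_cases hψ : mult ψ = 0
  · rw [hψ]; simp
  · rw [h ψ (d ψ) (hd ψ) (hle ψ hψ)]

/-- A `p`-group with a faithful character of degree less than `p` is abelian. -/
theorem commute_of_pGroup_of_degree_lt {p : ℕ} [hp : Fact p.Prime] (hG : IsPGroup p G) {χ : G → ℂ}
    (hχ : IsCharacter G χ) (hfaith : ∀ g, χ g = χ 1 → g = 1) {n : ℕ} (hn : χ 1 = n) (hnp : n < p)
    (a b : G) : a * b = b * a := by
  have h1 : χ ⁅a, b⁆ = χ 1 := by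
    apply apply_eq_apply_one_of_constituents hχ hn
    intro ψ d hd hdn
    have hd1 : d = 1 := by
      have h2 := Cfsg.Agent.Lib.Helper24.irr_charDegree_dvd_card ψ
      have h3 : charDegree (ψ : G → ℂ) = d := charDegree_eq_of_apply_one hd
      rw [h3] at h2
      obtain ⟨k, hk⟩ := IsPGroup.iff_card.mp hG
      rw [hk] at h2
      obtain ⟨j, _, hj⟩ := (Nat.dvd_prime_pow hp.out).mp h2
      rcases Nat.eq_zero_or_pos j with h0 | h0
      · rw [hj, h0, pow_zero]
      · exfalso
        have : p ≤ d := by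
          rw [hj]
          calc p = p ^ 1 := (pow_one p).symm
            _ ≤ p ^ j := Nat.pow_le_pow_right hp.out.pos h0
        omega
    subst hd1
    have hd' : (ψ : G → ℂ) 1 = 1 := by simpa using hd
    rw [hd']
    exact apply_eq_one_of_mem_commutator (IsIrrCharacter.isCharacter ψ.2) hd' _
      (Subgroup.commutator_mem_commutator (Subgroup.mem_top a) (Subgroup.mem_top b))
  have h2 := hfaith _ h1
  exact (commutatorElement_eq_one_iff_commute.mp h2).eq

end basic

section sylow

variable {G : Type u} [Group G] [Finite G]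

/-- A Sylow subgroup of a subgroup containing a Sylow subgroup of `G` is a Sylow subgroup of `G`. -/
theorem exists_sylow_map {p : ℕ} [hp : Fact p.Prime] (H : Subgroup G) (P₀ : Sylow p G)
    (hP₀ : (P₀ : Subgroup G) ≤ H) (P' : Sylow p H) :
    ∃ P'' : Sylow p G, (P'' : Subgroup G) = (P' : Subgroup H).map H.subtype := by
  have h1 : Nat.card P' = p ^ (Nat.card H).factorization p := P'.card_eq_multiplicity
  have h2 : Nat.card P₀ = p ^ (Nat.card G).factorization p := P₀.card_eq_multiplicity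
  have h3 : (Nat.card H).factorization p = (Nat.card G).factorization p := by
    apply le_antisymm
    · have : Nat.card H ∣ Nat.card G := Subgroup.card_subgroup_dvd_card H
      exact (Nat.factorization_le_iff_dvd Nat.card_pos.ne' Nat.card_pos.ne').mpr this p
    · have h4 : Nat.card P₀ ∣ Nat.card H := Subgroup.card_dvd_of_le hP₀
      rw [h2] at h4
      exact (hp.out.pow_dvd_iff_le_factorization Nat.card_pos.ne').mp h4
  have h5 : Nat.card ((P' : Subgroup H).map H.subtype) = p ^ (Nat.card G).factorization p := by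
    rw [Subgroup.card_map_of_injective H.subtype_injective, h1, h3]
  exact ⟨Sylow.ofCard _ h5, Sylow.coe_ofCard _ h5⟩

omit [Finite G] in
theorem isPGroup_zpowers_of_isPElt {p : ℕ} {x : G} (hx : IsPElt p x) :
    IsPGroup p (Subgroup.zpowers x) := by
  obtain ⟨k, hk⟩ := hx
  intro ⟨y, hy⟩
  obtain ⟨j, rfl⟩ := Subgroup.mem_zpowers_iff.mp hy
  refine ⟨k, ?_⟩
  apply Subtype.ext
  simp only [Subgroup.coe_pow, Subgroup.coe_one]
  rw [← zpow_natCast, ← zpow_mul, mul_comm, zpow_mul, zpow_natCast, hk, one_zpow]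

omit [Finite G] in
theorem isPElt_of_mem_sylow {p : ℕ} (P : Sylow p G) {x : G} (hx : x ∈ P) : IsPElt p x := by
  obtain ⟨k, hk⟩ := P.2 ⟨x, hx⟩
  exact ⟨k, by simpa using congrArg Subtype.val hk⟩

end sylow

/-- Existence of commuting Sylow subgroups. -/
def HasCommSylows (p q : ℕ) (G : Type u) [Group G] : Prop :=
  ∃ P : Sylow p G, ∃ Q : Sylow q G, ∀ x ∈ P, ∀ y ∈ Q, x * y = y * x

section main

variable {p q : ℕ} [hp : Fact p.Prime] [hq : Fact q.Prime]

theorem hasCommSylows_aux : ∀ (N : ℕ) (G : Type u) [Group G] [Finite G], Nat.card G = N →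
    ∀ (χ : G → ℂ), IsCharacter G χ → (∀ g, χ g = χ 1 → g = 1) → ∀ n : ℕ, χ 1 = n → n + 1 < p → n + 1 < q →
    HasCommSylows p q G := by
  intro N
  induction N using Nat.strong_induction_on with
  | _ N ih =>
  intro G _ _ hcard χ hχ hfaith n hn hnp hnq
  -- Sylow subgroups are abelian
  have habP : ∀ P : Sylow p G, ∀ a ∈ P, ∀ b ∈ P, a * b = b * a := by
    intro P a ha b hb
    have h1 := commute_of_pGroup_of_degree_lt (G := P) (p := p) P.2 (IsCharacter.restrict hχ (P : Subgroup G))
      (fun g hg => by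
        have := hfaith (g : G) hg
        exact Subtype.ext this) (n := n) hn (by omega) ⟨a, ha⟩ ⟨b, hb⟩
    exact congrArg Subtype.val h1
  have habQ : ∀ Q : Sylow q G, ∀ a ∈ Q, ∀ b ∈ Q, a * b = b * a := by
    intro Q a ha b hb
    have h1 := commute_of_pGroup_of_degree_lt (G := Q) (p := q) Q.2 (IsCharacter.restrict hχ (Q : Subgroup G))
      (fun g hg => by
        have := hfaith (g : G) hg
        exact Subtype.ext this) (n := n) hn (by omega) ⟨a, ha⟩ ⟨b, hb⟩
    exact congrArg Subtype.val h1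
  -- the induction hypothesis for proper subgroups
  have ihsub : ∀ C : Subgroup G, C ≠ ⊤ → HasCommSylows p q C := by
    intro C hC
    have hlt : Nat.card C < N := by
      rw [← hcard]
      exact lt_of_le_of_ne (Subgroup.card_le_card_group C) (fun h => hC (Subgroup.eq_top_of_card_eq C h))
    exact ih _ hlt C rfl (fun c : C => χ c) (IsCharacter.restrict hχ C)
      (fun g hg => Subtype.ext (hfaith (g : G) hg)) n hn hnp hnq
  -- transfer of commuting Sylow subgroups from a subgroup containing Sylow subgroups of `G`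
  have htransfer : ∀ (C : Subgroup G) (P₀ : Sylow p G) (Q₀ : Sylow q G), (P₀ : Subgroup G) ≤ C →
      (Q₀ : Subgroup G) ≤ C → HasCommSylows p q C → HasCommSylows p q G := by
    intro C P₀ Q₀ hP₀ hQ₀ ⟨P', Q', hPQ⟩
    obtain ⟨P'', hP''⟩ := exists_sylow_map C P₀ hP₀ P'
    obtain ⟨Q'', hQ''⟩ := exists_sylow_map C Q₀ hQ₀ Q'
    refine ⟨P'', Q'', ?_⟩
    intro x hx y hy
    have hx' : x ∈ (P'' : Subgroup G) := hx
    have hy' : y ∈ (Q'' : Subgroup G) := hy
    rw [hP''] at hx'
    rw [hQ''] at hy'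
    obtain ⟨x', hx'1, rfl⟩ := Subgroup.mem_map.mp hx'
    obtain ⟨y', hy'1, rfl⟩ := Subgroup.mem_map.mp hy'
    have := hPQ x' hx'1 y' hy'1
    exact congrArg Subtype.val this
  by_cases hA : ∃ x z : G, IsPElt p x ∧ IsPElt q z ∧ x * z = z * x ∧ x ∉ Subgroup.center G ∧
      z ∉ Subgroup.center G
  · obtain ⟨x, z, hx, hz, hxz, hxZ, hzZ⟩ := hA
    -- Sylow subgroups containing `x` and `z`
    obtain ⟨Px, hPx⟩ := (isPGroup_zpowers_of_isPElt hx).exists_le_sylow
    obtain ⟨Qz, hQz⟩ := (isPGroup_zpowers_of_isPElt hz).exists_le_sylow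
    have hxPx : x ∈ Px := hPx (Subgroup.mem_zpowers x)
    have hzQz : z ∈ Qz := hQz (Subgroup.mem_zpowers z)
    set C : Subgroup G := Subgroup.centralizer {x} with hC
    have hCtop : C ≠ ⊤ := by
      intro h
      apply hxZ
      rw [Subgroup.mem_center_iff]
      intro g
      have : g ∈ C := h ▸ Subgroup.mem_top g
      rw [hC, Subgroup.mem_centralizer_singleton_iff] at this
      exact this
    have hPxC : (Px : Subgroup G) ≤ C := by
      intro y hy
      rw [hC, Subgroup.mem_centralizer_singleton_iff]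
      exact habP Px y hy x hxPx
    have hzC : z ∈ C := by
      rw [hC, Subgroup.mem_centralizer_singleton_iff]
      exact hxz.symm
    obtain ⟨P₁, Q₁, hPQ₁⟩ := ihsub C hCtop
    -- move `Q₁` so that it contains `z`
    have hz' : IsPElt q (⟨z, hzC⟩ : C) := by
      obtain ⟨k, hk⟩ := hz
      exact ⟨k, Subtype.ext (by simpa using hk)⟩
    obtain ⟨Q', hQ'⟩ := (isPGroup_zpowers_of_isPElt hz').exists_le_sylow
    obtain ⟨c, hc⟩ := MulAction.exists_smul_eq C Q₁ Q'
    have hzQ' : (⟨z, hzC⟩ : C) ∈ Q' := hQ' (Subgroup.mem_zpowers _)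
    -- the Sylow `p`-subgroup `c • P₁` of `C` centralizes `z`
    obtain ⟨P'', hP''⟩ := exists_sylow_map C Px hPxC (c • P₁)
    set C' : Subgroup G := Subgroup.centralizer {z} with hC'
    have hC'top : C' ≠ ⊤ := by
      intro h
      apply hzZ
      rw [Subgroup.mem_center_iff]
      intro g
      have : g ∈ C' := h ▸ Subgroup.mem_top g
      rw [hC', Subgroup.mem_centralizer_singleton_iff] at this
      exact this
    have hP''C' : (P'' : Subgroup G) ≤ C' := by
      intro y hy
      rw [hP''] at hy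
      obtain ⟨y', hy'1, rfl⟩ := Subgroup.mem_map.mp hy
      rw [hC', Subgroup.mem_centralizer_singleton_iff]
      -- `y' ∈ c • P₁` and `z ∈ c • Q₁`
      have hy'2 : y' ∈ ((c • P₁ : Sylow p C) : Subgroup C) := hy'1
      rw [Sylow.coe_subgroup_smul, Subgroup.mem_smul_pointwise_iff_exists] at hy'2
      obtain ⟨y₀, hy₀, rfl⟩ := hy'2
      have hz'2 : (⟨z, hzC⟩ : C) ∈ ((c • Q₁ : Sylow q C) : Subgroup C) := by rw [hc]; exact hzQ'
      rw [Sylow.coe_subgroup_smul, Subgroup.mem_smul_pointwise_iff_exists] at hz'2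
      obtain ⟨z₀, hz₀, hz₀'⟩ := hz'2
      have h1 := hPQ₁ y₀ hy₀ z₀ hz₀
      have h2 : (MulAut.conj c • y₀) * (MulAut.conj c • z₀) = (MulAut.conj c • z₀) * (MulAut.conj c • y₀) := by
        rw [← smul_mul', ← smul_mul', h1]
      rw [hz₀'] at h2
      have h3 := congrArg Subtype.val h2
      simpa using h3
    have hQzC' : (Qz : Subgroup G) ≤ C' := by
      intro y hy
      rw [hC', Subgroup.mem_centralizer_singleton_iff]
      exact habQ Qz y hy z hzQz
    exact htransfer C' P'' Qz hP''C' hQzC' (ihsub C' hC'top)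
  · -- case B
    have hB : ∀ g : G, (∀ j : ℕ, IsPElt p (g ^ j) → g ^ j ∈ Subgroup.center G) ∨
        (∀ j : ℕ, IsPElt q (g ^ j) → g ^ j ∈ Subgroup.center G) := by
      intro g
      by_contra hcon
      push Not at hcon
      obtain ⟨⟨j₁, h1, h1'⟩, ⟨j₂, h2, h2'⟩⟩ := hcon
      exact hA ⟨g ^ j₁, g ^ j₂, h1, h2, ((Commute.refl g).pow_pow j₁ j₂).eq, h1', h2'⟩
    obtain ⟨P⟩ : Nonempty (Sylow p G) := inferInstance
    obtain ⟨Q⟩ : Nonempty (Sylow q G) := inferInstance
    refine ⟨P, Q, fun x hx y hy => ?_⟩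
    exact commute_of_caseB hχ hfaith hn hnp hnq hB (isPElt_of_mem_sylow P hx) (isPElt_of_mem_sylow Q hy)

/-- **Main lemma**: a finite group with a faithful character of degree `n` has commuting Sylow `p`- and
`q`-subgroups for primes `p, q > n + 1`. -/
theorem hasCommSylows {G : Type u} [Group G] [Finite G] {χ : G → ℂ} (hχ : IsCharacter G χ)
    (hfaith : ∀ g, χ g = χ 1 → g = 1) {n : ℕ} (hn : χ 1 = n) (hnp : n + 1 < p) (hnq : n + 1 < q) :
    HasCommSylows p q G :=
  hasCommSylows_aux (Nat.card G) G rfl χ hχ hfaith n hn hnp hnq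

end main

end Cfsg.Agent.CharLib.Blich
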