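import Cfsg.Agent.Lib.Helper7.ChevHCardFin
import Cfsg.Agent.Lib.Helper7.ChevHxAll

/-! Characters of the root lattice with prescribed values on the fundamental roots (lead). -/

set_option autoImplicit false
set_option maxRecDepth 100000

namespace Cfsg.Agent.Lib.Lead.Stein

open Cfsg Cfsg.Lie Matrix Cfsg.Agent.Lib.Helper7

/-- table check: `d R = Adj · (Cartan integers)` with `d ≠ 0`, and the rows of `R` at the fundamental
roots are the unit vectors -/
def rootCharOKB (D : ChevalleyDatum) (R Adj : List (List ℤ)) (d : ℤ) : Bool :=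
  decide (d ≠ 0) &&
  ((List.range D.nroots).all fun s => (List.range D.rank).all fun j =>
    d * matL R s j == ((List.range D.rank).map fun i => matL Adj j i * D.cartan i s).sum) &&
  ((List.range D.rank).all fun k => (List.range D.rank).all fun j =>
    matL R (D.simple k) j == if k = j then 1 else 0)

theorem chainAdd_of_rootCharOKB (D : ChevalleyDatum) (R Adj : List (List ℤ)) (d : ℤ)
    (h : rootCharOKB D R Adj d = true) (hH : ∀ k < D.rank, HxFacts D k) (j : ℕ) (hj : j < D.rank) :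
    ChainAdd D (fun s => matL R s j) := by
  unfold rootCharOKB at h
  simp only [Bool.and_eq_true, decide_eq_true_eq, List.all_eq_true, List.mem_range, beq_iff_eq] at h
  obtain ⟨⟨hd, h1⟩, -⟩ := h
  have hS := chainAdd_listSum D (List.range D.rank) (fun i => matL Adj j i) (fun i => D.cartan i)
    (fun k hk => chainAdd_cartan D k (hH k (List.mem_range.mp hk)))
  constructor
  · intro s hs hn
    have e1 := h1 s hs j hj
    have e2 := h1 (D.neg s) hn j hj
    have e3 := hS.negA s hs hn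
    rw [← e1, ← e2] at e3
    apply mul_left_cancel₀ hd
    rw [e3]; ring
  · intro s hs v hv x hx hx1
    have e1 := h1 s hs j hj
    have e2 := h1 v hv j hj
    have e3 := h1 x.1 hx1 j hj
    have e4 := hS.addA s hs v hv x hx hx1
    rw [← e1, ← e2, ← e3] at e4
    apply mul_left_cancel₀ hd
    rw [e4]; ring

theorem simple_of_rootCharOKB (D : ChevalleyDatum) (R Adj : List (List ℤ)) (d : ℤ)
    (h : rootCharOKB D R Adj d = true) (k j : ℕ) (hk : k < D.rank) (hj : j < D.rank) :
    matL R (D.simple k) j = if k = j then 1 else 0 := by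
  unfold rootCharOKB at h
  simp only [Bool.and_eq_true, decide_eq_true_eq, List.all_eq_true, List.mem_range, beq_iff_eq] at h
  exact h.2 k hk j hj

theorem chainChar_finprod (D : ChevalleyDatum) (F : Type*) [Field F] {ι : Type*} (s : Finset ι)
    (χ : ι → ℕ → F) (h : ∀ i ∈ s, ChainChar D F (χ i)) : ChainChar D F (fun r => ∏ i ∈ s, χ i r) := by
  classical
  induction s using Finset.induction_on with
  | empty => simpa using chainChar_one D F
  | insert a s ha ih =>
    have h1 := h a (Finset.mem_insert_self a s)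
    have h2 := ih (fun i hi => h i (Finset.mem_insert_of_mem hi))
    have := h1.mul h2
    simpa [Finset.prod_insert ha] using this

/-- a character of the root lattice with prescribed values on the fundamental roots -/
theorem exists_chainChar_of_OKB (D : ChevalleyDatum) (F : Type*) [Field F] (R Adj : List (List ℤ)) (d : ℤ)
    (h : rootCharOKB D R Adj d = true) (hH : ∀ k < D.rank, HxFacts D k) (c : Fin D.rank → Fˣ) :
    ∃ χ : ℕ → F, ChainChar D F χ ∧ ∀ k : Fin D.rank, χ (D.simple k) = ((c k : Fˣ) : F) := by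
  refine ⟨fun r => ∏ j : Fin D.rank, ((c j : Fˣ) : F) ^ matL R r j, ?_, ?_⟩
  · apply chainChar_finprod D F Finset.univ (fun (j : Fin D.rank) r => ((c j : Fˣ) : F) ^ matL R r j)
    intro j _
    exact chainChar_zpow D F _ (chainAdd_of_rootCharOKB D R Adj d h hH j j.isLt) _ (Units.ne_zero _)
  · intro k
    show ∏ j : Fin D.rank, ((c j : Fˣ) : F) ^ matL R (D.simple k) j = _
    rw [Finset.prod_eq_single k]
    · rw [simple_of_rootCharOKB D R Adj d h k k k.isLt k.isLt, if_pos rfl, zpow_one]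
    · intro j _ hjk
      rw [simple_of_rootCharOKB D R Adj d h k j k.isLt j.isLt,
        if_neg (fun he => hjk (Fin.ext he.symm)), zpow_zero]
    · intro hk; exact absurd (Finset.mem_univ k) hk

def adj_G2 : List (List ℤ) := [[2, 3], [1, 2]]
def adj_B2 : List (List ℤ) := [[2, 2], [1, 2]]
def adj_D4 : List (List ℤ) := [[4, 4, 2, 2], [4, 8, 4, 4], [2, 4, 4, 2], [2, 4, 2, 4]]
def adj_F4 : List (List ℤ) := [[2, 3, 4, 2], [3, 6, 8, 4], [2, 4, 6, 3], [1, 2, 3, 2]]
def adj_E6 : List (List ℤ) := [[4, 3, 5, 6, 4, 2], [3, 6, 6, 9, 6, 3], [5, 6, 10, 12, 8, 4],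
  [6, 9, 12, 18, 12, 6], [4, 6, 8, 12, 10, 5], [2, 3, 4, 6, 5, 4]]
def adj_E7 : List (List ℤ) := [[4, 4, 6, 8, 6, 4, 2], [4, 7, 8, 12, 9, 6, 3], [6, 8, 12, 16, 12, 8, 4],
  [8, 12, 16, 24, 18, 12, 6], [6, 9, 12, 18, 15, 10, 5], [4, 6, 8, 12, 10, 8, 4], [2, 3, 4, 6, 5, 4, 3]]
def adj_E8 : List (List ℤ) := [[4, 5, 7, 10, 8, 6, 4, 2], [5, 8, 10, 15, 12, 9, 6, 3],
  [7, 10, 14, 20, 16, 12, 8, 4], [10, 15, 20, 30, 24, 18, 12, 6], [8, 12, 16, 24, 20, 15, 10, 5],
  [6, 9, 12, 18, 15, 12, 8, 4], [4, 6, 8, 12, 10, 8, 6, 3], [2, 3, 4, 6, 5, 4, 3, 2]]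

theorem rootCharOKB_G2 : rootCharOKB chevG2 hcR_G2 adj_G2 1 = true := by decide +kernel
theorem rootCharOKB_B2 : rootCharOKB chevB2 hcR_B2 adj_B2 2 = true := by decide +kernel
theorem rootCharOKB_D4 : rootCharOKB chevD4 hcR_D4 adj_D4 4 = true := by decide +kernel
theorem rootCharOKB_F4 : rootCharOKB chevF4 hcR_F4 adj_F4 1 = true := by decide +kernel
theorem rootCharOKB_E6 : rootCharOKB chevE6 hcR_E6 adj_E6 3 = true := by decide +kernel
theorem rootCharOKB_E7 : rootCharOKB chevE7 hcR_E7 adj_E7 2 = true := by decide +kernel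
theorem rootCharOKB_E8 : rootCharOKB chevE8 hcR_E8 adj_E8 1 = true := by decide +kernel

/-- a character of the root lattice with prescribed values on the fundamental roots -/
theorem exists_chainChar (D : ChevalleyDatum)
    (hD : D ∈ [chevG2, chevB2, chevD4, chevF4, chevE6, chevE7, chevE8]) (F : Type*) [Field F]
    (c : Fin D.rank → Fˣ) :
    ∃ χ : ℕ → F, ChainChar D F χ ∧ ∀ k : Fin D.rank, χ (D.simple k) = ((c k : Fˣ) : F) := by
  have key : ∃ (R Adj : List (List ℤ)) (d : ℤ), rootCharOKB D R Adj d = true :=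
    mem_seven_cases (P := fun D => ∃ (R Adj : List (List ℤ)) (d : ℤ), rootCharOKB D R Adj d = true)
      ⟨_, _, _, rootCharOKB_G2⟩ ⟨_, _, _, rootCharOKB_B2⟩ ⟨_, _, _, rootCharOKB_D4⟩
      ⟨_, _, _, rootCharOKB_F4⟩ ⟨_, _, _, rootCharOKB_E6⟩ ⟨_, _, _, rootCharOKB_E7⟩
      ⟨_, _, _, rootCharOKB_E8⟩ D hD
  obtain ⟨R, Adj, d, h⟩ := key
  exact exists_chainChar_of_OKB D F R Adj d h (fun k hk => hxFacts_of_mem D hD k hk) c

end Cfsg.Agent.Lib.Lead.Stein
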