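import Cfsg.Agent.Lib.Lead.SteinJ
import Cfsg.Agent.Lib.Lead.SteinK

/-! Diagonal automorphisms of a Chevalley group attached to characters of the root lattice (lead). -/

set_option autoImplicit false

namespace Cfsg.Agent.Lib.Lead.Stein

open Cfsg Cfsg.Lie Matrix Cfsg.Agent.Lib.Helper7 Cfsg.Agent.Lib.Helper3.BN Cfsg.Agent.Lib.Helper11

section
variable (D : ChevalleyDatum) (F : Type*) [Field F]

theorem diagChar_mul_inv (χ : ℕ → F) (hχ : ChainChar D F χ) :
    diagChar D F χ * diagChar D F (fun s => (χ s)⁻¹) = 1 := by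
  rw [diagChar_mul]
  unfold diagChar
  rw [← Matrix.diagonal_one]
  congr 1
  funext x
  rcases x with j | s
  · simp
  · simp only [Sum.elim_inr]
    exact mul_inv_cancel₀ (hχ.ne0 s.val s.isLt)

theorem diagChar_inv_mul (χ : ℕ → F) (hχ : ChainChar D F χ) :
    diagChar D F (fun s => (χ s)⁻¹) * diagChar D F χ = 1 := by
  rw [diagChar_mul]
  unfold diagChar
  rw [← Matrix.diagonal_one]
  congr 1
  funext x
  rcases x with j | s
  · simp
  · simp only [Sum.elim_inr]
    exact inv_mul_cancel₀ (hχ.ne0 s.val s.isLt)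

/-- the diagonal matrix of a character, as an element of `GL` -/
noncomputable def diagGL (χ : ℕ → F) (hχ : ChainChar D F χ) : GL D.Idx F :=
  ⟨diagChar D F χ, diagChar D F (fun s => (χ s)⁻¹), diagChar_mul_inv D F χ hχ, diagChar_inv_mul D F χ hχ⟩

theorem coe_diagGL (χ : ℕ → F) (hχ : ChainChar D F χ) :
    ((diagGL D F χ hχ : GL D.Idx F) : Matrix D.Idx D.Idx F) = diagChar D F χ := rfl

theorem diagGL_inv (χ : ℕ → F) (hχ : ChainChar D F χ) :
    (diagGL D F χ hχ)⁻¹ = diagGL D F (fun s => (χ s)⁻¹) hχ.inv := by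
  apply Units.ext
  rfl

end

section
variable (D : ChevalleyDatum) (hD : D ∈ [chevG2, chevB2, chevD4, chevF4, chevE6, chevE7, chevE8])
variable (F : Type*) [Field F]
include hD

theorem diagGL_conj_xGL (χ : ℕ → F) (hχ : ChainChar D F χ) (s : ℕ) (t : F) :
    diagGL D F χ hχ * xGL D hD F s t * (diagGL D F χ hχ)⁻¹ = xGL D hD F s (χ s * t) := by
  rw [diagGL_xGL_comm D hD F _ χ hχ (coe_diagGL D F χ hχ)]; group

theorem diagGL_conj_mem (χ : ℕ → F) (hχ : ChainChar D F χ) (g : GL D.Idx F) (hg : g ∈ D.group F) :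
    diagGL D F χ hχ * g * (diagGL D F χ hχ)⁻¹ ∈ D.group F := by
  unfold ChevalleyDatum.group at hg
  induction hg using Subgroup.closure_induction with
  | mem x hx =>
    obtain ⟨r, t, hx⟩ := hx
    have : x = xGL D hD F r.val t := Units.ext (by rw [hx, coe_xGL, x_eq_xMat D F r.val r.isLt])
    rw [this, diagGL_conj_xGL D hD F χ hχ]
    exact xGL_mem_group D hD F _ _
  | one => simp
  | mul a b _ _ iha ihb =>
    have : diagGL D F χ hχ * (a * b) * (diagGL D F χ hχ)⁻¹ =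
        (diagGL D F χ hχ * a * (diagGL D F χ hχ)⁻¹) * (diagGL D F χ hχ * b * (diagGL D F χ hχ)⁻¹) := by
      group
    rw [this]; exact Subgroup.mul_mem _ iha ihb
  | inv a _ iha =>
    have : diagGL D F χ hχ * a⁻¹ * (diagGL D F χ hχ)⁻¹ =
        (diagGL D F χ hχ * a * (diagGL D F χ hχ)⁻¹)⁻¹ := by group
    rw [this]; exact Subgroup.inv_mem _ iha

theorem diagGL_inv_conj_mem (χ : ℕ → F) (hχ : ChainChar D F χ) (g : GL D.Idx F) (hg : g ∈ D.group F) :
    (diagGL D F χ hχ)⁻¹ * g * diagGL D F χ hχ ∈ D.group F := by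
  have := diagGL_conj_mem D hD F _ hχ.inv g hg
  rw [← diagGL_inv, inv_inv] at this
  exact this

/-- the diagonal automorphism of a character of the root lattice -/
noncomputable def diagAut (χ : ℕ → F) (hχ : ChainChar D F χ) : ↥(D.group F) ≃* ↥(D.group F) where
  toFun g := ⟨diagGL D F χ hχ * g.1 * (diagGL D F χ hχ)⁻¹, diagGL_conj_mem D hD F χ hχ g.1 g.2⟩
  invFun g := ⟨(diagGL D F χ hχ)⁻¹ * g.1 * diagGL D F χ hχ, diagGL_inv_conj_mem D hD F χ hχ g.1 g.2⟩
  left_inv g := Subtype.ext (by show _ * (_ * g.1 * _) * _ = g.1; group)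
  right_inv g := Subtype.ext (by show _ * (_ * g.1 * _) * _ = g.1; group)
  map_mul' a b := Subtype.ext (by
    show _ * (a.1 * b.1) * _ = (_ * a.1 * _) * (_ * b.1 * _); group)

theorem coe_diagAut (χ : ℕ → F) (hχ : ChainChar D F χ) (g : ↥(D.group F)) :
    ((diagAut D hD F χ hχ g : ↥(D.group F)) : GL D.Idx F) =
      diagGL D F χ hχ * (g : GL D.Idx F) * (diagGL D F χ hχ)⁻¹ := rfl

theorem diagAut_xG (χ : ℕ → F) (hχ : ChainChar D F χ) (s : ℕ) (t : F) :
    diagAut D hD F χ hχ (xG D hD F s t) = xG D hD F s (χ s * t) :=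
  Subtype.ext (diagGL_conj_xGL D hD F χ hχ s t)

theorem diagAut_stab_pos (χ : ℕ → F) (hχ : ChainChar D F χ) :
    Stab D F (diagAut D hD F χ hχ) (D.posUnipotent F) := by
  intro g
  rw [coe_diagAut]
  constructor
  · intro h
    have h1 := diagChar_conj_mem_posUnipotent D hD F (diagGL D F χ hχ)⁻¹ _ hχ.inv
      (by rw [diagGL_inv]; rfl) _ h
    have : (diagGL D F χ hχ)⁻¹ * (diagGL D F χ hχ * (g : GL D.Idx F) * (diagGL D F χ hχ)⁻¹) *
        (diagGL D F χ hχ)⁻¹⁻¹ = (g : GL D.Idx F) := by group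
    rwa [this] at h1
  · intro h
    exact diagChar_conj_mem_posUnipotent D hD F _ χ hχ (coe_diagGL D F χ hχ) _ h

theorem diagAut_stab_neg (χ : ℕ → F) (hχ : ChainChar D F χ) :
    Stab D F (diagAut D hD F χ hχ) (D.negUnipotent F) := by
  intro g
  rw [coe_diagAut]
  constructor
  · intro h
    have h1 := diagChar_conj_mem_negUnipotent D hD F (diagGL D F χ hχ)⁻¹ _ hχ.inv
      (by rw [diagGL_inv]; rfl) _ h
    have : (diagGL D F χ hχ)⁻¹ * (diagGL D F χ hχ * (g : GL D.Idx F) * (diagGL D F χ hχ)⁻¹) *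
        (diagGL D F χ hχ)⁻¹⁻¹ = (g : GL D.Idx F) := by group
    rwa [this] at h1
  · intro h
    exact diagChar_conj_mem_negUnipotent D hD F _ χ hχ (coe_diagGL D F χ hχ) _ h

end

end Cfsg.Agent.Lib.Lead.Stein
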