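import Mathlib
import Cfsg.Agent.Lib.Lead.KGVRegular
/-! Knörr estimate k(X) + |X/V| ≤ |C_X(v)| + k(X/V) (towards S4955). -/
set_option autoImplicit false
open Polynomial Representation Module
open scoped ComplexConjugate
namespace Cfsg.Agent.CharLib
universe u

/-- inflation of an irreducible character from a quotient -/
theorem IsIrrCharacter.inflate {X : Type u} [Group X] (V : Subgroup X) [V.Normal] {ψ : X ⧸ V → ℂ}
    (hψ : IsIrrCharacter (X ⧸ V) ψ) : IsIrrCharacter X (fun x => ψ (QuotientGroup.mk' V x)) := by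
  obtain ⟨m, ρ', hirr', hρ'⟩ := hψ
  refine ⟨m, MonoidHom.comp ρ' (QuotientGroup.mk' V),
    isIrreducible_comp_of_surjective ρ' hirr' _ (QuotientGroup.mk'_surjective _), ?_⟩
  funext x
  rw [← hρ']
  rfl

theorem centralizer_pow_unit {X : Type u} [Group X] (v : X) (n : ℕ) [NeZero n] (hn : n = orderOf v)
    (k : (ZMod n)ˣ) :
    Subgroup.centralizer ({v ^ (k : ZMod n).val} : Set X) = Subgroup.centralizer ({v} : Set X) := by
  apply le_antisymm
  · intro x hx
    rw [Subgroup.mem_centralizer_singleton_iff] at hx ⊢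
    have hgk : (v ^ (k : ZMod n).val) ^ ((k⁻¹ : (ZMod n)ˣ) : ZMod n).val = v := by
      rw [← pow_mul]
      conv_rhs => rw [← pow_one v]
      rw [pow_eq_pow_iff_modEq, ← hn, ← ZMod.natCast_eq_natCast_iff]
      push_cast
      rw [ZMod.natCast_zmod_val, ZMod.natCast_zmod_val]
      simp
    rw [← hgk]
    exact (Commute.pow_right hx _)
  · intro x hx
    rw [Subgroup.mem_centralizer_singleton_iff] at hx ⊢
    exact Commute.pow_right hx _

/-- Knörr's estimate: `k(X) + |X/V| ≤ |C_X(v)| + k(X/V)` for an abelian normal Sylow `p`-subgroup `V`, `v ∈ V`. -/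
theorem knorr_estimate {X : Type u} [Group X] [Finite X] (p : ℕ) [Fact p.Prime] (V : Subgroup X) [V.Normal]
    (hVp : IsPGroup p V) (hidx : ¬ p ∣ V.index) (hab : ∀ a ∈ V, ∀ b ∈ V, a * b = b * a) (v : X) (hv : v ∈ V) :
    Nat.card (IrrCharacter X) + V.index ≤
      Nat.card (Subgroup.centralizer ({v} : Set X)) + Nat.card (IrrCharacter (X ⧸ V)) := by
  classical
  let _ := Fintype.ofFinite X
  let _ := fintypeIrr X
  let _ := Fintype.ofFinite (X ⧸ V)
  let _ := fintypeIrr (X ⧸ V)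
  obtain ⟨a, ha⟩ : ∃ a, orderOf v = p ^ a := by
    obtain ⟨k, hk⟩ := (IsPGroup.iff_orderOf.mp hVp) ⟨v, hv⟩
    exact ⟨k, by rw [← hk, Subgroup.orderOf_mk]⟩
  set n := orderOf v with hn
  have hnpos : 0 < n := orderOf_pos v
  have : NeZero n := ⟨hnpos.ne'⟩
  have hgn : v ^ n = 1 := pow_orderOf_eq_one v
  have hcent := centralizer_pow_unit v n hn
  have hterm : ∀ χ : IrrCharacter X,
      0 ≤ ∑ k : (ZMod n)ˣ, (‖(χ : X → ℂ) (v ^ (k : ZMod n).val)‖ ^ 2 - 1) := by
    intro χ
    obtain ⟨m, ρ, hirr, hρ⟩ := χ.2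
    have hdvd : finrank ℂ (Fin m → ℂ) ∣ V.index := by
      have := hirr
      exact Cfsg.Agent.Lib.Helper2.ito ρ V hab
    have hnd : ¬ p ∣ finrank ℂ (Fin m → ℂ) := fun h => hidx (h.trans hdvd)
    have hne := character_ne_zero_of_pElement ρ p a v ha hnd
    have := (Cfsg.Agent.Lib.Helper24.char_pow_units_sum_nonneg ρ v n hgn hne).2
    rw [hρ] at this
    exact this
  have hφ : (0 : ℝ) < (Fintype.card (ZMod n)ˣ : ℝ) := by
    exact_mod_cast Fintype.card_pos
  have htotal : ∑ χ : IrrCharacter X, ∑ k : (ZMod n)ˣ,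
      (‖(χ : X → ℂ) (v ^ (k : ZMod n).val)‖ ^ 2 - 1)
      = (Fintype.card (ZMod n)ˣ : ℝ) * ((Nat.card (Subgroup.centralizer ({v} : Set X)) : ℝ) -
          (Nat.card (IrrCharacter X) : ℝ)) := by
    rw [Finset.sum_comm]
    simp only [Finset.sum_sub_distrib, sum_irr_normSq, hcent]
    simp [Finset.sum_const, Nat.card_eq_fintype_card]
    ring
  -- inflation
  let infl : IrrCharacter (X ⧸ V) → IrrCharacter X := fun ψ =>
    ⟨fun x => (ψ : X ⧸ V → ℂ) (QuotientGroup.mk' V x), IsIrrCharacter.inflate V ψ.2⟩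
  have hinfl_inj : Function.Injective infl := by
    intro ψ ψ' h
    apply Subtype.ext
    funext y
    obtain ⟨x, rfl⟩ := QuotientGroup.mk'_surjective V y
    exact congrFun (congrArg Subtype.val h) x
  have hinfl_val : ∀ (ψ : IrrCharacter (X ⧸ V)) (k : (ZMod n)ˣ),
      (infl ψ : X → ℂ) (v ^ (k : ZMod n).val) = (ψ : X ⧸ V → ℂ) 1 := by
    intro ψ k
    show (ψ : X ⧸ V → ℂ) (QuotientGroup.mk' V (v ^ (k : ZMod n).val)) = _
    have hmem : v ^ (k : ZMod n).val ∈ V := Subgroup.pow_mem _ hv _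
    have h1 : (QuotientGroup.mk' V) (v ^ (k : ZMod n).val) = 1 := by
      rw [QuotientGroup.mk'_apply, QuotientGroup.eq_one_iff]; exact hmem
    rw [h1]
  have hsub : ∑ ψ : IrrCharacter (X ⧸ V), ∑ k : (ZMod n)ˣ,
      (‖(infl ψ : X → ℂ) (v ^ (k : ZMod n).val)‖ ^ 2 - 1) ≤
      ∑ χ : IrrCharacter X, ∑ k : (ZMod n)ˣ, (‖(χ : X → ℂ) (v ^ (k : ZMod n).val)‖ ^ 2 - 1) := by
    rw [← Finset.sum_image (f := fun χ : IrrCharacter X => ∑ k : (ZMod n)ˣ,
      (‖(χ : X → ℂ) (v ^ (k : ZMod n).val)‖ ^ 2 - 1)) (s := Finset.univ) (g := infl)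
      (fun a _ b _ h => hinfl_inj h)]
    exact Finset.sum_le_univ_sum_of_nonneg hterm
  have hcent1 : Subgroup.centralizer ({(1 : X ⧸ V)} : Set (X ⧸ V)) = ⊤ := by
    ext x; simp [Subgroup.mem_centralizer_singleton_iff]
  have hquot : ∑ ψ : IrrCharacter (X ⧸ V), ∑ k : (ZMod n)ˣ,
      (‖(infl ψ : X → ℂ) (v ^ (k : ZMod n).val)‖ ^ 2 - 1) =
      (Fintype.card (ZMod n)ˣ : ℝ) * ((V.index : ℝ) - (Nat.card (IrrCharacter (X ⧸ V)) : ℝ)) := by
    simp only [hinfl_val]
    rw [Finset.sum_comm]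
    simp only [Finset.sum_sub_distrib, sum_irr_normSq, hcent1]
    simp [Finset.sum_const, Nat.card_eq_fintype_card, Subgroup.index]
    ring
  rw [htotal, hquot] at hsub
  have h1 := le_of_mul_le_mul_left hsub hφ
  have h2 : (Nat.card (IrrCharacter X) : ℝ) + (V.index : ℝ) ≤
      (Nat.card (Subgroup.centralizer ({v} : Set X)) : ℝ) + (Nat.card (IrrCharacter (X ⧸ V)) : ℝ) := by
    linarith
  exact_mod_cast h2

theorem card_conjClasses_congr {A B : Type*} [Group A] [Group B] (e : A ≃* B) :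
    Nat.card (ConjClasses A) = Nat.card (ConjClasses B) := by
  refine Nat.card_congr ⟨ConjClasses.map e.toMonoidHom, ConjClasses.map e.symm.toMonoidHom, ?_, ?_⟩
  · intro c
    obtain ⟨a, rfl⟩ := ConjClasses.mk_surjective c
    show ConjClasses.mk (e.symm (e a)) = ConjClasses.mk a
    rw [MulEquiv.symm_apply_apply]
  · intro c
    obtain ⟨a, rfl⟩ := ConjClasses.mk_surjective c
    show ConjClasses.mk (e (e.symm a)) = ConjClasses.mk a
    rw [MulEquiv.apply_symm_apply]

/-- a complement of a normal subgroup is isomorphic to the quotient -/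
noncomputable def complementEquivQuotient {X : Type u} [Group X] (V G : Subgroup X) [V.Normal]
    (h : Subgroup.IsComplement' V G) : G ≃* X ⧸ V :=
  MulEquiv.ofBijective ((QuotientGroup.mk' V).comp G.subtype) (by
    constructor
    · rw [injective_iff_map_eq_one]
      intro g hg
      have hgV : (g : X) ∈ V := by
        simpa [QuotientGroup.eq_one_iff] using hg
      have : (g : X) ∈ V ⊓ G := ⟨hgV, g.2⟩
      rw [h.disjoint.eq_bot, Subgroup.mem_bot] at this
      exact Subtype.ext this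
    · intro y
      obtain ⟨x, rfl⟩ := QuotientGroup.mk'_surjective V y
      obtain ⟨⟨u, g⟩, hx⟩ := h.2 x
      refine ⟨g, ?_⟩
      simp only at hx
      rw [← hx]
      simp only [MonoidHom.comp_apply, Subgroup.coe_subtype, QuotientGroup.mk'_apply, QuotientGroup.mk_mul]
      rw [(QuotientGroup.eq_one_iff (u : X)).mpr u.2, one_mul])

theorem card_centralizer_of_complement {X : Type u} [Group X] [Finite X] (V G : Subgroup X) [V.Normal]
    (h : Subgroup.IsComplement' V G) (hab : ∀ a ∈ V, ∀ b ∈ V, a * b = b * a) (v : X) (hv : v ∈ V) :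
    Nat.card (Subgroup.centralizer ({v} : Set X)) =
      Nat.card ↥(G ⊓ Subgroup.centralizer ({v} : Set X)) * Nat.card V := by
  have hVC : V ≤ Subgroup.centralizer ({v} : Set X) := by
    intro u hu
    rw [Subgroup.mem_centralizer_singleton_iff]
    exact hab u hu v hv
  let f : ↥(G ⊓ Subgroup.centralizer ({v} : Set X)) × V → ↥(Subgroup.centralizer ({v} : Set X)) :=
    fun x => ⟨(x.2 : X) * (x.1 : X), Subgroup.mul_mem _ (hVC x.2.2) x.1.2.2⟩
  have hf : Function.Bijective f := by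
    constructor
    · intro x y hxy
      have h1 : (x.2 : X) * (x.1 : X) = (y.2 : X) * (y.1 : X) := congrArg Subtype.val hxy
      have h2 := h.1 (a₁ := (⟨x.2, ⟨x.1.1, x.1.2.1⟩⟩ : V × G)) (a₂ := (⟨y.2, ⟨y.1.1, y.1.2.1⟩⟩ : V × G)) h1
      have h3 := congrArg Prod.fst h2
      have h4 := congrArg Prod.snd h2
      simp only at h3 h4
      apply Prod.ext
      · apply Subtype.ext
        exact congrArg (fun z : G => (z : X)) h4
      · exact h3
    · intro c
      obtain ⟨⟨u, g⟩, hx⟩ := h.2 (c : X)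
      simp only at hx
      have hgC : (g : X) ∈ Subgroup.centralizer ({v} : Set X) := by
        have : (g : X) = (u : X)⁻¹ * (c : X) := by rw [← hx]; group
        rw [this]
        exact Subgroup.mul_mem _ (Subgroup.inv_mem _ (hVC u.2)) c.2
      exact ⟨(⟨(g : X), ⟨g.2, hgC⟩⟩, u), Subtype.ext hx⟩
  rw [← Nat.card_congr (Equiv.ofBijective f hf), Nat.card_prod]

theorem knorr_estimate' {X : Type u} [Group X] [Finite X] (p : ℕ) [Fact p.Prime] (V : Subgroup X) [V.Normal]
    (hVp : IsPGroup p V) (hidx : ¬ p ∣ V.index) (hab : ∀ a ∈ V, ∀ b ∈ V, a * b = b * a) (G : Subgroup X)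
    (hGV : Subgroup.IsComplement' V G) (v : X) (hv : v ∈ V) :
    Nat.card (ConjClasses X) + Nat.card G ≤
      Nat.card ↥(G ⊓ Subgroup.centralizer ({v} : Set X)) * Nat.card V + Nat.card (ConjClasses G) := by
  have h := knorr_estimate p V hVp hidx hab v hv
  rw [card_irrCharacter, card_irrCharacter, hGV.symm.index_eq_card,
    card_centralizer_of_complement V G hGV hab v hv,
    ← card_conjClasses_congr (complementEquivQuotient V G hGV)] at h
  exact h

end Cfsg.Agent.CharLib
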