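import Mathlib

/-! Commutators of lifts in a central extension (lead). For a surjective homomorphism `π : E →* G` with
central kernel, the commutator of two elements of `E` depends only on their images. -/

set_option autoImplicit false

namespace Cfsg.Agent.Lib.Lead.CentCl

open scoped commutatorElement

section
variable {G E : Type*} [Group G] [Group E] (π : E →* G) (hc : π.ker ≤ Subgroup.center E)
include hc

theorem comm_of_mem_ker {c : E} (h : c ∈ π.ker) (x : E) : c * x = x * c :=
  (Subgroup.mem_center_iff.mp (hc h) x).symm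

theorem commutator_mul_central_left (a b c : E) (h : c ∈ π.ker) : ⁅a * c, b⁆ = ⁅a, b⁆ := by
  have h1 := comm_of_mem_ker π hc h b
  rw [commutatorElement_def, commutatorElement_def, mul_inv_rev]
  calc a * c * b * (c⁻¹ * a⁻¹) * b⁻¹ = a * (c * b) * c⁻¹ * a⁻¹ * b⁻¹ := by group
    _ = a * (b * c) * c⁻¹ * a⁻¹ * b⁻¹ := by rw [h1]
    _ = a * b * a⁻¹ * b⁻¹ := by group

theorem commutator_mul_central_right (a b c : E) (h : c ∈ π.ker) : ⁅a, b * c⁆ = ⁅a, b⁆ := by
  have h1 := comm_of_mem_ker π hc h a⁻¹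
  rw [commutatorElement_def, commutatorElement_def, mul_inv_rev]
  calc a * (b * c) * a⁻¹ * (c⁻¹ * b⁻¹) = a * b * (c * a⁻¹) * c⁻¹ * b⁻¹ := by group
    _ = a * b * (a⁻¹ * c) * c⁻¹ * b⁻¹ := by rw [h1]
    _ = a * b * a⁻¹ * b⁻¹ := by group

/-- the commutator of two elements of `E` depends only on their images in `G` -/
theorem commutator_congr {a a' b b' : E} (ha : π a = π a') (hb : π b = π b') : ⁅a, b⁆ = ⁅a', b'⁆ := by
  have h1 : a⁻¹ * a' ∈ π.ker := by rw [MonoidHom.mem_ker, map_mul, map_inv, ha, inv_mul_cancel]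
  have h2 : b⁻¹ * b' ∈ π.ker := by rw [MonoidHom.mem_ker, map_mul, map_inv, hb, inv_mul_cancel]
  have e1 : a' = a * (a⁻¹ * a') := by group
  have e2 : b' = b * (b⁻¹ * b') := by group
  rw [e1, e2, commutator_mul_central_left π hc _ _ _ h1, commutator_mul_central_right π hc _ _ _ h2]

/-- if the image of `z` commutes with the images of `a` and `b`, then `z` commutes with `⁅a, b⁆` -/
theorem commute_commutator {z a b : E} (ha : Commute (π z) (π a)) (hb : Commute (π z) (π b)) :
    Commute z ⁅a, b⁆ := by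
  have h1 : π (z * a * z⁻¹) = π a := by
    rw [map_mul, map_mul, map_inv, ha.eq, mul_inv_cancel_right]
  have h2 : π (z * b * z⁻¹) = π b := by
    rw [map_mul, map_mul, map_inv, hb.eq, mul_inv_cancel_right]
  have h3 : z * ⁅a, b⁆ * z⁻¹ = ⁅a, b⁆ := by
    rw [conjugate_commutatorElement]
    exact commutator_congr π hc h1 h2
  show z * ⁅a, b⁆ = ⁅a, b⁆ * z
  calc z * ⁅a, b⁆ = z * ⁅a, b⁆ * z⁻¹ * z := by group
    _ = ⁅a, b⁆ * z := by rw [h3]

/-- two lifts of the same element differ by a central element, so commute with the same things -/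
theorem commute_of_lift {z a a' : E} (h : π a = π a') (hz : Commute z a) : Commute z a' := by
  have h1 : a⁻¹ * a' ∈ π.ker := by rw [MonoidHom.mem_ker, map_mul, map_inv, h, inv_mul_cancel]
  have e1 : a' = a * (a⁻¹ * a') := by group
  rw [e1]
  exact hz.mul_right (comm_of_mem_ker π hc h1 z).symm

end

section
variable {X : Type*} [Group X]

theorem commutator_mul_right (x y z : X) : ⁅x, y * z⁆ = ⁅x, y⁆ * (y * ⁅x, z⁆ * y⁻¹) := by
  simp only [commutatorElement_def]; group

theorem commutator_mul_left (x y z : X) : ⁅x * y, z⁆ = x * ⁅y, z⁆ * x⁻¹ * ⁅x, z⁆ := by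
  simp only [commutatorElement_def]; group

end

end Cfsg.Agent.Lib.Lead.CentCl
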