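import Cfsg.Agent.Lib.Helper7.BNCount

/-! Fixed points of an automorphism compatible with a (B,N)-pair (lead).

If `σ` stabilises `B` and every double coset `B n B`, and a subgroup `G₀` contains the `σ`-fixed
points of `B` and meets every `σ`-stable coset `a B ⊆ B s B` in a `σ`-fixed point, then `G₀` contains
all `σ`-fixed points of `G`. -/

set_option autoImplicit false

namespace Cfsg.Agent.Lib.Lead.BNFix

open Cfsg Cfsg.Agent.Lib.Helper3.BN Cfsg.Agent.Lib.Helper3.WordLen Cfsg.Agent.Lib.Helper7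

variable {G : Type*} [Group G] (P : Cfsg.BNPair G)

local notation "ℓ" => len (Sbar P)

theorem map_mem_C (σ : G ≃* G) (hB : ∀ b ∈ P.B, σ b ∈ P.B) (hN : ∀ n ∈ P.N, σ n ∈ dc P n)
    {w : W P} {g : G} (hg : g ∈ C P w) : σ g ∈ C P w := by
  obtain ⟨n, hn, rfl⟩ := mkW_surj P w
  rw [C_mk, mem_dc] at hg
  obtain ⟨b₁, hb₁, b₂, hb₂, rfl⟩ := hg
  rw [map_mul, map_mul]
  have h1 : σ n ∈ C P (mkW P n hn) := by rw [C_mk]; exact hN n hn
  exact C_mul_right P (C_mul_left P h1 (hB _ hb₁)) (hB _ hb₂)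

theorem fix_mem_aux (σ : G ≃* G) (hB : ∀ b ∈ P.B, σ b ∈ P.B) (hN : ∀ n ∈ P.N, σ n ∈ dc P n)
    (G₀ : Subgroup G) (ha : ∀ b ∈ P.B, σ b = b → b ∈ G₀)
    (hb : ∀ s, ∀ hs : s ∈ P.S, ∀ a ∈ C P (sb P s hs), a⁻¹ * σ a ∈ P.B →
      ∃ a₀ ∈ G₀, σ a₀ = a₀ ∧ a⁻¹ * a₀ ∈ P.B) :
    ∀ (k : ℕ) (w : W P), ℓ w = k → ∀ g ∈ C P w, σ g = g → g ∈ G₀ := by
  have hS := Sbar_sq P
  have hgen := Sbar_closure P
  intro k
  induction k with
  | zero =>
    intro w hw g hg hfix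
    rw [len_eq_zero_iff hS hgen] at hw
    rw [hw, C_one] at hg
    exact ha g hg hfix
  | succ k ih =>
    intro w hw g hg hfix
    obtain ⟨t, ht, hlen⟩ := exists_cons hS hgen hw
    obtain ⟨s, hs, rfl⟩ := exists_sb_of_mem P ht
    have hw' : sb P s hs * (sb P s hs * w) = w := sb_mul_cancel P hs w
    set w' := sb P s hs * w with hw'def
    have hle : ℓ w' ≤ ℓ (sb P s hs * w') := by rw [hw', hlen, hw]; omega
    rw [← hw'] at hg
    obtain ⟨a, haC, b, hbC, hgab⟩ := exists_mul_of_mem_C P hs w' hg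
    have hσa : σ a ∈ C P (sb P s hs) := map_mem_C P σ hB hN haC
    have hσb : σ b ∈ C P w' := map_mem_C P σ hB hN hbC
    have hprod : σ a * σ b = a * b := by rw [← map_mul, ← hgab, hfix]
    have haB : a⁻¹ * σ a ∈ P.B := by
      rcases inv_mul_mem_B_or_C P hs haC hσa with h | h
      · exact h
      · exfalso
        have h1 : a⁻¹ * σ a * σ b ∈ C P (sb P s hs * w') := C_mul_C P hs hle h hσb
        have h2 : a⁻¹ * σ a * σ b = b := by rw [mul_assoc, hprod]; group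
        rw [h2] at h1
        have h3 := eq_of_common P h1 hbC
        exact sb_ne_one P hs (mul_eq_right.mp h3)
    obtain ⟨a₀, ha₀, hfix₀, ha₀B⟩ := hb s hs a haC haB
    have hb₀C : a₀⁻¹ * g ∈ C P w' := by
      have h1 : a₀⁻¹ * g = (a⁻¹ * a₀)⁻¹ * b := by rw [hgab]; group
      rw [h1]
      exact C_mul_left P hbC (P.B.inv_mem ha₀B)
    have hb₀fix : σ (a₀⁻¹ * g) = a₀⁻¹ * g := by rw [map_mul, map_inv, hfix₀, hfix]
    have hb₀ := ih w' hlen _ hb₀C hb₀fix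
    have : g = a₀ * (a₀⁻¹ * g) := by group
    rw [this]
    exact G₀.mul_mem ha₀ hb₀

/-- fixed points of `σ` lie in `G₀` -/
theorem fix_mem (σ : G ≃* G) (hB : ∀ b ∈ P.B, σ b ∈ P.B) (hN : ∀ n ∈ P.N, σ n ∈ dc P n)
    (G₀ : Subgroup G) (ha : ∀ b ∈ P.B, σ b = b → b ∈ G₀)
    (hb : ∀ s, ∀ hs : s ∈ P.S, ∀ a ∈ C P (sb P s hs), a⁻¹ * σ a ∈ P.B →
      ∃ a₀ ∈ G₀, σ a₀ = a₀ ∧ a⁻¹ * a₀ ∈ P.B)
    (g : G) (hfix : σ g = g) : g ∈ G₀ := by
  obtain ⟨w, hw⟩ := exists_C P g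
  exact fix_mem_aux P σ hB hN G₀ ha hb _ w rfl g hw hfix

/-- if `σ` fixes the distinguished generators and stabilises `B`, it stabilises every `B n B` -/
theorem map_mem_dc_of_fix (σ : G ≃* G) (hB : ∀ b ∈ P.B, σ b ∈ P.B) (hS : ∀ s ∈ P.S, σ s = s)
    (n : G) (hn : n ∈ P.N) : σ n ∈ dc P n := by
  have hn' : n ∈ Subgroup.closure P.S ⊔ (P.B ⊓ P.N) := by rw [P.closure_sup]; exact hn
  obtain ⟨x, hx, t, ht, rfl⟩ := exists_decomp P hn'
  have hσx : σ x = x := by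
    have : (σ : G →* G).comp (MonoidHom.id G) = (σ : G →* G) := rfl
    have hEq : Set.EqOn (σ : G →* G) (MonoidHom.id G) (Subgroup.closure P.S) := by
      apply MonoidHom.eqOn_closure
      intro s hs
      exact hS s hs
    exact hEq hx
  rw [map_mul, hσx, mem_dc]
  refine ⟨1, P.B.one_mem, t⁻¹ * σ t, P.B.mul_mem (P.B.inv_mem ht.1) (hB t ht.1), ?_⟩
  group

/-- fixed points of `σ` lie in `G₀` (version with `σ` fixing the distinguished generators) -/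
theorem fix_mem' (σ : G ≃* G) (hB : ∀ b ∈ P.B, σ b ∈ P.B) (hS : ∀ s ∈ P.S, σ s = s)
    (G₀ : Subgroup G) (ha : ∀ b ∈ P.B, σ b = b → b ∈ G₀)
    (hb : ∀ s, ∀ hs : s ∈ P.S, ∀ a ∈ C P (sb P s hs), a⁻¹ * σ a ∈ P.B →
      ∃ a₀ ∈ G₀, σ a₀ = a₀ ∧ a⁻¹ * a₀ ∈ P.B)
    (g : G) (hfix : σ g = g) : g ∈ G₀ :=
  fix_mem P σ hB (map_mem_dc_of_fix P σ hB hS) G₀ ha hb g hfix

end Cfsg.Agent.Lib.Lead.BNFix
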