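import Mathlib
import Cfsg.Agent.Lib.Lead.Blich3

/-!
lead: Blichfeldt's theorem: a finite linear group of degree `n` has an abelian Hall `π`-subgroup for the set `π` of
primes greater than `n + 1`.
-/

set_option autoImplicit false

namespace Cfsg.Agent.CharLib.Blich

open Cfsg Cfsg.Agent.CharLib
open scoped ComplexConjugate commutatorElement Pointwise

universe u

section

variable {G : Type u} [Group G] [Finite G]

theorem exists_sylow_le_centralizer {χ : G → ℂ} (hχ : IsCharacter G χ)
    (hfaith : ∀ g, χ g = χ 1 → g = 1) {n : ℕ} (hn : χ 1 = n) {r s : ℕ} [hr : Fact r.Prime] [hs : Fact s.Prime]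
    (hnr : n + 1 < r) (hns : n + 1 < s) (R : Sylow r G) :
    ∃ Q : Sylow s G, (Q : Subgroup G) ≤ Subgroup.centralizer (R : Set G) := by
  obtain ⟨P, Q, hPQ⟩ := hasCommSylows (p := r) (q := s) hχ hfaith hn hnr hns
  obtain ⟨g, hg⟩ := MulAction.exists_smul_eq G P R
  refine ⟨g • Q, ?_⟩
  intro y hy
  rw [Sylow.coe_subgroup_smul, Subgroup.mem_smul_pointwise_iff_exists] at hy
  obtain ⟨y₀, hy₀, rfl⟩ := hy
  rw [Subgroup.mem_centralizer_iff]
  intro x hx
  have hx' : x ∈ ((g • P : Sylow r G) : Subgroup G) := by rw [hg]; exact hx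
  rw [Sylow.coe_subgroup_smul, Subgroup.mem_smul_pointwise_iff_exists] at hx'
  obtain ⟨x₀, hx₀, rfl⟩ := hx'
  rw [← smul_mul', ← smul_mul', hPQ x₀ hx₀ y₀ hy₀]

theorem not_dvd_index_of_sylow_le {s : ℕ} [hs : Fact s.Prime] (S : Sylow s G) (A : Subgroup G)
    (h : (S : Subgroup G) ≤ A) : ¬ s ∣ A.index := by
  intro hdvd
  exact S.not_dvd_index (hdvd.trans (Subgroup.index_dvd_of_le h))

/-- The central `π`-elements, `π` the set of prime divisors of `m`. -/
def centralTorsion (G : Type u) [Group G] (m : ℕ) : Subgroup G where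
  carrier := {g | g ∈ Subgroup.center G ∧ g ^ m = 1}
  one_mem' := ⟨Subgroup.one_mem _, one_pow m⟩
  mul_mem' := by
    rintro a b ⟨ha, ha'⟩ ⟨hb, hb'⟩
    refine ⟨Subgroup.mul_mem _ ha hb, ?_⟩
    have hc : Commute a b := (Subgroup.mem_center_iff.mp ha b).symm
    rw [hc.mul_pow, ha', hb', one_mul]
  inv_mem' := by
    rintro a ⟨ha, ha'⟩
    exact ⟨Subgroup.inv_mem _ ha, by rw [inv_pow, ha', inv_one]⟩

end

/-- **Blichfeldt's theorem**: a finite group with a faithful character of degree `n` has an abelian Hall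
`π`-subgroup, `π` the set of primes greater than `n + 1`. -/
theorem exists_abelian_hall_aux : ∀ (N : ℕ) (G : Type u) [Group G] [Finite G], Nat.card G = N →
    ∀ (χ : G → ℂ), IsCharacter G χ → (∀ g, χ g = χ 1 → g = 1) → ∀ n : ℕ, χ 1 = n →
    ∃ A : Subgroup G, (∀ x ∈ A, ∀ y ∈ A, x * y = y * x) ∧
      (∀ s : ℕ, s.Prime → s ∣ Nat.card A → n + 1 < s) ∧ ∀ s : ℕ, s.Prime → s ∣ A.index → s ≤ n + 1 := by
  intro N
  induction N using Nat.strong_induction_on with
  | _ N ih =>
  intro G _ _ hcard χ hχ hfaith n hn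
  by_cases hcase : ∀ r : ℕ, r.Prime → n + 1 < r → ∀ (hr : Fact r.Prime) (R : Sylow r G),
      (R : Subgroup G) ≤ Subgroup.center G
  · -- all large Sylow subgroups are central
    classical
    set S : Finset ℕ := (Nat.card G).primeFactors.filter (fun r => n + 1 < r) with hS
    set m : ℕ := ∏ r ∈ S, r ^ (Nat.card G).factorization r with hm
    have hm1 : ∀ s : ℕ, s.Prime → s ∣ m → n + 1 < s := by
      intro s hs hsm
      rw [hm] at hsm
      obtain ⟨r, hrS, hsr⟩ := (Prime.dvd_finsetProd_iff (Nat.prime_iff.mp hs) _).mp hsm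
      have hr := (Finset.mem_filter.mp hrS)
      have hrp : r.Prime := Nat.prime_of_mem_primeFactors hr.1
      have : s = r := (Nat.prime_dvd_prime_iff_eq hs hrp).mp (hs.dvd_of_dvd_pow hsr)
      rw [this]
      exact hr.2
    have hm2 : ∀ r : ℕ, r.Prime → n + 1 < r → r ^ (Nat.card G).factorization r ∣ m := by
      intro r hr hnr
      by_cases hrG : r ∣ Nat.card G
      · have hrS : r ∈ S := Finset.mem_filter.mpr
          ⟨Nat.mem_primeFactors.mpr ⟨hr, hrG, Nat.card_pos.ne'⟩, hnr⟩
        exact Finset.dvd_prod_of_mem _ hrS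
      · rw [Nat.factorization_eq_zero_of_not_dvd hrG, pow_zero]
        exact one_dvd _
    refine ⟨centralTorsion G m, ?_, ?_, ?_⟩
    · rintro x ⟨hx, _⟩ y _
      exact (Subgroup.mem_center_iff.mp hx y).symm
    · intro s hs hsA
      have : Fact s.Prime := ⟨hs⟩
      obtain ⟨g, hg⟩ := exists_prime_orderOf_dvd_card' (G := centralTorsion G m) s hsA
      have h1 : (g : G) ^ m = 1 := g.2.2
      have h2 : orderOf (g : G) = s := by rw [Subgroup.orderOf_coe, hg]
      have h3 : s ∣ m := by
        rw [← h2]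
        exact orderOf_dvd_of_pow_eq_one h1
      exact hm1 s hs h3
    · intro s hs hsA
      by_contra hlt
      push Not at hlt
      have : Fact s.Prime := ⟨hs⟩
      obtain ⟨R⟩ : Nonempty (Sylow s G) := inferInstance
      have hRc := hcase s hs hlt ⟨hs⟩ R
      have hRA : (R : Subgroup G) ≤ centralTorsion G m := by
        intro g hg
        refine ⟨hRc hg, ?_⟩
        have h1 := (isPElt_of_mem_sylow R hg).pow_ordProj
        obtain ⟨c, hc⟩ := hm2 s hs hlt
        rw [hc, pow_mul, h1, one_pow]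
      exact not_dvd_index_of_sylow_le R _ hRA hsA
  · -- some large Sylow subgroup is not central
    push Not at hcase
    obtain ⟨r, hr, hnr, hrF, R, hR⟩ := hcase
    have := hrF
    set C : Subgroup G := Subgroup.centralizer (R : Set G) with hC
    have hCtop : C ≠ ⊤ := by
      intro h
      apply hR
      intro x hx
      rw [Subgroup.mem_center_iff]
      intro g
      have hg : g ∈ C := h ▸ Subgroup.mem_top g
      rw [hC, Subgroup.mem_centralizer_iff] at hg
      exact (hg x hx).symm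
    have hlt : Nat.card C < N := by
      rw [← hcard]
      exact lt_of_le_of_ne (Subgroup.card_le_card_group C) (fun h => hCtop (Subgroup.eq_top_of_card_eq C h))
    obtain ⟨A', hA'1, hA'2, hA'3⟩ := ih _ hlt C rfl (fun c : C => χ c) (IsCharacter.restrict hχ C)
      (fun g hg => Subtype.ext (hfaith (g : G) hg)) n hn
    refine ⟨A'.map C.subtype, ?_, ?_, ?_⟩
    · intro x hx y hy
      obtain ⟨x', hx', rfl⟩ := Subgroup.mem_map.mp hx
      obtain ⟨y', hy', rfl⟩ := Subgroup.mem_map.mp hy
      exact congrArg Subtype.val (hA'1 x' hx' y' hy')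
    · intro s hs hsA
      rw [Subgroup.card_map_of_injective C.subtype_injective] at hsA
      exact hA'2 s hs hsA
    · intro s hs hsA
      rw [Subgroup.index_map_subtype] at hsA
      rcases (Nat.Prime.dvd_mul hs).mp hsA with h | h
      · exact hA'3 s hs h
      · by_contra hlt'
        push Not at hlt'
        have : Fact s.Prime := ⟨hs⟩
        obtain ⟨Q, hQ⟩ := exists_sylow_le_centralizer hχ hfaith hn hnr hlt' R (s := s)
        exact not_dvd_index_of_sylow_le Q C hQ h

/-- **Blichfeldt's theorem**. -/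
theorem exists_abelian_hall {G : Type u} [Group G] [Finite G] {χ : G → ℂ} (hχ : IsCharacter G χ)
    (hfaith : ∀ g, χ g = χ 1 → g = 1) {n : ℕ} (hn : χ 1 = n) :
    ∃ A : Subgroup G, (∀ x ∈ A, ∀ y ∈ A, x * y = y * x) ∧
      (∀ s : ℕ, s.Prime → s ∣ Nat.card A → n + 1 < s) ∧ ∀ s : ℕ, s.Prime → s ∣ A.index → s ≤ n + 1 :=
  exists_abelian_hall_aux (Nat.card G) G rfl χ hχ hfaith n hn

end Cfsg.Agent.CharLib.Blich
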