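import Mathlib

/-!
lead: Brauer–Leonard (S4721), part 17: the arithmetic of the three isotropy equations.
-/

set_option autoImplicit false

namespace Cfsg.Agent.CharLib

/-- The square case: signs `(+,-,-)`. -/
theorem bl3_sq_case (xi xj xk A B C : ℤ) (hxi : 0 < xi) (hxj : 0 < xj) (hxk : 0 < xk)
    (hA : A ≠ 0) (ha : A = B + C) (hb : A ^ 2 * xj * xk = xi * (B ^ 2 * xk + C ^ 2 * xj))
    (hc : 1 + xi = xj + xk) : IsSquare (xi * xj * xk) := by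
  have hxi' : xi = xj + xk - 1 := by linarith
  have hT : (B * xk - C * xj) ^ 2 = B ^ 2 * xk + C ^ 2 * xj := by
    rw [ha, hxi'] at hb
    linear_combination (-1 : ℤ) * hb
  have h1 : xi * xj * xk * A ^ 2 = (xi * (B * xk - C * xj)) ^ 2 := by
    rw [mul_pow, hT]
    linear_combination xi * hb
  have h2 : A ^ 2 ∣ (xi * (B * xk - C * xj)) ^ 2 := ⟨xi * xj * xk, by rw [← h1]; ring⟩
  have h3 : A ∣ xi * (B * xk - C * xj) := (Int.pow_dvd_pow_iff two_ne_zero).mp h2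
  obtain ⟨q, hq⟩ := h3
  refine ⟨q, ?_⟩
  have hA2 : A ^ 2 ≠ 0 := pow_ne_zero 2 hA
  have h4 : xi * xj * xk * A ^ 2 = q * q * A ^ 2 := by
    rw [h1, hq]; ring
  exact mul_right_cancel₀ hA2 h4

/-- The impossible case: signs `(-,+,+)`. -/
theorem bl3_cs_case (xi xj xk A B C : ℤ) (hxi : 0 < xi) (hxj : 0 < xj) (hxk : 0 < xk)
    (hB : B ≠ 0) (ha : A = B + C) (hb : A ^ 2 * xj * xk = xi * (B ^ 2 * xk + C ^ 2 * xj))
    (hc : xi = 1 + xj + xk) : False := by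
  rw [ha, hc] at hb
  have h1 : (B * xk - C * xj) ^ 2 + B ^ 2 * xk + C ^ 2 * xj = 0 := by
    linear_combination (-1 : ℤ) * hb
  have h2 : 0 < B ^ 2 * xk := by positivity
  have h3 : 0 ≤ C ^ 2 * xj := by positivity
  have h4 : 0 ≤ (B * xk - C * xj) ^ 2 := sq_nonneg _
  linarith

/-- The arithmetic of the three isotropy equations. -/
theorem bl3_algebra (x₂ x₃ x₄ u₂ u₃ u₄ ε₂ ε₃ ε₄ : ℤ) (hx₂ : 0 < x₂) (hx₃ : 0 < x₃)
    (hx₄ : 0 < x₄) (hε₂ : ε₂ = 1 ∨ ε₂ = -1) (hε₃ : ε₃ = 1 ∨ ε₃ = -1) (hε₄ : ε₄ = 1 ∨ ε₄ = -1)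
    (hu₂ : u₂ ≠ x₂) (hu₃ : u₃ ≠ x₃) (hu₄ : u₄ ≠ x₄)
    (h1 : 1 + ε₂ * x₂ + ε₃ * x₃ + ε₄ * x₄ = 0) (h2 : 1 + ε₂ * u₂ + ε₃ * u₃ + ε₄ * u₄ = 0)
    (h3 : x₂ * x₃ * x₄ + ε₂ * u₂ ^ 2 * x₃ * x₄ + ε₃ * u₃ ^ 2 * x₂ * x₄ + ε₄ * u₄ ^ 2 * x₂ * x₃ = 0) :
    ((if ε₂ = -1 then 1 else 0) + (if ε₃ = -1 then 1 else 0) + (if ε₄ = -1 then 1 else 0) = 2) ∧
      IsSquare (x₂ * x₃ * x₄) := by
  have hw₂ : u₂ - x₂ ≠ 0 := sub_ne_zero.mpr hu₂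
  have hw₃ : u₃ - x₃ ≠ 0 := sub_ne_zero.mpr hu₃
  have hw₄ : u₄ - x₄ ≠ 0 := sub_ne_zero.mpr hu₄
  have ha : ε₂ * (u₂ - x₂) + ε₃ * (u₃ - x₃) + ε₄ * (u₄ - x₄) = 0 := by
    linear_combination h2 - h1
  have hb : ε₂ * (u₂ - x₂) ^ 2 * x₃ * x₄ + ε₃ * (u₃ - x₃) ^ 2 * x₂ * x₄ +
      ε₄ * (u₄ - x₄) ^ 2 * x₂ * x₃ = 0 := by
    linear_combination h3 - 2 * x₂ * x₃ * x₄ * h2 + x₂ * x₃ * x₄ * h1
  set w₂ := u₂ - x₂ with hw₂def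
  set w₃ := u₃ - x₃ with hw₃def
  set w₄ := u₄ - x₄ with hw₄def
  rcases hε₂ with e2 | e2 <;> rcases hε₃ with e3 | e3 <;> rcases hε₄ with e4 | e4 <;>
    subst e2 <;> subst e3 <;> subst e4
  · -- (+,+,+)
    exfalso
    linarith
  · -- (+,+,-) : index 4 negative
    exfalso
    exact bl3_cs_case x₄ x₂ x₃ w₄ w₂ w₃ hx₄ hx₂ hx₃ hw₂ (by linarith)
      (by linear_combination (-1 : ℤ) * hb) (by linarith)
  · -- (+,-,+) : index 3 negative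
    exfalso
    exact bl3_cs_case x₃ x₂ x₄ w₃ w₂ w₄ hx₃ hx₂ hx₄ hw₂ (by linarith)
      (by linear_combination (-1 : ℤ) * hb) (by linarith)
  · -- (+,-,-)
    refine ⟨by norm_num, ?_⟩
    have := bl3_sq_case x₂ x₃ x₄ w₂ w₃ w₄ hx₂ hx₃ hx₄ hw₂ (by linarith)
      (by linear_combination hb) (by linarith)
    exact this
  · -- (-,+,+) : index 2 negative
    exfalso
    exact bl3_cs_case x₂ x₃ x₄ w₂ w₃ w₄ hx₂ hx₃ hx₄ hw₃ (by linarith)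
      (by linear_combination (-1 : ℤ) * hb) (by linarith)
  · -- (-,+,-)
    refine ⟨by norm_num, ?_⟩
    have := bl3_sq_case x₃ x₂ x₄ w₃ w₂ w₄ hx₃ hx₂ hx₄ hw₃ (by linarith)
      (by linear_combination hb) (by linarith)
    have e : x₂ * x₃ * x₄ = x₃ * x₂ * x₄ := by ring
    rw [e]
    exact this
  · -- (-,-,+)
    refine ⟨by norm_num, ?_⟩
    have := bl3_sq_case x₄ x₂ x₃ w₄ w₂ w₃ hx₄ hx₂ hx₃ hw₄ (by linarith)
      (by linear_combination hb) (by linarith)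
    have e : x₂ * x₃ * x₄ = x₄ * x₂ * x₃ := by ring
    rw [e]
    exact this
  · -- (-,-,-)
    exfalso
    have h5 : 0 < w₂ ^ 2 * x₃ * x₄ := by positivity
    have h6 : 0 < w₃ ^ 2 * x₂ * x₄ := by positivity
    have h7 : 0 < w₄ ^ 2 * x₂ * x₃ := by positivity
    linarith

end Cfsg.Agent.CharLib
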