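import Mathlib
import Cfsg.Agent.Lib.Lead.BrLeo16
import Cfsg.Agent.Lib.Helper13.TwoGroupModels

/-!
lead: Brauer–Leonard (S4721), part 18: products of two involutions in a `p`-section, and the
retraction of `C_G(y)` onto the abelian Sylow subgroup.
-/

set_option autoImplicit false

namespace Cfsg.Agent.CharLib

open Cfsg Cfsg.Agent.Lib.Helper24 Cfsg.Agent.Lib.Helper6
open scoped ComplexConjugate

universe u

section pair

variable {G : Type u} [Group G] [Finite G] {p : ℕ} [hpp : Fact p.Prime]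

/-- If a product of two involutions lies in the section `y K` of `y ∈ P#`, then `y` is an
involution centralised by both (here `[N:C] = 3`). -/
theorem sq_eq_one_of_pair (P : Sylow p G) (hab : IsMulCommutative P) (hfrob : BLFrob P)
    (hCN : (Subgroup.centralizer ((P : Subgroup G) : Set G)).relIndex
      (Subgroup.normalizer ((P : Subgroup G) : Set G)) = 3)
    (y : G) (hy : y ∈ (P : Subgroup G)) (hy1 : y ≠ 1) (s s' k : G) (hs : s * s = 1)
    (hs' : s' * s' = 1) (hk : Commute y k) (hkp : ¬ p ∣ orderOf k) (hprod : s * s' = y * k) :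
    y * y = 1 ∧ s * y = y * s := by
  have hsinv : s⁻¹ = s := inv_eq_of_mul_eq_one_left hs
  have hs'inv : s'⁻¹ = s' := inv_eq_of_mul_eq_one_left hs'
  have hpp1 : IsPPart p (y * k) y :=
    ⟨k, rfl, hk, exists_orderOf_eq_pow_of_mem_sylow P y hy, hkp⟩
  have hpp2 : IsPPart p (y⁻¹ * k⁻¹) y⁻¹ := by
    obtain ⟨j, hj⟩ := exists_orderOf_eq_pow_of_mem_sylow P y hy
    refine ⟨k⁻¹, rfl, hk.inv_inv, ⟨j, by rw [orderOf_inv, hj]⟩, by rw [orderOf_inv]; exact hkp⟩
  have hconj : s * (y * k) * s⁻¹ = y⁻¹ * k⁻¹ := by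
    have h1 : y⁻¹ * k⁻¹ = (y * k)⁻¹ := by
      rw [mul_inv_rev, hk.inv_inv.eq]
    rw [h1, ← hprod, mul_inv_rev, hsinv, hs'inv]
    calc s * (s * s') * s = (s * s) * s' * s := by group
      _ = s' * s := by rw [hs, one_mul]
  have hpp3 := isPPart_conj hpp1 s
  rw [hconj] at hpp3
  have hinv : s * y * s⁻¹ = y⁻¹ := isPPart_unique hpp3 hpp2
  -- `y` and `y⁻¹` are conjugate, hence conjugate in `N`
  have hyy : IsConj y y⁻¹ := isConj_iff.mpr ⟨s, hinv⟩
  obtain ⟨n, hn, hn'⟩ := exists_normalizer_conj_of_isConj P hab y y⁻¹ hy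
    (Subgroup.inv_mem _ hy) hyy
  have hn2 : n * n ∈ Subgroup.centralizer ((P : Subgroup G) : Set G) := by
    rw [← hfrob y hy hy1]
    refine Subgroup.mem_inf.mpr ⟨?_, Subgroup.mul_mem _ hn hn⟩
    rw [Subgroup.mem_centralizer_singleton_iff]
    have h2 : n * y⁻¹ * n⁻¹ = y := by
      calc n * y⁻¹ * n⁻¹ = (n * y * n⁻¹)⁻¹ := by group
        _ = (y⁻¹)⁻¹ := by rw [← hn']
        _ = y := inv_inv y
    calc n * n * y = n * (n * y * n⁻¹) * n := by group
      _ = n * y⁻¹ * n := by rw [← hn']
      _ = (n * y⁻¹ * n⁻¹) * (n * n) := by group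
      _ = y * (n * n) := by rw [h2]
  have hn3 : n ^ 3 ∈ Subgroup.centralizer ((P : Subgroup G) : Set G) := by
    have h3 := Subgroup.pow_index_mem
      ((Subgroup.centralizer ((P : Subgroup G) : Set G)).subgroupOf
        (Subgroup.normalizer ((P : Subgroup G) : Set G))) (⟨n, hn⟩ :
        Subgroup.normalizer ((P : Subgroup G) : Set G))
    have h4 : ((Subgroup.centralizer ((P : Subgroup G) : Set G)).subgroupOf
        (Subgroup.normalizer ((P : Subgroup G) : Set G))).index = 3 := hCN
    rw [h4, Subgroup.mem_subgroupOf] at h3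
    simpa using h3
  have hnC : n ∈ Subgroup.centralizer ((P : Subgroup G) : Set G) := by
    have : n = n ^ 3 * (n * n)⁻¹ := by group
    rw [this]
    exact Subgroup.mul_mem _ hn3 (Subgroup.inv_mem _ hn2)
  have hny : n * y * n⁻¹ = y := by
    rw [Subgroup.mem_centralizer_iff] at hnC
    have := hnC y hy
    calc n * y * n⁻¹ = (y * n) * n⁻¹ := by rw [this]
      _ = y := by group
  have hyinv : y⁻¹ = y := by rw [hn', hny]
  have hyy1 : y * y = 1 := by
    have h5 : y * y = y⁻¹ * y := by rw [hyinv]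
    rw [h5, inv_mul_cancel]
  refine ⟨hyy1, ?_⟩
  rw [hyinv] at hinv
  calc s * y = (s * y * s⁻¹) * s := by group
    _ = y * s := by rw [hinv]

/-- For odd `p` no product of two involutions lies in the section of `y ∈ P#`. -/
theorem no_pair_of_odd (P : Sylow p G) (hab : IsMulCommutative P) (hfrob : BLFrob P)
    (hCN : (Subgroup.centralizer ((P : Subgroup G) : Set G)).relIndex
      (Subgroup.normalizer ((P : Subgroup G) : Set G)) = 3) (hp2 : p ≠ 2)
    (y : G) (hy : y ∈ (P : Subgroup G)) (hy1 : y ≠ 1) (s s' k : G) (hs : s * s = 1)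
    (hs' : s' * s' = 1) (hk : Commute y k) (hkp : ¬ p ∣ orderOf k) : s * s' ≠ y * k := by
  intro hprod
  obtain ⟨hyy, -⟩ := sq_eq_one_of_pair P hab hfrob hCN y hy hy1 s s' k hs hs' hk hkp hprod
  obtain ⟨j, hj⟩ := exists_orderOf_eq_pow_of_mem_sylow P y hy
  have h2 : orderOf y ∣ 2 := orderOf_dvd_of_pow_eq_one (by rw [pow_two]; exact hyy)
  rw [hj] at h2
  have hj0 : j = 0 := by
    by_contra hj0
    have h3 : p ∣ p ^ j := dvd_pow_self p hj0
    have h4 : p ∣ 2 := h3.trans h2
    exact hp2 ((Nat.prime_dvd_prime_iff_eq hpp.out Nat.prime_two).mp h4)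
  rw [hj0, pow_zero] at hj
  exact hy1 (orderOf_eq_one_iff.mp hj)

end pair

section retraction

variable {G : Type u} [Group G] [Finite G] {p : ℕ} [hpp : Fact p.Prime]

/-- When `C_G(y)` has a normal `p`-complement `K`, there is a retraction of `C_G(y)` onto the
abelian Sylow subgroup `P` which kills `K`. -/
theorem exists_retraction (P : Sylow p G) (hab : IsMulCommutative P) (y : G)
    (hy : y ∈ (P : Subgroup G))
    (hk : ∃ k : ℕ, (pPrimeCore p (Subgroup.centralizer ({y} : Set G))).index = p ^ k) :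
    ∃ π : ↥(Subgroup.centralizer ({y} : Set G)) →* ↥(P : Subgroup G),
      (∀ (q : G) (hq : q ∈ (P : Subgroup G)),
        π ⟨q, sylow_le_centralizer_of_comm P hab y hy hq⟩ = ⟨q, hq⟩) ∧
      (∀ k ∈ pPrimeCore p (Subgroup.centralizer ({y} : Set G)), π k = 1) := by
  classical
  set H := Subgroup.centralizer ({y} : Set G) with hH
  set K := pPrimeCore p H with hK
  haveI hKn : K.Normal := Cfsg.Agent.Lib.Helper1.pPrimeCore_normal p H
  have hPC := sylow_le_centralizer_of_comm P hab y hy
  have hcop : (Nat.card K).Coprime p := Cfsg.Agent.Lib.Helper12.pPrimeCore_coprime p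
  obtain ⟨k, hk⟩ := hk
  -- the map `P → H ⧸ K`
  let ι : ↥(P : Subgroup G) →* H ⧸ K :=
    (QuotientGroup.mk' K).comp (Subgroup.inclusion hPC)
  have hinj : Function.Injective ι := by
    rw [injective_iff_map_eq_one]
    intro q hq
    have h1 : Subgroup.inclusion hPC q ∈ K := by
      rw [← QuotientGroup.eq_one_iff]
      exact hq
    -- the order of `q` is a power of `p` and divides `|K|`
    have h2 : orderOf (Subgroup.inclusion hPC q) ∣ Nat.card K := by
      have := orderOf_dvd_natCard (⟨Subgroup.inclusion hPC q, h1⟩ : K)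
      rwa [← Subgroup.orderOf_coe] at this
    obtain ⟨j, hj⟩ := exists_orderOf_eq_pow_of_mem_sylow P (q : G) q.2
    have h3 : orderOf (Subgroup.inclusion hPC q) = orderOf (q : G) := by
      rw [← Subgroup.orderOf_coe]
      rfl
    rw [h3, hj] at h2
    have hj0 : j = 0 := by
      by_contra hj0
      have h4 : p ∣ Nat.card K := (dvd_pow_self p hj0).trans h2
      have h5 := Nat.Coprime.eq_one_of_dvd hcop.symm h4
      exact hpp.out.one_lt.ne' h5
    rw [hj0, pow_zero] at hj
    exact Subtype.ext (orderOf_eq_one_iff.mp hj)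
  have hcard : Nat.card ↥(P : Subgroup G) = Nat.card (H ⧸ K) := by
    rw [← Subgroup.index_eq_card, hk, ← card_sylow_eq_pow_factorization_centralizer P hab y hy]
    congr 1
    have h1 : Nat.card H = Nat.card K * p ^ k := by
      rw [← hk]; exact (Subgroup.card_mul_index K).symm
    rw [h1, Nat.factorization_mul (Nat.card_pos.ne') (pow_ne_zero _ hpp.out.ne_zero)]
    simp only [Finsupp.coe_add, Pi.add_apply]
    rw [Nat.factorization_eq_zero_of_not_dvd, zero_add, hpp.out.factorization_pow]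
    · simp
    · intro h
      have h5 := Nat.Coprime.eq_one_of_dvd hcop.symm h
      exact hpp.out.one_lt.ne' h5
  have hbij : Function.Bijective ι := by
    rw [Nat.bijective_iff_injective_and_card]
    exact ⟨hinj, hcard⟩
  let E : ↥(P : Subgroup G) ≃* H ⧸ K := MulEquiv.ofBijective ι hbij
  refine ⟨E.symm.toMonoidHom.comp (QuotientGroup.mk' K), ?_, ?_⟩
  · intro q hq
    simp only [MonoidHom.coe_comp, MulEquiv.coe_toMonoidHom, Function.comp_apply]
    rw [MulEquiv.symm_apply_eq]
    rfl
  · intro k' hk'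
    simp only [MonoidHom.coe_comp, MulEquiv.coe_toMonoidHom, Function.comp_apply]
    rw [MulEquiv.symm_apply_eq, map_one]
    exact (QuotientGroup.eq_one_iff k').mpr hk'

end retraction

end Cfsg.Agent.CharLib
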