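import Mathlib
import Cfsg.Agent.Lib.Lead.BrLeo18

/-!
lead: Brauer–Leonard (S4721), part 19: the case `p = 2` — no product of two conjugates of an
involution `t ∈ P` lies in the section of `y ∈ P#` unless `y` is conjugate to `t`.
-/

set_option autoImplicit false

namespace Cfsg.Agent.CharLib

open Cfsg Cfsg.Agent.Lib.Helper24 Cfsg.Agent.Lib.Helper6
open scoped ComplexConjugate

universe u

section orbit

variable {A : Type u} [Group A]

theorem FreeAut.orbit_prod {β : A ≃* A} (h : FreeAut β 3) (t : A) :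
    t * (β ^ 1) t * (β ^ 2) t = 1 := by
  apply h.free 1 (by norm_num) (by norm_num)
  rw [map_mul, map_mul, ← pow_add_apply, ← pow_add_apply]
  have h3 : (β ^ (1 + 2)) t = t := h.pow_m t
  rw [h3]
  have e : (1 : ℕ) + 1 = 2 := rfl
  rw [e, h.comm ((β ^ 1) t * (β ^ 2) t) t, mul_assoc]

/-- A product of two elements of the orbit of an involution `t` is `1` or in the orbit. -/
theorem FreeAut.orbit_mul {β : A ≃* A} (h : FreeAut β 3) (t : A) (ht : t * t = 1) (i j : ℕ) :
    (β ^ i) t * (β ^ j) t = 1 ∨ ∃ l : ℕ, (β ^ i) t * (β ^ j) t = (β ^ l) t := by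
  have hprod := h.orbit_prod t
  have hsq : ∀ l : ℕ, (β ^ l) t * (β ^ l) t = 1 := by
    intro l
    rw [← map_mul, ht, map_one]
  have h0 : (β ^ 0) t = t := by rw [pow_zero]; rfl
  -- the three products
  have h01 : t * (β ^ 1) t = (β ^ 2) t := by
    have := hsq 2
    calc t * (β ^ 1) t = t * (β ^ 1) t * ((β ^ 2) t * (β ^ 2) t) := by rw [this, mul_one]
      _ = (t * (β ^ 1) t * (β ^ 2) t) * (β ^ 2) t := by group
      _ = (β ^ 2) t := by rw [hprod, one_mul]
  have h02 : t * (β ^ 2) t = (β ^ 1) t := by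
    have := hsq 1
    calc t * (β ^ 2) t = t * ((β ^ 1) t * (β ^ 1) t) * (β ^ 2) t := by rw [this, mul_one]
      _ = (t * (β ^ 1) t) * ((β ^ 1) t * (β ^ 2) t) := by group
      _ = (t * (β ^ 1) t) * ((β ^ 2) t * (β ^ 1) t) := by rw [h.comm ((β ^ 1) t) ((β ^ 2) t)]
      _ = (t * (β ^ 1) t * (β ^ 2) t) * (β ^ 1) t := by group
      _ = (β ^ 1) t := by rw [hprod, one_mul]
  have h12 : (β ^ 1) t * (β ^ 2) t = t := by
    calc (β ^ 1) t * (β ^ 2) t = (t * t) * ((β ^ 1) t * (β ^ 2) t) := by rw [ht, one_mul]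
      _ = t * (t * (β ^ 1) t * (β ^ 2) t) := by group
      _ = t := by rw [hprod, mul_one]
  rw [h.pow_mod i t, h.pow_mod j t]
  have hi : i % 3 < 3 := Nat.mod_lt i (by norm_num)
  have hj : j % 3 < 3 := Nat.mod_lt j (by norm_num)
  interval_cases (i % 3) <;> interval_cases (j % 3)
  · exact Or.inl (hsq 0)
  · exact Or.inr ⟨2, by rw [h0, h01]⟩
  · exact Or.inr ⟨1, by rw [h0, h02]⟩
  · exact Or.inr ⟨2, by rw [h0, h.comm, h01]⟩
  · exact Or.inl (hsq 1)
  · exact Or.inr ⟨0, by rw [h0, h12]⟩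
  · exact Or.inr ⟨1, by rw [h0, h.comm, h02]⟩
  · exact Or.inr ⟨0, by rw [h0, h.comm, h12]⟩
  · exact Or.inl (hsq 2)

end orbit

section two

variable {G : Type u} [Group G] [Finite G] {p : ℕ} [hpp : Fact p.Prime]

/-- The dictionary between conjugacy in `G` of elements of `P` and the powers of `β`. -/
theorem isConj_iff_exists_pow (P : Sylow p G) (hab : IsMulCommutative P)
    (β : ↥(P : Subgroup G) ≃* ↥(P : Subgroup G))
    (hdictN : ∀ n : G, n ∈ Subgroup.normalizer ((P : Subgroup G) : Set G) → ∃ k : ℕ,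
      ∀ w : ↥(P : Subgroup G), (((β ^ k) w : ↥(P : Subgroup G)) : G) = n * w * n⁻¹)
    (hdictK : ∀ k : ℕ, ∃ n : G, n ∈ Subgroup.normalizer ((P : Subgroup G) : Set G) ∧
      ∀ w : ↥(P : Subgroup G), (((β ^ k) w : ↥(P : Subgroup G)) : G) = n * w * n⁻¹)
    (y y' : ↥(P : Subgroup G)) : IsConj (y : G) (y' : G) ↔ ∃ k : ℕ, y' = (β ^ k) y := by
  constructor
  · intro hyy
    obtain ⟨n, hn, hn'⟩ := exists_normalizer_conj_of_isConj P hab (y : G) (y' : G) y.2 y'.2 hyy
    obtain ⟨k, hk⟩ := hdictN n hn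
    exact ⟨k, Subtype.ext (by rw [hk y, hn'])⟩
  · rintro ⟨k, hk⟩
    obtain ⟨n, -, hn'⟩ := hdictK k
    rw [isConj_iff]
    exact ⟨n, by rw [hk, hn' y]⟩

set_option maxHeartbeats 800000 in
/-- For an involution `t ∈ P` and `y ∈ P#` not conjugate to `t`, no product of two conjugates of
`t` lies in the section of `y`. -/
theorem no_pair_of_mem (P : Sylow p G) (hab : IsMulCommutative P) (hfrob : BLFrob P)
    (hCN : (Subgroup.centralizer ((P : Subgroup G) : Set G)).relIndex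
      (Subgroup.normalizer ((P : Subgroup G) : Set G)) = 3)
    (β : ↥(P : Subgroup G) ≃* ↥(P : Subgroup G)) (hfree : FreeAut β 3)
    (hdictN : ∀ n : G, n ∈ Subgroup.normalizer ((P : Subgroup G) : Set G) → ∃ k : ℕ,
      ∀ w : ↥(P : Subgroup G), (((β ^ k) w : ↥(P : Subgroup G)) : G) = n * w * n⁻¹)
    (hdictK : ∀ k : ℕ, ∃ n : G, n ∈ Subgroup.normalizer ((P : Subgroup G) : Set G) ∧
      ∀ w : ↥(P : Subgroup G), (((β ^ k) w : ↥(P : Subgroup G)) : G) = n * w * n⁻¹)
    (t y : ↥(P : Subgroup G)) (ht : t * t = 1) (hy1 : y ≠ 1) (hyt : ∀ l : ℕ, y ≠ (β ^ l) t)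
    (a b k : G)
    (hk : k ∈ (pPrimeCore p (Subgroup.centralizer ({(y : G)} : Set G))).map
      (Subgroup.centralizer ({(y : G)} : Set G)).subtype) :
    a⁻¹ * (t : G) * a * (b⁻¹ * (t : G) * b) ≠ (y : G) * k := by
  intro hprod
  have hy1' : (y : G) ≠ 1 := fun h => hy1 (Subtype.ext h)
  have htG : (t : G) * (t : G) = 1 := congrArg Subtype.val ht
  set s : G := a⁻¹ * (t : G) * a with hs
  set s' : G := b⁻¹ * (t : G) * b with hs'
  have hss : s * s = 1 := by
    calc s * s = a⁻¹ * ((t : G) * (t : G)) * a := by rw [hs]; group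
      _ = 1 := by rw [htG]; group
  have hss' : s' * s' = 1 := by
    calc s' * s' = b⁻¹ * ((t : G) * (t : G)) * b := by rw [hs']; group
      _ = 1 := by rw [htG]; group
  obtain ⟨c, hcK, rfl⟩ := Subgroup.mem_map.mp hk
  have hcy : Commute (y : G) ((Subgroup.centralizer ({(y : G)} : Set G)).subtype c) := by
    have h0 : (c : G) ∈ Subgroup.centralizer ({(y : G)} : Set G) := c.2
    rw [Subgroup.mem_centralizer_singleton_iff] at h0
    exact h0.symm
  have hcop : (Nat.card (pPrimeCore p (Subgroup.centralizer ({(y : G)} : Set G)))).Coprime p :=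
    Cfsg.Agent.Lib.Helper12.pPrimeCore_coprime p
  have hcp : ¬ p ∣ orderOf ((Subgroup.centralizer ({(y : G)} : Set G)).subtype c) := by
    intro hdiv
    have h1 : orderOf ((Subgroup.centralizer ({(y : G)} : Set G)).subtype c) ∣
        Nat.card (pPrimeCore p (Subgroup.centralizer ({(y : G)} : Set G))) := by
      have := orderOf_dvd_natCard
        (⟨c, hcK⟩ : pPrimeCore p (Subgroup.centralizer ({(y : G)} : Set G)))
      rw [← Subgroup.orderOf_coe] at this
      rw [Subgroup.coe_subtype, Subgroup.orderOf_coe]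
      exact this
    have h5 := Nat.Coprime.eq_one_of_dvd hcop.symm (hdiv.trans h1)
    exact hpp.out.one_lt.ne' h5
  obtain ⟨hyy, hsy⟩ := sq_eq_one_of_pair P hab hfrob hCN (y : G) y.2 hy1' s s' _ hss hss' hcy hcp
    hprod
  -- `s, s' ∈ H`
  have hsH : s ∈ Subgroup.centralizer ({(y : G)} : Set G) := by
    rw [Subgroup.mem_centralizer_singleton_iff]
    exact hsy
  have hyH : (y : G) ∈ Subgroup.centralizer ({(y : G)} : Set G) := by
    rw [Subgroup.mem_centralizer_singleton_iff]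
  have hs'eq : s' = s * ((y : G) * (c : G)) := by
    have : s' = s * (s * s') := by rw [← mul_assoc, hss, one_mul]
    rw [this, hprod]
    rfl
  have hs'H : s' ∈ Subgroup.centralizer ({(y : G)} : Set G) := by
    rw [hs'eq]
    exact Subgroup.mul_mem _ hsH (Subgroup.mul_mem _ hyH c.2)
  obtain ⟨π, hπ1, hπ2⟩ := exists_retraction P hab (y : G) y.2
    (hfrob.index_pPrimeCore_centralizer hab (y : G) y.2 hy1')
  -- `π` of a `G`-conjugate of `t` in `H` lies in the orbit of `t`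
  have hkey : ∀ (x : G) (hx : x ∈ Subgroup.centralizer ({(y : G)} : Set G)), x * x = 1 →
      IsConj (t : G) x → ∃ i : ℕ, π ⟨x, hx⟩ = (β ^ i) t := by
    intro x hx hxx hconj
    have hPC := sylow_le_centralizer_of_comm P hab (y : G) y.2
    let Q : Sylow p (Subgroup.centralizer ({(y : G)} : Set G)) := P.subtype hPC
    have hpg : IsPGroup p (Subgroup.zpowers (⟨x, hx⟩ : Subgroup.centralizer ({(y : G)} : Set G))) := by
      -- `x` is conjugate to `t ∈ P`
      obtain ⟨j, hj⟩ := exists_orderOf_eq_pow_of_mem_sylow P (t : G) t.2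
      apply Cfsg.Agent.Lib.Helper13.isPGroup_zpowers_of_orderOf p j
      rw [← Subgroup.orderOf_coe]
      obtain ⟨g, hg⟩ := isConj_iff.mp hconj
      change orderOf x = p ^ j
      rw [← hg, ← hj]
      exact (MulAut.conj g).orderOf_eq (t : G)
    obtain ⟨g, hg⟩ := Cfsg.Agent.Lib.Helper13.exists_conj_mem_sylow Q _ hpg
    have h1 := hg ⟨x, hx⟩ (Subgroup.mem_zpowers _)
    have h2 : ((g * ⟨x, hx⟩ * g⁻¹ : Subgroup.centralizer ({(y : G)} : Set G)) : G) ∈
        (P : Subgroup G) := by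
      change _ ∈ (P : Subgroup G).subgroupOf _ at h1
      rw [Subgroup.mem_subgroupOf] at h1
      exact h1
    have h3 := hπ1 _ h2
    have h4 : π (g * ⟨x, hx⟩ * g⁻¹) = π ⟨x, hx⟩ := by
      rw [map_mul, map_mul, map_inv, hab.is_comm.comm (π g) (π ⟨x, hx⟩)]
      group
    have h5 : (g * ⟨x, hx⟩ * g⁻¹ : Subgroup.centralizer ({(y : G)} : Set G)) =
        ⟨((g * ⟨x, hx⟩ * g⁻¹ : Subgroup.centralizer ({(y : G)} : Set G)) : G),
          hPC h2⟩ := rfl
    rw [h5, h3] at h4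
    -- so `π x` is conjugate to `t`
    have h6 : IsConj (t : G) ((π ⟨x, hx⟩ : ↥(P : Subgroup G)) : G) := by
      rw [← h4]
      refine hconj.trans ?_
      rw [isConj_iff]
      exact ⟨(g : G), rfl⟩
    exact (isConj_iff_exists_pow P hab β hdictN hdictK t (π ⟨x, hx⟩)).mp h6
  obtain ⟨i, hi⟩ := hkey s hsH hss (isConj_iff.mpr ⟨a⁻¹, by rw [hs, inv_inv]⟩)
  obtain ⟨j, hj⟩ := hkey s' hs'H hss' (isConj_iff.mpr ⟨b⁻¹, by rw [hs', inv_inv]⟩)
  have hmul : (⟨s, hsH⟩ : Subgroup.centralizer ({(y : G)} : Set G)) * ⟨s', hs'H⟩ =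
      ⟨(y : G), hyH⟩ * c := Subtype.ext hprod
  have h7 := congrArg π hmul
  rw [map_mul, map_mul, hi, hj, hπ2 c hcK, mul_one] at h7
  have h8 : π ⟨(y : G), hyH⟩ = y := hπ1 (y : G) y.2
  rw [h8] at h7
  rcases hfree.orbit_mul t ht i j with h9 | ⟨l, h9⟩
  · rw [h9] at h7
    exact hy1 h7.symm
  · rw [h9] at h7
    exact hyt l h7.symm

end two

end Cfsg.Agent.CharLib
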