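import Mathlib
import Cfsg.Agent.Lib.Lead.BrLeo19
import Cfsg.Agent.Lib.Lead.BrLeo17

/-!
lead: Brauer–Leonard (S4721), part 20: the normalised data for `m = 3`.
-/

set_option autoImplicit false

namespace Cfsg.Agent.CharLib

open Cfsg Cfsg.Agent.Lib.Helper24 Cfsg.Agent.Lib.Helper6
open scoped ComplexConjugate

universe u

section bl3

variable {G : Type u} [Group G] [Finite G] {p : ℕ} [hpp : Fact p.Prime]

/-- The normalised Brauer–Leonard data for `m = 3`. -/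
structure BL3 (M : Ideal AlgInt) (P : Sylow p G) [Fintype ↥(P : Subgroup G)]
    [Fintype (↥(P : Subgroup G) →* ℂˣ)] [Fintype ↥(principalBlock M G)]
    [DecidableEq ↥(principalBlock M G)]
    (β : ↥(P : Subgroup G) ≃* ↥(P : Subgroup G)) (δ : ℤ) (a : ↥(principalBlock M G) → ℤ)
    (e : (↥(P : Subgroup G) →* ℂˣ) → ↥(principalBlock M G)) (χ₁ : ↥(principalBlock M G)) :
    Prop where
  free : FreeAut β 3
  dictN : ∀ n : G, n ∈ Subgroup.normalizer ((P : Subgroup G) : Set G) → ∃ k : ℕ,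
    ∀ w : ↥(P : Subgroup G), (((β ^ k) w : ↥(P : Subgroup G)) : G) = n * w * n⁻¹
  dictK : ∀ k : ℕ, ∃ n : G, n ∈ Subgroup.normalizer ((P : Subgroup G) : Set G) ∧
    ∀ w : ↥(P : Subgroup G), (((β ^ k) w : ↥(P : Subgroup G)) : G) = n * w * n⁻¹
  rep : BLRep β 3 (blC M P) δ 0 a e
  cardX : (Finset.univ \ blY e).card = 3
  apm : ∀ χ ∈ Finset.univ \ blY e, a χ = 1 ∨ a χ = -1
  triv : (χ₁.1 : G → ℂ) = fun _ => 1
  trivX : χ₁ ∉ blY e
  a_triv : a χ₁ = 1

set_option maxHeartbeats 800000 in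
theorem exists_bl3 (M : Ideal Cfsg.AlgInt)
    (hM : Cfsg.IsPModular p M) (P : Sylow p G) (hab : IsMulCommutative P)
    (hm2 : 3 + 1 < Nat.card P)
    (hCN : (Subgroup.centralizer ((P : Subgroup G) : Set G)).relIndex
      (Subgroup.normalizer ((P : Subgroup G) : Set G)) = 3)
    (hcyc : ∃ g : G, g ∈ Subgroup.normalizer ((P : Subgroup G) : Set G) ∧
      Subgroup.centralizer ((P : Subgroup G) : Set G) ⊔ Subgroup.zpowers g =
        Subgroup.normalizer ((P : Subgroup G) : Set G))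
    (hfrob : BLFrob P) [Fintype ↥(P : Subgroup G)] [Fintype (↥(P : Subgroup G) →* ℂˣ)]
    [Fintype ↥(principalBlock M G)] [DecidableEq ↥(principalBlock M G)] :
    ∃ (β : ↥(P : Subgroup G) ≃* ↥(P : Subgroup G)) (δ : ℤ) (a : ↥(principalBlock M G) → ℤ)
      (e : (↥(P : Subgroup G) →* ℂˣ) → ↥(principalBlock M G)),
      BL3 M P β δ a e ⟨trivIrr G, trivIrr_mem_principalBlock hM⟩ := by
  classical
  obtain ⟨β, δ, d, a, e, hfree, hdictN, hdictK, hrep⟩ :=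
    exists_blRep M hM P hab 3 (by norm_num) hm2 hCN hcyc hfrob
  have hm0 : 0 < 3 := by norm_num
  have hm2' : 3 + 1 < Fintype.card ↥(P : Subgroup G) := by
    rw [← Nat.card_eq_fintype_card]; exact hm2
  have hcardP : 1 < Fintype.card ↥(P : Subgroup G) := by omega
  obtain ⟨y₀, hy₀⟩ := Fintype.exists_ne_of_one_lt_card hcardP (1 : ↥(P : Subgroup G))
  set χ₁ : ↥(principalBlock M G) := ⟨trivIrr G, trivIrr_mem_principalBlock hM⟩ with hχ₁def
  have hχ₁ : χ₁ ∉ blY e :=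
    hrep.triv_not_mem hfree hm0 hm2' (blX M P) (blC_spec M P) _ (fun y => rfl)
  have hval : ∀ χ : ↥(principalBlock M G), χ ∉ blY e → ∀ y : ↥(P : Subgroup G), y ≠ 1 →
      (χ.1 : G → ℂ) (y : G) = (a χ : ℂ) := by
    intro χ hχ y hy
    exact hrep.value_nonexceptional hfree.comm (blX M P) (blC_spec M P) χ hχ y hy
  have ha : ∀ χ ∈ Finset.univ \ blY e, a χ ≠ 0 := by
    intro χ hχ h0
    have hχ' : χ ∉ blY e := (Finset.mem_sdiff.mp hχ).2
    have h1 := hval χ hχ' y₀ hy₀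
    rw [h0, Int.cast_zero] at h1
    exact apply_ne_zero_of_mem_principalBlock_sylow hM P hab χ.1 χ.2 (y₀ : G) y₀.2 h1
  have haχ₁ : a χ₁ = 1 := by
    have h1 := hval χ₁ hχ₁ y₀ hy₀
    have h2 : (χ₁.1 : G → ℂ) (y₀ : G) = 1 := rfl
    rw [h2] at h1
    exact_mod_cast h1.symm
  have hone : ¬ p ∣ orderOf (1 : G) := by
    rw [orderOf_one]
    exact fun h => hpp.out.one_lt.ne' (Nat.dvd_one.mp h)
  have hZf : ∀ ψ : ↥(P : Subgroup G) →* ℂˣ, ψ ≠ 1 →
      (((blY e).card : ℤ) * d - δ) * (charDegree ((e ψ).1 : G → ℂ) : ℤ) +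
        ∑ χ ∈ Finset.univ \ blY e, a χ * (charDegree (χ.1 : G → ℂ) : ℤ) = 0 := by
    intro ψ hψ
    have h1 := hrep.Z_rel (blX M P) (blC_spec M P) (fun χ => (χ.1 : G → ℂ) 1)
      (sum_regular_blX hM P 1 hone) ψ hψ
    have h2 : ((((blY e).card : ℤ) * d - δ) * (charDegree ((e ψ).1 : G → ℂ) : ℤ) +
        ∑ χ ∈ Finset.univ \ blY e, a χ * (charDegree (χ.1 : G → ℂ) : ℤ) : ℤ) = (0 : ℂ) := by
      push_cast
      rw [← h1]
      simp only [irr_apply_one]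
    exact_mod_cast h2
  have hpp' : ∃ q k : ℕ, q.Prime ∧ Fintype.card ↥(P : Subgroup G) = q ^ k :=
    ⟨p, (Nat.card G).factorization p, hpp.out, by
      rw [← Nat.card_eq_fintype_card]; exact P.card_eq_multiplicity⟩
  have hdeg1 : (charDegree (χ₁.1 : G → ℂ) : ℤ) = 1 := by
    have : charDegree (χ₁.1 : G → ℂ) = 1 := charDegree_eq_of_apply_one (by
      show (χ₁.1 : G → ℂ) 1 = ((1 : ℕ) : ℂ)
      rw [Nat.cast_one]; rfl)
    rw [this]; rfl
  obtain ⟨δ', a', e', hrep', hY', hX3, hapm, haa⟩ := hrep.normalize3 hfree (by omega) hpp' χ₁ hχ₁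
    haχ₁ ha (fun χ => (charDegree (χ.1 : G → ℂ) : ℤ))
    (fun χ => by exact_mod_cast irr_charDegree_pos χ.1) hdeg1 hZf
  refine ⟨β, δ', a', e', hfree, hdictN, hdictK, hrep', hX3, hapm, rfl, by rw [hY']; exact hχ₁, ?_⟩
  rw [haa χ₁ (by rw [hY']; exact Finset.mem_sdiff.mpr ⟨Finset.mem_univ _, hχ₁⟩), haχ₁]

end bl3

end Cfsg.Agent.CharLib
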