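import Mathlib
import Cfsg.Agent.Lib.Lead.BrLeo20

/-!
lead: Brauer–Leonard (S4721), part 21: abstract lemmas for the involution formula.
-/

set_option autoImplicit false

namespace Cfsg.Agent.CharLib

open Cfsg Cfsg.Agent.Lib.Helper24 Cfsg.Agent.Lib.Helper6
open scoped ComplexConjugate

universe u v

section abstract

variable {A : Type u} [Group A] [Fintype A] [Fintype (A →* ℂˣ)]
variable {B : Type v} [Fintype B] [DecidableEq B]
variable {β : A ≃* A} {m : ℕ} {c : B → (A →* ℂˣ) → ℤ} {δ : ℤ} {a : B → ℤ}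
  {e : (A →* ℂˣ) → B}

open Classical in
/-- Pairing an arbitrary vector with a column away from the identity (case `d = 0`). -/
theorem BLRep.sum_Z_at (h : BLRep β m c δ 0 a e) (hcomm : ∀ a b : A, a * b = b * a)
    (X : B → A → ℂ) (hc : ∀ χ ψ, (c χ ψ : ℂ) = multP (X χ) ψ - multP (X χ) 1) (Z : B → ℂ)
    (y : A) (hy : y ≠ 1) :
    ∑ χ : B, Z χ * X χ y = ∑ χ ∈ Finset.univ \ blY e, Z χ * (a χ : ℂ) +
      (δ : ℂ) * ∑ ψ ∈ Finset.univ.erase (1 : A →* ℂˣ), Z (e ψ) * ((ψ y : ℂˣ) : ℂ) := by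
  have e1 : ∀ χ : B, Z χ * X χ y = Z χ * (a χ : ℂ) + (δ : ℂ) *
      ∑ ψ ∈ Finset.univ.erase (1 : A →* ℂˣ),
        (if e ψ = χ then Z (e ψ) * ((ψ y : ℂˣ) : ℂ) else 0) := by
    intro χ
    rw [h.value hcomm X hc χ y hy]
    have h1 : Finset.univ.filter (fun ψ : A →* ℂˣ => ψ ≠ 1 ∧ e ψ = χ) =
        (Finset.univ.erase (1 : A →* ℂˣ)).filter (fun ψ => e ψ = χ) := by
      ext ψ
      simp only [Finset.mem_filter, Finset.mem_univ, true_and, Finset.mem_erase, and_true]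
    rw [h1, Finset.sum_filter, mul_add, ← mul_assoc, mul_comm (Z χ) (δ : ℂ), mul_assoc,
      Finset.mul_sum]
    congr 2
    apply Finset.sum_congr rfl
    intro ψ _
    by_cases hψ : e ψ = χ
    · rw [if_pos hψ, if_pos hψ, hψ]
    · rw [if_neg hψ, if_neg hψ, mul_zero]
  rw [Finset.sum_congr rfl (fun χ _ => e1 χ), Finset.sum_add_distrib, ← Finset.mul_sum,
    Finset.sum_comm]
  congr 1
  · rw [← Finset.sum_sdiff (Finset.subset_univ (blY e))]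
    have h2 : ∑ χ ∈ blY e, Z χ * (a χ : ℂ) = 0 := by
      apply Finset.sum_eq_zero
      intro χ hχ
      obtain ⟨ψ, hψ, rfl⟩ := (mem_blY e χ).mp hχ
      rw [h.ad ψ hψ, Int.cast_zero, mul_zero]
    rw [h2, add_zero]
  · congr 1
    apply Finset.sum_congr rfl
    intro ψ _
    rw [Finset.sum_ite_eq]
    simp

open Classical in
/-- Sums over a class of linear characters. -/
theorem FreeAut.sum_dualRel_class (h : FreeAut β m) (hm : 0 < m) (ψ : A →* ℂˣ) (hψ : ψ ≠ 1)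
    (F : (A →* ℂˣ) → ℂ) :
    ∑ ψ' ∈ Finset.univ.filter (fun ψ' : A →* ℂˣ => DualRel β ψ ψ'), F ψ' =
      ∑ k ∈ Finset.range m, F (dualPow β k ψ) := by
  have h1 : Finset.univ.filter (fun ψ' : A →* ℂˣ => DualRel β ψ ψ') =
      (Finset.range m).image (fun k => dualPow β k ψ) := by
    ext ψ'
    rw [Finset.mem_filter, Finset.mem_image]
    constructor
    · rintro ⟨-, hr⟩
      obtain ⟨k, hkm, hk⟩ := (h.dualRel_iff_lt hm ψ' ψ).mp (h.dualRel_symm hm hr)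
      exact ⟨k, Finset.mem_range.mpr hkm, hk⟩
    · rintro ⟨k, -, hk⟩
      exact ⟨Finset.mem_univ _, h.dualRel_symm hm ⟨k, hk⟩⟩
  rw [h1, Finset.sum_image]
  intro j hj k hk hjk
  rw [Finset.coe_range, Set.mem_Iio] at hj hk
  exact h.dual_unique _ ψ hψ j k hj hk hjk rfl

/-- The sum of a non-trivial-character-indexed family against a fixed element. -/
theorem sum_erase_one_apply (hcomm : ∀ a b : A, a * b = b * a) (y : A) (hy : y ≠ 1) :
    ∑ ψ ∈ Finset.univ.erase (1 : A →* ℂˣ), ((ψ y : ℂˣ) : ℂ) = -1 := by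
  classical
  have h1 := sum_dual_apply hcomm y
  rw [if_neg hy] at h1
  rw [Finset.sum_erase_eq_sub (Finset.mem_univ _), h1]
  simp

theorem hom_apply_sq_eq_one (ψ : A →* ℂˣ) (x : A) (hx : x * x = 1) :
    ((ψ x : ℂˣ) : ℂ) ^ 2 = 1 := by
  have : ψ x * ψ x = 1 := by rw [← map_mul, hx, map_one]
  have h2 : ((ψ x * ψ x : ℂˣ) : ℂ) = 1 := by rw [this]; rfl
  rw [pow_two, ← h2]
  rfl

/-- The orbit sum at an involution of an automorphism of order `3` satisfies `s² = 3 + 2 s`. -/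
theorem FreeAut.orbit_sum_sq (h : FreeAut β 3) (ψ : A →* ℂˣ) (t : A) (ht : t * t = 1) :
    (∑ k ∈ Finset.range 3, (((dualPow β k ψ) t : ℂˣ) : ℂ)) ^ 2 =
      3 + 2 * ∑ k ∈ Finset.range 3, (((dualPow β k ψ) t : ℂˣ) : ℂ) := by
  have hsq : ∀ l : ℕ, (β ^ l) t * (β ^ l) t = 1 := by
    intro l
    rw [← map_mul, ht, map_one]
  have h0 := hom_apply_sq_eq_one ψ ((β ^ 0) t) (hsq 0)
  have h1 := hom_apply_sq_eq_one ψ ((β ^ 1) t) (hsq 1)
  have h2 := hom_apply_sq_eq_one ψ ((β ^ 2) t) (hsq 2)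
  have hp : ((ψ ((β ^ 0) t) : ℂˣ) : ℂ) * ((ψ ((β ^ 1) t) : ℂˣ) : ℂ) *
      ((ψ ((β ^ 2) t) : ℂˣ) : ℂ) = 1 := by
    have h3 := h.orbit_prod t
    have h4 : ψ ((β ^ 0) t) * ψ ((β ^ 1) t) * ψ ((β ^ 2) t) = 1 := by
      rw [← map_mul, ← map_mul]
      have : (β ^ 0) t = t := by rw [pow_zero]; rfl
      rw [this, h3, map_one]
    have h5 : ((ψ ((β ^ 0) t) * ψ ((β ^ 1) t) * ψ ((β ^ 2) t) : ℂˣ) : ℂ) = 1 := by
      rw [h4]; rfl
    rw [← h5]
    rfl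
  simp only [Finset.sum_range_succ, Finset.sum_range_zero, zero_add, dualPow_apply]
  set v₀ := ((ψ ((β ^ 0) t) : ℂˣ) : ℂ)
  set v₁ := ((ψ ((β ^ 1) t) : ℂˣ) : ℂ)
  set v₂ := ((ψ ((β ^ 2) t) : ℂˣ) : ℂ)
  linear_combination h0 + h1 + h2 + 2 * ((-(v₀ * v₁)) * h2 + v₂ * hp) +
    2 * ((-(v₀ * v₂)) * h1 + v₁ * hp) + 2 * ((-(v₁ * v₂)) * h0 + v₀ * hp)

end abstract

end Cfsg.Agent.CharLib
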