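import Mathlib
import Cfsg.Agent.Lib.Lead.BrLeo21

/-!
lead: Brauer–Leonard (S4721), part 22: the involution formula, common part and odd `p`.
-/

set_option autoImplicit false

namespace Cfsg.Agent.CharLib

open Cfsg Cfsg.Agent.Lib.Helper24 Cfsg.Agent.Lib.Helper6
open scoped ComplexConjugate

universe u

section concrete

variable {G : Type u} [Group G] [Finite G] {p : ℕ} [hpp : Fact p.Prime]
variable {M : Ideal AlgInt} {P : Sylow p G} [Fintype ↥(P : Subgroup G)]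
  [Fintype (↥(P : Subgroup G) →* ℂˣ)] [Fintype ↥(principalBlock M G)]
  [DecidableEq ↥(principalBlock M G)]
variable {β : ↥(P : Subgroup G) ≃* ↥(P : Subgroup G)} {δ : ℤ} {a : ↥(principalBlock M G) → ℤ}
  {e : (↥(P : Subgroup G) →* ℂˣ) → ↥(principalBlock M G)} {χ₁ : ↥(principalBlock M G)}

theorem BL3.exists_two (hb : BL3 M P β δ a e χ₁) :
    ∃ χ₂ χ₃ : ↥(principalBlock M G), χ₂ ≠ χ₁ ∧ χ₃ ≠ χ₁ ∧ χ₂ ≠ χ₃ ∧
      Finset.univ \ blY e = {χ₁, χ₂, χ₃} := by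
  have hχ₁X : χ₁ ∈ Finset.univ \ blY e := Finset.mem_sdiff.mpr ⟨Finset.mem_univ _, hb.trivX⟩
  have h2 : ((Finset.univ \ blY e).erase χ₁).card = 2 := by
    rw [Finset.card_erase_of_mem hχ₁X, hb.cardX]
  obtain ⟨χ₂, χ₃, hne, hX⟩ := Finset.card_eq_two.mp h2
  have h2m : χ₂ ∈ (Finset.univ \ blY e).erase χ₁ := by rw [hX]; simp
  have h3m : χ₃ ∈ (Finset.univ \ blY e).erase χ₁ := by rw [hX]; simp
  refine ⟨χ₂, χ₃, Finset.ne_of_mem_erase h2m, Finset.ne_of_mem_erase h3m, hne, ?_⟩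
  rw [← Finset.insert_erase hχ₁X, hX]

theorem sum_three {B : Type*} [DecidableEq B] {χ₁ χ₂ χ₃ : B} (h21 : χ₂ ≠ χ₁) (h31 : χ₃ ≠ χ₁)
    (h23 : χ₂ ≠ χ₃) (F : B → ℂ) :
    ∑ χ ∈ ({χ₁, χ₂, χ₃} : Finset B), F χ = F χ₁ + F χ₂ + F χ₃ := by
  rw [Finset.sum_insert, Finset.sum_pair h23, add_assoc]
  simp only [Finset.mem_insert, Finset.mem_singleton, not_or]
  exact ⟨Ne.symm h21, Ne.symm h31⟩

theorem BL3.apply_ne_one (hb : BL3 M P β δ a e χ₁) (χ : ↥(principalBlock M G)) (hχ : χ ≠ χ₁) :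
    (χ.1 : G → ℂ) ≠ fun _ => 1 := by
  intro h
  apply hχ
  apply Subtype.ext
  apply Subtype.ext
  rw [h, hb.triv]

/-- The linear relation on `p`-regular elements, with the three members of `X` made explicit. -/
theorem BL3.rel_regular (hb : BL3 M P β δ a e χ₁) (hM : IsPModular p M) (g : G)
    (hg : ¬ p ∣ orderOf g) (ψ : ↥(P : Subgroup G) →* ℂˣ) (hψ : ψ ≠ 1)
    {χ₂ χ₃ : ↥(principalBlock M G)} (h21 : χ₂ ≠ χ₁) (h31 : χ₃ ≠ χ₁) (h23 : χ₂ ≠ χ₃)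
    (hX : Finset.univ \ blY e = {χ₁, χ₂, χ₃}) :
    -(δ : ℂ) * ((e ψ).1 : G → ℂ) g + 1 + (a χ₂ : ℂ) * (χ₂.1 : G → ℂ) g +
      (a χ₃ : ℂ) * (χ₃.1 : G → ℂ) g = 0 := by
  have h1 := hb.rep.Z_rel (blX M P) (blC_spec M P) (fun χ => (χ.1 : G → ℂ) g)
    (sum_regular_blX hM P g hg) ψ hψ
  rw [hX, sum_three h21 h31 h23] at h1
  rw [hb.a_triv, hb.triv] at h1
  push_cast at h1
  linear_combination h1

theorem BL3.degree_eq (hb : BL3 M P β δ a e χ₁) (hM : IsPModular p M)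
    (ψ ψ' : ↥(P : Subgroup G) →* ℂˣ) (hψ : ψ ≠ 1) (hψ' : ψ' ≠ 1) (g : G)
    (hg : ¬ p ∣ orderOf g) : ((e ψ).1 : G → ℂ) g = ((e ψ').1 : G → ℂ) g :=
  hb.rep.Z_const (blX M P) (blC_spec M P) (fun χ => (χ.1 : G → ℂ) g)
    (sum_regular_blX hM P g hg) ψ ψ' hψ hψ'

theorem core_map_props (y k : G)
    (hk : k ∈ (pPrimeCore p (Subgroup.centralizer ({y} : Set G))).map
      (Subgroup.centralizer ({y} : Set G)).subtype) :
    Commute y k ∧ ¬ p ∣ orderOf k := by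
  obtain ⟨c, hcK, rfl⟩ := Subgroup.mem_map.mp hk
  constructor
  · have h0 : (c : G) ∈ Subgroup.centralizer ({y} : Set G) := c.2
    rw [Subgroup.mem_centralizer_singleton_iff] at h0
    exact h0.symm
  · have hcop : (Nat.card (pPrimeCore p (Subgroup.centralizer ({y} : Set G)))).Coprime p :=
      Cfsg.Agent.Lib.Helper12.pPrimeCore_coprime p
    intro hdiv
    have h1 : orderOf ((Subgroup.centralizer ({y} : Set G)).subtype c) ∣
        Nat.card (pPrimeCore p (Subgroup.centralizer ({y} : Set G))) := by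
      have := orderOf_dvd_natCard
        (⟨c, hcK⟩ : pPrimeCore p (Subgroup.centralizer ({y} : Set G)))
      rw [← Subgroup.orderOf_coe] at this
      rw [Subgroup.coe_subtype, Subgroup.orderOf_coe]
      exact this
    have h5 := Nat.Coprime.eq_one_of_dvd hcop.symm (hdiv.trans h1)
    exact hpp.out.one_lt.ne' h5

/-- The third isotropy relation in abstract form: from the vanishing of the pair count. -/
theorem BL3.pair_relation (hb : BL3 M P β δ a e χ₁) (hM : IsPModular p M)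
    (hab : IsMulCommutative P) (hfrob : BLFrob P) (t : G) (y : ↥(P : Subgroup G)) (hy : y ≠ 1)
    (hno : ∀ a b : G, ∀ k ∈ (pPrimeCore p (Subgroup.centralizer ({(y : G)} : Set G))).map
      (Subgroup.centralizer ({(y : G)} : Set G)).subtype,
      a⁻¹ * t * a * (b⁻¹ * t * b) ≠ (y : G) * k)
    {χ₂ χ₃ : ↥(principalBlock M G)} (h21 : χ₂ ≠ χ₁) (h31 : χ₃ ≠ χ₁) (h23 : χ₂ ≠ χ₃)
    (hX : Finset.univ \ blY e = {χ₁, χ₂, χ₃}) :
    conj ((χ₁.1 : G → ℂ) t) ^ 2 / (χ₁.1 : G → ℂ) 1 +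
      conj ((χ₂.1 : G → ℂ) t) ^ 2 / (χ₂.1 : G → ℂ) 1 * (a χ₂ : ℂ) +
      conj ((χ₃.1 : G → ℂ) t) ^ 2 / (χ₃.1 : G → ℂ) 1 * (a χ₃ : ℂ) +
      (δ : ℂ) * ∑ ψ ∈ Finset.univ.erase (1 : ↥(P : Subgroup G) →* ℂˣ),
        conj (((e ψ).1 : G → ℂ) t) ^ 2 / ((e ψ).1 : G → ℂ) 1 * ((ψ y : ℂˣ) : ℂ) = 0 := by
  classical
  letI : Fintype G := Fintype.ofFinite G
  have hy1' : (y : G) ≠ 1 := fun h => hy (Subtype.ext h)
  have h1 := sum_block_pair_eq_zero hM t (y : G)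
    (exists_orderOf_eq_pow_of_mem_sylow P (y : G) y.2)
    (hfrob.index_pPrimeCore_centralizer hab (y : G) y.2 hy1') hno
  have h2 := sum_principalBlock_subtype M (fun χ : IrrCharacter G =>
    conj ((χ : G → ℂ) t) ^ 2 * (χ : G → ℂ) (y : G) / (χ : G → ℂ) 1)
  rw [h1] at h2
  have h3 : ∑ χ : ↥(principalBlock M G),
      (conj ((χ.1 : G → ℂ) t) ^ 2 / (χ.1 : G → ℂ) 1) * blX M P χ y = 0 := by
    rw [← h2]
    apply Finset.sum_congr rfl
    intro χ _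
    unfold blX
    ring
  rw [hb.rep.sum_Z_at hb.free.comm (blX M P) (blC_spec M P)
    (fun χ => conj ((χ.1 : G → ℂ) t) ^ 2 / (χ.1 : G → ℂ) 1) y hy, hX,
    sum_three h21 h31 h23] at h3
  rw [hb.a_triv] at h3
  push_cast at h3
  linear_combination h3

end concrete

end Cfsg.Agent.CharLib
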