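import Mathlib
import Cfsg.Agent.Lib.Lead.BrLeo22

/-!
lead: Brauer–Leonard (S4721), part 23: the involution formula for odd `p`.
-/

set_option autoImplicit false

namespace Cfsg.Agent.CharLib

open Cfsg Cfsg.Agent.Lib.Helper24 Cfsg.Agent.Lib.Helper6
open scoped ComplexConjugate

universe u

section odd

variable {G : Type u} [Group G] [Finite G] {p : ℕ} [hpp : Fact p.Prime]
variable {M : Ideal AlgInt} {P : Sylow p G} [Fintype ↥(P : Subgroup G)]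
  [Fintype (↥(P : Subgroup G) →* ℂˣ)] [Fintype ↥(principalBlock M G)]
  [DecidableEq ↥(principalBlock M G)]
variable {β : ↥(P : Subgroup G) ≃* ↥(P : Subgroup G)} {δ : ℤ} {a : ↥(principalBlock M G) → ℤ}
  {e : (↥(P : Subgroup G) →* ℂˣ) → ↥(principalBlock M G)} {χ₁ : ↥(principalBlock M G)}

theorem irr_apply_one_int (χ : IrrCharacter G) :
    (χ : G → ℂ) 1 = ((charDegree (χ : G → ℂ) : ℤ) : ℂ) := by
  rw [irr_apply_one χ]
  push_cast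
  rfl

set_option maxHeartbeats 800000 in
theorem BL3.involution_odd (hb : BL3 M P β δ a e χ₁) (hM : IsPModular p M)
    (hab : IsMulCommutative P) (hfrob : BLFrob P)
    (hCN : (Subgroup.centralizer ((P : Subgroup G) : Set G)).relIndex
      (Subgroup.normalizer ((P : Subgroup G) : Set G)) = 3)
    (hm2 : 3 + 1 < Nat.card P) (hp2 : p ≠ 2) (t : G) (ht2 : orderOf t = 2)
    (ht : ∀ K : Subgroup G, K.Normal → t ∈ K → K = ⊤)
    {χ₂ χ₃ : ↥(principalBlock M G)} (h21 : χ₂ ≠ χ₁) (h31 : χ₃ ≠ χ₁) (h23 : χ₂ ≠ χ₃)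
    (hX : Finset.univ \ blY e = {χ₁, χ₂, χ₃}) (ψ₀ : ↥(P : Subgroup G) →* ℂˣ) (hψ₀ : ψ₀ ≠ 1) :
    ((if a χ₂ = -1 then 1 else 0) + (if a χ₃ = -1 then 1 else 0) +
      (if -δ = -1 then 1 else 0) = 2) ∧
    IsSquare ((charDegree (χ₂.1 : G → ℂ) : ℤ) * (charDegree (χ₃.1 : G → ℂ) : ℤ) *
      (charDegree ((e ψ₀).1 : G → ℂ) : ℤ)) := by
  classical
  have htt : t * t = 1 := by
    have := pow_orderOf_eq_one t
    rw [ht2, pow_two] at this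
    exact this
  have htreg : ¬ p ∣ orderOf t := by
    rw [ht2]
    intro h
    exact hp2 ((Nat.prime_dvd_prime_iff_eq hpp.out Nat.prime_two).mp h)
  have hone : ¬ p ∣ orderOf (1 : G) := by
    rw [orderOf_one]
    exact fun h => hpp.out.one_lt.ne' (Nat.dvd_one.mp h)
  have hint : ∀ χ : ↥(principalBlock M G), ∃ n : ℤ, (χ.1 : G → ℂ) t = n := fun χ =>
    IsCharacter.apply_involution_int (IsIrrCharacter.isCharacter χ.1.2) t ht2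
  choose u hu using hint
  have hx : ∀ χ : ↥(principalBlock M G),
      (χ.1 : G → ℂ) 1 = ((charDegree (χ.1 : G → ℂ) : ℤ) : ℂ) := fun χ => irr_apply_one_int χ.1
  have hxpos : ∀ χ : ↥(principalBlock M G), 0 < (charDegree (χ.1 : G → ℂ) : ℤ) := by
    intro χ
    exact_mod_cast irr_charDegree_pos χ.1
  -- a non-trivial element of `P`
  have hcardP : 1 < Fintype.card ↥(P : Subgroup G) := by
    rw [← Nat.card_eq_fintype_card]; omega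
  obtain ⟨y₀, hy₀⟩ := Fintype.exists_ne_of_one_lt_card hcardP (1 : ↥(P : Subgroup G))
  have hy₀' : (y₀ : G) ≠ 1 := fun h => hy₀ (Subtype.ext h)
  have hmemY : e ψ₀ ∈ blY e := (mem_blY e (e ψ₀)).mpr ⟨ψ₀, hψ₀, rfl⟩
  have h41 : e ψ₀ ≠ χ₁ := by
    intro h
    exact hb.trivX (h ▸ hmemY)
  -- the relations
  have I1 := hb.rel_regular hM 1 hone ψ₀ hψ₀ h21 h31 h23 hX
  rw [hx, hx, hx] at I1
  have I2 := hb.rel_regular hM t htreg ψ₀ hψ₀ h21 h31 h23 hX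
  rw [hu, hu, hu] at I2
  have hno : ∀ a b : G, ∀ k ∈ (pPrimeCore p (Subgroup.centralizer ({(y₀ : G)} : Set G))).map
      (Subgroup.centralizer ({(y₀ : G)} : Set G)).subtype,
      a⁻¹ * t * a * (b⁻¹ * t * b) ≠ (y₀ : G) * k := by
    intro a b k hk
    obtain ⟨hc, hkp⟩ := core_map_props (y₀ : G) k hk
    apply no_pair_of_odd P hab hfrob hCN hp2 (y₀ : G) y₀.2 hy₀' _ _ k _ _ hc hkp
    · calc a⁻¹ * t * a * (a⁻¹ * t * a) = a⁻¹ * (t * t) * a := by group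
        _ = 1 := by rw [htt]; group
    · calc b⁻¹ * t * b * (b⁻¹ * t * b) = b⁻¹ * (t * t) * b := by group
        _ = 1 := by rw [htt]; group
  have I3 := hb.pair_relation hM hab hfrob t y₀ hy₀ hno h21 h31 h23 hX
  have hconst : ∀ ψ ∈ Finset.univ.erase (1 : ↥(P : Subgroup G) →* ℂˣ),
      conj (((e ψ).1 : G → ℂ) t) ^ 2 / ((e ψ).1 : G → ℂ) 1 * ((ψ y₀ : ℂˣ) : ℂ) =
      conj (((e ψ₀).1 : G → ℂ) t) ^ 2 / ((e ψ₀).1 : G → ℂ) 1 * ((ψ y₀ : ℂˣ) : ℂ) := by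
    intro ψ hψ
    rw [hb.degree_eq hM ψ ψ₀ (Finset.ne_of_mem_erase hψ) hψ₀ t htreg,
      hb.degree_eq hM ψ ψ₀ (Finset.ne_of_mem_erase hψ) hψ₀ 1 hone]
  rw [Finset.sum_congr rfl hconst, ← Finset.mul_sum, sum_erase_one_apply hb.free.comm y₀ hy₀,
    hb.triv, hu χ₂, hu χ₃, hu (e ψ₀), hx χ₂, hx χ₃, hx (e ψ₀)] at I3
  simp only [map_intCast, map_one] at I3
  -- notation
  set x₂ : ℤ := (charDegree (χ₂.1 : G → ℂ) : ℤ) with hx₂def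
  set x₃ : ℤ := (charDegree (χ₃.1 : G → ℂ) : ℤ) with hx₃def
  set z : ℤ := (charDegree ((e ψ₀).1 : G → ℂ) : ℤ) with hzdef
  have hx₂ : (x₂ : ℂ) ≠ 0 := by
    have := (hxpos χ₂).ne'
    exact Int.cast_ne_zero.mpr this
  have hx₃ : (x₃ : ℂ) ≠ 0 := by
    have := (hxpos χ₃).ne'
    exact Int.cast_ne_zero.mpr this
  have hz : (z : ℂ) ≠ 0 := by
    have := (hxpos (e ψ₀)).ne'
    exact Int.cast_ne_zero.mpr this
  have I1z : 1 + a χ₂ * x₂ + a χ₃ * x₃ + (-δ) * z = 0 := by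
    have : ((1 + a χ₂ * x₂ + a χ₃ * x₃ + (-δ) * z : ℤ) : ℂ) = 0 := by
      push_cast
      linear_combination I1
    exact_mod_cast this
  have I2z : 1 + a χ₂ * u χ₂ + a χ₃ * u χ₃ + (-δ) * u (e ψ₀) = 0 := by
    have : ((1 + a χ₂ * u χ₂ + a χ₃ * u χ₃ + (-δ) * u (e ψ₀) : ℤ) : ℂ) = 0 := by
      push_cast
      linear_combination I2
    exact_mod_cast this
  have I3z : x₂ * x₃ * z + a χ₂ * u χ₂ ^ 2 * x₃ * z + a χ₃ * u χ₃ ^ 2 * x₂ * z +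
      (-δ) * u (e ψ₀) ^ 2 * x₂ * x₃ = 0 := by
    have key : ((x₂ : ℂ) * x₃ * z) * ((1 : ℂ) ^ 2 / 1 + (u χ₂ : ℂ) ^ 2 / x₂ * (a χ₂ : ℂ) +
        (u χ₃ : ℂ) ^ 2 / x₃ * (a χ₃ : ℂ) + (δ : ℂ) * ((u (e ψ₀) : ℂ) ^ 2 / z * (-1))) =
        (x₂ : ℂ) * x₃ * z + a χ₂ * (u χ₂ : ℂ) ^ 2 * x₃ * z + a χ₃ * (u χ₃ : ℂ) ^ 2 * x₂ * z +
        (-(δ : ℂ)) * (u (e ψ₀) : ℂ) ^ 2 * x₂ * x₃ := by
      field_simp
    have : ((x₂ * x₃ * z + a χ₂ * u χ₂ ^ 2 * x₃ * z + a χ₃ * u χ₃ ^ 2 * x₂ * z +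
        (-δ) * u (e ψ₀) ^ 2 * x₂ * x₃ : ℤ) : ℂ) = 0 := by
      push_cast
      rw [← key, I3, mul_zero]
    exact_mod_cast this
  have hne : ∀ χ : ↥(principalBlock M G), χ ≠ χ₁ → u χ ≠ (charDegree (χ.1 : G → ℂ) : ℤ) := by
    intro χ hχ h
    have h1 := apply_ne_apply_one_of_normal_closure χ.1 (hb.apply_ne_one χ hχ) t ht
    apply h1
    rw [hu, hx, h]
  have hmem2 : χ₂ ∈ Finset.univ \ blY e := by rw [hX]; simp
  have hmem3 : χ₃ ∈ Finset.univ \ blY e := by rw [hX]; simp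
  have hδ' : -δ = 1 ∨ -δ = -1 := by
    rcases hb.rep.hδ with h | h <;> rw [h] <;> norm_num
  exact bl3_algebra x₂ x₃ z (u χ₂) (u χ₃) (u (e ψ₀)) (a χ₂) (a χ₃) (-δ) (hxpos χ₂) (hxpos χ₃)
    (hxpos (e ψ₀)) (hb.apm χ₂ hmem2) (hb.apm χ₃ hmem3) hδ' (hne χ₂ h21) (hne χ₃ h31)
    (hne (e ψ₀) h41) I1z I2z I3z

end odd

end Cfsg.Agent.CharLib
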