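import Mathlib
import Cfsg.Agent.Lib.Lead.BrLeo23

/-!
lead: Brauer–Leonard (S4721), part 24: the involution formula when the involution lies in `P`
(the case `p = 2`).
-/

set_option autoImplicit false

namespace Cfsg.Agent.CharLib

open Cfsg Cfsg.Agent.Lib.Helper24 Cfsg.Agent.Lib.Helper6
open scoped ComplexConjugate

universe u

section even

variable {G : Type u} [Group G] [Finite G] {p : ℕ} [hpp : Fact p.Prime]
variable {M : Ideal AlgInt} {P : Sylow p G} [Fintype ↥(P : Subgroup G)]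
  [Fintype (↥(P : Subgroup G) →* ℂˣ)] [Fintype ↥(principalBlock M G)]
  [DecidableEq ↥(principalBlock M G)]
variable {β : ↥(P : Subgroup G) ≃* ↥(P : Subgroup G)} {δ : ℤ} {a : ↥(principalBlock M G) → ℤ}
  {e : (↥(P : Subgroup G) →* ℂˣ) → ↥(principalBlock M G)} {χ₁ : ↥(principalBlock M G)}

/-- An element of `P#` outside the orbit of `t`. -/
theorem BL3.exists_outside_orbit (hb : BL3 M P β δ a e χ₁) (hm2 : 3 + 1 < Nat.card P)
    (t : ↥(P : Subgroup G)) :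
    ∃ y₀ : ↥(P : Subgroup G), y₀ ≠ 1 ∧ ∀ l : ℕ, y₀ ≠ (β ^ l) t := by
  classical
  by_contra hcon
  push_neg at hcon
  have hsub : (Finset.univ : Finset ↥(P : Subgroup G)) ⊆
      insert 1 ((Finset.range 3).image (fun l => (β ^ l) t)) := by
    intro y _
    by_cases hy : y = 1
    · rw [hy]; exact Finset.mem_insert_self _ _
    · obtain ⟨l, hl⟩ := hcon y hy
      rw [hl, hb.free.pow_mod l t]
      apply Finset.mem_insert_of_mem
      exact Finset.mem_image.mpr ⟨l % 3, Finset.mem_range.mpr (Nat.mod_lt _ (by norm_num)), rfl⟩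
  have h1 := Finset.card_le_card hsub
  have h2 : (insert 1 ((Finset.range 3).image (fun l => (β ^ l) t))).card ≤ 4 := by
    refine (Finset.card_insert_le _ _).trans ?_
    have := Finset.card_image_le (s := Finset.range 3) (f := fun l => (β ^ l) t)
    rw [Finset.card_range] at this
    omega
  rw [Finset.card_univ, ← Nat.card_eq_fintype_card] at h1
  omega

set_option maxHeartbeats 1600000 in
theorem BL3.involution_mem (hb : BL3 M P β δ a e χ₁) (hM : IsPModular p M)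
    (hab : IsMulCommutative P) (hfrob : BLFrob P)
    (hCN : (Subgroup.centralizer ((P : Subgroup G) : Set G)).relIndex
      (Subgroup.normalizer ((P : Subgroup G) : Set G)) = 3)
    (hm2 : 3 + 1 < Nat.card P) (t : ↥(P : Subgroup G)) (htt : t * t = 1) (ht1 : t ≠ 1)
    (ht : ∀ K : Subgroup G, K.Normal → (t : G) ∈ K → K = ⊤)
    {χ₂ χ₃ : ↥(principalBlock M G)} (h21 : χ₂ ≠ χ₁) (h31 : χ₃ ≠ χ₁) (h23 : χ₂ ≠ χ₃)
    (hX : Finset.univ \ blY e = {χ₁, χ₂, χ₃}) (ψ₀ : ↥(P : Subgroup G) →* ℂˣ) (hψ₀ : ψ₀ ≠ 1) :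
    ((if a χ₂ = -1 then 1 else 0) + (if a χ₃ = -1 then 1 else 0) +
      (if -δ = -1 then 1 else 0) = 2) ∧
    IsSquare ((charDegree (χ₂.1 : G → ℂ) : ℤ) * (charDegree (χ₃.1 : G → ℂ) : ℤ) *
      (charDegree ((e ψ₀).1 : G → ℂ) : ℤ)) := by
  classical
  have hm0 : 0 < 3 := by norm_num
  have hcomm := hb.free.comm
  have htG : (t : G) * (t : G) = 1 := congrArg Subtype.val htt
  have htG1 : (t : G) ≠ 1 := fun h => ht1 (Subtype.ext h)
  have ht2 : orderOf (t : G) = 2 := orderOf_eq_prime (by rw [pow_two]; exact htG) htG1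
  have hone : ¬ p ∣ orderOf (1 : G) := by
    rw [orderOf_one]
    exact fun h => hpp.out.one_lt.ne' (Nat.dvd_one.mp h)
  have hx : ∀ χ : ↥(principalBlock M G),
      (χ.1 : G → ℂ) 1 = ((charDegree (χ.1 : G → ℂ) : ℤ) : ℂ) := fun χ => irr_apply_one_int χ.1
  have hxpos : ∀ χ : ↥(principalBlock M G), 0 < (charDegree (χ.1 : G → ℂ) : ℤ) := by
    intro χ
    exact_mod_cast irr_charDegree_pos χ.1
  have hint : ∀ χ : ↥(principalBlock M G), ∃ n : ℤ, (χ.1 : G → ℂ) (t : G) = n := fun χ =>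
    IsCharacter.apply_involution_int (IsIrrCharacter.isCharacter χ.1.2) (t : G) ht2
  have hconjt : ∀ χ : ↥(principalBlock M G),
      conj ((χ.1 : G → ℂ) (t : G)) = (χ.1 : G → ℂ) (t : G) := by
    intro χ
    obtain ⟨n, hn⟩ := hint χ
    rw [hn, map_intCast]
  obtain ⟨y₀, hy₀, hy₀t⟩ := hb.exists_outside_orbit hm2 t
  have hmemY : e ψ₀ ∈ blY e := (mem_blY e (e ψ₀)).mpr ⟨ψ₀, hψ₀, rfl⟩
  have hmem2 : χ₂ ∈ Finset.univ \ blY e := by rw [hX]; simp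
  have hmem3 : χ₃ ∈ Finset.univ \ blY e := by rw [hX]; simp
  have hδ2 : (δ : ℂ) ^ 2 = 1 := by exact_mod_cast hb.rep.delta_sq
  -- values at `t`
  have hv2 : (χ₂.1 : G → ℂ) (t : G) = (a χ₂ : ℂ) :=
    hb.rep.value_nonexceptional hcomm (blX M P) (blC_spec M P) χ₂
      (Finset.mem_sdiff.mp hmem2).2 t ht1
  have hv3 : (χ₃.1 : G → ℂ) (t : G) = (a χ₃ : ℂ) :=
    hb.rep.value_nonexceptional hcomm (blX M P) (blC_spec M P) χ₃
      (Finset.mem_sdiff.mp hmem3).2 t ht1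
  have hvY : ∀ ψ : ↥(P : Subgroup G) →* ℂˣ, ψ ≠ 1 → ((e ψ).1 : G → ℂ) (t : G) =
      (δ : ℂ) * ∑ k ∈ Finset.range 3, (((dualPow β k ψ) t : ℂˣ) : ℂ) := by
    intro ψ hψ
    have h1 := hb.rep.value_exceptional hb.free hm0 (blX M P) (blC_spec M P) ψ hψ t ht1
    rw [hb.free.sum_dualRel_class hm0 ψ hψ (fun ψ' => ((ψ' t : ℂˣ) : ℂ))] at h1
    rw [Int.cast_zero, zero_add] at h1
    exact h1
  -- the relations
  have I1 := hb.rel_regular hM 1 hone ψ₀ hψ₀ h21 h31 h23 hX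
  rw [hx, hx, hx] at I1
  have hno := no_pair_of_mem P hab hfrob hCN β hb.free hb.dictN hb.dictK t y₀ htt hy₀ hy₀t
  have I3 := hb.pair_relation hM hab hfrob (t : G) y₀ hy₀ hno h21 h31 h23 hX
  -- the sum over the non-trivial characters
  have hterm : ∀ ψ ∈ Finset.univ.erase (1 : ↥(P : Subgroup G) →* ℂˣ),
      conj (((e ψ).1 : G → ℂ) (t : G)) ^ 2 / ((e ψ).1 : G → ℂ) 1 * ((ψ y₀ : ℂˣ) : ℂ) =
      (((e ψ₀).1 : G → ℂ) 1)⁻¹ * (3 * ((ψ y₀ : ℂˣ) : ℂ) +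
        2 * ∑ k ∈ Finset.range 3, ((ψ ((β ^ k) t * y₀) : ℂˣ) : ℂ)) := by
    intro ψ hψ
    have hψ1 := Finset.ne_of_mem_erase hψ
    rw [hconjt, hvY ψ hψ1, hb.degree_eq hM ψ ψ₀ hψ1 hψ₀ 1 hone, mul_pow, hδ2, one_mul,
      hb.free.orbit_sum_sq ψ t htt]
    have e2 : ∑ k ∈ Finset.range 3, ((ψ ((β ^ k) t * y₀) : ℂˣ) : ℂ) =
        (∑ k ∈ Finset.range 3, (((dualPow β k ψ) t : ℂˣ) : ℂ)) * ((ψ y₀ : ℂˣ) : ℂ) := by
      rw [Finset.sum_mul]
      apply Finset.sum_congr rfl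
      intro k _
      rw [dualPow_apply, map_mul]
      rfl
    rw [e2, div_eq_inv_mul]
    ring
  have hsumk : ∀ k ∈ Finset.range 3,
      ∑ ψ ∈ Finset.univ.erase (1 : ↥(P : Subgroup G) →* ℂˣ),
        ((ψ ((β ^ k) t * y₀) : ℂˣ) : ℂ) = -1 := by
    intro k _
    apply sum_erase_one_apply hcomm
    intro h
    have hsq : (β ^ k) t * (β ^ k) t = 1 := by rw [← map_mul, htt, map_one]
    apply hy₀t k
    calc y₀ = ((β ^ k) t * (β ^ k) t) * y₀ := by rw [hsq, one_mul]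
      _ = (β ^ k) t * ((β ^ k) t * y₀) := by rw [mul_assoc]
      _ = (β ^ k) t := by rw [h, mul_one]
  have hsum : ∑ ψ ∈ Finset.univ.erase (1 : ↥(P : Subgroup G) →* ℂˣ),
      conj (((e ψ).1 : G → ℂ) (t : G)) ^ 2 / ((e ψ).1 : G → ℂ) 1 * ((ψ y₀ : ℂˣ) : ℂ) =
      (((e ψ₀).1 : G → ℂ) 1)⁻¹ * (-9) := by
    rw [Finset.sum_congr rfl hterm, ← Finset.mul_sum, Finset.sum_add_distrib, ← Finset.mul_sum,
      sum_erase_one_apply hcomm y₀ hy₀, ← Finset.mul_sum, Finset.sum_comm,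
      Finset.sum_congr rfl hsumk]
    simp
    norm_num
  rw [hsum, hb.triv, hconjt χ₂, hconjt χ₃, hv2, hv3, hx χ₂, hx χ₃, hx (e ψ₀)] at I3
  simp only [map_one] at I3
  -- notation
  set x₂ : ℤ := (charDegree (χ₂.1 : G → ℂ) : ℤ) with hx₂def
  set x₃ : ℤ := (charDegree (χ₃.1 : G → ℂ) : ℤ) with hx₃def
  set z : ℤ := (charDegree ((e ψ₀).1 : G → ℂ) : ℤ) with hzdef
  have hx₂ : (x₂ : ℂ) ≠ 0 := Int.cast_ne_zero.mpr (hxpos χ₂).ne'
  have hx₃ : (x₃ : ℂ) ≠ 0 := Int.cast_ne_zero.mpr (hxpos χ₃).ne'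
  have hz : (z : ℂ) ≠ 0 := Int.cast_ne_zero.mpr (hxpos (e ψ₀)).ne'
  have hx₂pos : 0 < x₂ := hxpos χ₂
  have hx₃pos : 0 < x₃ := hxpos χ₃
  have hzpos : 0 < z := hxpos (e ψ₀)
  have I1z : 1 + a χ₂ * x₂ + a χ₃ * x₃ + (-δ) * z = 0 := by
    have : ((1 + a χ₂ * x₂ + a χ₃ * x₃ + (-δ) * z : ℤ) : ℂ) = 0 := by
      push_cast
      linear_combination I1
    exact_mod_cast this
  have ha₂ := hb.apm χ₂ hmem2
  have ha₃ := hb.apm χ₃ hmem3
  have hδ := hb.rep.hδ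
  have I2z : 1 + a χ₂ * a χ₂ + a χ₃ * a χ₃ + (-δ) * (3 * δ) = 0 := by
    rcases ha₂ with h | h <;> rcases ha₃ with h' | h' <;> rcases hδ with h'' | h'' <;>
      rw [h, h', h''] <;> norm_num
  have I3z : x₂ * x₃ * z + a χ₂ * a χ₂ ^ 2 * x₃ * z + a χ₃ * a χ₃ ^ 2 * x₂ * z +
      (-δ) * (3 * δ) ^ 2 * x₂ * x₃ = 0 := by
    have key : ((x₂ : ℂ) * x₃ * z) * ((1 : ℂ) ^ 2 / 1 + (a χ₂ : ℂ) ^ 2 / x₂ * (a χ₂ : ℂ) +
        (a χ₃ : ℂ) ^ 2 / x₃ * (a χ₃ : ℂ) + (δ : ℂ) * ((z : ℂ)⁻¹ * (-9))) =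
        (x₂ : ℂ) * x₃ * z + a χ₂ * (a χ₂ : ℂ) ^ 2 * x₃ * z + a χ₃ * (a χ₃ : ℂ) ^ 2 * x₂ * z +
        (-(δ : ℂ)) * (3 * (δ : ℂ)) ^ 2 * x₂ * x₃ := by
      field_simp
      linear_combination (9 * (x₂ : ℂ) * x₃ * δ) * hδ2
    have : ((x₂ * x₃ * z + a χ₂ * a χ₂ ^ 2 * x₃ * z + a χ₃ * a χ₃ ^ 2 * x₂ * z +
        (-δ) * (3 * δ) ^ 2 * x₂ * x₃ : ℤ) : ℂ) = 0 := by
      push_cast
      rw [← key, I3, mul_zero]
    exact_mod_cast this
  have hne : ∀ χ : ↥(principalBlock M G), χ ≠ χ₁ →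
      (χ.1 : G → ℂ) (t : G) ≠ ((charDegree (χ.1 : G → ℂ) : ℤ) : ℂ) := by
    intro χ hχ h
    have h1 := apply_ne_apply_one_of_normal_closure χ.1 (hb.apply_ne_one χ hχ) (t : G) ht
    apply h1
    rw [h, hx]
  have hu₂ : a χ₂ ≠ x₂ := by
    intro h
    apply hne χ₂ h21
    rw [hv2, h]
  have hu₃ : a χ₃ ≠ x₃ := by
    intro h
    apply hne χ₃ h31
    rw [hv3, h]
  have hu₄ : 3 * δ ≠ z := by
    intro h
    rcases hδ with h'' | h''
    · rw [h''] at h I1z I3z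
      rw [← h] at I1z I3z
      rcases ha₂ with h2 | h2 <;> rcases ha₃ with h3 | h3
      · rw [h2, h3] at I1z
        have : x₂ = 1 := by omega
        exact hu₂ (by rw [h2, this])
      · rw [h2, h3] at I1z I3z
        nlinarith [mul_pos hx₂pos hx₃pos]
      · rw [h2, h3] at I1z I3z
        nlinarith [mul_pos hx₂pos hx₃pos]
      · rw [h2, h3] at I1z
        omega
    · rw [h''] at h
      omega
  have hδ' : -δ = 1 ∨ -δ = -1 := by
    rcases hδ with h | h <;> rw [h] <;> norm_num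
  exact bl3_algebra x₂ x₃ z (a χ₂) (a χ₃) (3 * δ) (a χ₂) (a χ₃) (-δ) hx₂pos hx₃pos hzpos
    ha₂ ha₃ hδ' hu₂ hu₃ hu₄ I1z I2z I3z

end even

end Cfsg.Agent.CharLib
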