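import Mathlib
import Cfsg.Agent.Lib.Lead.BrLeo24

/-!
lead: Brauer–Leonard (S4721), part 25: assembly of the case `m = 3`.
-/

set_option autoImplicit false

namespace Cfsg.Agent.CharLib

open Cfsg Cfsg.Agent.Lib.Helper24 Cfsg.Agent.Lib.Helper6
open scoped ComplexConjugate

universe u

section assembly3

variable {G : Type u} [Group G] [Finite G]

set_option maxHeartbeats 3200000 in
theorem brauer_leonard_three (p : ℕ) [Fact p.Prime] (M : Ideal Cfsg.AlgInt)
    (hM : Cfsg.IsPModular p M) (P : Sylow p G) (hab : IsMulCommutative P)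
    (hCN : (Subgroup.centralizer ((P : Subgroup G) : Set G)).relIndex
      (Subgroup.normalizer ((P : Subgroup G) : Set G)) = 3)
    (hcyc : ∃ g : G, g ∈ Subgroup.normalizer ((P : Subgroup G) : Set G) ∧
      Subgroup.centralizer ((P : Subgroup G) : Set G) ⊔ Subgroup.zpowers g =
        Subgroup.normalizer ((P : Subgroup G) : Set G))
    (hm2 : 3 + 1 < Nat.card P)
    (hfrob : ∀ y : G, y ∈ (P : Subgroup G) → y ≠ 1 →
      Subgroup.centralizer ({y} : Set G) ⊓ Subgroup.normalizer ((P : Subgroup G) : Set G) =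
        Subgroup.centralizer ((P : Subgroup G) : Set G)) :
    ∃ (X Y : Set (Cfsg.IrrCharacter G)), Cfsg.principalBlock M G = X ∪ Y ∧ Disjoint X Y ∧
      Nat.card X = 3 ∧ Nat.card Y = (Nat.card P - 1) / 3 ∧
      (∃ χ₁ ∈ X, (χ₁ : G → ℂ) = fun _ => 1) ∧
      ∃ (a : Cfsg.IrrCharacter G → ℤ) (δ : ℤ)
        (ζ : (↥(P : Subgroup G) →* ℂˣ) → Cfsg.IrrCharacter G), (δ = 1 ∨ δ = -1) ∧
        (∀ χ ∈ X, (a χ = 1 ∨ a χ = -1) ∧ ∀ z y : G, Cfsg.IsPPart p z y → y ∈ (P : Subgroup G) →
          y ≠ 1 → (χ : G → ℂ) z = (a χ : ℂ)) ∧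
        (∀ ψ : ↥(P : Subgroup G) →* ℂˣ, ψ ≠ 1 → ζ ψ ∈ Y) ∧
        (∀ η ∈ Y, ∃ ψ : ↥(P : Subgroup G) →* ℂˣ, ψ ≠ 1 ∧ ζ ψ = η) ∧
        (∀ ψ ψ' : ↥(P : Subgroup G) →* ℂˣ, ψ ≠ 1 →
          (∃ n : G, n ∈ Subgroup.normalizer ((P : Subgroup G) : Set G) ∧
            ∀ w w' : ↥(P : Subgroup G), (w' : G) = n * w * n⁻¹ → ψ' w' = ψ w) → ζ ψ' = ζ ψ) ∧
        (∀ ψ : ↥(P : Subgroup G) →* ℂˣ, ψ ≠ 1 → ∀ (z : G) (y : ↥(P : Subgroup G)),
          Cfsg.IsPPart p z (y : G) → (y : G) ≠ 1 →
          (ζ ψ : G → ℂ) z = (δ : ℂ) *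
            ∑ᶠ ψ' ∈ {ψ' : ↥(P : Subgroup G) →* ℂˣ |
              ∃ n : G, n ∈ Subgroup.normalizer ((P : Subgroup G) : Set G) ∧
                ∀ w w' : ↥(P : Subgroup G), (w' : G) = n * w * n⁻¹ → ψ' w' = ψ w},
              ((ψ' y : ℂˣ) : ℂ)) ∧
        ((∃ t : G, orderOf t = 2 ∧ ∀ K : Subgroup G, K.Normal → t ∈ K → K = ⊤) →
          Nat.card {χ : Cfsg.IrrCharacter G // χ ∈ X ∧ (χ : G → ℂ) ≠ (fun _ => 1) ∧ a χ = -1} +
            (if δ = 1 then 1 else 0) = 2 ∧
          ∀ η ∈ Y, IsSquare (Cfsg.charDegree (η : G → ℂ) *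
            ∏ᶠ χ ∈ {χ : Cfsg.IrrCharacter G | χ ∈ X ∧ (χ : G → ℂ) ≠ fun _ => 1},
              Cfsg.charDegree (χ : G → ℂ))) := by
  classical
  have hm0 : 0 < 3 := by norm_num
  have hfrob' : BLFrob P := hfrob
  letI : Fintype ↥(P : Subgroup G) := Fintype.ofFinite _
  letI : Fintype (↥(P : Subgroup G) →* ℂˣ) := Fintype.ofFinite _
  letI : Fintype ↥(principalBlock M G) := Fintype.ofFinite _
  obtain ⟨β, δ, a, e, hb⟩ := exists_bl3 M hM P hab hm2 hCN hcyc hfrob'
  set χ₁ : ↥(principalBlock M G) := ⟨trivIrr G, trivIrr_mem_principalBlock hM⟩ with hχ₁def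
  have hfree := hb.free
  have hrep := hb.rep
  have hcomm := hfree.comm
  -- dictionary for the relation on linear characters
  have hrel : ∀ ψ ψ' : ↥(P : Subgroup G) →* ℂˣ,
      (∃ n : G, n ∈ Subgroup.normalizer ((P : Subgroup G) : Set G) ∧
        ∀ w w' : ↥(P : Subgroup G), (w' : G) = n * w * n⁻¹ → ψ' w' = ψ w) ↔ DualRel β ψ ψ' := by
    intro ψ ψ'
    constructor
    · rintro ⟨n, hn, hn'⟩
      obtain ⟨k, hk⟩ := hb.dictN n hn
      refine ⟨k, ?_⟩
      apply MonoidHom.ext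
      intro w
      rw [dualPow_apply]
      exact hn' w ((β ^ k) w) (hk w)
    · rintro ⟨k, hk⟩
      obtain ⟨n, hn, hn'⟩ := hb.dictK k
      refine ⟨n, hn, ?_⟩
      intro w w' hw
      have h1 : w' = (β ^ k) w := Subtype.ext (by rw [hw, hn' w])
      rw [h1, ← dualPow_apply, hk]
  have hcardY := hrep.card_blY hfree hm0
  have hdiv : (Nat.card P - 1) / 3 = (blY e).card := by
    rw [Nat.card_eq_fintype_card, ← hcardY]
    exact Nat.mul_div_cancel _ hm0
  have hval : ∀ χ : ↥(principalBlock M G), χ ∉ blY e → ∀ y : ↥(P : Subgroup G), y ≠ 1 →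
      (χ.1 : G → ℂ) (y : G) = (a χ : ℂ) := by
    intro χ hχ y hy
    exact hrep.value_nonexceptional hcomm (blX M P) (blC_spec M P) χ hχ y hy
  let a' : IrrCharacter G → ℤ := fun χ => if h : χ ∈ principalBlock M G then a ⟨χ, h⟩ else 0
  have ha' : ∀ χ : ↥(principalBlock M G), a' χ.1 = a χ := by
    intro χ
    simp only [a']
    rw [dif_pos χ.2]
  have hinj : Function.Injective (Subtype.val : ↥(principalBlock M G) → IrrCharacter G) :=
    Subtype.val_injective
  have hcardP : 1 < Fintype.card ↥(P : Subgroup G) := by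
    rw [← Nat.card_eq_fintype_card]; omega
  have hcardD : 1 < Fintype.card (↥(P : Subgroup G) →* ℂˣ) := by
    rw [card_dual hcomm]; exact hcardP
  obtain ⟨ψ₀, hψ₀⟩ := Fintype.exists_ne_of_one_lt_card hcardD (1 : ↥(P : Subgroup G) →* ℂˣ)
  refine ⟨Subtype.val '' (↑(Finset.univ \ blY e : Finset ↥(principalBlock M G)) :
      Set ↥(principalBlock M G)),
    Subtype.val '' (↑(blY e : Finset ↥(principalBlock M G)) : Set ↥(principalBlock M G)),
    ?_, ?_, ?_, ?_, ?_, a', δ, fun ψ => (e ψ).1, hrep.hδ, ?_, ?_, ?_, ?_, ?_, ?_⟩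
  · -- union
    ext χ
    constructor
    · intro hχ
      by_cases h : (⟨χ, hχ⟩ : ↥(principalBlock M G)) ∈ blY e
      · exact Or.inr ⟨⟨χ, hχ⟩, Finset.mem_coe.mpr h, rfl⟩
      · exact Or.inl ⟨⟨χ, hχ⟩, Finset.mem_coe.mpr
          (Finset.mem_sdiff.mpr ⟨Finset.mem_univ _, h⟩), rfl⟩
    · rintro (⟨χ', -, rfl⟩ | ⟨χ', -, rfl⟩)
      · exact χ'.2
      · exact χ'.2
  · -- disjoint
    rw [Set.disjoint_left]
    rintro χ ⟨χ', h1, rfl⟩ ⟨χ'', h2, h3⟩
    have h4 : χ'' = χ' := hinj h3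
    rw [h4] at h2
    exact (Finset.mem_sdiff.mp (Finset.mem_coe.mp h1)).2 (Finset.mem_coe.mp h2)
  · rw [Nat.card_coe_set_eq, Set.ncard_image_of_injective _ hinj, Set.ncard_coe_finset, hb.cardX]
  · rw [Nat.card_coe_set_eq, Set.ncard_image_of_injective _ hinj, Set.ncard_coe_finset, hdiv]
  · -- the trivial character
    exact ⟨trivIrr G, ⟨χ₁, Finset.mem_coe.mpr
      (Finset.mem_sdiff.mpr ⟨Finset.mem_univ _, hb.trivX⟩), rfl⟩, rfl⟩
  · -- values on `X`
    rintro χ ⟨χ', h1, rfl⟩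
    have h2 : χ' ∈ Finset.univ \ blY e := Finset.mem_coe.mp h1
    rw [ha' χ']
    refine ⟨hb.apm χ' h2, ?_⟩
    intro z y hzy hy hy1
    rw [hfrob'.apply_section hM hab χ'.1 χ'.2 z y hzy hy hy1]
    exact hval χ' (Finset.mem_sdiff.mp h2).2 ⟨y, hy⟩ (fun h => hy1 (congrArg Subtype.val h))
  · intro ψ hψ
    exact ⟨e ψ, Finset.mem_coe.mpr ((mem_blY e (e ψ)).mpr ⟨ψ, hψ, rfl⟩), rfl⟩
  · rintro η ⟨η', h1, rfl⟩
    obtain ⟨ψ, hψ, hψe⟩ := (mem_blY e η').mp (Finset.mem_coe.mp h1)
    exact ⟨ψ, hψ, congrArg Subtype.val hψe⟩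
  · intro ψ ψ' hψ hr
    have h1 := (hrel ψ ψ').mp hr
    have hψ' := dualRel_ne_one h1 hψ
    have h2 := (hrep.erel ψ ψ' hψ hψ').mpr h1
    exact (congrArg Subtype.val h2).symm
  · -- the values of the exceptional characters
    intro ψ hψ z y hzy hy1
    have hy1' : y ≠ 1 := fun h => hy1 (by rw [h]; rfl)
    have h1 := hfrob'.apply_section hM hab (e ψ).1 (e ψ).2 z (y : G) hzy y.2 hy1
    have h2 := hrep.value_exceptional hfree hm0 (blX M P) (blC_spec M P) ψ hψ y hy1'
    have h3 : {ψ' : ↥(P : Subgroup G) →* ℂˣ |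
        ∃ n : G, n ∈ Subgroup.normalizer ((P : Subgroup G) : Set G) ∧
          ∀ w w' : ↥(P : Subgroup G), (w' : G) = n * w * n⁻¹ → ψ' w' = ψ w} =
        ((Finset.univ.filter (fun ψ' : ↥(P : Subgroup G) →* ℂˣ => DualRel β ψ ψ') :
          Finset _) : Set _) := by
      ext ψ'
      rw [Set.mem_setOf_eq, Finset.mem_coe, Finset.mem_filter, hrel ψ ψ']
      simp
    rw [h3, finsum_mem_coe_finset]
    rw [Int.cast_zero, zero_add] at h2
    rw [h1]
    exact h2
  · -- the involution part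
    rintro ⟨t, ht2, ht⟩
    obtain ⟨χ₂, χ₃, h21, h31, h23, hX⟩ := hb.exists_two
    have key : ∀ ψ : ↥(P : Subgroup G) →* ℂˣ, ψ ≠ 1 →
        ((if a χ₂ = -1 then 1 else 0) + (if a χ₃ = -1 then 1 else 0) +
          (if -δ = -1 then 1 else 0) = 2) ∧
        IsSquare ((charDegree (χ₂.1 : G → ℂ) : ℤ) * (charDegree (χ₃.1 : G → ℂ) : ℤ) *
          (charDegree ((e ψ).1 : G → ℂ) : ℤ)) := by
      intro ψ hψ
      by_cases hp2 : p = 2
      · -- conjugate `t` into `P`
        have hpg : IsPGroup p (Subgroup.zpowers t) := by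
          apply Cfsg.Agent.Lib.Helper13.isPGroup_zpowers_of_orderOf p 1
          rw [ht2, hp2, pow_one]
        obtain ⟨g, hg⟩ := Cfsg.Agent.Lib.Helper13.exists_conj_mem_sylow P _ hpg
        have htP := hg t (Subgroup.mem_zpowers t)
        have htt : t * t = 1 := by
          have := pow_orderOf_eq_one t
          rw [ht2, pow_two] at this
          exact this
        have ht1 : t ≠ 1 := by
          intro h
          rw [h, orderOf_one] at ht2
          norm_num at ht2
        have htt' : (⟨g * t * g⁻¹, htP⟩ : ↥(P : Subgroup G)) * ⟨g * t * g⁻¹, htP⟩ = 1 := by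
          apply Subtype.ext
          show g * t * g⁻¹ * (g * t * g⁻¹) = 1
          calc g * t * g⁻¹ * (g * t * g⁻¹) = g * (t * t) * g⁻¹ := by group
            _ = 1 := by rw [htt]; group
        have ht1' : (⟨g * t * g⁻¹, htP⟩ : ↥(P : Subgroup G)) ≠ 1 := by
          intro h
          have h5 : g * t * g⁻¹ = 1 := congrArg Subtype.val h
          apply ht1
          calc t = g⁻¹ * (g * t * g⁻¹) * g := by group
            _ = 1 := by rw [h5]; group
        have ht' : ∀ K : Subgroup G, K.Normal →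
            ((⟨g * t * g⁻¹, htP⟩ : ↥(P : Subgroup G)) : G) ∈ K → K = ⊤ := by
          intro K hK hmem
          apply ht K hK
          have h5 := hK.conj_mem _ hmem g⁻¹
          have h6 : g⁻¹ * (g * t * g⁻¹) * g⁻¹⁻¹ = t := by group
          rw [← h6]
          exact h5
        exact hb.involution_mem hM hab hfrob' hCN hm2 _ htt' ht1' ht' h21 h31 h23 hX ψ hψ
      · exact hb.involution_odd hM hab hfrob' hCN hm2 hp2 t ht2 ht h21 h31 h23 hX ψ hψ
    have hmem2 : χ₂ ∈ Finset.univ \ blY e := by rw [hX]; simp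
    have hmem3 : χ₃ ∈ Finset.univ \ blY e := by rw [hX]; simp
    constructor
    · -- the count
      have hset : {χ : IrrCharacter G | χ ∈ Subtype.val ''
          (↑(Finset.univ \ blY e : Finset ↥(principalBlock M G)) : Set ↥(principalBlock M G)) ∧
          (χ : G → ℂ) ≠ (fun _ => 1) ∧ a' χ = -1} =
          Subtype.val '' (↑(({χ₂, χ₃} : Finset ↥(principalBlock M G)).filter
            (fun χ => a χ = -1)) : Set ↥(principalBlock M G)) := by
        ext χ
        constructor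
        · rintro ⟨⟨χ', h1, rfl⟩, h2, h3⟩
          have h4 : χ' ∈ Finset.univ \ blY e := Finset.mem_coe.mp h1
          rw [hX] at h4
          have h5 : χ' ≠ χ₁ := by
            intro h
            apply h2
            rw [h, hb.triv]
          refine ⟨χ', ?_, rfl⟩
          rw [Finset.mem_coe, Finset.mem_filter]
          refine ⟨?_, by rw [← ha' χ']; exact h3⟩
          simp only [Finset.mem_insert, Finset.mem_singleton] at h4 ⊢
          rcases h4 with h4 | h4 | h4
          · exact absurd h4 h5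
          · exact Or.inl h4
          · exact Or.inr h4
        · rintro ⟨χ', h1, rfl⟩
          rw [Finset.mem_coe, Finset.mem_filter] at h1
          obtain ⟨h1, h2⟩ := h1
          have h3 : χ' ∈ Finset.univ \ blY e ∧ χ' ≠ χ₁ := by
            simp only [Finset.mem_insert, Finset.mem_singleton] at h1
            rcases h1 with h1 | h1
            · rw [h1]; exact ⟨hmem2, h21⟩
            · rw [h1]; exact ⟨hmem3, h31⟩
          exact ⟨⟨χ', Finset.mem_coe.mpr h3.1, rfl⟩, hb.apply_ne_one χ' h3.2,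
            by rw [ha' χ']; exact h2⟩
      have hcard : Nat.card {χ : IrrCharacter G // χ ∈ Subtype.val ''
          (↑(Finset.univ \ blY e : Finset ↥(principalBlock M G)) : Set ↥(principalBlock M G)) ∧
          (χ : G → ℂ) ≠ (fun _ => 1) ∧ a' χ = -1} =
          (if a χ₂ = -1 then 1 else 0) + (if a χ₃ = -1 then 1 else 0) := by
        have h1 : Nat.card {χ : IrrCharacter G // χ ∈ Subtype.val ''
            (↑(Finset.univ \ blY e : Finset ↥(principalBlock M G)) : Set ↥(principalBlock M G)) ∧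
            (χ : G → ℂ) ≠ (fun _ => 1) ∧ a' χ = -1} =
            Nat.card ↥({χ : IrrCharacter G | χ ∈ Subtype.val ''
            (↑(Finset.univ \ blY e : Finset ↥(principalBlock M G)) : Set ↥(principalBlock M G)) ∧
            (χ : G → ℂ) ≠ (fun _ => 1) ∧ a' χ = -1}) := rfl
        rw [h1, hset, Nat.card_coe_set_eq, Set.ncard_image_of_injective _ hinj,
          Set.ncard_coe_finset, Finset.card_filter, Finset.sum_pair h23]
      rw [hcard]
      have h1 := (key ψ₀ hψ₀).1
      have h2 : (if -δ = -1 then 1 else 0 : ℕ) = if δ = 1 then 1 else 0 := by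
        by_cases hδ : δ = 1
        · rw [if_pos hδ, if_pos (by rw [hδ])]
        · rw [if_neg hδ, if_neg (fun h => hδ (neg_inj.mp h))]
      rw [← h2]
      exact h1
    · -- the square
      rintro η ⟨η', h1, rfl⟩
      obtain ⟨ψ, hψ, hψe⟩ := (mem_blY e η').mp (Finset.mem_coe.mp h1)
      have hset : {χ : IrrCharacter G | χ ∈ Subtype.val ''
          (↑(Finset.univ \ blY e : Finset ↥(principalBlock M G)) : Set ↥(principalBlock M G)) ∧
          (χ : G → ℂ) ≠ fun _ => 1} =
          Subtype.val '' (↑({χ₂, χ₃} : Finset ↥(principalBlock M G)) :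
            Set ↥(principalBlock M G)) := by
        ext χ
        constructor
        · rintro ⟨⟨χ', h1, rfl⟩, h2⟩
          have h4 : χ' ∈ Finset.univ \ blY e := Finset.mem_coe.mp h1
          rw [hX] at h4
          have h5 : χ' ≠ χ₁ := by
            intro h
            apply h2
            rw [h, hb.triv]
          refine ⟨χ', ?_, rfl⟩
          rw [Finset.mem_coe]
          simp only [Finset.mem_insert, Finset.mem_singleton] at h4 ⊢
          rcases h4 with h4 | h4 | h4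
          · exact absurd h4 h5
          · exact Or.inl h4
          · exact Or.inr h4
        · rintro ⟨χ', h1, rfl⟩
          rw [Finset.mem_coe] at h1
          have h3 : χ' ∈ Finset.univ \ blY e ∧ χ' ≠ χ₁ := by
            simp only [Finset.mem_insert, Finset.mem_singleton] at h1
            rcases h1 with h1 | h1
            · rw [h1]; exact ⟨hmem2, h21⟩
            · rw [h1]; exact ⟨hmem3, h31⟩
          exact ⟨⟨χ', Finset.mem_coe.mpr h3.1, rfl⟩, hb.apply_ne_one χ' h3.2⟩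
      rw [hset, finprod_mem_image hinj.injOn, finprod_mem_coe_finset, Finset.prod_pair h23]
      have h2 := (key ψ hψ).2
      rw [hψe] at h2
      rw [← Int.isSquare_natCast_iff]
      push_cast
      have e1 : (charDegree (η'.1 : G → ℂ) : ℤ) * ((charDegree (χ₂.1 : G → ℂ) : ℤ) *
          (charDegree (χ₃.1 : G → ℂ) : ℤ)) =
          (charDegree (χ₂.1 : G → ℂ) : ℤ) * (charDegree (χ₃.1 : G → ℂ) : ℤ) *
          (charDegree (η'.1 : G → ℂ) : ℤ) := by ring
      rw [e1]
      exact h2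

end assembly3

end Cfsg.Agent.CharLib
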