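import Mathlib
import Cfsg.Agent.Lib.Lead.BrLeo25
import Cfsg.Agent.Lib.Helper6.Knoerr

/-!
lead: Brauer–Leonard, part 26: degree congruences and the interface theorem for S0949: when
`P` is an abelian Sylow 2-subgroup of order at least 16 with `[N_G(P):C_G(P)] = 3` acting freely,
every involution lies in a proper normal subgroup.
-/

set_option autoImplicit false

namespace Cfsg.Agent.CharLib

open Cfsg Cfsg.Agent.Lib.Helper24 Cfsg.Agent.Lib.Helper6
open scoped ComplexConjugate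

universe u

section congr

variable {G : Type u} [Group G] [Finite G] {p : ℕ} [hpp : Fact p.Prime]
variable {M : Ideal AlgInt} {P : Sylow p G} [Fintype ↥(P : Subgroup G)]
  [Fintype (↥(P : Subgroup G) →* ℂˣ)] [Fintype ↥(principalBlock M G)]
  [DecidableEq ↥(principalBlock M G)]
variable {β : ↥(P : Subgroup G) ≃* ↥(P : Subgroup G)} {δ : ℤ} {a : ↥(principalBlock M G) → ℤ}
  {e : (↥(P : Subgroup G) →* ℂˣ) → ↥(principalBlock M G)} {χ₁ : ↥(principalBlock M G)}

/-- The sum of a principal block character over `P` is a multiple of `|P|`. -/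
theorem sum_blX_eq (χ : ↥(principalBlock M G)) :
    ∃ n : ℕ, ∑ y : ↥(P : Subgroup G), blX M P χ y = (Fintype.card ↥(P : Subgroup G) : ℂ) * n := by
  obtain ⟨n, hn⟩ := multP_blX_nat M P χ 1
  refine ⟨n, ?_⟩
  rw [← hn]
  unfold multP
  have hN : (Fintype.card ↥(P : Subgroup G) : ℂ) ≠ 0 := by
    exact_mod_cast Fintype.card_ne_zero
  rw [← mul_assoc, mul_inv_cancel₀ hN, one_mul]
  apply Finset.sum_congr rfl
  intro y _
  simp

theorem BL3.degree_congr_X (hb : BL3 M P β δ a e χ₁) (χ : ↥(principalBlock M G))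
    (hχ : χ ∉ blY e) :
    (Fintype.card ↥(P : Subgroup G) : ℤ) ∣ (charDegree (χ.1 : G → ℂ) : ℤ) - a χ := by
  classical
  obtain ⟨n, hn⟩ := sum_blX_eq (M := M) (P := P) χ
  rw [← Finset.add_sum_erase Finset.univ _ (Finset.mem_univ (1 : ↥(P : Subgroup G)))] at hn
  have h1 : ∀ y ∈ Finset.univ.erase (1 : ↥(P : Subgroup G)), blX M P χ y = (a χ : ℂ) := by
    intro y hy
    exact hb.rep.value_nonexceptional hb.free.comm (blX M P) (blC_spec M P) χ hχ y
      (Finset.ne_of_mem_erase hy)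
  rw [Finset.sum_congr rfl h1, Finset.sum_const, Finset.card_erase_of_mem (Finset.mem_univ _),
    Finset.card_univ, nsmul_eq_mul] at hn
  have h2 : blX M P χ 1 = ((charDegree (χ.1 : G → ℂ) : ℤ) : ℂ) := irr_apply_one_int χ.1
  rw [h2] at hn
  have hpos : 1 ≤ Fintype.card ↥(P : Subgroup G) := Fintype.card_pos
  refine ⟨(n : ℤ) - a χ, ?_⟩
  have h3 : (((charDegree (χ.1 : G → ℂ) : ℤ) - a χ : ℤ) : ℂ) =
      (((Fintype.card ↥(P : Subgroup G) : ℤ) * ((n : ℤ) - a χ) : ℤ) : ℂ) := by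
    push_cast
    rw [Nat.cast_sub hpos] at hn
    push_cast at hn
    linear_combination hn
  exact_mod_cast h3

theorem BL3.degree_congr_Y (hb : BL3 M P β δ a e χ₁) (ψ : ↥(P : Subgroup G) →* ℂˣ)
    (hψ : ψ ≠ 1) :
    (Fintype.card ↥(P : Subgroup G) : ℤ) ∣ (charDegree ((e ψ).1 : G → ℂ) : ℤ) - 3 * δ := by
  classical
  have hm0 : 0 < 3 := by norm_num
  obtain ⟨n, hn⟩ := sum_blX_eq (M := M) (P := P) (e ψ)
  rw [← Finset.add_sum_erase Finset.univ _ (Finset.mem_univ (1 : ↥(P : Subgroup G)))] at hn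
  have h1 : ∀ y ∈ Finset.univ.erase (1 : ↥(P : Subgroup G)), blX M P (e ψ) y =
      (δ : ℂ) * ∑ k ∈ Finset.range 3, ((ψ ((β ^ k) y) : ℂˣ) : ℂ) := by
    intro y hy
    have h2 := hb.rep.value_exceptional hb.free hm0 (blX M P) (blC_spec M P) ψ hψ y
      (Finset.ne_of_mem_erase hy)
    rw [hb.free.sum_dualRel_class hm0 ψ hψ (fun ψ' => ((ψ' y : ℂˣ) : ℂ)), Int.cast_zero,
      zero_add] at h2
    exact h2
  have h3 : ∀ k ∈ Finset.range 3, ∑ y ∈ Finset.univ.erase (1 : ↥(P : Subgroup G)),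
      ((ψ ((β ^ k) y) : ℂˣ) : ℂ) = -1 := by
    intro k _
    rw [Finset.sum_erase_eq_sub (Finset.mem_univ _)]
    have h4 : ∑ y : ↥(P : Subgroup G), ((ψ ((β ^ k) y) : ℂˣ) : ℂ) =
        ∑ y : ↥(P : Subgroup G), ((ψ y : ℂˣ) : ℂ) :=
      Equiv.sum_comp (β ^ k).toEquiv (fun y => ((ψ y : ℂˣ) : ℂ))
    have h5 := sum_hom_eq ψ
    rw [if_neg hψ] at h5
    rw [h4, h5, map_one, map_one]
    simp
  rw [Finset.sum_congr rfl h1, ← Finset.mul_sum, Finset.sum_comm, Finset.sum_congr rfl h3,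
    Finset.sum_const, Finset.card_range] at hn
  have h2 : blX M P (e ψ) 1 = ((charDegree ((e ψ).1 : G → ℂ) : ℤ) : ℂ) :=
    irr_apply_one_int (e ψ).1
  rw [h2] at hn
  refine ⟨(n : ℤ), ?_⟩
  have h6 : (((charDegree ((e ψ).1 : G → ℂ) : ℤ) - 3 * δ : ℤ) : ℂ) =
      (((Fintype.card ↥(P : Subgroup G) : ℤ) * (n : ℤ) : ℤ) : ℂ) := by
    push_cast
    rw [← hn]
    simp
    ring
  exact_mod_cast h6

end congr

section interface

variable {G : Type u} [Group G] [Finite G]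

theorem exists_cyc_of_relIndex_three (C N : Subgroup G) (hCN : C ≤ N) (h3 : C.relIndex N = 3) :
    ∃ g : G, g ∈ N ∧ C ⊔ Subgroup.zpowers g = N := by
  have hex : ∃ g : G, g ∈ N ∧ g ∉ C := by
    by_contra hcon
    push_neg at hcon
    have : N ≤ C := fun g hg => hcon g hg
    rw [Subgroup.relIndex_eq_one.mpr this] at h3
    norm_num at h3
  obtain ⟨g, hgN, hgC⟩ := hex
  refine ⟨g, hgN, ?_⟩
  have hK1 : C ≤ C ⊔ Subgroup.zpowers g := le_sup_left
  have hK2 : C ⊔ Subgroup.zpowers g ≤ N := sup_le hCN (by rw [Subgroup.zpowers_le]; exact hgN)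
  have hmul := Subgroup.relIndex_mul_relIndex C (C ⊔ Subgroup.zpowers g) N hK1 hK2
  rw [h3] at hmul
  have hd : C.relIndex (C ⊔ Subgroup.zpowers g) ∣ 3 := ⟨_, hmul.symm⟩
  rcases (Nat.dvd_prime Nat.prime_three).mp hd with h1 | h1
  · exfalso
    have h2 := Subgroup.relIndex_eq_one.mp h1
    apply hgC
    apply h2
    exact (le_sup_right : Subgroup.zpowers g ≤ C ⊔ Subgroup.zpowers g) (Subgroup.mem_zpowers g)
  · rw [h1] at hmul
    have h2 : (C ⊔ Subgroup.zpowers g).relIndex N = 1 := by omega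
    exact le_antisymm hK2 (Subgroup.relIndex_eq_one.mp h2)

theorem not_isSquare_of_mod_sixteen (n : ℤ) (h : (n : ZMod 16) = 13) : ¬ IsSquare n := by
  rintro ⟨r, hr⟩
  have h1 : ((r : ZMod 16)) * (r : ZMod 16) = 13 := by
    rw [← h, hr]
    push_cast
    rfl
  have h2 : ∀ s : ZMod 16, s * s ≠ 13 := by decide
  exact h2 _ h1

set_option maxHeartbeats 1600000 in
/-- The interface theorem for S0949. -/
theorem exists_proper_normal_of_involution (P : Sylow 2 G)
    (hab : IsMulCommutative P) (h16 : 16 ≤ Nat.card P)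
    (hCN : (Subgroup.centralizer ((P : Subgroup G) : Set G)).relIndex
      (Subgroup.normalizer ((P : Subgroup G) : Set G)) = 3)
    (hfrob : ∀ y : G, y ∈ (P : Subgroup G) → y ≠ 1 →
      Subgroup.centralizer ({y} : Set G) ⊓ Subgroup.normalizer ((P : Subgroup G) : Set G) =
        Subgroup.centralizer ((P : Subgroup G) : Set G))
    (t : G) (ht2 : orderOf t = 2) :
    ∃ K : Subgroup G, K.Normal ∧ t ∈ K ∧ K ≠ ⊤ := by
  classical
  by_contra hcon
  push_neg at hcon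
  haveI : Fact (Nat.Prime 2) := ⟨Nat.prime_two⟩
  obtain ⟨M, hM⟩ := exists_isPModular 2
  have hcyc := exists_cyc_of_relIndex_three _ _
    (Subgroup.centralizer_le_normalizer ((P : Subgroup G) : Set G)) hCN
  have hm2 : 3 + 1 < Nat.card P := by omega
  have hfrob' : BLFrob P := hfrob
  letI : Fintype ↥(P : Subgroup G) := Fintype.ofFinite _
  letI : Fintype (↥(P : Subgroup G) →* ℂˣ) := Fintype.ofFinite _
  letI : Fintype ↥(principalBlock M G) := Fintype.ofFinite _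
  obtain ⟨β, δ, a, e, hb⟩ := exists_bl3 M hM P hab hm2 hCN hcyc hfrob'
  obtain ⟨χ₂, χ₃, h21, h31, h23, hX⟩ := hb.exists_two
  have hcardP : 1 < Fintype.card ↥(P : Subgroup G) := by
    rw [← Nat.card_eq_fintype_card]; omega
  have hcardD : 1 < Fintype.card (↥(P : Subgroup G) →* ℂˣ) := by
    rw [card_dual hb.free.comm]; exact hcardP
  obtain ⟨ψ₀, hψ₀⟩ := Fintype.exists_ne_of_one_lt_card hcardD (1 : ↥(P : Subgroup G) →* ℂˣ)
  -- conjugate `t` into `P`
  have hpg : IsPGroup 2 (Subgroup.zpowers t) := by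
    apply Cfsg.Agent.Lib.Helper13.isPGroup_zpowers_of_orderOf 2 1
    rw [ht2, pow_one]
  obtain ⟨g, hg⟩ := Cfsg.Agent.Lib.Helper13.exists_conj_mem_sylow P _ hpg
  have htP := hg t (Subgroup.mem_zpowers t)
  have htt : t * t = 1 := by
    have := pow_orderOf_eq_one t
    rw [ht2, pow_two] at this
    exact this
  have ht1 : t ≠ 1 := by
    intro h
    rw [h, orderOf_one] at ht2
    norm_num at ht2
  have htt' : (⟨g * t * g⁻¹, htP⟩ : ↥(P : Subgroup G)) * ⟨g * t * g⁻¹, htP⟩ = 1 := by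
    apply Subtype.ext
    show g * t * g⁻¹ * (g * t * g⁻¹) = 1
    calc g * t * g⁻¹ * (g * t * g⁻¹) = g * (t * t) * g⁻¹ := by group
      _ = 1 := by rw [htt]; group
  have ht1' : (⟨g * t * g⁻¹, htP⟩ : ↥(P : Subgroup G)) ≠ 1 := by
    intro h
    have h5 : g * t * g⁻¹ = 1 := congrArg Subtype.val h
    apply ht1
    calc t = g⁻¹ * (g * t * g⁻¹) * g := by group
      _ = 1 := by rw [h5]; group
  have ht' : ∀ K : Subgroup G, K.Normal →
      ((⟨g * t * g⁻¹, htP⟩ : ↥(P : Subgroup G)) : G) ∈ K → K = ⊤ := by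
    intro K hK hmem
    apply hcon K hK
    have h5 := hK.conj_mem _ hmem g⁻¹
    have h6 : g⁻¹ * (g * t * g⁻¹) * g⁻¹⁻¹ = t := by group
    rw [← h6]
    exact h5
  obtain ⟨hcount, hsq⟩ := hb.involution_mem hM hab hfrob' hCN hm2 _ htt' ht1' ht' h21 h31 h23 hX
    ψ₀ hψ₀
  -- the congruences modulo 16
  have hmem2 : χ₂ ∈ Finset.univ \ blY e := by rw [hX]; simp
  have hmem3 : χ₃ ∈ Finset.univ \ blY e := by rw [hX]; simp
  have c2 := hb.degree_congr_X χ₂ (Finset.mem_sdiff.mp hmem2).2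
  have c3 := hb.degree_congr_X χ₃ (Finset.mem_sdiff.mp hmem3).2
  have c4 := hb.degree_congr_Y ψ₀ hψ₀
  have h16' : (16 : ℤ) ∣ (Fintype.card ↥(P : Subgroup G) : ℤ) := by
    have h1 : Nat.card P = 2 ^ (Nat.card G).factorization 2 := P.card_eq_multiplicity
    rw [← Nat.card_eq_fintype_card, h1]
    have h2 : 4 ≤ (Nat.card G).factorization 2 := by
      by_contra hlt
      push_neg at hlt
      have : 2 ^ (Nat.card G).factorization 2 ≤ 2 ^ 3 :=
        Nat.pow_le_pow_right (by norm_num) (by omega)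
      rw [h1] at h16
      omega
    have : (2 : ℤ) ^ 4 ∣ 2 ^ (Nat.card G).factorization 2 := pow_dvd_pow 2 h2
    push_cast
    exact this
  have z2 : ((charDegree (χ₂.1 : G → ℂ) : ℤ) : ZMod 16) = ((a χ₂ : ℤ) : ZMod 16) := by
    rw [eq_comm, ZMod.intCast_eq_intCast_iff_dvd_sub]
    exact h16'.trans c2
  have z3 : ((charDegree (χ₃.1 : G → ℂ) : ℤ) : ZMod 16) = ((a χ₃ : ℤ) : ZMod 16) := by
    rw [eq_comm, ZMod.intCast_eq_intCast_iff_dvd_sub]
    exact h16'.trans c3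
  have z4 : ((charDegree ((e ψ₀).1 : G → ℂ) : ℤ) : ZMod 16) = ((3 * δ : ℤ) : ZMod 16) := by
    rw [eq_comm, ZMod.intCast_eq_intCast_iff_dvd_sub]
    exact h16'.trans c4
  apply not_isSquare_of_mod_sixteen _ _ hsq
  push_cast
  push_cast at z2 z3 z4
  rw [z2, z3, z4]
  have ha₂ := hb.apm χ₂ hmem2
  have ha₃ := hb.apm χ₃ hmem3
  have hδ := hb.rep.hδ
  rcases ha₂ with h | h <;> rcases ha₃ with h' | h' <;> rcases hδ with h'' | h'' <;>
    rw [h, h', h''] at hcount ⊢ <;>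
    first
      | (exfalso; norm_num at hcount; done)
      | (push_cast; decide)

end interface

end Cfsg.Agent.CharLib
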