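import Cfsg.Agent.Lib.Lead.CentClA

/-! Abstract simply laced root data (roots are the natural numbers below `n`, with a partial sum, signs and an
inner product) and the facts about triples of roots used for central extensions (lead). -/

set_option autoImplicit false

namespace Cfsg.Agent.Lib.Lead.CentCl

/-- combinatorial data of a simply laced root system in which every root has enough decompositions -/
structure SLRoots where
  n : ℕ
  neg : ℕ → ℕ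
  sum : ℕ → ℕ → Option ℕ
  N : ℕ → ℕ → ℤ
  ip : ℕ → ℕ → ℤ
  base : ℕ → ℕ
  neg_lt : ∀ r, r < n → neg r < n
  neg_neg : ∀ r, r < n → neg (neg r) = r
  sum_lt : ∀ r s q, r < n → s < n → sum r s = some q → q < n
  N_unit : ∀ r s q, r < n → s < n → sum r s = some q → N r s = 1 ∨ N r s = -1
  ip_symm : ∀ r s, r < n → s < n → ip r s = ip s r
  ip_self : ∀ r, r < n → ip r r = 2
  ip_le : ∀ r s, r < n → s < n → ip r s ≤ 2
  ip_neg : ∀ r s, r < n → s < n → ip r (neg s) = - ip r s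
  ip_add : ∀ r s q, r < n → s < n → sum r s = some q → ∀ x, x < n → ip x q = ip x r + ip x s
  eq_of_ip : ∀ r s, r < n → s < n → ip r s = 2 → r = s
  sum_of_ip : ∀ r s, r < n → s < n → ip r s = -1 → ∃ q, sum r s = some q
  ip_of_sum : ∀ r s q, r < n → s < n → sum r s = some q → ip r s = -1
  ex0 : ∀ r s, r < n → s < n → ip r s = 0 → ∃ a, a < n ∧ ip a r = 1 ∧ ip a s = 0
  ex1 : ∀ r s, r < n → s < n → ip r s = 1 → ∃ a, a < n ∧ ip a r = 1 ∧ (ip a s = 0 ∨ ip a s = 1)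
  ex2 : ∀ r, r < n → ∃ a, a < n ∧ ip a r = 1
  exm : ∀ r s, r < n → s < n → ip r s = -1 → ∃ a, a < n ∧ ip a s = 1 ∧ ip a r = 0
  base_lt : ∀ q, q < n → base q < n
  base_ip : ∀ q, q < n → ip (base q) q = 1
  conn : ∀ q x, q < n → x < n → ip x q = 1 → x = base q ∨ ip x (base q) = 1 ∨ ip x (base q) = -1 ∨
    ∃ z, z < n ∧ ip z q = 1 ∧ ip z x = 1 ∧ ip z (base q) = 1

namespace SLRoots

variable (Φ : SLRoots)

/-- two roots with the same inner products with all roots are equal -/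
theorem eq_of_ip_eq {r s : ℕ} (hr : r < Φ.n) (hs : s < Φ.n) (h : ∀ x, x < Φ.n → Φ.ip x s = Φ.ip x r) :
    r = s := by
  apply Φ.eq_of_ip r s hr hs
  rw [h r hr, Φ.ip_self r hr]

/-- the difference `r - a` of two roots with inner product one -/
theorem exists_sub {a r : ℕ} (ha : a < Φ.n) (hr : r < Φ.n) (h : Φ.ip a r = 1) :
    ∃ b, b < Φ.n ∧ Φ.sum a b = some r ∧ ∀ x, x < Φ.n → Φ.ip x b = Φ.ip x r - Φ.ip x a := by
  have hna := Φ.neg_lt a ha
  have h1 : Φ.ip r (Φ.neg a) = -1 := by rw [Φ.ip_neg r a hr ha, Φ.ip_symm r a hr ha, h]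
  obtain ⟨b, hb⟩ := Φ.sum_of_ip r (Φ.neg a) hr hna h1
  have hbn := Φ.sum_lt _ _ _ hr hna hb
  have hipb : ∀ x, x < Φ.n → Φ.ip x b = Φ.ip x r - Φ.ip x a := by
    intro x hx
    rw [Φ.ip_add _ _ _ hr hna hb x hx, Φ.ip_neg x a hx ha]; ring
  have h2 : Φ.ip a b = -1 := by rw [hipb a ha, h, Φ.ip_self a ha]; norm_num
  obtain ⟨q, hq⟩ := Φ.sum_of_ip a b ha hbn h2
  have hqn := Φ.sum_lt _ _ _ ha hbn hq
  have hqr : r = q := by
    apply Φ.eq_of_ip_eq hr hqn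
    intro x hx
    rw [Φ.ip_add _ _ _ ha hbn hq x hx, hipb x hx]; ring
  exact ⟨b, hbn, by rw [hqr]; exact hq, hipb⟩

theorem sum_comm {r s q : ℕ} (hr : r < Φ.n) (hs : s < Φ.n) (h : Φ.sum r s = some q) :
    Φ.sum s r = some q := by
  have hq := Φ.sum_lt _ _ _ hr hs h
  have h1 : Φ.ip s r = -1 := by rw [Φ.ip_symm s r hs hr]; exact Φ.ip_of_sum _ _ _ hr hs h
  obtain ⟨q', hq'⟩ := Φ.sum_of_ip s r hs hr h1
  have hq'n := Φ.sum_lt _ _ _ hs hr hq'
  have : q = q' := by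
    apply Φ.eq_of_ip_eq hq hq'n
    intro x hx
    rw [Φ.ip_add _ _ _ hs hr hq' x hx, Φ.ip_add _ _ _ hr hs h x hx]; ring
  rw [this]; exact hq'

theorem ip_sum_left {r s q : ℕ} (hr : r < Φ.n) (hs : s < Φ.n) (h : Φ.sum r s = some q) :
    Φ.ip q r = 1 := by
  have hq := Φ.sum_lt _ _ _ hr hs h
  rw [Φ.ip_symm q r hq hr, Φ.ip_add _ _ _ hr hs h r hr, Φ.ip_self r hr, Φ.ip_of_sum _ _ _ hr hs h]
  norm_num

theorem ip_sum_right {r s q : ℕ} (hr : r < Φ.n) (hs : s < Φ.n) (h : Φ.sum r s = some q) :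
    Φ.ip q s = 1 :=
  Φ.ip_sum_left hs hr (Φ.sum_comm hr hs h)

/-- two roots with non-negative inner product: they are equal, or they are distinct, not opposite, and
their sum is not a root -/
theorem nonneg_cases {a s : ℕ} (ha : a < Φ.n) (hs : s < Φ.n) (h : 0 ≤ Φ.ip a s) :
    a = s ∨ (s ≠ a ∧ s ≠ Φ.neg a ∧ Φ.sum a s = none) := by
  by_cases hE : a = s
  · exact Or.inl hE
  · right
    refine ⟨fun h' => hE h'.symm, ?_, ?_⟩
    · rintro rfl
      rw [Φ.ip_neg a a ha ha, Φ.ip_self a ha] at h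
      omega
    · cases hsum : Φ.sum a s with
      | none => rfl
      | some q =>
        have := Φ.ip_of_sum _ _ _ ha hs hsum
        omega

/-- a decomposition of `r` into two roots both having non-negative inner product with `s` -/
theorem exists_decomp {r s : ℕ} (hr : r < Φ.n) (hs : s < Φ.n) (h : 0 ≤ Φ.ip r s) :
    ∃ a b, a < Φ.n ∧ b < Φ.n ∧ Φ.sum a b = some r ∧ 0 ≤ Φ.ip a s ∧ 0 ≤ Φ.ip b s := by
  have hle := Φ.ip_le r s hr hs
  have hcases : Φ.ip r s = 0 ∨ Φ.ip r s = 1 ∨ Φ.ip r s = 2 := by omega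
  rcases hcases with h0 | h1 | h2
  · obtain ⟨a, ha, har, has⟩ := Φ.ex0 r s hr hs h0
    obtain ⟨b, hb, hsum, hipb⟩ := Φ.exists_sub ha hr har
    refine ⟨a, b, ha, hb, hsum, by omega, ?_⟩
    rw [Φ.ip_symm b s hb hs, hipb s hs, Φ.ip_symm s r hs hr, Φ.ip_symm s a hs ha, h0, has]
    norm_num
  · obtain ⟨a, ha, har, has⟩ := Φ.ex1 r s hr hs h1
    obtain ⟨b, hb, hsum, hipb⟩ := Φ.exists_sub ha hr har
    refine ⟨a, b, ha, hb, hsum, by omega, ?_⟩
    rw [Φ.ip_symm b s hb hs, hipb s hs, Φ.ip_symm s r hs hr, Φ.ip_symm s a hs ha, h1]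
    omega
  · have hrs := Φ.eq_of_ip r s hr hs h2
    subst hrs
    obtain ⟨a, ha, har⟩ := Φ.ex2 r hr
    obtain ⟨b, hb, hsum, hipb⟩ := Φ.exists_sub ha hr har
    refine ⟨a, b, ha, hb, hsum, by omega, ?_⟩
    rw [Φ.ip_symm b r hb hr, hipb r hr, Φ.ip_self r hr, Φ.ip_symm r a hr ha, har]
    norm_num

/-- the data of a move: from the decomposition `q = r + s` and a root `x` with `(x, s) = 1 = (x, q)` to the
decomposition `q = r' + x` -/
theorem exists_move {r s q x : ℕ} (hr : r < Φ.n) (hs : s < Φ.n) (hx : x < Φ.n)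
    (hsum : Φ.sum r s = some q) (hxs : Φ.ip x s = 1) (hxq : Φ.ip x q = 1) :
    ∃ s₁ r', s₁ < Φ.n ∧ r' < Φ.n ∧ Φ.sum x s₁ = some s ∧ Φ.sum s₁ r = some r' ∧ Φ.sum r' x = some q ∧
      Φ.ip r x = 0 ∧ Φ.ip s r' = 0 := by
  have hq := Φ.sum_lt _ _ _ hr hs hsum
  have hxr : Φ.ip x r = 0 := by
    have := Φ.ip_add _ _ _ hr hs hsum x hx
    omega
  obtain ⟨s₁, hs₁, hsum1, hip1⟩ := Φ.exists_sub hx hs hxs
  have hrs : Φ.ip r s = -1 := Φ.ip_of_sum _ _ _ hr hs hsum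
  have h2 : Φ.ip s₁ r = -1 := by
    rw [Φ.ip_symm s₁ r hs₁ hr, hip1 r hr, hrs, Φ.ip_symm r x hr hx, hxr]; norm_num
  obtain ⟨r', hr'⟩ := Φ.sum_of_ip s₁ r hs₁ hr h2
  have hr'n := Φ.sum_lt _ _ _ hs₁ hr hr'
  have h3 : Φ.ip r' x = -1 := by
    rw [Φ.ip_symm r' x hr'n hx, Φ.ip_add _ _ _ hs₁ hr hr' x hx, hip1 x hx, hxs, Φ.ip_self x hx, hxr]
    norm_num
  obtain ⟨q', hq'⟩ := Φ.sum_of_ip r' x hr'n hx h3
  have hq'n := Φ.sum_lt _ _ _ hr'n hx hq'
  have hqq : q = q' := by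
    apply Φ.eq_of_ip_eq hq hq'n
    intro y hy
    rw [Φ.ip_add _ _ _ hr'n hx hq' y hy, Φ.ip_add _ _ _ hs₁ hr hr' y hy, hip1 y hy,
      Φ.ip_add _ _ _ hr hs hsum y hy]
    ring
  refine ⟨s₁, r', hs₁, hr'n, hsum1, hr', by rw [hqq]; exact hq', ?_, ?_⟩
  · rw [Φ.ip_symm r x hr hx]; exact hxr
  · rw [Φ.ip_add _ _ _ hs₁ hr hr' s hs, hip1 s hs, Φ.ip_self s hs, Φ.ip_symm s x hs hx, hxs,
      Φ.ip_symm s r hs hr, hrs]
    norm_num

/-- the first summand is determined by the sum and the second summand -/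
theorem summand_unique {r r' s q : ℕ} (hr : r < Φ.n) (hr' : r' < Φ.n) (hs : s < Φ.n)
    (h : Φ.sum r s = some q) (h' : Φ.sum r' s = some q) : r = r' := by
  apply Φ.eq_of_ip_eq hr hr'
  intro x hx
  have h1 := Φ.ip_add _ _ _ hr hs h x hx
  have h2 := Φ.ip_add _ _ _ hr' hs h' x hx
  omega

end SLRoots

end Cfsg.Agent.Lib.Lead.CentCl
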