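import Cfsg.Agent.Lib.Lead.CentClB

/-! Generators indexed by simply laced root data, their lifts to a central extension: lifts of commuting
root elements commute, and the commutators of lifts are biadditive (lead). -/

set_option autoImplicit false

namespace Cfsg.Agent.Lib.Lead.CentCl

open scoped commutatorElement

/-- elements `y r t` of a group satisfying the simply laced Steinberg relations -/
structure SLGens (Φ : SLRoots) (K : Type*) [Field K] (G : Type*) [Group G] where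
  y : ℕ → K → G
  y_add : ∀ r, r < Φ.n → ∀ t u : K, y r t * y r u = y r (t + u)
  y_comm0 : ∀ r s, r < Φ.n → s < Φ.n → s ≠ r → s ≠ Φ.neg r → Φ.sum r s = none → ∀ t u : K,
    Commute (y r t) (y s u)
  y_comm1 : ∀ r s q, r < Φ.n → s < Φ.n → Φ.sum r s = some q → ∀ t u : K,
    ⁅y s u, y r t⁆ = y q (-(Φ.N r s : K) * t * u)

section
variable {Φ : SLRoots} {K : Type*} [Field K] {G E : Type*} [Group G] [Group E] (Y : SLGens Φ K G)

theorem N_mul_self {r s q : ℕ} (hr : r < Φ.n) (hs : s < Φ.n) (h : Φ.sum r s = some q) :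
    ((Φ.N r s : ℤ) : K) * ((Φ.N r s : ℤ) : K) = 1 := by
  rcases Φ.N_unit r s q hr hs h with h1 | h1 <;> rw [h1] <;> simp

namespace SLGens

theorem y_zero {r : ℕ} (hr : r < Φ.n) : Y.y r 0 = 1 := by
  have := Y.y_add r hr 0 0
  rw [add_zero] at this
  exact mul_eq_left.mp this

theorem y_neg {r : ℕ} (hr : r < Φ.n) (t : K) : Y.y r (-t) = (Y.y r t)⁻¹ := by
  symm
  rw [inv_eq_iff_mul_eq_one, Y.y_add r hr, add_neg_cancel, Y.y_zero hr]

/-- root elements of roots with non-negative inner product commute -/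
theorem y_commute {a s : ℕ} (ha : a < Φ.n) (hs : s < Φ.n) (h : 0 ≤ Φ.ip a s) (t u : K) :
    Commute (Y.y a t) (Y.y s u) := by
  rcases Φ.nonneg_cases ha hs h with rfl | ⟨h1, h2, h3⟩
  · show Y.y a t * Y.y a u = Y.y a u * Y.y a t
    rw [Y.y_add a ha, Y.y_add a ha, add_comm]
  · exact Y.y_comm0 a s ha hs h1 h2 h3 t u

end SLGens

variable (π : E →* G) (hπ : Function.Surjective π) (hc : π.ker ≤ Subgroup.center E)

/-- a chosen lift -/
noncomputable def lift (g : G) : E := Classical.choose (hπ g)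

theorem lift_spec (g : G) : π (lift π hπ g) = g := Classical.choose_spec (hπ g)

include hπ hc in
/-- Step 1: lifts of root elements of roots with non-negative inner product commute -/
theorem lifts_commute {r s : ℕ} (hr : r < Φ.n) (hs : s < Φ.n) (h : 0 ≤ Φ.ip r s) {e₁ e₂ : E} {t u : K}
    (h1 : π e₁ = Y.y r t) (h2 : π e₂ = Y.y s u) : Commute e₁ e₂ := by
  obtain ⟨a, b, ha, hb, hsum, has, hbs⟩ := Φ.exists_decomp hr hs h
  have hAB : π ⁅lift π hπ (Y.y b 1), lift π hπ (Y.y a (-(Φ.N a b : K) * t))⁆ = Y.y r t := by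
    rw [map_commutatorElement, lift_spec, lift_spec, Y.y_comm1 a b r ha hb hsum]
    congr 1
    have := N_mul_self (K := K) ha hb hsum
    linear_combination t * this
  have h3 : Commute e₂ ⁅lift π hπ (Y.y b 1), lift π hπ (Y.y a (-(Φ.N a b : K) * t))⁆ := by
    apply commute_commutator π hc
    · rw [h2, lift_spec]; exact (Y.y_commute hb hs hbs _ _).symm
    · rw [h2, lift_spec]; exact (Y.y_commute ha hs has _ _).symm
  exact (commute_of_lift π hc (hAB.trans h1.symm) h3).symm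

/-- the commutator of lifts of `y b u` and `y a t` -/
noncomputable def bk (a b : ℕ) (t u : K) : E := ⁅lift π hπ (Y.y b u), lift π hπ (Y.y a t)⁆

include hc in
theorem bk_eq {a b : ℕ} {t u : K} {e₁ e₂ : E} (h1 : π e₁ = Y.y b u) (h2 : π e₂ = Y.y a t) :
    ⁅e₁, e₂⁆ = bk Y π hπ a b t u := by
  unfold bk
  apply commutator_congr π hc
  · rw [lift_spec, h1]
  · rw [lift_spec, h2]

theorem π_bk {a b q : ℕ} (ha : a < Φ.n) (hb : b < Φ.n) (hsum : Φ.sum a b = some q) (t u : K) :
    π (bk Y π hπ a b t u) = Y.y q (-(Φ.N a b : K) * t * u) := by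
  unfold bk
  rw [map_commutatorElement, lift_spec, lift_spec, Y.y_comm1 a b q ha hb hsum]

theorem bk_swap (a b : ℕ) (t u : K) : bk Y π hπ b a u t = (bk Y π hπ a b t u)⁻¹ := by
  unfold bk
  rw [commutatorElement_inv]

include hc in
theorem bk_add_left {a b q : ℕ} (ha : a < Φ.n) (hb : b < Φ.n) (hsum : Φ.sum a b = some q) (t t' u : K) :
    bk Y π hπ a b (t + t') u = bk Y π hπ a b t u * bk Y π hπ a b t' u := by
  have hq := Φ.sum_lt _ _ _ ha hb hsum
  have h1 : bk Y π hπ a b (t + t') u =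
      ⁅lift π hπ (Y.y b u), lift π hπ (Y.y a t) * lift π hπ (Y.y a t')⁆ := by
    symm
    apply bk_eq Y π hπ hc (lift_spec π hπ _)
    rw [map_mul, lift_spec, lift_spec, Y.y_add a ha]
  rw [h1, commutator_mul_right]
  have h2 : Commute (bk Y π hπ a b t' u) (lift π hπ (Y.y a t)) := by
    apply lifts_commute Y π hπ hc hq ha _ (π_bk Y π hπ ha hb hsum t' u) (lift_spec π hπ _)
    rw [Φ.ip_sum_left ha hb hsum]; norm_num
  have h3 : lift π hπ (Y.y a t) * bk Y π hπ a b t' u * (lift π hπ (Y.y a t))⁻¹ = bk Y π hπ a b t' u := by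
    rw [← h2.eq, mul_inv_cancel_right]
  unfold bk at h3 ⊢
  rw [h3]

include hc in
theorem bk_add_right {a b q : ℕ} (ha : a < Φ.n) (hb : b < Φ.n) (hsum : Φ.sum a b = some q) (t u u' : K) :
    bk Y π hπ a b t (u + u') = bk Y π hπ a b t u * bk Y π hπ a b t u' := by
  have hq := Φ.sum_lt _ _ _ ha hb hsum
  have h1 : bk Y π hπ a b t (u + u') =
      ⁅lift π hπ (Y.y b u) * lift π hπ (Y.y b u'), lift π hπ (Y.y a t)⁆ := by
    symm
    apply bk_eq Y π hπ hc _ (lift_spec π hπ _)
    rw [map_mul, lift_spec, lift_spec, Y.y_add b hb]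
  rw [h1, commutator_mul_left]
  have h2 : Commute (bk Y π hπ a b t u') (lift π hπ (Y.y b u)) := by
    apply lifts_commute Y π hπ hc hq hb _ (π_bk Y π hπ ha hb hsum t u') (lift_spec π hπ _)
    rw [Φ.ip_sum_right ha hb hsum]; norm_num
  have h3 : lift π hπ (Y.y b u) * bk Y π hπ a b t u' * (lift π hπ (Y.y b u))⁻¹ = bk Y π hπ a b t u' := by
    rw [← h2.eq, mul_inv_cancel_right]
  have h4 : Commute (bk Y π hπ a b t u') (bk Y π hπ a b t u) := by
    apply lifts_commute Y π hπ hc hq hq _ (π_bk Y π hπ ha hb hsum t u') (π_bk Y π hπ ha hb hsum t u)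
    rw [Φ.ip_self q hq]; norm_num
  unfold bk at h3 h4 ⊢
  rw [h3, h4.eq]

include hc in
theorem bk_zero_left {a b q : ℕ} (ha : a < Φ.n) (hb : b < Φ.n) (hsum : Φ.sum a b = some q) (u : K) :
    bk Y π hπ a b 0 u = 1 := by
  have := bk_add_left Y π hπ hc ha hb hsum 0 0 u
  rw [add_zero] at this
  exact mul_eq_left.mp this.symm

include hc in
theorem bk_neg_left {a b q : ℕ} (ha : a < Φ.n) (hb : b < Φ.n) (hsum : Φ.sum a b = some q) (t u : K) :
    bk Y π hπ a b (-t) u = (bk Y π hπ a b t u)⁻¹ := by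
  symm
  rw [inv_eq_iff_mul_eq_one, ← bk_add_left Y π hπ hc ha hb hsum, add_neg_cancel,
    bk_zero_left Y π hπ hc ha hb hsum]

end

end Cfsg.Agent.Lib.Lead.CentCl
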