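import Cfsg.Agent.Lib.Lead.CentClRowsE6

/-! The checks of the base roots and of the chain table for type E6 (lead). -/

set_option autoImplicit false
set_option maxRecDepth 1000000

namespace Cfsg.Agent.Lib.Lead.CentCl

open Cfsg Cfsg.Lie Cfsg.Agent.Lib.Helper7

set_option maxHeartbeats 4000000 in
theorem baseB_E6 : baseB chevE6 rowsE6 = true := by decide +kernel

set_option maxHeartbeats 4000000 in
theorem chainB_E6 : chainB chevE6 rowsE6 = true := by decide +kernel

end Cfsg.Agent.Lib.Lead.CentCl
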