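import Cfsg.Agent.Lib.Lead.CentClC

/-! Central extensions of groups generated by simply laced root elements: the commutators of lifts do not
depend on the decomposition of the root, and give lifted generators satisfying the same relations (lead). -/

set_option autoImplicit false

namespace Cfsg.Agent.Lib.Lead.CentCl

open scoped commutatorElement

section
variable {Φ : SLRoots} {K : Type*} [Field K] {G E : Type*} [Group G] [Group E] (Y : SLGens Φ K G)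
variable (π : E →* G) (hπ : Function.Surjective π) (hc : π.ker ≤ Subgroup.center E)

include hc in
/-- the move: for `q = r + s`, `s = x + s₁`, `r' = s₁ + r`, `q = r' + x` -/
theorem bk_move {r s q x s₁ r' : ℕ} (hr : r < Φ.n) (hs : s < Φ.n) (hx : x < Φ.n) (hs₁ : s₁ < Φ.n)
    (hr' : r' < Φ.n) (hsum : Φ.sum r s = some q) (h1 : Φ.sum x s₁ = some s) (h2 : Φ.sum s₁ r = some r')
    (h3 : Φ.sum r' x = some q) (hrx : Φ.ip r x = 0) (hsr' : Φ.ip s r' = 0) (t u : K) :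
    bk Y π hπ r s t u = bk Y π hπ r' x ((Φ.N s₁ r : K) * (Φ.N x s₁ : K) * t * u) 1 := by
  have hq := Φ.sum_lt _ _ _ hr hs hsum
  obtain ⟨A, hA⟩ : ∃ A, A = lift π hπ (Y.y s₁ (-(Φ.N x s₁ : K) * u)) := ⟨_, rfl⟩
  obtain ⟨B, hB⟩ : ∃ B, B = lift π hπ (Y.y x 1) := ⟨_, rfl⟩
  obtain ⟨R, hR⟩ : ∃ R, R = lift π hπ (Y.y r t) := ⟨_, rfl⟩
  have πA : π A = Y.y s₁ (-(Φ.N x s₁ : K) * u) := by rw [hA, lift_spec]
  have πB : π B = Y.y x 1 := by rw [hB, lift_spec]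
  have πR : π R = Y.y r t := by rw [hR, lift_spec]
  have πX : π ⁅A, B⁆ = Y.y s u := by
    rw [map_commutatorElement, πA, πB, Y.y_comm1 x s₁ s hx hs₁ h1]
    congr 1
    have := N_mul_self (K := K) hx hs₁ h1
    linear_combination u * this
  have e1 : bk Y π hπ r s t u = ⁅⁅A, B⁆, R⁆ := (bk_eq Y π hπ hc πX πR).symm
  have cRB : Commute R B := lifts_commute Y π hπ hc hr hx (by omega) πR πB
  have πm : π ⁅R, A⁆ = Y.y r' ((Φ.N s₁ r : K) * (Φ.N x s₁ : K) * t * u) := by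
    rw [map_commutatorElement, πR, πA, Y.y_comm1 s₁ r r' hs₁ hr h2]
    congr 1
    ring
  have cmX : Commute ⁅R, A⁆ ⁅A, B⁆ := by
    apply lifts_commute Y π hπ hc hr' hs _ πm πX
    rw [Φ.ip_symm r' s hr' hs, hsr']
  have e2 : ⁅B, ⁅R, A⁆⁆ = bk Y π hπ r' x ((Φ.N s₁ r : K) * (Φ.N x s₁ : K) * t * u) 1 :=
    bk_eq Y π hπ hc πB πm
  have cXbk : Commute ⁅A, B⁆ ⁅B, ⁅R, A⁆⁆ := by
    rw [e2]
    apply lifts_commute Y π hπ hc hs hq _ πX (π_bk Y π hπ hr' hx h3 _ _)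
    rw [Φ.ip_symm s q hs hq, Φ.ip_sum_right hr hs hsum]; norm_num
  -- the computation
  have e3 : R * ⁅A, B⁆ * R⁻¹ = ⁅A, B⁆ * ⁅⁅R, A⁆, B⁆ := by
    rw [conjugate_commutatorElement]
    have hRB : R * B * R⁻¹ = B := by rw [cRB.eq, mul_inv_cancel_right]
    have hRA : R * A * R⁻¹ = ⁅R, A⁆ * A := by rw [commutatorElement_def]; group
    rw [hRB, hRA, commutator_mul_left]
    have : ⁅R, A⁆ * ⁅A, B⁆ * ⁅R, A⁆⁻¹ = ⁅A, B⁆ := by rw [cmX.eq, mul_inv_cancel_right]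
    rw [this]
  rw [e1, ← e2]
  calc ⁅⁅A, B⁆, R⁆ = ⁅A, B⁆ * (R * ⁅A, B⁆ * R⁻¹)⁻¹ := by rw [commutatorElement_def]; group
    _ = ⁅A, B⁆ * (⁅A, B⁆ * ⁅⁅R, A⁆, B⁆)⁻¹ := by rw [e3]
    _ = ⁅A, B⁆ * ⁅B, ⁅R, A⁆⁆ * ⁅A, B⁆⁻¹ := by rw [mul_inv_rev, commutatorElement_inv ⁅R, A⁆ B]; group
    _ = ⁅B, ⁅R, A⁆⁆ := by rw [cXbk.eq, mul_inv_cancel_right]

include hc in
/-- the commutator of lifts depends only on the product of the parameters -/
theorem bk_prod {r s q : ℕ} (hr : r < Φ.n) (hs : s < Φ.n) (hsum : Φ.sum r s = some q) (t u : K) :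
    bk Y π hπ r s t u = bk Y π hπ r s (t * u) 1 := by
  obtain ⟨x, hx, hxs, hxr⟩ := Φ.exm r s hr hs (Φ.ip_of_sum _ _ _ hr hs hsum)
  have hq := Φ.sum_lt _ _ _ hr hs hsum
  have hxq : Φ.ip x q = 1 := by rw [Φ.ip_add _ _ _ hr hs hsum x hx, hxr, hxs]; norm_num
  obtain ⟨s₁, r', hs₁, hr', h1, h2, h3, hrx, hsr'⟩ := Φ.exists_move hr hs hx hsum hxs hxq
  rw [bk_move Y π hπ hc hr hs hx hs₁ hr' hsum h1 h2 h3 hrx hsr' t u,
    bk_move Y π hπ hc hr hs hx hs₁ hr' hsum h1 h2 h3 hrx hsr' (t * u) 1]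
  congr 1
  ring

/-- the lift of `y q z` attached to the decomposition `q = a + b` -/
noncomputable def Lf (a b : ℕ) (z : K) : E := bk Y π hπ a b (-(Φ.N a b : K) * z) 1

theorem π_Lf {a b q : ℕ} (ha : a < Φ.n) (hb : b < Φ.n) (hsum : Φ.sum a b = some q) (z : K) :
    π (Lf Y π hπ a b z) = Y.y q z := by
  unfold Lf
  rw [π_bk Y π hπ ha hb hsum]
  congr 1
  have := N_mul_self (K := K) ha hb hsum
  linear_combination z * this

include hc in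
theorem bk_eq_Lf {r s q : ℕ} (hr : r < Φ.n) (hs : s < Φ.n) (hsum : Φ.sum r s = some q) (t u : K) :
    bk Y π hπ r s t u = Lf Y π hπ r s (-(Φ.N r s : K) * t * u) := by
  unfold Lf
  rw [bk_prod Y π hπ hc hr hs hsum t u]
  congr 1
  have := N_mul_self (K := K) hr hs hsum
  linear_combination (- t * u) * this

include hc in
theorem Lf_add {a b q : ℕ} (ha : a < Φ.n) (hb : b < Φ.n) (hsum : Φ.sum a b = some q) (z z' : K) :
    Lf Y π hπ a b (z + z') = Lf Y π hπ a b z * Lf Y π hπ a b z' := by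
  unfold Lf
  rw [mul_add, bk_add_left Y π hπ hc ha hb hsum]

include hc in
theorem Lf_neg {a b q : ℕ} (ha : a < Φ.n) (hb : b < Φ.n) (hsum : Φ.sum a b = some q) (z : K) :
    Lf Y π hπ a b (-z) = (Lf Y π hπ a b z)⁻¹ := by
  unfold Lf
  rw [mul_neg, bk_neg_left Y π hπ hc ha hb hsum]

variable (hinj : ∀ q, q < Φ.n → Function.Injective (Y.y q))

include hc hinj in
theorem Lf_move {r s q x s₁ r' : ℕ} (hr : r < Φ.n) (hs : s < Φ.n) (hx : x < Φ.n) (hs₁ : s₁ < Φ.n)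
    (hr' : r' < Φ.n) (hsum : Φ.sum r s = some q) (h1 : Φ.sum x s₁ = some s) (h2 : Φ.sum s₁ r = some r')
    (h3 : Φ.sum r' x = some q) (hrx : Φ.ip r x = 0) (hsr' : Φ.ip s r' = 0) (z : K) :
    Lf Y π hπ r s z = Lf Y π hπ r' x z := by
  have hq := Φ.sum_lt _ _ _ hr hs hsum
  have e1 : Lf Y π hπ r s z = Lf Y π hπ r' x (-(Φ.N r' x : K) *
      ((Φ.N s₁ r : K) * (Φ.N x s₁ : K) * (-(Φ.N r s : K) * z) * 1) * 1) := by
    conv_lhs => unfold Lf
    rw [bk_move Y π hπ hc hr hs hx hs₁ hr' hsum h1 h2 h3 hrx hsr', bk_eq_Lf Y π hπ hc hr' hx h3]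
  have e2 := congrArg π e1
  rw [π_Lf Y π hπ hr hs hsum, π_Lf Y π hπ hr' hx h3] at e2
  rw [e1, ← hinj q hq e2]

include hc hinj in
theorem Lf_swap {r s q : ℕ} (hr : r < Φ.n) (hs : s < Φ.n) (hsum : Φ.sum r s = some q) (z : K) :
    Lf Y π hπ s r z = Lf Y π hπ r s z := by
  have hq := Φ.sum_lt _ _ _ hr hs hsum
  have hsum' := Φ.sum_comm hr hs hsum
  have e1 : Lf Y π hπ s r z = Lf Y π hπ r s (-(-(Φ.N r s : K) * 1 * (-(Φ.N s r : K) * z))) := by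
    conv_lhs => unfold Lf
    rw [bk_swap Y π hπ r s 1 (-(Φ.N s r : K) * z), bk_eq_Lf Y π hπ hc hr hs hsum,
      Lf_neg Y π hπ hc hr hs hsum]
  have e2 := congrArg π e1
  rw [π_Lf Y π hπ hs hr hsum', π_Lf Y π hπ hr hs hsum] at e2
  rw [e1, ← hinj q hq e2]

include hc hinj in
/-- every decomposition gives the same lift as the base decomposition -/
theorem Lf_eq_base {r s q r₀ : ℕ} (hr : r < Φ.n) (hs : s < Φ.n) (hr₀ : r₀ < Φ.n)
    (hsum : Φ.sum r s = some q) (hbase : Φ.sum r₀ (Φ.base q) = some q) (z : K) :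
    Lf Y π hπ r s z = Lf Y π hπ r₀ (Φ.base q) z := by
  have hq := Φ.sum_lt _ _ _ hr hs hsum
  have hb := Φ.base_lt q hq
  have hbq := Φ.base_ip q hq
  have hsq : Φ.ip s q = 1 := by rw [Φ.ip_symm s q hs hq]; exact Φ.ip_sum_right hr hs hsum
  -- one move towards the base
  have key : ∀ r₁ s₁, r₁ < Φ.n → s₁ < Φ.n → Φ.sum r₁ s₁ = some q → Φ.ip s₁ (Φ.base q) = 1 →
      Lf Y π hπ r₁ s₁ z = Lf Y π hπ r₀ (Φ.base q) z := by
    intro r₁ s₁ hr₁ hs₁ hsum₁ hip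
    obtain ⟨s₂, r', hs₂, hr', h1, h2, h3, hrx, hsr'⟩ :=
      Φ.exists_move hr₁ hs₁ hb hsum₁ (by rw [Φ.ip_symm _ _ hb hs₁]; exact hip) hbq
    have : r' = r₀ := Φ.summand_unique hr' hr₀ hb h3 hbase
    rw [Lf_move Y π hπ hc hinj hr₁ hs₁ hb hs₂ hr' hsum₁ h1 h2 h3 hrx hsr', this]
  rcases Φ.conn q s hq hs hsq with h | h | h | ⟨x, hx, hxq, hxs, hxb⟩
  · subst h
    have : r = r₀ := Φ.summand_unique hr hr₀ hb hsum hbase
    rw [this]
  · exact key r s hr hs hsum h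
  · -- `s = r₀` and `r` is the base
    have h1 : Φ.ip s r₀ = 2 := by
      have := Φ.ip_add _ _ _ hr₀ hb hbase s hs
      omega
    have hsr₀ : s = r₀ := Φ.eq_of_ip s r₀ hs hr₀ h1
    subst hsr₀
    have hbase' := Φ.sum_comm hr₀ hb hbase
    have : r = Φ.base q := Φ.summand_unique hr hb hs hsum hbase'
    subst this
    exact Lf_swap Y π hπ hc hinj hs hr hbase z
  · obtain ⟨s₂, r', hs₂, hr', h1, h2, h3, hrx, hsr'⟩ := Φ.exists_move hr hs hx hsum hxs hxq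
    rw [Lf_move Y π hπ hc hinj hr hs hx hs₂ hr' hsum h1 h2 h3 hrx hsr']
    exact key r' x hr' hx h3 hxb

end

end Cfsg.Agent.Lib.Lead.CentCl
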