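import Cfsg.Agent.Lib.Lead.CentClD

/-! Central extensions of groups generated by simply laced root elements: the lifted generators (lead). -/

set_option autoImplicit false

namespace Cfsg.Agent.Lib.Lead.CentCl

open scoped commutatorElement

namespace SLRoots
variable (Φ : SLRoots)

theorem exists_base {q : ℕ} (hq : q < Φ.n) : ∃ r₀, r₀ < Φ.n ∧ Φ.sum r₀ (Φ.base q) = some q := by
  obtain ⟨b, hb, hsum, -⟩ := Φ.exists_sub (Φ.base_lt q hq) hq (Φ.base_ip q hq)
  exact ⟨b, hb, Φ.sum_comm (Φ.base_lt q hq) hb hsum⟩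

/-- roots which are not opposite and whose sum is not a root have non-negative inner product -/
theorem ip_nonneg {r s : ℕ} (hr : r < Φ.n) (hs : s < Φ.n) (h1 : s ≠ Φ.neg r) (h2 : Φ.sum r s = none) :
    0 ≤ Φ.ip r s := by
  have hns := Φ.neg_lt s hs
  have h3 : Φ.ip r s = - Φ.ip r (Φ.neg s) := by rw [Φ.ip_neg r s hr hs]; ring
  have h4 := Φ.ip_le r (Φ.neg s) hr hns
  by_contra hneg
  have hcases : Φ.ip r s = -1 ∨ Φ.ip r s = -2 := by omega
  rcases hcases with h | h
  · obtain ⟨q, hq⟩ := Φ.sum_of_ip r s hr hs h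
    rw [h2] at hq
    exact absurd hq (by simp)
  · have h5 : Φ.ip r (Φ.neg s) = 2 := by omega
    have h6 := Φ.eq_of_ip r (Φ.neg s) hr hns h5
    apply h1
    rw [h6, Φ.neg_neg s hs]

end SLRoots

section
variable {Φ : SLRoots} {K : Type*} [Field K] {G E : Type*} [Group G] [Group E] (Y : SLGens Φ K G)
variable (π : E →* G) (hπ : Function.Surjective π) (hc : π.ker ≤ Subgroup.center E)
variable (hinj : ∀ q, q < Φ.n → Function.Injective (Y.y q))

/-- the lifted generators -/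
noncomputable def sE (q : ℕ) (z : K) : E :=
  if hq : q < Φ.n then Lf Y π hπ (Classical.choose (Φ.exists_base hq)) (Φ.base q) z else 1

theorem sE_eq {q : ℕ} (hq : q < Φ.n) (z : K) :
    sE Y π hπ q z = Lf Y π hπ (Classical.choose (Φ.exists_base hq)) (Φ.base q) z := by
  unfold sE
  rw [dif_pos hq]

theorem π_sE {q : ℕ} (hq : q < Φ.n) (z : K) : π (sE Y π hπ q z) = Y.y q z := by
  rw [sE_eq Y π hπ hq]
  obtain ⟨h1, h2⟩ := Classical.choose_spec (Φ.exists_base hq)
  exact π_Lf Y π hπ h1 (Φ.base_lt q hq) h2 z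

include hc hinj in
theorem bk_eq_sE {r s q : ℕ} (hr : r < Φ.n) (hs : s < Φ.n) (hsum : Φ.sum r s = some q) (t u : K) :
    bk Y π hπ r s t u = sE Y π hπ q (-(Φ.N r s : K) * t * u) := by
  have hq := Φ.sum_lt _ _ _ hr hs hsum
  rw [sE_eq Y π hπ hq, bk_eq_Lf Y π hπ hc hr hs hsum]
  obtain ⟨h1, h2⟩ := Classical.choose_spec (Φ.exists_base hq)
  exact Lf_eq_base Y π hπ hc hinj hr hs h1 hsum h2 _

include hπ hc hinj in
/-- **Central extensions of simply laced Steinberg groups split on the generators**: the elements `y r t`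
have lifts which satisfy the same relations. -/
theorem exists_lift : ∃ Y' : SLGens Φ K E, ∀ r, r < Φ.n → ∀ t : K, π (Y'.y r t) = Y.y r t := by
  refine ⟨⟨sE Y π hπ, ?_, ?_, ?_⟩, fun r hr t => π_sE Y π hπ hr t⟩
  · intro r hr t u
    rw [sE_eq Y π hπ hr, sE_eq Y π hπ hr, sE_eq Y π hπ hr]
    obtain ⟨h1, h2⟩ := Classical.choose_spec (Φ.exists_base hr)
    rw [Lf_add Y π hπ hc h1 (Φ.base_lt r hr) h2]
  · intro r s hr hs _ h2 h3 t u
    exact lifts_commute Y π hπ hc hr hs (Φ.ip_nonneg hr hs h2 h3) (π_sE Y π hπ hr t) (π_sE Y π hπ hs u)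
  · intro r s q hr hs hsum t u
    rw [bk_eq Y π hπ hc (π_sE Y π hπ hs u) (π_sE Y π hπ hr t)]
    exact bk_eq_sE Y π hπ hc hinj hr hs hsum t u

end

end Cfsg.Agent.Lib.Lead.CentCl
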