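import Cfsg.Agent.Lib.Lead.CentClI
import Cfsg.Agent.Lib.Helper11.StPresF

/-! Simply laced generators from Steinberg's presentation and back: the generators of a group with the
relations (R1), (R2) are simply laced generators, and simply laced generators define a homomorphism from the group
presented by (R1), (R2) (lead). -/

set_option autoImplicit false

namespace Cfsg.Agent.Lib.Lead.CentCl

open Cfsg Cfsg.Lie Cfsg.Agent.Lib.Helper7 Cfsg.Agent.Lib.Helper11.StPres

open scoped commutatorElement

/-- simply laced generators are mapped to simply laced generators by a homomorphism -/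
def SLGens.map {Φ : SLRoots} {K : Type*} [Field K] {G H : Type*} [Group G] [Group H] (Y : SLGens Φ K G)
    (f : G →* H) : SLGens Φ K H where
  y := fun r t => f (Y.y r t)
  y_add := by
    intro r hr t u
    rw [← map_mul, Y.y_add r hr]
  y_comm0 := by
    intro r s hr hs h1 h2 h3 t u
    exact (Y.y_comm0 r s hr hs h1 h2 h3 t u).map f
  y_comm1 := by
    intro r s q hr hs hsum t u
    rw [← map_commutatorElement, Y.y_comm1 r s q hr hs hsum]

section
variable {D : ChevalleyDatum} {hD : D ∈ [chevG2, chevB2, chevD4, chevF4, chevE6, chevE7, chevE8]}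
variable {Φ : SLRoots} (hC : SLCompat D Φ) {K : Type*} [Field K]

include hC in
theorem SLCompat.commWord_nil {r s : ℕ} (hr : r < D.nroots) (hs : s < D.nroots) (h1 : s ≠ r)
    (h2 : s ≠ D.neg r) (h3 : Φ.sum r s = none) (t u : K) : D.commWord K r s t u = [] := by
  unfold ChevalleyDatum.commWord
  rw [hC.comm_nil r s hr hs h1 h2 h3]
  rfl

include hC in
theorem SLCompat.commWord_one {r s q : ℕ} (hr : r < D.nroots) (hs : s < D.nroots)
    (h3 : Φ.sum r s = some q) (t u : K) : D.commWord K r s t u = [(q, (Φ.N r s : K) * (-t) * u)] := by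
  unfold ChevalleyDatum.commWord
  rw [hC.comm_one r s q hr hs h3]
  simp

include hC in
/-- the generators of a group with the relations (R1), (R2) are simply laced generators -/
def SLGens.ofStData {Γ : Type*} [Group Γ] (S : StData D hD K Γ) : SLGens Φ K Γ where
  y := S.x
  y_add := by
    intro r hr t u
    exact S.x_add r (hC.n_eq ▸ hr) t u
  y_comm0 := by
    intro r s hr hs h1 h2 h3 t u
    have hr' : r < D.nroots := hC.n_eq ▸ hr
    have hs' : s < D.nroots := hC.n_eq ▸ hs
    have h2' : s ≠ D.neg r := by rw [← hC.neg_eq r hr']; exact h2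
    have := S.x_comm r s hr' hs' h1 h2' t u
    rw [hC.commWord_nil hr' hs' h1 h2' h3, wordG_nil, mul_one] at this
    exact this.symm
  y_comm1 := by
    intro r s q hr hs hsum t u
    have hr' : r < D.nroots := hC.n_eq ▸ hr
    have hs' : s < D.nroots := hC.n_eq ▸ hs
    have h1 : s ≠ r := Φ.ne_of_sum hr hs hsum
    have h2' : s ≠ D.neg r := by rw [← hC.neg_eq r hr']; exact Φ.ne_neg_of_sum hr hs hsum
    have := S.x_comm r s hr' hs' h1 h2' (-t) (-u)
    rw [hC.commWord_one hr' hs' hsum, wordG_cons, wordG_nil, mul_one, ← S.x_inv r hr', ← S.x_inv s hs'] at this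
    rw [commutatorElement_def]
    have e : (Φ.N r s : K) * (- -t) * (-u) = -(Φ.N r s : K) * t * u := by ring
    rw [e] at this
    have this' : (S.x s u)⁻¹ * (S.x r t)⁻¹ =
        (S.x r t)⁻¹ * (S.x s u)⁻¹ * S.x q (-(Φ.N r s : K) * t * u) := this
    calc S.x s u * S.x r t * (S.x s u)⁻¹ * (S.x r t)⁻¹
        = S.x s u * S.x r t * ((S.x s u)⁻¹ * (S.x r t)⁻¹) := by group
      _ = S.x s u * S.x r t * ((S.x r t)⁻¹ * (S.x s u)⁻¹ * S.x q (-(Φ.N r s : K) * t * u)) := by rw [this']
      _ = S.x q (-(Φ.N r s : K) * t * u) := by group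

/-- the homomorphism from the free group defined by simply laced generators -/
noncomputable def freeHom {Δ : Type*} [Group Δ] (Y : SLGens Φ K Δ) : FreeGroup (Fin D.nroots × K) →* Δ :=
  FreeGroup.lift fun p : Fin D.nroots × K => Y.y p.1.val p.2

theorem freeHom_stX {Δ : Type*} [Group Δ] (Y : SLGens Φ K Δ) (r : ℕ) (hr : r < D.nroots) (t : K) :
    freeHom (D := D) Y (D.stX r t) = Y.y r t := by
  unfold freeHom ChevalleyDatum.stX
  rw [dif_pos hr, FreeGroup.lift_apply_of]

include hC in
theorem freeHom_relsAB {Δ : Type*} [Group Δ] (Y : SLGens Φ K Δ) (g : FreeGroup (Fin D.nroots × K))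
    (hg : g ∈ D.steinbergRelsAB K) : freeHom (D := D) Y g = 1 := by
  rcases hg with ⟨r, t₁, t₂, hr, rfl⟩ | ⟨r, s, t, u, hr, hs, h1, h2, rfl⟩
  · rw [map_mul, map_mul, map_inv, freeHom_stX Y r hr, freeHom_stX Y r hr, freeHom_stX Y r hr,
      Y.y_add r (hC.n_eq ▸ hr), mul_inv_cancel]
  · have hr' : r < Φ.n := hC.n_eq ▸ hr
    have hs' : s < Φ.n := hC.n_eq ▸ hs
    rw [map_mul, map_mul, map_mul, map_mul, map_inv, map_inv, map_inv, freeHom_stX Y r hr,
      freeHom_stX Y s hs]
    cases hsum : Φ.sum r s with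
    | none =>
      have h2' : s ≠ Φ.neg r := by rw [hC.neg_eq r hr]; exact h2
      have hcomm := Y.y_comm0 r s hr' hs' h1 h2' hsum t u
      rw [hC.commWord_nil hr hs h1 h2 hsum]
      have : D.stWord ([] : List (ℕ × K)) = 1 := rfl
      rw [this, map_one, inv_one, mul_one]
      have e := hcomm.eq
      calc (Y.y s u)⁻¹ * (Y.y r t)⁻¹ * Y.y s u * Y.y r t
          = (Y.y s u)⁻¹ * (Y.y r t)⁻¹ * (Y.y s u * Y.y r t) := by group
        _ = (Y.y s u)⁻¹ * (Y.y r t)⁻¹ * (Y.y r t * Y.y s u) := by rw [e]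
        _ = 1 := by group
    | some q =>
      have hq : q < D.nroots := hC.n_eq ▸ Φ.sum_lt r s q hr' hs' hsum
      rw [hC.commWord_one hr hs hsum]
      have : D.stWord [(q, (Φ.N r s : K) * (-t) * u)] = D.stX q ((Φ.N r s : K) * (-t) * u) := by
        unfold ChevalleyDatum.stWord
        simp
      rw [this, freeHom_stX Y q hq]
      have hc := Y.y_comm1 r s q hr' hs' hsum (-t) (-u)
      rw [Y.y_neg hr', Y.y_neg hs', commutatorElement_def, inv_inv, inv_inv] at hc
      have e : -(Φ.N r s : K) * (-t) * (-u) = (Φ.N r s : K) * (-t) * u := by ring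
      rw [e] at hc
      rw [hc, mul_inv_cancel]

/-- the homomorphism from the group presented by (R1), (R2) defined by simply laced generators -/
noncomputable def coverHom {Δ : Type*} [Group Δ] (Y : SLGens Φ K Δ) : D.SteinbergCover K →* Δ :=
  PresentedGroup.toGroup (f := fun p : Fin D.nroots × K => Y.y p.1.val p.2) (freeHom_relsAB hC Y)

theorem coverHom_scGen {Δ : Type*} [Group Δ] (Y : SLGens Φ K Δ) (r : ℕ) (hr : r < D.nroots) (t : K) :
    coverHom hC Y (D.scGen K r t) = Y.y r t :=
  freeHom_stX Y r hr t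

end

end Cfsg.Agent.Lib.Lead.CentCl
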