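import Cfsg.Agent.Lib.Lead.CentClH

/-! Schur multipliers of simply laced Chevalley groups over finite fields, when the kernel of the canonical
homomorphism from the Steinberg group has order one or a prime (lead). -/

set_option autoImplicit false

namespace Cfsg.Agent.Lib.Lead.CentCl

open Cfsg Cfsg.Lie Cfsg.Agent.Lib.Helper7 Cfsg.Agent.Lib.Helper11.StPres

universe u

/-- a group of order one or a prime is cyclic of that order -/
theorem nonempty_mulEquiv_zmod {G : Type*} [Group G] (n : ℕ) (hn : n = 1 ∨ n.Prime) (hcard : Nat.card G = n) :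
    Nonempty (G ≃* Multiplicative (ZMod n)) := by
  have hcyc : IsCyclic G := by
    rcases hn with rfl | hp
    · have : Subsingleton G := (Nat.card_eq_one_iff_unique.mp hcard).1
      exact isCyclic_of_subsingleton
    · have : Fact n.Prime := ⟨hp⟩
      exact isCyclic_of_prime_card hcard
  subst hcard
  exact ⟨(zmodCyclicMulEquiv hcyc).symm⟩

section
variable {D : ChevalleyDatum} (hD : D ∈ [chevG2, chevB2, chevD4, chevF4, chevE6, chevE7, chevE8])
variable {Φ : SLRoots} (hC : SLCompat D Φ) {K : Type u} [Field K] [Finite K]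

include hD hC in
theorem schur_cyclic_of_card (hK : D ∈ [chevB2, chevG2] → ∃ x : K, x ≠ 0 ∧ x ≠ 1) (n : ℕ)
    (hn : n = 1 ∨ n.Prime) (hcard : Nat.card (Subgroup.center (D.SteinbergGroup K)) = n) :
    Cfsg.HasCyclicSchurMultiplier ↥(D.group K) n := by
  have hcard' : Nat.card (stData hD (K := K)).θG.ker = n := by
    rw [(stData hD (K := K)).θG_ker_eq_center]
    exact hcard
  have hn0 : n ≠ 0 := by
    rcases hn with rfl | hp
    · norm_num
    · exact hp.ne_zero
  have hker : Finite (stData hD (K := K)).θG.ker := Nat.finite_of_card_ne_zero (by rw [hcard']; exact hn0)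
  obtain ⟨e⟩ := nonempty_mulEquiv_zmod n hn hcard'
  exact schur_of_compat hD hC hK hker e

end

end Cfsg.Agent.Lib.Lead.CentCl
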