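import Cfsg.Agent.Lib.Lead.CentClE
import Cfsg.Prelude.Def_ChevStructure

/-! The interface between abstract simply laced root data and the tables of a Chevalley datum (lead). -/

set_option autoImplicit false

namespace Cfsg.Agent.Lib.Lead.CentCl

open Cfsg Cfsg.Lie

/-- the abstract simply laced root data `Φ` describe the tables of the Chevalley datum `D`: the same number of
roots, the same negation, and the commutator formula of `D` has no term when `Φ.sum r s = none`, and the single
term `(q, Φ.N r s, 1, 1)` when `Φ.sum r s = some q`. -/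
structure SLCompat (D : ChevalleyDatum) (Φ : SLRoots) : Prop where
  n_eq : Φ.n = D.nroots
  neg_eq : ∀ r, r < D.nroots → Φ.neg r = D.neg r
  comm_nil : ∀ r s, r < D.nroots → s < D.nroots → s ≠ r → s ≠ D.neg r → Φ.sum r s = none →
    D.commTerms r s = []
  comm_one : ∀ r s q, r < D.nroots → s < D.nroots → Φ.sum r s = some q →
    D.commTerms r s = [(q, Φ.N r s, 1, 1)]

namespace SLRoots
variable (Φ : SLRoots)

/-- two roots whose sum is a root are distinct -/
theorem ne_of_sum {r s q : ℕ} (hr : r < Φ.n) (hs : s < Φ.n) (h : Φ.sum r s = some q) : s ≠ r := by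
  rintro rfl
  have h1 := Φ.ip_of_sum _ _ _ hr hs h
  rw [Φ.ip_self s hr] at h1
  omega

/-- two roots whose sum is a root are not opposite -/
theorem ne_neg_of_sum {r s q : ℕ} (hr : r < Φ.n) (hs : s < Φ.n) (h : Φ.sum r s = some q) :
    s ≠ Φ.neg r := by
  rintro rfl
  have h1 := Φ.ip_of_sum _ _ _ hr hs h
  rw [Φ.ip_neg r r hr hr, Φ.ip_self r hr] at h1
  omega

end SLRoots

end Cfsg.Agent.Lib.Lead.CentCl
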