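import Cfsg.Agent.Lib.Lead.CentClI
import Cfsg.Agent.Lib.Helper7.ChevLin
import Cfsg.Agent.Lib.Helper7.ChevWordGL

/-! Simply laced root data from the tables of a Chevalley datum, checked against a table of rows: the definitions of
the checks and what they mean (lead). -/

set_option autoImplicit false

namespace Cfsg.Agent.Lib.Lead.CentCl

open Cfsg Cfsg.Lie Cfsg.Agent.Lib.Helper7

/-- the sum `r + s`, if the commutator formula of `r`, `s` is not trivial -/
def sumT (D : ChevalleyDatum) (r s : ℕ) : Option ℕ := (D.commTerms r s).head?.map Prod.fst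

/-- the sign in the commutator formula of `r`, `s` -/
def NT (D : ChevalleyDatum) (r s : ℕ) : ℤ := ((D.commTerms r s).head?.map fun c => c.2.1).getD 0

/-- the row of the root `r`: its coefficients `w` on the fundamental roots, the Cartan integers `c` of the fundamental
roots with `r`, the masks `P`, `Z`, `M` of the roots with inner product `1`, `0`, `-1` with `r`, a root `b` with
inner product `1` with `r`, and the masks `Pb`, `Mb` of `b` -/
structure SLRow where
  w : List ℤ
  c : List ℤ
  P : ℕ
  Z : ℕ
  M : ℕ
  b : ℕ
  Pb : ℕ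
  Mb : ℕ

instance : Inhabited SLRow := ⟨⟨[], [], 0, 0, 0, 0, 0, 0⟩⟩

/-- the sum of the products of the entries -/
def dot : List ℤ → List ℤ → ℤ
  | a :: w, b :: c => a * b + dot w c
  | _, _ => 0

theorem dot_eq_sum (w c : List ℤ) (m : ℕ) (hm : c.length ≤ m) :
    dot w c = ((List.range m).map fun k => w.getD k 0 * c.getD k 0).sum := by
  induction w generalizing c m with
  | nil =>
    rw [show dot [] c = 0 by unfold dot; rfl]
    symm
    apply List.sum_eq_zero
    intro x hx
    rw [List.mem_map] at hx
    obtain ⟨k, -, rfl⟩ := hx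
    simp
  | cons a w ih =>
    cases c with
    | nil =>
      rw [show dot (a :: w) [] = 0 by unfold dot; rfl]
      symm
      apply List.sum_eq_zero
      intro x hx
      rw [List.mem_map] at hx
      obtain ⟨k, -, rfl⟩ := hx
      simp
    | cons b c =>
      rw [show dot (a :: w) (b :: c) = a * b + dot w c by rw [dot]]
      cases m with
      | zero => simp at hm
      | succ m =>
        rw [List.range_succ_eq_map, List.map_cons, List.sum_cons, List.map_map]
        rw [ih c m (by simpa using hm)]
        rfl

/-- the check of the value `v` of the inner product of `r` and `s` against the masks of `r` -/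
def entryChk (p z m : ℕ) (r s : ℕ) (v : ℤ) : Bool :=
  match (v + 2).toNat with
  | 0 => (v == -2) && !p.testBit s && !z.testBit s && !m.testBit s && (r != s)
  | 1 => !p.testBit s && !z.testBit s && m.testBit s && (r != s)
  | 2 => !p.testBit s && z.testBit s && !m.testBit s && (r != s)
  | 3 => p.testBit s && !z.testBit s && !m.testBit s && (r != s)
  | 4 => !p.testBit s && !z.testBit s && !m.testBit s && (r == s)
  | _ => false

theorem entryChk_spec {p z m r s : ℕ} {v : ℤ} (h : entryChk p z m r s v = true) :
    -2 ≤ v ∧ v ≤ 2 ∧ (v = 2 ↔ r = s) ∧ (p.testBit s = true ↔ v = 1) ∧ (z.testBit s = true ↔ v = 0) ∧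
      (m.testBit s = true ↔ v = -1) := by
  unfold entryChk at h
  split at h
  · rename_i h0
    simp only [Bool.and_eq_true, beq_iff_eq, Bool.not_eq_true', bne_iff_ne] at h
    obtain ⟨⟨⟨⟨h1, h2⟩, h3⟩, h4⟩, h5⟩ := h
    subst h1
    refine ⟨le_refl _, by norm_num, ?_, ?_, ?_, ?_⟩
    · constructor
      · intro h; norm_num at h
      · intro h; exact absurd h h5
    · rw [h2]; simp
    · rw [h3]; simp
    · rw [h4]; simp
  · rename_i h0
    have hv : v = -1 := by omega
    simp only [Bool.and_eq_true, Bool.not_eq_true', bne_iff_ne] at h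
    obtain ⟨⟨⟨h2, h3⟩, h4⟩, h5⟩ := h
    subst hv
    refine ⟨by norm_num, by norm_num, ?_, ?_, ?_, ?_⟩
    · constructor
      · intro h; norm_num at h
      · intro h; exact absurd h h5
    · rw [h2]; simp
    · rw [h3]; simp
    · rw [h4]; simp
  · rename_i h0
    have hv : v = 0 := by omega
    simp only [Bool.and_eq_true, Bool.not_eq_true', bne_iff_ne] at h
    obtain ⟨⟨⟨h2, h3⟩, h4⟩, h5⟩ := h
    subst hv
    refine ⟨by norm_num, by norm_num, ?_, ?_, ?_, ?_⟩
    · constructor
      · intro h; norm_num at h
      · intro h; exact absurd h h5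
    · rw [h2]; simp
    · rw [h3]; simp
    · rw [h4]; simp
  · rename_i h0
    have hv : v = 1 := by omega
    simp only [Bool.and_eq_true, Bool.not_eq_true', bne_iff_ne] at h
    obtain ⟨⟨⟨h2, h3⟩, h4⟩, h5⟩ := h
    subst hv
    refine ⟨by norm_num, by norm_num, ?_, ?_, ?_, ?_⟩
    · constructor
      · intro h; norm_num at h
      · intro h; exact absurd h h5
    · rw [h2]; simp
    · rw [h3]; simp
    · rw [h4]; simp
  · rename_i h0
    have hv : v = 2 := by omega
    simp only [Bool.and_eq_true, Bool.not_eq_true', beq_iff_eq] at h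
    obtain ⟨⟨⟨h2, h3⟩, h4⟩, h5⟩ := h
    subst hv
    refine ⟨by norm_num, by norm_num, ?_, ?_, ?_, ?_⟩
    · constructor
      · intro _; exact h5
      · intro _; rfl
    · rw [h2]; simp
    · rw [h3]; simp
    · rw [h4]; simp
  · exact absurd h (by simp)

end Cfsg.Agent.Lib.Lead.CentCl
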