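import Cfsg.Agent.Lib.Lead.CentClT

/-! The checks of the table of rows: pairs of roots, base roots, and the chain table (lead). -/

set_option autoImplicit false

namespace Cfsg.Agent.Lib.Lead.CentCl

open Cfsg Cfsg.Lie Cfsg.Agent.Lib.Helper7

/-- the check of the pair of roots `(r, s)` with rows `ρ`, `σ` -/
def pairChk (ρ : SLRow) (r : ℕ) (σ : SLRow) (s : ℕ) : Bool :=
  entryChk ρ.P ρ.Z ρ.M r s (dot ρ.w σ.c) &&
  (ρ.P.testBit s == σ.P.testBit r) && (ρ.Z.testBit s == σ.Z.testBit r) && (ρ.M.testBit s == σ.M.testBit r) &&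
  (!ρ.Z.testBit s || (ρ.P &&& σ.Z) != 0) &&
  (!ρ.P.testBit s || (ρ.P &&& (σ.Z ||| σ.P)) != 0) &&
  (!ρ.M.testBit s || (σ.P &&& ρ.Z) != 0) &&
  (!ρ.P.testBit s || (s == ρ.b) || ρ.Pb.testBit s || ρ.Mb.testBit s || (ρ.P &&& σ.P &&& ρ.Pb) != 0)

/-- all pairs of roots `(r, s)` with `lo ≤ r < hi` pass the check -/
def pairB (rows : List SLRow) (lo hi : ℕ) : Bool :=
  rows.zipIdx.all fun ρr => !(decide (lo ≤ ρr.2) && decide (ρr.2 < hi)) ||
    rows.zipIdx.all fun σs => pairChk ρr.1 ρr.2 σs.1 σs.2

theorem mem_zipIdx_getD {α : Type*} [Inhabited α] (L : List α) (r : ℕ) (hr : r < L.length) :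
    (L.getD r default, r) ∈ L.zipIdx := by
  rw [List.mk_mem_zipIdx_iff_getElem?, List.getD_eq_getElem?_getD, List.getElem?_eq_getElem hr]
  rfl

theorem pairChk_of_pairB (rows : List SLRow) (lo hi : ℕ) (h : pairB rows lo hi = true)
    (r s : ℕ) (hr : r < rows.length) (hlo : lo ≤ r) (hhi : r < hi) (hs : s < rows.length) :
    pairChk (rows.getD r default) r (rows.getD s default) s = true := by
  unfold pairB at h
  rw [List.all_eq_true] at h
  have := h _ (mem_zipIdx_getD rows r hr)
  simp only [Bool.or_eq_true, Bool.not_eq_true', Bool.and_eq_false_iff, decide_eq_false_iff_not,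
    List.all_eq_true] at this
  rcases this with (h1 | h1) | h1
  · exact absurd hlo h1
  · exact absurd hhi h1
  · exact h1 _ (mem_zipIdx_getD rows s hs)

/-- the check of the row of the root `q`: the masks are below `2 ^ n`, the base root and its masks, and the Cartan
integers -/
def baseChk (D : ChevalleyDatum) (rows : List SLRow) (ρ : SLRow) (q : ℕ) : Bool :=
  decide (ρ.P < 2 ^ D.nroots) && decide (ρ.b < D.nroots) && ρ.P.testBit ρ.b &&
  (ρ.Pb == (rows.getD ρ.b default).P) && (ρ.Mb == (rows.getD ρ.b default).M) &&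
  (ρ.c == (List.range D.rank).map fun k => D.cartan k q)

def baseB (D : ChevalleyDatum) (rows : List SLRow) : Bool :=
  (rows.length == D.nroots) && rows.zipIdx.all fun ρq => baseChk D rows ρq.1 ρq.2

theorem baseB_length (D : ChevalleyDatum) (rows : List SLRow) (h : baseB D rows = true) :
    rows.length = D.nroots := by
  unfold baseB at h
  rw [Bool.and_eq_true, beq_iff_eq] at h
  exact h.1

theorem baseChk_of_baseB (D : ChevalleyDatum) (rows : List SLRow) (h : baseB D rows = true)
    (q : ℕ) (hq : q < D.nroots) : baseChk D rows (rows.getD q default) q = true := by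
  have hlen := baseB_length D rows h
  unfold baseB at h
  rw [Bool.and_eq_true, List.all_eq_true] at h
  exact h.2 _ (mem_zipIdx_getD rows q (by rw [hlen]; exact hq))

theorem baseChk_spec (D : ChevalleyDatum) (rows : List SLRow) (ρ : SLRow) (q : ℕ)
    (h : baseChk D rows ρ q = true) :
    ρ.P < 2 ^ D.nroots ∧ ρ.b < D.nroots ∧ ρ.P.testBit ρ.b = true ∧ ρ.Pb = (rows.getD ρ.b default).P ∧
      ρ.Mb = (rows.getD ρ.b default).M ∧ ρ.c = (List.range D.rank).map fun k => D.cartan k q := by
  unfold baseChk at h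
  simp only [Bool.and_eq_true, decide_eq_true_eq, beq_iff_eq] at h
  obtain ⟨⟨⟨⟨⟨h1, h2⟩, h3⟩, h4⟩, h5⟩, h6⟩ := h
  exact ⟨h1, h2, h3, h4, h5, h6⟩

/-- the inner product, computed from the rows, is the functional of the coefficients -/
theorem dot_eq_linF (D : ChevalleyDatum) (w : List ℤ) (s : ℕ) :
    dot w ((List.range D.rank).map fun k => D.cartan k s) = linF D w s := by
  rw [dot_eq_sum w _ D.rank (by simp)]
  unfold linF
  congr 1
  apply List.map_congr_left
  intro k hk
  rw [List.mem_range] at hk
  congr 1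
  rw [List.getD_eq_getElem?_getD, List.getElem?_map, List.getElem?_range hk]
  rfl

/-- the check of the row of `r` in the chain table: every entry is a single term with sign `±1`, and the mask of the
keys is `m` -/
def chainRowChk (n : ℕ) (es : List (ℕ × Array (ℕ × ℤ))) (m : ℕ) : Bool :=
  (es.all fun e => decide (e.1 < n) && (match e.2.toList with | [(_, C)] => C == 1 || C == -1 | _ => false)) &&
  (es.foldl (fun acc e => acc ||| (1 <<< e.1)) 0 == m)

def chainB (D : ChevalleyDatum) (rows : List SLRow) : Bool :=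
  (D.chain.size == D.nroots) &&
  (List.zip D.chain.toList rows).all fun cr => chainRowChk D.nroots cr.1.toList cr.2.M

theorem testBit_foldl_or (es : List (ℕ × Array (ℕ × ℤ))) (a s : ℕ) :
    (es.foldl (fun acc e => acc ||| (1 <<< e.1)) a).testBit s = (a.testBit s || es.any fun e => e.1 == s) := by
  induction es generalizing a with
  | nil => simp
  | cons e es ih =>
    rw [List.foldl_cons, ih, Nat.testBit_or, List.any_cons, Nat.one_shiftLeft, Nat.testBit_two_pow,
      Bool.or_assoc]
    congr 2

theorem chainRowChk_spec (n : ℕ) (es : List (ℕ × Array (ℕ × ℤ))) (m : ℕ) (h : chainRowChk n es m = true) :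
    (∀ e ∈ es, ∃ q C, e.2.toList = [(q, C)] ∧ (C = 1 ∨ C = -1)) ∧
      ∀ s, m.testBit s = true ↔ ∃ e ∈ es, e.1 = s := by
  unfold chainRowChk at h
  rw [Bool.and_eq_true, List.all_eq_true, beq_iff_eq] at h
  obtain ⟨h1, h2⟩ := h
  constructor
  · intro e he
    have := h1 e he
    rw [Bool.and_eq_true] at this
    have h3 := this.2
    split at h3
    · rename_i q C hqC
      refine ⟨q, C, hqC, ?_⟩
      simpa using h3
    · exact absurd h3 (by simp)
  · intro s
    rw [← h2, testBit_foldl_or, Nat.zero_testBit, Bool.false_or, List.any_eq_true]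
    constructor
    · rintro ⟨e, he, h⟩
      exact ⟨e, he, by simpa using h⟩
    · rintro ⟨e, he, h⟩
      exact ⟨e, he, by simpa using h⟩

theorem chainRowChk_of_chainB (D : ChevalleyDatum) (rows : List SLRow) (h : chainB D rows = true)
    (hlen : rows.length = D.nroots) (r : ℕ) (hr : r < D.nroots) :
    chainRowChk D.nroots (D.chain.getD r #[]).toList (rows.getD r default).M = true := by
  unfold chainB at h
  rw [Bool.and_eq_true, beq_iff_eq, List.all_eq_true] at h
  obtain ⟨hsz, h2⟩ := h
  have hr1 : r < D.chain.toList.length := by rw [Array.length_toList, hsz]; exact hr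
  have hr2 : r < rows.length := by rw [hlen]; exact hr
  have hmem : (D.chain.getD r #[], rows.getD r default) ∈ List.zip D.chain.toList rows := by
    rw [List.mem_iff_getElem]
    refine ⟨r, by rw [List.length_zip]; omega, ?_⟩
    rw [List.getElem_zip]
    congr 1
    · rw [Array.getD_eq_getD_getElem?, Array.getElem?_eq_getElem (by rw [← hsz] at hr; exact hr)]
      rfl
    · rw [List.getD_eq_getElem?_getD, List.getElem?_eq_getElem hr2]
      rfl
  exact h2 _ hmem

end Cfsg.Agent.Lib.Lead.CentCl
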