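import Cfsg.Agent.Lib.Lead.CentClT2

/-! What the checks of the table of rows mean for the chain table and the inner products (lead). -/

set_option autoImplicit false

namespace Cfsg.Agent.Lib.Lead.CentCl

open Cfsg Cfsg.Lie Cfsg.Agent.Lib.Helper7

/-- the table of rows passes all checks -/
structure TabOK (D : ChevalleyDatum) (rows : List SLRow) : Prop where
  hbase : baseB D rows = true
  hchain : chainB D rows = true
  hpair : ∀ r s, r < D.nroots → s < D.nroots →
    pairChk (rows.getD r default) r (rows.getD s default) s = true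

section
variable {D : ChevalleyDatum} {rows : List SLRow} (h : TabOK D rows)
include h

theorem chainEntry_spec (r s : ℕ) (hr : r < D.nroots) :
    ((rows.getD r default).M.testBit s = true ∧ ∃ q C, D.chainEntry r s = [(q, C)] ∧ (C = 1 ∨ C = -1)) ∨
    ((rows.getD r default).M.testBit s = false ∧ D.chainEntry r s = []) := by
  have h1 := chainRowChk_of_chainB D rows h.hchain (baseB_length D rows h.hbase) r hr
  obtain ⟨h2, h3⟩ := chainRowChk_spec _ _ _ h1
  unfold ChevalleyDatum.chainEntry
  cases hf : (D.chain.getD r #[]).toList.find? (fun e => decide (e.1 = s)) with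
  | none =>
    right
    refine ⟨?_, rfl⟩
    by_contra hcon
    rw [Bool.not_eq_false] at hcon
    obtain ⟨e, he, hes⟩ := (h3 s).mp hcon
    have := List.find?_eq_none.mp hf e he
    simp [hes] at this
  | some e =>
    left
    have he := List.mem_of_find?_eq_some hf
    have hes : e.1 = s := by simpa using List.find?_some hf
    refine ⟨(h3 s).mpr ⟨e, he, hes⟩, ?_⟩
    obtain ⟨q, C, hqC, hC⟩ := h2 e he
    exact ⟨q, C, hqC, hC⟩

theorem commTerms_spec (r s : ℕ) (hr : r < D.nroots) (hs : s < D.nroots) :
    ((rows.getD r default).M.testBit s = true ∧ ∃ q C, D.commTerms r s = [(q, C, 1, 1)] ∧ (C = 1 ∨ C = -1)) ∨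
    ((rows.getD r default).M.testBit s = false ∧ D.commTerms r s = []) := by
  rcases chainEntry_spec h r s hr with ⟨hb, q, C, he, hC⟩ | ⟨hb, he⟩
  · left
    refine ⟨hb, q, C, ?_, hC⟩
    rcases chainEntry_spec h s r hs with ⟨-, q', C', he', -⟩ | ⟨-, he'⟩
    · simp [ChevalleyDatum.commTerms, ChevalleyDatum.chainRoot, ChevalleyDatum.chainM, he, he']
    · simp [ChevalleyDatum.commTerms, ChevalleyDatum.chainRoot, ChevalleyDatum.chainM, he, he']
  · right
    refine ⟨hb, ?_⟩
    rcases chainEntry_spec h s r hs with ⟨-, q', C', he', -⟩ | ⟨-, he'⟩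
    · simp [ChevalleyDatum.commTerms, ChevalleyDatum.chainRoot, ChevalleyDatum.chainM, he, he']
    · simp [ChevalleyDatum.commTerms, ChevalleyDatum.chainRoot, ChevalleyDatum.chainM, he, he']

end

/-- the inner product of the roots `r` and `s` -/
def ipT (D : ChevalleyDatum) (rows : List SLRow) (r s : ℕ) : ℤ := linF D (rows.getD r default).w s

section
variable {D : ChevalleyDatum} {rows : List SLRow} (h : TabOK D rows)
include h

theorem ipT_eq_dot (r s : ℕ) (hs : s < D.nroots) :
    ipT D rows r s = dot (rows.getD r default).w (rows.getD s default).c := by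
  obtain ⟨-, -, -, -, -, h6⟩ := baseChk_spec D rows _ s (baseChk_of_baseB D rows h.hbase s hs)
  rw [h6, dot_eq_linF]
  rfl

theorem pair_entry (r s : ℕ) (hr : r < D.nroots) (hs : s < D.nroots) :
    -2 ≤ ipT D rows r s ∧ ipT D rows r s ≤ 2 ∧ (ipT D rows r s = 2 ↔ r = s) ∧
      ((rows.getD r default).P.testBit s = true ↔ ipT D rows r s = 1) ∧
      ((rows.getD r default).Z.testBit s = true ↔ ipT D rows r s = 0) ∧
      ((rows.getD r default).M.testBit s = true ↔ ipT D rows r s = -1) := by
  have h1 := h.hpair r s hr hs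
  unfold pairChk at h1
  simp only [Bool.and_eq_true] at h1
  rw [ipT_eq_dot h r s hs]
  exact entryChk_spec h1.1.1.1.1.1.1.1

theorem pair_symm (r s : ℕ) (hr : r < D.nroots) (hs : s < D.nroots) :
    (rows.getD r default).P.testBit s = (rows.getD s default).P.testBit r ∧
    (rows.getD r default).Z.testBit s = (rows.getD s default).Z.testBit r ∧
    (rows.getD r default).M.testBit s = (rows.getD s default).M.testBit r := by
  have h1 := h.hpair r s hr hs
  unfold pairChk at h1
  simp only [Bool.and_eq_true, beq_iff_eq] at h1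
  exact ⟨h1.1.1.1.1.1.1.2, h1.1.1.1.1.1.2, h1.1.1.1.1.2⟩

theorem ipT_symm (r s : ℕ) (hr : r < D.nroots) (hs : s < D.nroots) : ipT D rows r s = ipT D rows s r := by
  obtain ⟨a1, a2, a3, a4, a5, a6⟩ := pair_entry h r s hr hs
  obtain ⟨b1, b2, b3, b4, b5, b6⟩ := pair_entry h s r hs hr
  obtain ⟨c1, c2, c3⟩ := pair_symm h r s hr hs
  rw [c1] at a4
  rw [c2] at a5
  rw [c3] at a6
  have e1 : ipT D rows r s = 1 ↔ ipT D rows s r = 1 := a4.symm.trans b4
  have e2 : ipT D rows r s = 0 ↔ ipT D rows s r = 0 := a5.symm.trans b5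
  have e3 : ipT D rows r s = -1 ↔ ipT D rows s r = -1 := a6.symm.trans b6
  have e4 : ipT D rows r s = 2 ↔ ipT D rows s r = 2 := a3.trans (eq_comm.trans b3.symm)
  omega

theorem pair_mask (r s : ℕ) (hr : r < D.nroots) (hs : s < D.nroots) :
    ((rows.getD r default).Z.testBit s = true → (rows.getD r default).P &&& (rows.getD s default).Z ≠ 0) ∧
    ((rows.getD r default).P.testBit s = true →
      (rows.getD r default).P &&& ((rows.getD s default).Z ||| (rows.getD s default).P) ≠ 0) ∧
    ((rows.getD r default).M.testBit s = true → (rows.getD s default).P &&& (rows.getD r default).Z ≠ 0) ∧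
    ((rows.getD r default).P.testBit s = true → s = (rows.getD r default).b ∨
      (rows.getD r default).Pb.testBit s = true ∨ (rows.getD r default).Mb.testBit s = true ∨
      (rows.getD r default).P &&& (rows.getD s default).P &&& (rows.getD r default).Pb ≠ 0) := by
  have h1 := h.hpair r s hr hs
  unfold pairChk at h1
  simp only [Bool.and_eq_true, Bool.or_eq_true, Bool.not_eq_true', bne_iff_ne, beq_iff_eq] at h1
  obtain ⟨⟨⟨⟨-, h2⟩, h3⟩, h4⟩, h5⟩ := h1
  refine ⟨?_, ?_, ?_, ?_⟩
  · intro hb
    rcases h2 with h2 | h2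
    · rw [hb] at h2; exact absurd h2 (by simp)
    · exact h2
  · intro hb
    rcases h3 with h3 | h3
    · rw [hb] at h3; exact absurd h3 (by simp)
    · exact h3
  · intro hb
    rcases h4 with h4 | h4
    · rw [hb] at h4; exact absurd h4 (by simp)
    · exact h4
  · intro hb
    rcases h5 with (((h5 | h5) | h5) | h5) | h5
    · rw [hb] at h5; exact absurd h5 (by simp)
    · exact Or.inl h5
    · exact Or.inr (Or.inl h5)
    · exact Or.inr (Or.inr (Or.inl h5))
    · exact Or.inr (Or.inr (Or.inr h5))

theorem base_spec (q : ℕ) (hq : q < D.nroots) :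
    (rows.getD q default).P < 2 ^ D.nroots ∧ (rows.getD q default).b < D.nroots ∧
      (rows.getD q default).P.testBit (rows.getD q default).b = true ∧
      (rows.getD q default).Pb = (rows.getD (rows.getD q default).b default).P ∧
      (rows.getD q default).Mb = (rows.getD (rows.getD q default).b default).M := by
  obtain ⟨h1, h2, h3, h4, h5, -⟩ := baseChk_spec D rows _ q (baseChk_of_baseB D rows h.hbase q hq)
  exact ⟨h1, h2, h3, h4, h5⟩

end

theorem exists_bit_of_and_ne_zero {a b : ℕ} (h : a &&& b ≠ 0) : ∃ i, a.testBit i = true ∧ b.testBit i = true := by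
  by_contra hcon
  apply h
  apply Nat.eq_of_testBit_eq
  intro i
  rw [Nat.testBit_and, Nat.zero_testBit]
  by_contra h2
  apply hcon
  refine ⟨i, ?_, ?_⟩
  · cases ha : a.testBit i <;> simp_all
  · cases hb : b.testBit i <;> simp_all

theorem lt_of_testBit {a n i : ℕ} (h : a < 2 ^ n) (hi : a.testBit i = true) : i < n := by
  by_contra hcon
  have h1 : a < 2 ^ i := lt_of_lt_of_le h (Nat.pow_le_pow_right (by norm_num) (by omega))
  rw [Nat.testBit_lt_two_pow h1] at hi
  exact Bool.noConfusion hi

end Cfsg.Agent.Lib.Lead.CentCl
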