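import Cfsg.Agent.Lib.Lead.CentClT3

/-! The simply laced root data of a Chevalley datum whose table of rows passes the checks (lead). -/

set_option autoImplicit false

namespace Cfsg.Agent.Lib.Lead.CentCl

open Cfsg Cfsg.Lie Cfsg.Agent.Lib.Helper7

section
variable {D : ChevalleyDatum} (hD : D ∈ [chevG2, chevB2, chevD4, chevF4, chevE6, chevE7, chevE8])
variable {rows : List SLRow} (h : TabOK D rows)
include h

theorem sumT_some {r s q : ℕ} (hr : r < D.nroots) (hs : s < D.nroots) (hsum : sumT D r s = some q) :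
    (rows.getD r default).M.testBit s = true ∧ D.commTerms r s = [(q, NT D r s, 1, 1)] ∧
      (NT D r s = 1 ∨ NT D r s = -1) := by
  rcases commTerms_spec h r s hr hs with ⟨hb, q', C, hc, hC⟩ | ⟨hb, hc⟩
  · unfold sumT at hsum
    rw [hc] at hsum
    simp only [List.head?_cons, Option.map_some, Option.some.injEq] at hsum
    subst hsum
    have hN : NT D r s = C := by
      unfold NT
      rw [hc]
      rfl
    rw [hN]
    exact ⟨hb, hc, hC⟩
  · unfold sumT at hsum
    rw [hc] at hsum
    exact absurd hsum (by simp)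

theorem sumT_none {r s : ℕ} (hr : r < D.nroots) (hs : s < D.nroots) (hsum : sumT D r s = none) :
    (rows.getD r default).M.testBit s = false ∧ D.commTerms r s = [] := by
  rcases commTerms_spec h r s hr hs with ⟨hb, q', C, hc, hC⟩ | ⟨hb, hc⟩
  · unfold sumT at hsum
    rw [hc] at hsum
    exact absurd hsum (by simp)
  · exact ⟨hb, hc⟩

theorem sumT_of_bit {r s : ℕ} (hr : r < D.nroots) (hs : s < D.nroots)
    (hb : (rows.getD r default).M.testBit s = true) : ∃ q, sumT D r s = some q := by
  rcases commTerms_spec h r s hr hs with ⟨-, q', C, hc, hC⟩ | ⟨hb', hc⟩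
  · refine ⟨q', ?_⟩
    unfold sumT
    rw [hc]
    rfl
  · rw [hb] at hb'
    exact absurd hb' (by simp)

include hD

/-- the simply laced root data of `D` -/
def mkSL : SLRoots where
  n := D.nroots
  neg := D.neg
  sum := sumT D
  N := NT D
  ip := ipT D rows
  base := fun q => (rows.getD q default).b
  neg_lt := fun r hr => (negInvOK_of_mem D hD r hr).2.1
  neg_neg := fun r hr => (negInvOK_of_mem D hD r hr).1
  sum_lt := by
    intro r s q hr hs hsum
    obtain ⟨-, hc, -⟩ := sumT_some h hr hs hsum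
    have := (chainAdd_linF D hD []).commTerms D hD r s hr hs (q, NT D r s, 1, 1) (by rw [hc]; simp)
    exact this.1
  N_unit := by
    intro r s q hr hs hsum
    exact (sumT_some h hr hs hsum).2.2
  ip_symm := fun r s hr hs => ipT_symm h r s hr hs
  ip_self := fun r hr => (pair_entry h r r hr hr).2.2.1.mpr rfl
  ip_le := fun r s hr hs => (pair_entry h r s hr hs).2.1
  ip_neg := by
    intro r s hr hs
    exact (chainAdd_linF D hD (rows.getD r default).w).negA s hs (negInvOK_of_mem D hD s hs).2.1
  ip_add := by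
    intro r s q hr hs hsum x hx
    obtain ⟨-, hc, -⟩ := sumT_some h hr hs hsum
    have := (chainAdd_linF D hD (rows.getD x default).w).commTerms D hD r s hr hs (q, NT D r s, 1, 1)
      (by rw [hc]; simp)
    have h4 := this.2.2.2
    simp only [Nat.cast_one, one_mul] at h4
    exact h4
  eq_of_ip := fun r s hr hs hv => (pair_entry h r s hr hs).2.2.1.mp hv
  sum_of_ip := by
    intro r s hr hs hv
    exact sumT_of_bit h hr hs ((pair_entry h r s hr hs).2.2.2.2.2.mpr hv)
  ip_of_sum := by
    intro r s q hr hs hsum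
    exact (pair_entry h r s hr hs).2.2.2.2.2.mp (sumT_some h hr hs hsum).1
  ex0 := by
    intro r s hr hs hv
    have hb := (pair_entry h r s hr hs).2.2.2.2.1.mpr hv
    obtain ⟨a, ha1, ha2⟩ := exists_bit_of_and_ne_zero ((pair_mask h r s hr hs).1 hb)
    have ha : a < D.nroots := lt_of_testBit (base_spec h r hr).1 ha1
    refine ⟨a, ha, ?_, ?_⟩
    · rw [ipT_symm h a r ha hr]
      exact (pair_entry h r a hr ha).2.2.2.1.mp ha1
    · rw [ipT_symm h a s ha hs]
      exact (pair_entry h s a hs ha).2.2.2.2.1.mp ha2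
  ex1 := by
    intro r s hr hs hv
    have hb := (pair_entry h r s hr hs).2.2.2.1.mpr hv
    obtain ⟨a, ha1, ha2⟩ := exists_bit_of_and_ne_zero ((pair_mask h r s hr hs).2.1 hb)
    have ha : a < D.nroots := lt_of_testBit (base_spec h r hr).1 ha1
    refine ⟨a, ha, ?_, ?_⟩
    · rw [ipT_symm h a r ha hr]
      exact (pair_entry h r a hr ha).2.2.2.1.mp ha1
    · rw [ipT_symm h a s ha hs]
      rw [Nat.testBit_or, Bool.or_eq_true] at ha2
      rcases ha2 with ha2 | ha2
      · exact Or.inl ((pair_entry h s a hs ha).2.2.2.2.1.mp ha2)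
      · exact Or.inr ((pair_entry h s a hs ha).2.2.2.1.mp ha2)
  ex2 := by
    intro r hr
    obtain ⟨h1, h2, h3, -, -⟩ := base_spec h r hr
    refine ⟨(rows.getD r default).b, h2, ?_⟩
    rw [ipT_symm h _ r h2 hr]
    exact (pair_entry h r _ hr h2).2.2.2.1.mp h3
  exm := by
    intro r s hr hs hv
    have hb := (pair_entry h r s hr hs).2.2.2.2.2.mpr hv
    obtain ⟨a, ha1, ha2⟩ := exists_bit_of_and_ne_zero ((pair_mask h r s hr hs).2.2.1 hb)
    have ha : a < D.nroots := lt_of_testBit (base_spec h s hs).1 ha1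
    refine ⟨a, ha, ?_, ?_⟩
    · rw [ipT_symm h a s ha hs]
      exact (pair_entry h s a hs ha).2.2.2.1.mp ha1
    · rw [ipT_symm h a r ha hr]
      exact (pair_entry h r a hr ha).2.2.2.2.1.mp ha2
  base_lt := fun q hq => (base_spec h q hq).2.1
  base_ip := by
    intro q hq
    obtain ⟨h1, h2, h3, -, -⟩ := base_spec h q hq
    rw [ipT_symm h _ q h2 hq]
    exact (pair_entry h q _ hq h2).2.2.2.1.mp h3
  conn := by
    intro q x hq hx hv
    obtain ⟨h1, h2, h3, h4, h5⟩ := base_spec h q hq
    rw [ipT_symm h x q hx hq] at hv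
    have hb := (pair_entry h q x hq hx).2.2.2.1.mpr hv
    rcases (pair_mask h q x hq hx).2.2.2 hb with h6 | h6 | h6 | h6
    · exact Or.inl h6
    · right; left
      rw [h4] at h6
      rw [ipT_symm h x _ hx h2]
      exact (pair_entry h _ x h2 hx).2.2.2.1.mp h6
    · right; right; left
      rw [h5] at h6
      rw [ipT_symm h x _ hx h2]
      exact (pair_entry h _ x h2 hx).2.2.2.2.2.mp h6
    · right; right; right
      obtain ⟨z, hz1, hz3⟩ := exists_bit_of_and_ne_zero h6
      rw [Nat.testBit_and, Bool.and_eq_true] at hz1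
      obtain ⟨hz1, hz2⟩ := hz1
      have hz : z < D.nroots := lt_of_testBit h1 hz1
      refine ⟨z, hz, ?_, ?_, ?_⟩
      · rw [ipT_symm h z q hz hq]
        exact (pair_entry h q z hq hz).2.2.2.1.mp hz1
      · rw [ipT_symm h z x hz hx]
        exact (pair_entry h x z hx hz).2.2.2.1.mp hz2
      · rw [h4] at hz3
        rw [ipT_symm h z _ hz h2]
        exact (pair_entry h _ z h2 hz).2.2.2.1.mp hz3

theorem mkSL_compat : SLCompat D (mkSL hD h) where
  n_eq := rfl
  neg_eq := fun _ _ => rfl
  comm_nil := by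
    intro r s hr hs _ _ hsum
    exact (sumT_none h hr hs hsum).2
  comm_one := by
    intro r s q hr hs hsum
    exact (sumT_some h hr hs hsum).2.1

end

end Cfsg.Agent.Lib.Lead.CentCl
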