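import Cfsg.Agent.Lib.Lead.CentClChkE8a
import Cfsg.Agent.Lib.Lead.CentClChkE8p0
import Cfsg.Agent.Lib.Lead.CentClChkE8p1
import Cfsg.Agent.Lib.Lead.CentClChkE8p2
import Cfsg.Agent.Lib.Lead.CentClChkE8p3

/-! The simply laced root data of type E8 (lead). -/

set_option autoImplicit false
set_option maxRecDepth 1000000

namespace Cfsg.Agent.Lib.Lead.CentCl

open Cfsg Cfsg.Lie Cfsg.Agent.Lib.Helper7

theorem tabOK_E8 : TabOK chevE8 rowsE8 where
  hbase := baseB_E8
  hchain := chainB_E8
  hpair := by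
    intro r s hr hs
    have hr' : r < rowsE8.length := by rw [baseB_length _ _ baseB_E8]; exact hr
    have hs' : s < rowsE8.length := by rw [baseB_length _ _ baseB_E8]; exact hs
    by_cases h0 : r < 60
    · exact pairChk_of_pairB _ _ _ pairB_E8_0 r s hr' (by omega) h0 hs'
    by_cases h1 : r < 120
    · exact pairChk_of_pairB _ _ _ pairB_E8_1 r s hr' (by omega) h1 hs'
    by_cases h2 : r < 180
    · exact pairChk_of_pairB _ _ _ pairB_E8_2 r s hr' (by omega) h2 hs'
    exact pairChk_of_pairB _ _ _ pairB_E8_3 r s hr' (by omega) (by have : chevE8.nroots = 240 := rfl; omega) hs'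

theorem mem_E8 : chevE8 ∈ [chevG2, chevB2, chevD4, chevF4, chevE6, chevE7, chevE8] := by simp

/-- the simply laced root data of type E8 -/
def slE8 : SLRoots := mkSL mem_E8 tabOK_E8

theorem slE8_compat : SLCompat chevE8 slE8 := mkSL_compat mem_E8 tabOK_E8

end Cfsg.Agent.Lib.Lead.CentCl
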