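import Cfsg.Agent.Lib.Lead.CentClG
import Cfsg.Agent.Lib.Lead.CentClU
import Cfsg.Agent.Lib.Helper7.ChevStCoverMain
import Cfsg.Agent.Lib.Helper7.ChevLongCent

/-! Universality of the group presented by (R1), (R2) for a simply laced type with enough roots, over any field:
every homomorphism to the base of a central extension lifts uniquely (lead). -/

set_option autoImplicit false

namespace Cfsg.Agent.Lib.Lead.CentCl

open Cfsg Cfsg.Lie Cfsg.Agent.Lib.Helper7 Cfsg.Agent.Lib.Helper11.StPres

section
variable {D : ChevalleyDatum} (hD : D ∈ [chevG2, chevB2, chevD4, chevF4, chevE6, chevE7, chevE8])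
variable {Φ : SLRoots} (hC : SLCompat D Φ) {K : Type*} [Field K]

include hD hC in
/-- every central extension of the group presented by (R1), (R2) splits -/
theorem exists_section {P : Type*} [Group P] (π : P →* D.SteinbergCover K) (hπ : Function.Surjective π)
    (hc : π.ker ≤ Subgroup.center P) :
    ∃ s : D.SteinbergCover K →* P, π.comp s = MonoidHom.id (D.SteinbergCover K) := by
  set S := mkData (D := D) (K := K) hD (D.steinbergRelsAB K) (le_refl _) (liftF_relsAB D hD K) with hS
  let Y : SLGens Φ K (D.SteinbergCover K) := SLGens.ofStData hC S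
  have hY : ∀ r t, Y.y r t = S.x r t := fun r t => rfl
  have hinj : ∀ q, q < Φ.n → Function.Injective (Y.y q) := by
    intro q hq t t' htt
    have hq' : q < D.nroots := hC.n_eq ▸ hq
    rw [hY, hY] at htt
    have h1 : S.θ (S.x q t) = S.θ (S.x q t') := congrArg S.θ htt
    rw [S.θ_x q hq', S.θ_x q hq'] at h1
    exact xGL_param_inj D hD K q hq' t t' h1
  obtain ⟨Y', hY'⟩ := exists_lift Y π hπ hc hinj
  refine ⟨coverHom hC Y', ?_⟩
  apply PresentedGroup.ext
  rintro ⟨⟨r, hr⟩, t⟩
  have h1 : PresentedGroup.of (rels := D.steinbergRelsAB K) ((⟨r, hr⟩ : Fin D.nroots), t) = D.scGen K r t := by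
    unfold ChevalleyDatum.scGen ChevalleyDatum.stX PresentedGroup.of
    rw [dif_pos hr]
  rw [h1, MonoidHom.comp_apply, coverHom_scGen hC Y' r hr, hY' r (hC.n_eq ▸ hr) t, hY]
  rfl

include hD hC in
/-- **the group presented by (R1), (R2) is centrally closed**: homomorphisms to the base of a central extension lift
uniquely -/
theorem cover_universal_of_compat (hK : D ∈ [chevB2, chevG2] → ∃ x : K, x ≠ 0 ∧ x ≠ 1)
    {G₁ E : Type*} [Group G₁] [Group E] (π₁ : E →* G₁) (hπ : Function.Surjective π₁)
    (hc : π₁.ker ≤ Subgroup.center E) (σ : D.SteinbergCover K →* G₁) :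
    ∃! τ : D.SteinbergCover K →* E, π₁.comp τ = σ := by
  have hperf := stCover_perfect D hD K hK
  -- the pullback
  let P : Subgroup (E × D.SteinbergCover K) :=
    { carrier := {p | π₁ p.1 = σ p.2}
      mul_mem' := by
        intro a b ha hb
        show π₁ (a.1 * b.1) = σ (a.2 * b.2)
        rw [map_mul, map_mul, ha, hb]
      one_mem' := by
        show π₁ 1 = σ 1
        rw [map_one, map_one]
      inv_mem' := by
        intro a ha
        show π₁ a.1⁻¹ = σ a.2⁻¹
        rw [map_inv, map_inv, ha] }
  let π : P →* D.SteinbergCover K := (MonoidHom.snd E (D.SteinbergCover K)).comp P.subtype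
  have hπs : Function.Surjective π := by
    intro c
    obtain ⟨e, he⟩ := hπ (σ c)
    exact ⟨⟨(e, c), he⟩, rfl⟩
  have hπc : π.ker ≤ Subgroup.center P := by
    intro x hx
    rw [MonoidHom.mem_ker] at hx
    have hx2 : x.1.2 = 1 := hx
    have hx1 : x.1.1 ∈ π₁.ker := by
      rw [MonoidHom.mem_ker]
      have := x.2
      have h2 : π₁ x.1.1 = σ x.1.2 := this
      rw [h2, hx2, map_one]
    rw [Subgroup.mem_center_iff]
    intro y
    apply Subtype.ext
    apply Prod.ext
    · exact Subgroup.mem_center_iff.mp (hc hx1) y.1.1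
    · show y.1.2 * x.1.2 = x.1.2 * y.1.2
      rw [hx2, mul_one, one_mul]
  obtain ⟨s, hs⟩ := exists_section hD hC π hπs hπc
  have hs' : ∀ c, (s c).1.2 = c := fun c => congrArg (fun f => f c) hs
  refine ⟨((MonoidHom.fst E (D.SteinbergCover K)).comp P.subtype).comp s, ?_, ?_⟩
  · apply MonoidHom.ext
    intro c
    show π₁ (s c).1.1 = σ c
    have := (s c).2
    have h2 : π₁ (s c).1.1 = σ (s c).1.2 := this
    rw [h2, hs']
  · intro τ' hτ'
    symm
    apply hom_eq_of_perfect_of_central hperf
    intro c
    apply hc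
    rw [MonoidHom.mem_ker, map_mul, map_inv]
    have h1 : π₁ (τ' c) = σ c := congrArg (fun f => f c) hτ'
    have h2 : π₁ ((((MonoidHom.fst E (D.SteinbergCover K)).comp P.subtype).comp s) c) = σ c := by
      show π₁ (s c).1.1 = σ c
      have := (s c).2
      have h2 : π₁ (s c).1.1 = σ (s c).1.2 := this
      rw [h2, hs']
    rw [h1, h2, inv_mul_cancel]

end

end Cfsg.Agent.Lib.Lead.CentCl
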