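import Cfsg.Agent.Lib.Lead.BNFix
import Cfsg.Agent.Lib.Helper7.ChevCell
import Cfsg.Agent.Lib.Helper7.ChevCore

/-! Elements of a Chevalley group commuting with the fundamental root elements `x_p(1)` lie in the
Borel subgroup; elements commuting with all `x_r(1)` and the `n_p` are trivial (lead). -/

set_option autoImplicit false

namespace Cfsg.Agent.Lib.Lead.ChevCent

open Cfsg Cfsg.Agent.Lib.Helper3.BN Cfsg.Agent.Lib.Helper3.WordLen Cfsg.Agent.Lib.Helper7

section abstract
variable {G : Type*} [Group G] (P : Cfsg.BNPair G)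

local notation "ℓ" => len (Sbar P)

/-- if for every distinguished generator `s` there is `x ∈ B` with `g⁻¹ x g ∈ B` none of whose
conjugates `a⁻¹ x a`, `a ∈ B s B`, lies in `B`, then `g ∈ B` -/
theorem mem_B_of_conj (g : G)
    (hx : ∀ s, ∀ hs : s ∈ P.S, ∃ x ∈ P.B, g⁻¹ * x * g ∈ P.B ∧
      ∀ a ∈ C P (sb P s hs), a⁻¹ * x * a ∉ P.B) : g ∈ P.B := by
  have hS := Sbar_sq P
  have hgen := Sbar_closure P
  obtain ⟨w, hw⟩ := exists_C P g
  rcases Nat.eq_zero_or_pos (ℓ w) with h0 | hpos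
  · rw [len_eq_zero_iff hS hgen] at h0
    rw [h0, C_one] at hw
    exact hw
  · exfalso
    obtain ⟨k, hk⟩ : ∃ k, ℓ w = k + 1 := ⟨ℓ w - 1, by omega⟩
    obtain ⟨t, ht, hlen⟩ := exists_cons hS hgen hk
    obtain ⟨s, hs, rfl⟩ := exists_sb_of_mem P ht
    have hw' : sb P s hs * (sb P s hs * w) = w := sb_mul_cancel P hs w
    set w' := sb P s hs * w with hw'def
    have hle : ℓ w' ≤ ℓ (sb P s hs * w') := by rw [hw', hlen, hk]; omega
    rw [← hw'] at hw
    obtain ⟨a, haC, b, hbC, hgab⟩ := exists_mul_of_mem_C P hs w' hw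
    obtain ⟨x, hxB, hgx, hxa⟩ := hx s hs
    have hxaC : x * a ∈ C P (sb P s hs) := C_mul_left P haC hxB
    have hy : a⁻¹ * x * a ∈ C P (sb P s hs) := by
      rcases inv_mul_mem_B_or_C P hs haC hxaC with h | h
      · exfalso; apply hxa a haC; rw [mul_assoc]; exact h
      · rw [mul_assoc]; exact h
    have h1 : a⁻¹ * x * a * b ∈ C P (sb P s hs * w') := C_mul_C P hs hle hy hbC
    have h2 : a⁻¹ * x * a * b = b * (g⁻¹ * x * g) := by rw [hgab]; group
    rw [h2] at h1
    have h3 : b * (g⁻¹ * x * g) ∈ C P w' := C_mul_right P hbC hgx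
    have h4 := eq_of_common P h1 h3
    exact sb_ne_one P hs (mul_eq_right.mp h4)

end abstract

open Cfsg.Lie Matrix

section
variable (D : ChevalleyDatum) (hD : D ∈ [chevG2, chevB2, chevD4, chevF4, chevE6, chevE7, chevE8])
variable (F : Type*) [Field F]
include hD

/-- `H` normalises `U_p` -/
theorem diagonal_le_normalizer_up (i : ℕ) :
    D.diagonalSubgroup F ≤ Subgroup.normalizer (upSubgroup D F i : Set (GL D.Idx F)) := by
  intro h hh
  obtain ⟨χ, hχ, hhm⟩ := mem_diagonalSubgroup_char D hD F h hh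
  have key : ∀ (h : GL D.Idx F) (χ : ℕ → F), ChainChar D F χ →
      (h : Matrix D.Idx D.Idx F) = diagChar D F χ →
      ∀ x ∈ {g : GL D.Idx F | ∃ (s : ℕ) (t : F), D.IsPosRoot s ∧ s ≠ D.simple i ∧
        (g : Matrix D.Idx D.Idx F) = D.x F s t}, h * x * h⁻¹ ∈ upSubgroup D F i := by
    intro h χ hχ hhm x hx
    obtain ⟨s, t, hs, hne, hxm⟩ := hx
    have hx' : x = xGL D hD F s t := Units.ext (by rw [hxm, coe_xGL])
    rw [hx', diagGL_xGL_comm D hD F h χ hχ hhm, mul_assoc, mul_inv_cancel, mul_one]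
    apply Subgroup.subset_closure
    exact ⟨s, χ s * t, hs, hne, coe_xGL D hD F s _⟩
  apply mem_normalizer_closure
  · exact key h χ hχ hhm
  · intro x hx
    have := key h⁻¹ _ hχ.inv (coe_inv_of_diagChar D F h χ hχ.ne0 hhm) x hx
    rwa [inv_inv] at this

/-- `B` normalises `U_p` -/
theorem borel_le_normalizer_up (i : ℕ) (hi : i < D.rank) :
    D.borelSubgroup F ≤ Subgroup.normalizer (upSubgroup D F i : Set (GL D.Idx F)) := by
  unfold ChevalleyDatum.borelSubgroup
  apply sup_le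
  · rw [← up_sup_rootSubgroup D hD F i hi]
    apply sup_le
    · exact Subgroup.le_normalizer
    · exact le_trans le_sup_left (rootSubgroup_le_normalizer_up D hD F i hi)
  · exact diagonal_le_normalizer_up D hD F i

/-- `B` normalises `U` -/
theorem borel_le_normalizer_posUnipotent :
    D.borelSubgroup F ≤ Subgroup.normalizer (D.posUnipotent F : Set (GL D.Idx F)) := by
  unfold ChevalleyDatum.borelSubgroup
  apply sup_le
  · exact Subgroup.le_normalizer
  · exact diagonalSubgroup_le_normalizer_posUnipotent D hD F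

/-- no `B`-conjugate of `x_p(1)` is carried into `B` by `n_p` -/
theorem nFund_conj_conj_not_mem (i : ℕ) (hi : i < D.rank) (b : GL D.Idx F) (hb : b ∈ D.borelSubgroup F) :
    (nFund D hD F i)⁻¹ * (b⁻¹ * xGL D hD F (D.simple i) 1 * b) * nFund D hD F i ∉ D.borelSubgroup F := by
  intro hmem
  set n := nFund D hD F i with hn
  set x := xGL D hD F (D.simple i) 1 with hx
  have hpos := (parFacts_of_mem D hD).simplePos i hi
  have hxU : x ∈ D.posUnipotent F := by
    apply Subgroup.subset_closure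
    exact ⟨_, 1, hpos, coe_xGL D hD F _ _⟩
  have hbinv : b⁻¹ ∈ D.borelSubgroup F := Subgroup.inv_mem _ hb
  have hvU : b⁻¹ * x * b ∈ D.posUnipotent F := by
    have h1 := borel_le_normalizer_posUnipotent D hD F hbinv
    rw [Subgroup.mem_set_normalizer_iff] at h1
    have := (h1 x).mp hxU
    rwa [inv_inv] at this
  -- decompose `v = u' * x_p(t)`
  have hv' : b⁻¹ * x * b ∈ ((upSubgroup D F i ⊔ D.rootSubgroup F (D.simple i) :
      Subgroup (GL D.Idx F)) : Set (GL D.Idx F)) := by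
    rw [up_sup_rootSubgroup D hD F i hi]; exact hvU
  rw [Subgroup.coe_mul_of_right_le_normalizer_left _ _
    (le_trans le_sup_left (rootSubgroup_le_normalizer_up D hD F i hi))] at hv'
  obtain ⟨u', hu', r, hr, hv⟩ := Set.mem_mul.mp hv'
  obtain ⟨t, rfl⟩ := (mem_rootSubgroup_iff D hD F _ r).mp hr
  have hninv : n⁻¹ ∈ Subgroup.normalizer (upSubgroup D F i : Set (GL D.Idx F)) :=
    Subgroup.inv_mem _ (nFund_mem_normalizer_up D hD F i hi)
  have hconj_up : ∀ y ∈ upSubgroup D F i, n⁻¹ * y * n ∈ upSubgroup D F i := by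
    intro y hy
    rw [Subgroup.mem_set_normalizer_iff] at hninv
    have := (hninv y).mp hy
    rwa [inv_inv] at this
  have hupB : ∀ y ∈ upSubgroup D F i, y ∈ D.borelSubgroup F := fun y hy =>
    posUnipotent_le_borel D hD F (up_le_posUnipotent D hD F i hy)
  -- `t = 0`
  have ht : t = 0 := by
    apply eq_zero_of_conj_mem_borel D hD F i hi
    have e : n⁻¹ * xGL D hD F (D.simple i) t * n =
        (n⁻¹ * u' * n)⁻¹ * (n⁻¹ * (b⁻¹ * x * b) * n) := by
      rw [← hv]; group
    rw [← hn, e]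
    exact Subgroup.mul_mem _ (Subgroup.inv_mem _ (hupB _ (hconj_up u' hu'))) hmem
  rw [ht, xGL_zero, mul_one] at hv
  -- so `x ∈ U_p`
  have hxup : x ∈ upSubgroup D F i := by
    have h1 := borel_le_normalizer_up D hD F i hi hb
    rw [Subgroup.mem_set_normalizer_iff] at h1
    have h2 := (h1 (b⁻¹ * x * b)).mp (by rw [← hv]; exact hu')
    have e : b * (b⁻¹ * x * b) * b⁻¹ = x := by group
    rwa [e] at h2
  have h0 : (1 : F) = 0 := by
    apply eq_zero_of_conj_mem_borel D hD F i hi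
    rw [← hn, ← hx]
    exact hupB _ (hconj_up x hxup)
  exact one_ne_zero h0

/-- an element of the Chevalley group commuting with the `x_p(1)`, `p` fundamental, lies in `B` -/
theorem mem_borel_of_comm (g : GL D.Idx F) (hg : g ∈ D.group F)
    (hc : ∀ i < D.rank, g * xGL D hD F (D.simple i) 1 = xGL D hD F (D.simple i) 1 * g) :
    g ∈ D.borelSubgroup F := by
  obtain ⟨P, hP⟩ : ∃ P, P = chevBNPair D hD F := ⟨_, rfl⟩
  have hPB : ∀ g : ↥(D.group F), g ∈ P.B ↔ (g : GL D.Idx F) ∈ D.borelSubgroup F := by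
    rw [hP]; exact mem_B_iff D hD F
  have hPS : ∀ s ∈ P.S, ∃ i < D.rank, (s : GL D.Idx F) = nFund D hD F i := by
    intro s hs
    rw [hP] at hs
    obtain ⟨i, hi, hsm⟩ := hs
    exact ⟨i, hi, coe_eq_nFund_of_mem_fundSet D hD F s i hsm⟩
  have key := mem_B_of_conj P ⟨g, hg⟩ ?_
  · exact (hPB _).mp key
  · intro s hs
    obtain ⟨i, hi, hsn⟩ := hPS s hs
    have hpos := (parFacts_of_mem D hD).simplePos i hi
    refine ⟨⟨xGL D hD F (D.simple i) 1, xGL_mem_group D hD F _ _⟩, ?_, ?_, ?_⟩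
    · rw [hPB]
      exact xGL_pos_mem_borel D hD F _ hpos 1
    · rw [hPB]
      have e : (((⟨g, hg⟩ : ↥(D.group F))⁻¹ * ⟨xGL D hD F (D.simple i) 1, xGL_mem_group D hD F _ _⟩ *
          ⟨g, hg⟩ : ↥(D.group F)) : GL D.Idx F) = xGL D hD F (D.simple i) 1 := by
        show g⁻¹ * xGL D hD F (D.simple i) 1 * g = _
        rw [mul_assoc, ← hc i hi]; group
      rw [e]
      exact xGL_pos_mem_borel D hD F _ hpos 1
    · intro a haC haB
      rw [sb, C_mk, mem_dc] at haC
      obtain ⟨b₁, hb₁, b₂, hb₂, hab⟩ := haC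
      rw [hPB] at hb₁ hb₂ haB
      have hab' : (a : GL D.Idx F) = (b₁ : GL D.Idx F) * nFund D hD F i * (b₂ : GL D.Idx F) := by
        rw [hab, ← hsn]; rfl
      apply nFund_conj_conj_not_mem D hD F i hi (b₁ : GL D.Idx F) hb₁
      have e : (nFund D hD F i)⁻¹ * ((b₁ : GL D.Idx F)⁻¹ * xGL D hD F (D.simple i) 1 * b₁) *
          nFund D hD F i = (b₂ : GL D.Idx F) * ((a : GL D.Idx F)⁻¹ * xGL D hD F (D.simple i) 1 * a) *
            (b₂ : GL D.Idx F)⁻¹ := by
        rw [hab']; group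
      rw [e]
      exact Subgroup.mul_mem _ (Subgroup.mul_mem _ hb₂ haB) (Subgroup.inv_mem _ hb₂)

end

end Cfsg.Agent.Lib.Lead.ChevCent
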