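import Cfsg.Agent.Lib.Lead.ChevCentA

/-! An element of a Chevalley group commuting with all `x_r(1)` and all `n_p` is trivial (lead). -/

set_option autoImplicit false

namespace Cfsg.Agent.Lib.Lead.ChevCent

open Cfsg Cfsg.Lie Matrix Cfsg.Agent.Lib.Helper7

section
variable (D : ChevalleyDatum) (hD : D ∈ [chevG2, chevB2, chevD4, chevF4, chevE6, chevE7, chevE8])
variable (F : Type*) [Field F]
include hD

theorem comm_nLongGL (c : GL D.Idx F) (w : List ℕ)
    (hn : ∀ i ∈ w, c * nFund D hD F i = nFund D hD F i * c) :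
    c * nLongGL D hD F w = nLongGL D hD F w * c := by
  unfold nLongGL
  induction w with
  | nil => simp
  | cons i w ih =>
    rw [List.map_cons, List.prod_cons]
    have h1 : c * wordGL D hD F (D.nWord (D.simple i) 1) =
        wordGL D hD F (D.nWord (D.simple i) 1) * c := hn i (List.mem_cons_self)
    have h2 := ih (fun j hj => hn j (List.mem_cons_of_mem _ hj))
    rw [← mul_assoc, h1, mul_assoc, h2, mul_assoc]

/-- an element of the Chevalley group commuting with all `x_r(1)` and all `n_p` is trivial -/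
theorem eq_one_of_comm (c : GL D.Idx F) (hc : c ∈ D.group F)
    (hx : ∀ s < D.nroots, c * xGL D hD F s 1 = xGL D hD F s 1 * c)
    (hn : ∀ i < D.rank, c * nFund D hD F i = nFund D hD F i * c) : c = 1 := by
  have hcB : c ∈ D.borelSubgroup F := by
    apply mem_borel_of_comm D hD F c hc
    intro i hi
    exact hx _ (fundFacts_of_mem D hD i hi).hp
  obtain ⟨w, hL⟩ := exists_longFacts_of_mem D hD
  set n := nLongGL D hD F w with hn0
  have hcn : c * n = n * c := comm_nLongGL D hD F c w (fun i hi => hn i (hL.lt i hi))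
  have hcB' : c ∈ D.negUnipotent F ⊔ D.diagonalSubgroup F := by
    rw [← conj_borel_eq D hD F w hL, Subgroup.mem_map]
    refine ⟨c, hcB, ?_⟩
    show n * c * n⁻¹ = c
    rw [← hcn]; group
  have hcH : c ∈ D.diagonalSubgroup F := by
    rw [← borel_inf_negBorel D hD F]
    exact Subgroup.mem_inf.mpr ⟨hcB, hcB'⟩
  obtain ⟨χ, hχ, hcm⟩ := mem_diagonalSubgroup_char D hD F c hcH
  have hχ1 : ∀ s < D.nroots, χ s = 1 := by
    intro s hs
    have h5 : c * xGL D hD F s 1 = xGL D hD F s (χ s * 1) * c :=
      diagGL_xGL_comm D hD F _ χ hχ hcm s 1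
    rw [hx s hs, mul_one] at h5
    have h6 : xGL D hD F s (1 - χ s) = 1 := by
      have : xGL D hD F s (1 - χ s) = xGL D hD F s 1 * (xGL D hD F s (χ s))⁻¹ := by
        rw [xGL_inv, xGL_mul]; congr 1; ring
      rw [this, mul_right_cancel h5]; group
    have h7 : D.x F s (1 - χ s) = 1 := by
      rw [← coe_xGL D hD F s, h6]; rfl
    have hN := negOK_of_mem D hD s hs
    have := eq_zero_of_x_eq_one D F s hs hN.1 hN.2 _ h7
    exact (sub_eq_zero.mp this).symm
  apply Units.ext
  rw [hcm]
  show diagChar D F χ = 1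
  unfold diagChar
  rw [← Matrix.diagonal_one]
  congr 1
  funext i
  rcases i with i | u
  · rfl
  · exact hχ1 u.val u.isLt

end

end Cfsg.Agent.Lib.Lead.ChevCent
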