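import Cfsg.Agent.Lib.Lead.ChevFixF

/-! Fixed points of the entrywise field automorphism on a Chevalley group lie in `G₀ H^σ`, and every
subgroup between `G₀` and the group of fixed points is normal in the latter (lead). -/

set_option autoImplicit false

namespace Cfsg.Agent.Lib.Lead.ChevCent

open Cfsg Cfsg.Lie Matrix Cfsg.Agent.Lib.Helper7 Cfsg.Agent.Lib.Lead.ChevFix
open Cfsg.Agent.Lib.Helper3.BN Cfsg.Agent.Lib.Helper3.WordLen

section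
variable (D : ChevalleyDatum) (hD : D ∈ [chevG2, chevB2, chevD4, chevF4, chevE6, chevE7, chevE8])
variable {F : Type*} [Field F] (σ : F ≃+* F)
variable {F₀ : Type*} [Field F₀] (ι : F₀ →+* F)

include hD in
/-- fixed points in `B` lie in `T ⊇ G₀, H^σ` -/
theorem fix_borel_le (T : Subgroup (GL D.Idx F)) (hT0 : G0 D ι ≤ T)
    (hH : ∀ h : GL D.Idx F, h ∈ D.diagonalSubgroup F → tau D σ h = h → h ∈ T)
    (hι : ∀ a : F, σ a = a → a ∈ Set.range ι)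
    (b : GL D.Idx F) (hb : b ∈ D.borelSubgroup F) (hfix : tau D σ b = b) : b ∈ T := by
  have hb' : b ∈ ((D.borelSubgroup F : Subgroup (GL D.Idx F)) : Set (GL D.Idx F)) := hb
  rw [borel_eq_mul D hD F] at hb'
  obtain ⟨h, hh, u, hu, rfl⟩ := Set.mem_mul.mp hb'
  have hh' := tau_mem_diagonal D hD σ h hh
  have hu' := tau_mem_posUnipotent D σ u hu
  rw [map_mul] at hfix
  have h1 : tau D σ u * u⁻¹ = (tau D σ h)⁻¹ * h := by
    have : tau D σ u = (tau D σ h)⁻¹ * (h * u) := by rw [← hfix]; group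
    rw [this]; group
  have h2 : tau D σ u * u⁻¹ ∈ D.posUnipotent F ⊓ D.diagonalSubgroup F := by
    refine Subgroup.mem_inf.mpr ⟨Subgroup.mul_mem _ hu' (Subgroup.inv_mem _ hu), ?_⟩
    rw [h1]
    exact Subgroup.mul_mem _ (Subgroup.inv_mem _ hh') hh
  rw [posUnipotent_inf_diagonalSubgroup D hD F, Subgroup.mem_bot] at h2
  have hufix : tau D σ u = u := mul_inv_eq_one.mp h2
  have hhfix : tau D σ h = h := by
    rw [h2] at h1
    exact (inv_mul_eq_one.mp h1.symm)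
  exact Subgroup.mul_mem _ (hH h hh hhfix) (hT0 (fix_posUnipotent D hD σ ι hι u hu hufix))

include hD in
/-- fixed points of the entrywise field automorphism lie in `T ⊇ G₀, H^σ` -/
theorem fix_mem_le (T : Subgroup (GL D.Idx F)) (hT0 : G0 D ι ≤ T)
    (hH : ∀ h : GL D.Idx F, h ∈ D.diagonalSubgroup F → tau D σ h = h → h ∈ T)
    (hι : ∀ a : F, σ a = a → a ∈ Set.range ι)
    (φ : ↥(D.group F) ≃* ↥(D.group F))
    (hφ : ∀ g : ↥(D.group F), ((φ g : ↥(D.group F)) : GL D.Idx F) = tau D σ (g : GL D.Idx F))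
    (g : ↥(D.group F)) (hfix : φ g = g) : (g : GL D.Idx F) ∈ T := by
  obtain ⟨P, hP⟩ : ∃ P, P = chevBNPair D hD F := ⟨_, rfl⟩
  have hPB : ∀ g : ↥(D.group F), g ∈ P.B ↔ (g : GL D.Idx F) ∈ D.borelSubgroup F := by
    rw [hP]; exact mem_B_iff D hD F
  have hPS : ∀ s ∈ P.S, ∃ i < D.rank, (s : GL D.Idx F) = nFund D hD F i := by
    intro s hs
    rw [hP] at hs
    obtain ⟨i, hi, hsm⟩ := hs
    exact ⟨i, hi, coe_eq_nFund_of_mem_fundSet D hD F s i hsm⟩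
  have key := Cfsg.Agent.Lib.Lead.BNFix.fix_mem' P φ ?_ ?_ (T.subgroupOf (D.group F)) ?_ ?_ g hfix
  · exact key
  · intro b hb
    rw [hPB] at hb ⊢
    rw [hφ]
    exact tau_mem_borel D hD σ _ hb
  · intro s hs
    obtain ⟨i, hi, hsn⟩ := hPS s hs
    apply Subtype.ext
    rw [hφ, hsn, tau_nFund D hD]
  · intro b hb hbfix
    rw [hPB] at hb
    rw [Subgroup.mem_subgroupOf]
    apply fix_borel_le D hD σ ι T hT0 hH hι _ hb
    rw [← hφ, hbfix]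
  · intro s hs a haC haB
    obtain ⟨i, hi, hsn⟩ := hPS s hs
    rw [sb, C_mk, mem_dc] at haC
    obtain ⟨b₁, hb₁, b₂, hb₂, hab⟩ := haC
    rw [hPB] at hb₁ hb₂ haB
    have haB' : (a : GL D.Idx F)⁻¹ * tau D σ (a : GL D.Idx F) ∈ D.borelSubgroup F := by
      rw [← hφ]; exact haB
    have hab' : (a : GL D.Idx F) = (b₁ : GL D.Idx F) * nFund D hD F i * (b₂ : GL D.Idx F) := by
      rw [hab, ← hsn]; rfl
    obtain ⟨a₀, ha₀, ha₀fix, ha₀B⟩ := cell_fix D hD σ ι hι i hi _ _ _ hb₁ hb₂ hab' haB'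
    have ha₀G : a₀ ∈ D.group F := G0_le D hD ι ha₀
    refine ⟨⟨a₀, ha₀G⟩, ?_, ?_, ?_⟩
    · rw [Subgroup.mem_subgroupOf]; exact hT0 ha₀
    · apply Subtype.ext
      rw [hφ]; exact ha₀fix
    · rw [hPB]; exact ha₀B

include hD in
/-- `G₀` is generated by the root elements with parameter in the small field -/
theorem G0_eq_closure : G0 D ι =
    Subgroup.closure {g : GL D.Idx F | ∃ (r : ℕ) (t : F₀), r < D.nroots ∧ g = xGL D hD F r (ι t)} := by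
  unfold G0 ChevalleyDatum.group
  rw [MonoidHom.map_closure]
  congr 1
  ext g
  constructor
  · rintro ⟨g₀, ⟨r, t, hg₀⟩, rfl⟩
    refine ⟨r.val, t, r.isLt, ?_⟩
    apply Units.ext
    rw [glMap_coe, hg₀, xMat_map₂, coe_xGL, x_eq_xMat D F r.val r.isLt]
  · rintro ⟨r, t, hr, rfl⟩
    refine ⟨xGL D hD F₀ r t, ⟨⟨r, hr⟩, t, ?_⟩, ?_⟩
    · rw [coe_xGL, x_eq_xMat D F₀ r hr]
    · exact glMap_xGL D hD ι r t

/-- the `σ`-fixed part of `H` -/
noncomputable def fixH : Subgroup (GL D.Idx F) :=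
  D.diagonalSubgroup F ⊓ (tau D σ).eqLocus (MonoidHom.id (GL D.Idx F))

theorem mem_fixH (h : GL D.Idx F) : h ∈ fixH D σ ↔ h ∈ D.diagonalSubgroup F ∧ tau D σ h = h := by
  unfold fixH
  rw [Subgroup.mem_inf]
  rfl

include hD in
theorem fixH_conj_mem (hι : ∀ a : F, σ a = a → a ∈ Set.range ι) (h : GL D.Idx F) (hh : h ∈ fixH D σ)
    (x : GL D.Idx F) (hx : x ∈ G0 D ι) : h * x * h⁻¹ ∈ G0 D ι := by
  rw [mem_fixH] at hh
  obtain ⟨hhH, hhfix⟩ := hh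
  obtain ⟨χ, hχ, hhm⟩ := mem_diagonalSubgroup_char D hD F h hhH
  have hχfix : ∀ r < D.nroots, σ (χ r) = χ r := by
    intro r hr
    have h1 : ((tau D σ h : GL D.Idx F) : Matrix D.Idx D.Idx F) = (h : Matrix D.Idx D.Idx F) := by
      rw [hhfix]
    rw [glMap_coe, hhm] at h1
    have h2 := congrFun (congrFun h1 (Sum.inr ⟨r, hr⟩)) (Sum.inr ⟨r, hr⟩)
    simpa [diagChar, Matrix.map_apply] using h2
  rw [G0_eq_closure D hD ι] at hx ⊢
  apply conj_mem_closure _ h _ x hx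
  rintro y ⟨r, t, hr, rfl⟩
  obtain ⟨c, hc⟩ := hι _ (hχfix r hr)
  rw [diagGL_xGL_comm D hD F h χ hχ hhm, mul_assoc, mul_inv_cancel, mul_one]
  apply Subgroup.subset_closure
  refine ⟨r, c * t, hr, ?_⟩
  rw [map_mul, hc]

include hD in
theorem fixH_le_normalizer (hι : ∀ a : F, σ a = a → a ∈ Set.range ι) :
    fixH D σ ≤ Subgroup.normalizer (G0 D ι : Set (GL D.Idx F)) := by
  intro h hh
  rw [Subgroup.mem_set_normalizer_iff]
  intro x
  constructor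
  · exact fixH_conj_mem D hD σ ι hι h hh x
  · intro hx
    have := fixH_conj_mem D hD σ ι hι h⁻¹ (Subgroup.inv_mem _ hh) _ hx
    have e : h⁻¹ * (h * x * h⁻¹) * h⁻¹⁻¹ = x := by group
    rwa [e] at this

include hD in
theorem diagonal_comm (h₁ h₂ : GL D.Idx F) (hh₁ : h₁ ∈ D.diagonalSubgroup F)
    (hh₂ : h₂ ∈ D.diagonalSubgroup F) : h₁ * h₂ = h₂ * h₁ := by
  obtain ⟨χ₁, _, hm₁⟩ := mem_diagonalSubgroup_char D hD F h₁ hh₁
  obtain ⟨χ₂, _, hm₂⟩ := mem_diagonalSubgroup_char D hD F h₂ hh₂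
  apply Units.ext
  rw [Units.val_mul, Units.val_mul, hm₁, hm₂]
  unfold diagChar
  rw [Matrix.diagonal_mul_diagonal, Matrix.diagonal_mul_diagonal]
  congr 1
  funext i
  exact mul_comm _ _

include hD in
/-- every subgroup between `G₀` and the fixed points is normalised by the fixed points -/
theorem conj_mem_of_fix (hι : ∀ a : F, σ a = a → a ∈ Set.range ι)
    (φ : ↥(D.group F) ≃* ↥(D.group F))
    (hφ : ∀ g : ↥(D.group F), ((φ g : ↥(D.group F)) : GL D.Idx F) = tau D σ (g : GL D.Idx F))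
    (K : Subgroup (GL D.Idx F)) (hK0 : G0 D ι ≤ K) (hKG : K ≤ D.group F)
    (hKfix : ∀ x ∈ K, tau D σ x = x)
    (g : GL D.Idx F) (hg : g ∈ D.group F) (hgfix : tau D σ g = g) (x : GL D.Idx F) (hx : x ∈ K) :
    g * x * g⁻¹ ∈ K := by
  have hT : ∀ y : GL D.Idx F, y ∈ D.group F → tau D σ y = y → y ∈ G0 D ι ⊔ fixH D σ := by
    intro y hy hyfix
    have := fix_mem_le D hD σ ι (G0 D ι ⊔ fixH D σ) le_sup_left
      (fun h hh hhfix => Subgroup.mem_sup_right ((mem_fixH D σ h).mpr ⟨hh, hhfix⟩)) hι φ hφ ⟨y, hy⟩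
      (by apply Subtype.ext; rw [hφ]; exact hyfix)
    exact this
  have hdec : ∀ y : GL D.Idx F, y ∈ D.group F → tau D σ y = y →
      ∃ y₀ ∈ G0 D ι, ∃ h ∈ fixH D σ, y = y₀ * h := by
    intro y hy hyfix
    have h1 : y ∈ ((G0 D ι ⊔ fixH D σ : Subgroup (GL D.Idx F)) : Set (GL D.Idx F)) := hT y hy hyfix
    rw [Subgroup.coe_mul_of_right_le_normalizer_left _ _ (fixH_le_normalizer D hD σ ι hι)] at h1
    obtain ⟨y₀, hy₀, h, hh, rfl⟩ := Set.mem_mul.mp h1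
    exact ⟨y₀, hy₀, h, hh, rfl⟩
  obtain ⟨g₀, hg₀, h, hh, rfl⟩ := hdec g hg hgfix
  obtain ⟨x₀, hx₀, h₁, hh₁, hxe⟩ := hdec x (hKG hx) (hKfix x hx)
  have hcomm : h * h₁ = h₁ * h :=
    diagonal_comm D hD h h₁ ((mem_fixH D σ h).mp hh).1 ((mem_fixH D σ h₁).mp hh₁).1
  have e : g₀ * h * x * (g₀ * h)⁻¹ = g₀ * ((h * x₀ * h⁻¹) * x₀⁻¹) * x * g₀⁻¹ := by
    rw [hxe]
    have : h * (x₀ * h₁) = (h * x₀ * h⁻¹) * x₀⁻¹ * (x₀ * h₁) * h := by
      have : h * h₁ * h⁻¹ = h₁ := by rw [hcomm]; group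
      calc h * (x₀ * h₁) = h * x₀ * h⁻¹ * (h * h₁ * h⁻¹) * h := by group
        _ = h * x₀ * h⁻¹ * h₁ * h := by rw [this]
        _ = _ := by group
    calc g₀ * h * (x₀ * h₁) * (g₀ * h)⁻¹ = g₀ * (h * (x₀ * h₁)) * h⁻¹ * g₀⁻¹ := by group
      _ = g₀ * ((h * x₀ * h⁻¹) * x₀⁻¹ * (x₀ * h₁) * h) * h⁻¹ * g₀⁻¹ := by rw [this]
      _ = _ := by group
  rw [e]
  have h2 : h * x₀ * h⁻¹ ∈ G0 D ι := fixH_conj_mem D hD σ ι hι h hh x₀ hx₀
  exact K.mul_mem (K.mul_mem (K.mul_mem (hK0 hg₀) (hK0 (Subgroup.mul_mem _ h2 (Subgroup.inv_mem _ hx₀)))) hx)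
    (K.inv_mem (hK0 hg₀))

end

end Cfsg.Agent.Lib.Lead.ChevCent
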