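import Cfsg.Agent.Lib.Lead.ChevCentB
import Cfsg.Agent.Lib.Lead.ChevCentC

/-! Centraliser and normaliser, in a Chevalley group over `F`, of a subgroup lying between the
Chevalley group over the fixed field of a field automorphism `σ` and the group of `σ`-fixed points
(lead). -/

set_option autoImplicit false

namespace Cfsg.Agent.Lib.Lead.ChevCent

open Cfsg Cfsg.Lie Matrix Cfsg.Agent.Lib.Helper7 Cfsg.Agent.Lib.Lead.ChevFix

section
variable (D : ChevalleyDatum) (hD : D ∈ [chevG2, chevB2, chevD4, chevF4, chevE6, chevE7, chevE8])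
variable {F : Type*} [Field F] (σ : F ≃+* F)
variable {F₀ : Type*} [Field F₀] (ι : F₀ →+* F)

/-- the field automorphism of the Chevalley group induced by `σ` -/
noncomputable def phiOf : ↥(D.group F) ≃* ↥(D.group F) :=
  ((glMapEquiv D.Idx σ).subgroupMap (D.group F)).trans
    (MulEquiv.subgroupCongr (group_map_glMapEquiv D σ))

theorem coe_phiOf (g : ↥(D.group F)) :
    ((phiOf D σ g : ↥(D.group F)) : GL D.Idx F) = tau D σ (g : GL D.Idx F) := by
  apply Units.ext
  rfl

theorem tau_mem_group (g : GL D.Idx F) (hg : g ∈ D.group F) : tau D σ g ∈ D.group F := by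
  rw [← coe_phiOf D σ ⟨g, hg⟩]
  exact (phiOf D σ ⟨g, hg⟩).2

include hD in
theorem cent_norm_main (hι : ∀ a : F, σ a = a → a ∈ Set.range ι)
    (K : Subgroup (GL D.Idx F)) (hKG : K ≤ D.group F) (hK0 : G0 D ι ≤ K)
    (hKfix : ∀ x ∈ K, tau D σ x = x) :
    D.group F ⊓ Subgroup.centralizer (K : Set (GL D.Idx F)) = ⊥ ∧
    ∀ g : GL D.Idx F, g ∈ D.group F →
      (g ∈ Subgroup.normalizer (K : Set (GL D.Idx F)) ↔ tau D σ g = g) := by
  have hcent : ∀ c : GL D.Idx F, c ∈ D.group F → (∀ x ∈ K, x * c = c * x) → c = 1 := by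
    intro c hc hcomm
    apply eq_one_of_comm D hD F c hc
    · intro s _
      have h1 : xGL D hD F s 1 ∈ G0 D ι := by
        have := xGL_mem_G0 D hD ι s 1
        rwa [map_one] at this
      exact (hcomm _ (hK0 h1)).symm
    · intro i _
      exact (hcomm _ (hK0 (nFund_mem_G0 D hD ι i))).symm
  constructor
  · rw [Subgroup.eq_bot_iff_forall]
    intro c hc
    rw [Subgroup.mem_inf, Subgroup.mem_centralizer_iff] at hc
    exact hcent c hc.1 hc.2
  · intro g hg
    constructor
    · intro hgN
      rw [Subgroup.mem_set_normalizer_iff] at hgN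
      have hc : g⁻¹ * tau D σ g = 1 := by
        apply hcent _ (Subgroup.mul_mem _ (Subgroup.inv_mem _ hg) (tau_mem_group D σ g hg))
        intro x hx
        have h1 : g * x * g⁻¹ ∈ K := (hgN x).mp hx
        have h2 := hKfix _ h1
        rw [map_mul, map_mul, map_inv, hKfix x hx] at h2
        have h3 : x * (g⁻¹ * tau D σ g) = g⁻¹ * (g * x * g⁻¹) * tau D σ g := by group
        rw [h3, ← h2]; group
      exact (inv_mul_eq_one.mp hc).symm
    · intro hgfix
      rw [Subgroup.mem_set_normalizer_iff]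
      intro x
      constructor
      · intro hx
        exact conj_mem_of_fix D hD σ ι hι (phiOf D σ) (coe_phiOf D σ) K hK0 hKG hKfix g hg hgfix x hx
      · intro hx
        have hginv : tau D σ g⁻¹ = g⁻¹ := by rw [map_inv, hgfix]
        have := conj_mem_of_fix D hD σ ι hι (phiOf D σ) (coe_phiOf D σ) K hK0 hKG hKfix g⁻¹
          (Subgroup.inv_mem _ hg) hginv _ hx
        have e : g⁻¹ * (g * x * g⁻¹) * g⁻¹⁻¹ = x := by group
        rwa [e] at this

end

end Cfsg.Agent.Lib.Lead.ChevCent
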