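import Cfsg.Agent.Lib.Lead.ChevFixA
import Cfsg.Agent.Lib.Helper7.ChevOrd3
import Cfsg.Agent.Lib.Helper7.ChevHCardTab
import Cfsg.Agent.Lib.Helper7.ChevHCardTabE8
import Cfsg.Agent.Lib.Helper7.ChevBV

/-! Fixed points of the entrywise field automorphism on the Borel subgroup of a Chevalley group
(lead). -/

set_option autoImplicit false

namespace Cfsg.Agent.Lib.Lead.ChevFix

open Cfsg Cfsg.Lie Matrix Cfsg.Agent.Lib.Helper7

section words
variable (D : ChevalleyDatum) {F₁ F₂ : Type*} [Field F₁] [Field F₂] (f : F₁ →+* F₂)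

theorem mapWord_nWord (r : ℕ) (t : F₁) : mapWord f (D.nWord r t) = D.nWord r (f t) := by
  unfold mapWord ChevalleyDatum.nWord
  simp [map_neg, map_inv₀]

theorem mapWord_append (w₁ w₂ : List (ℕ × F₁)) :
    mapWord f (w₁ ++ w₂) = mapWord f w₁ ++ mapWord f w₂ := by
  unfold mapWord
  rw [List.map_append]

theorem mapWord_hWord (r : ℕ) (t : F₁) : mapWord f (D.hWord r t) = D.hWord r (f t) := by
  unfold ChevalleyDatum.hWord
  rw [mapWord_append, mapWord_nWord, mapWord_nWord, map_neg, map_one]

theorem mapWord_flatMap {α : Type*} (L : List α) (g : α → List (ℕ × F₁)) :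
    mapWord f (L.flatMap g) = L.flatMap fun a => mapWord f (g a) := by
  unfold mapWord
  rw [List.map_flatMap]

end words

section
variable (D : ChevalleyDatum) (hD : D ∈ [chevG2, chevB2, chevD4, chevF4, chevE6, chevE7, chevE8])
variable {F : Type*} [Field F] (σ : F ≃+* F)

/-- the entrywise field automorphism of `GL` -/
noncomputable abbrev tau : GL D.Idx F →* GL D.Idx F := glMap D (σ : F →+* F)

theorem tau_mem_posUnipotent (u : GL D.Idx F) (hu : u ∈ D.posUnipotent F) :
    tau D σ u ∈ D.posUnipotent F := by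
  have h1 : (D.posUnipotent F).map (tau D σ) ≤ D.posUnipotent F := by
    unfold ChevalleyDatum.posUnipotent
    rw [MonoidHom.map_closure, Subgroup.closure_le]
    rintro _ ⟨g, ⟨r, t, hr, hg⟩, rfl⟩
    apply Subgroup.subset_closure
    refine ⟨r, σ t, hr, ?_⟩
    show ((glMap D (σ : F →+* F) g : GL D.Idx F) : Matrix D.Idx D.Idx F) = _
    rw [glMap_coe, hg, x_map₂]
    rfl
  exact h1 ⟨u, hu, rfl⟩

include hD in
theorem tau_mem_diagonal (h : GL D.Idx F) (hh : h ∈ D.diagonalSubgroup F) :
    tau D σ h ∈ D.diagonalSubgroup F := by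
  have h1 : (D.diagonalSubgroup F).map (tau D σ) ≤ D.diagonalSubgroup F := by
    unfold ChevalleyDatum.diagonalSubgroup
    rw [MonoidHom.map_closure, Subgroup.closure_le]
    rintro _ ⟨g, ⟨r, t, hr, ht, hg⟩, rfl⟩
    have hgw : g = wordGL D hD F (D.hWord r t) := by
      apply Units.ext
      rw [hg, coe_wordGL]
      rfl
    have h2 : tau D σ g = wordGL D hD F (D.hWord r (σ t)) := by
      rw [hgw]
      show glMap D (σ : F →+* F) _ = _
      rw [glMap_wordGL D hD, mapWord_hWord]
      rfl
    show tau D σ g ∈ _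
    rw [h2]
    exact hGL_mem_diagonalSubgroup D hD F r hr (σ t) (by simpa using ht)
  exact h1 ⟨h, hh, rfl⟩

include hD in
theorem tau_mem_borel (b : GL D.Idx F) (hb : b ∈ D.borelSubgroup F) :
    tau D σ b ∈ D.borelSubgroup F := by
  have h1 : (D.borelSubgroup F).map (tau D σ) ≤ D.borelSubgroup F := by
    unfold ChevalleyDatum.borelSubgroup
    rw [Subgroup.map_sup, sup_le_iff]
    constructor
    · rintro _ ⟨u, hu, rfl⟩
      exact Subgroup.mem_sup_left (tau_mem_posUnipotent D σ u hu)
    · rintro _ ⟨h, hh, rfl⟩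
      exact Subgroup.mem_sup_right (tau_mem_diagonal D hD σ h hh)
  exact h1 ⟨b, hb, rfl⟩

variable {F₀ : Type*} [Field F₀] (ι : F₀ →+* F)

include hD in
/-- fixed points in `U` come from the small field -/
theorem fix_posUnipotent (hι : ∀ a : F, σ a = a → a ∈ Set.range ι)
    (u : GL D.Idx F) (hu : u ∈ D.posUnipotent F) (hfix : tau D σ u = u) : u ∈ G0 D ι := by
  obtain ⟨t, ⟨ht0, htu⟩, huniq⟩ := (posUnipotent_unique_factorisation D hD F).1 u hu
  have huw : u = wordGL D hD F (D.posRoots.map fun r => (r, t r)) := by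
    apply Units.ext
    rw [htu, coe_wordGL]
  have h2 : tau D σ u = wordGL D hD F (D.posRoots.map fun r => (r, σ (t r))) := by
    rw [huw]
    show glMap D (σ : F →+* F) _ = _
    rw [glMap_wordGL D hD]
    unfold mapWord
    rw [List.map_map]
    rfl
  have h3 : (fun r => σ (t r)) = t := by
    apply huniq
    refine ⟨fun r hr => by show σ (t r) = 0; rw [ht0 r hr, map_zero], ?_⟩
    rw [← coe_wordGL D hD, ← h2, hfix]
  have h4 : ∀ r, ∃ a : F₀, ι a = t r := by
    intro r
    have : σ (t r) = t r := congrFun h3 r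
    exact hι _ this
  choose t₀ ht₀ using h4
  have h5 : u = wordGL D hD F (mapWord ι (D.posRoots.map fun r => (r, t₀ r))) := by
    rw [huw]
    unfold mapWord
    rw [List.map_map]
    congr 1
    apply List.map_congr_left
    intro r _
    show (r, t r) = (r, ι (t₀ r))
    rw [ht₀]
  rw [h5]
  exact wordGL_mem_G0 D hD ι _

end

section diag
variable (D : ChevalleyDatum) (hD : D ∈ [chevG2, chevB2, chevD4, chevF4, chevE6, chevE7, chevE8])
variable {F₁ F₂ : Type*} [Field F₁] [Field F₂] (f : F₁ →+* F₂)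

theorem map_extU (c : Fin D.rank → F₁ˣ) (i : ℕ) :
    f (extU F₁ D.rank c i) = extU F₂ D.rank (fun j => Units.map (f : F₁ →* F₂) (c j)) i := by
  unfold extU
  split_ifs
  · rfl
  · exact map_one f

include hD in
theorem glMap_hOf (c : Fin D.rank → F₁ˣ) :
    glMap D f (hOf D hD F₁ c) = hOf D hD F₂ (fun j => Units.map (f : F₁ →* F₂) (c j)) := by
  unfold hOf
  rw [glMap_wordGL D hD, mapWord_flatMap]
  congr 1
  apply List.flatMap_congr
  intro i _
  rw [mapWord_hWord, map_extU]

theorem zact_map {M N : Type*} [CommGroup M] [CommGroup N] (g : M →* N) {l : ℕ} (A : ℕ → ℕ → ℤ)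
    (c : Fin l → M) : zact A (fun j => g (c j)) = fun k => g (zact A c k) := by
  funext k
  unfold zact
  rw [map_prod]
  apply Finset.prod_congr rfl
  intro i _
  rw [map_zpow]

/-- table check: `Ainv` is a left inverse of the Cartan matrix -/
def invOKB (D : ChevalleyDatum) (Ainv : List (List ℤ)) : Bool :=
  (List.range D.rank).all fun i => (List.range D.rank).all fun k =>
    ((List.range D.rank).map fun j => matL Ainv i j * cartanA D j k).sum == if i = k then 1 else 0

theorem inv_of_OKB (D : ChevalleyDatum) (Ainv : List (List ℤ)) (h : invOKB D Ainv = true) :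
    ∀ i < D.rank, ∀ k < D.rank,
      ∑ j ∈ Finset.range D.rank, matL Ainv i j * cartanA D j k = if i = k then 1 else 0 := by
  unfold invOKB at h
  simp only [List.all_eq_true, List.mem_range, beq_iff_eq] at h
  intro i hi k hk
  rw [← list_sum_range]
  exact h i hi k hk

end diag

section
variable (D : ChevalleyDatum) (hD : D ∈ [chevG2, chevB2, chevD4, chevF4, chevE6, chevE7, chevE8])
variable {F : Type*} [Field F] (σ : F ≃+* F)
variable {F₀ : Type*} [Field F₀] (ι : F₀ →+* F)

include hD in
/-- fixed points in `H` come from the small field, when the Cartan matrix is unimodular -/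
theorem fix_diagonal (A R Ainv : List (List ℤ)) (hAR : rootCoefOKB D A R = true)
    (hinv : invOKB D Ainv = true) (hι : ∀ a : F, σ a = a → a ∈ Set.range ι)
    (h : GL D.Idx F) (hh : h ∈ D.diagonalSubgroup F) (hfix : tau D σ h = h) : h ∈ G0 D ι := by
  obtain ⟨c, rfl⟩ := hOf_surj D hD F h hh
  have h1 : tau D σ (hOf D hD F c) =
      hOf D hD F (fun j => Units.map ((σ : F →+* F) : F →* F) (c j)) := glMap_hOf D hD _ c
  rw [h1, hOf_eq_iff D hD F A R hAR, zact_map] at hfix
  -- the character values are fixed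
  have h2 : ∀ k : Fin D.rank, ∃ a : F₀ˣ, Units.map (ι : F₀ →* F) a = zact (cartanA D) c k := by
    intro k
    have h3 : σ ((zact (cartanA D) c k : Fˣ) : F) = ((zact (cartanA D) c k : Fˣ) : F) := by
      have := congrFun hfix k
      exact congrArg Units.val this
    obtain ⟨a, ha⟩ := hι _ h3
    have ha0 : a ≠ 0 := by
      intro h0
      rw [h0, map_zero] at ha
      exact (Units.ne_zero _) ha.symm
    refine ⟨Units.mk0 a ha0, ?_⟩
    apply Units.ext
    exact ha
  choose y₀ hy₀ using h2
  have h4 : zact (cartanA D) (fun j => Units.map (ι : F₀ →* F) (zact (matL Ainv) y₀ j)) =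
      zact (cartanA D) c := by
    rw [zact_map, zact_zact, zact_one _ (inv_of_OKB D Ainv hinv)]
    funext k
    exact hy₀ k
  have h5 := (hOf_eq_iff D hD F A R hAR _ _).mpr h4
  rw [← h5, ← glMap_hOf D hD ι]
  exact ⟨_, wordGL_mem_group D hD F₀ _, rfl⟩

end

end Cfsg.Agent.Lib.Lead.ChevFix
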