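import Cfsg.Agent.Lib.Lead.ChevFixB
import Cfsg.Agent.Lib.Lead.BNFix
import Cfsg.Agent.Lib.Helper7.ChevCell

/-! Fixed points of the entrywise field automorphism on a Chevalley group with unimodular Cartan
matrix are the Chevalley group over the fixed field (lead). -/

set_option autoImplicit false

namespace Cfsg.Agent.Lib.Lead.ChevFix

open Cfsg Cfsg.Lie Matrix Cfsg.Agent.Lib.Helper7
open Cfsg.Agent.Lib.Helper3.BN Cfsg.Agent.Lib.Helper3.WordLen

section
variable (D : ChevalleyDatum) (hD : D ∈ [chevG2, chevB2, chevD4, chevF4, chevE6, chevE7, chevE8])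
variable {F : Type*} [Field F] (σ : F ≃+* F)
variable {F₀ : Type*} [Field F₀] (ι : F₀ →+* F)

include hD in
theorem tau_xGL (r : ℕ) (t : F) : tau D σ (xGL D hD F r t) = xGL D hD F r (σ t) :=
  glMap_xGL D hD (σ : F →+* F) r t

include hD in
theorem tau_nFund (i : ℕ) : tau D σ (nFund D hD F i) = nFund D hD F i := by
  unfold nFund
  show glMap D (σ : F →+* F) _ = _
  rw [glMap_wordGL D hD, mapWord_nWord, map_one]

include hD in
theorem nFund_mem_G0 (i : ℕ) : nFund D hD F i ∈ G0 D ι := by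
  have h1 : nFund D hD F i = wordGL D hD F (mapWord ι (D.nWord (D.simple i) 1)) := by
    unfold nFund
    rw [mapWord_nWord, map_one]
  rw [h1]
  exact wordGL_mem_G0 D hD ι _

include hD in
/-- fixed points in `B` come from the small field -/
theorem fix_borel (A R Ainv : List (List ℤ)) (hAR : rootCoefOKB D A R = true)
    (hinv : invOKB D Ainv = true) (hι : ∀ a : F, σ a = a → a ∈ Set.range ι)
    (b : GL D.Idx F) (hb : b ∈ D.borelSubgroup F) (hfix : tau D σ b = b) : b ∈ G0 D ι := by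
  have hb' : b ∈ ((D.borelSubgroup F : Subgroup (GL D.Idx F)) : Set (GL D.Idx F)) := hb
  rw [borel_eq_mul D hD F] at hb'
  obtain ⟨h, hh, u, hu, rfl⟩ := Set.mem_mul.mp hb'
  have hh' := tau_mem_diagonal D hD σ h hh
  have hu' := tau_mem_posUnipotent D σ u hu
  rw [map_mul] at hfix
  have h1 : tau D σ u * u⁻¹ = (tau D σ h)⁻¹ * h := by
    have : tau D σ u = (tau D σ h)⁻¹ * (h * u) := by rw [← hfix]; group
    rw [this]; group
  have h2 : tau D σ u * u⁻¹ ∈ D.posUnipotent F ⊓ D.diagonalSubgroup F := by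
    refine Subgroup.mem_inf.mpr ⟨Subgroup.mul_mem _ hu' (Subgroup.inv_mem _ hu), ?_⟩
    rw [h1]
    exact Subgroup.mul_mem _ (Subgroup.inv_mem _ hh') hh
  rw [posUnipotent_inf_diagonalSubgroup D hD F, Subgroup.mem_bot] at h2
  have hufix : tau D σ u = u := mul_inv_eq_one.mp h2
  have hhfix : tau D σ h = h := by
    rw [h2] at h1
    exact (inv_mul_eq_one.mp h1.symm)
  exact Subgroup.mul_mem _ (fix_diagonal D hD σ ι A R Ainv hAR hinv hι h hh hhfix)
    (fix_posUnipotent D hD σ ι hι u hu hufix)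

include hD in
/-- a `σ`-stable coset in a rank one cell has a representative over the small field -/
theorem cell_fix (hι : ∀ a : F, σ a = a → a ∈ Set.range ι) (i : ℕ) (hi : i < D.rank)
    (a b₁ b₂ : GL D.Idx F) (hb₁ : b₁ ∈ D.borelSubgroup F) (hb₂ : b₂ ∈ D.borelSubgroup F)
    (ha : a = b₁ * nFund D hD F i * b₂) (h : a⁻¹ * tau D σ a ∈ D.borelSubgroup F) :
    ∃ a₀ ∈ G0 D ι, tau D σ a₀ = a₀ ∧ a⁻¹ * a₀ ∈ D.borelSubgroup F := by
  obtain ⟨t, c, hc, he⟩ := borel_decomp_fund D hD F i hi b₁ hb₁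
  set n := nFund D hD F i with hn
  set b' := n⁻¹ * c * n * b₂ with hb'def
  have hb' : b' ∈ D.borelSubgroup F := Subgroup.mul_mem _ hc hb₂
  have ha' : a = xGL D hD F (D.simple i) t * n * b' := by
    rw [ha, he, hb'def]; group
  have hτb' : tau D σ b' ∈ D.borelSubgroup F := tau_mem_borel D hD σ b' hb'
  have hτa : tau D σ a = xGL D hD F (D.simple i) (σ t) * n * tau D σ b' := by
    rw [ha', map_mul, map_mul, tau_xGL D hD, hn, tau_nFund D hD]
  have h1 : n⁻¹ * xGL D hD F (D.simple i) (σ t - t) * n =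
      b' * (a⁻¹ * tau D σ a) * (tau D σ b')⁻¹ := by
    rw [hτa, ha']
    have : xGL D hD F (D.simple i) (σ t - t) =
        (xGL D hD F (D.simple i) t)⁻¹ * xGL D hD F (D.simple i) (σ t) := by
      rw [xGL_inv, xGL_mul]
      congr 1
      ring
    rw [this]
    group
  have h2 : n⁻¹ * xGL D hD F (D.simple i) (σ t - t) * n ∈ D.borelSubgroup F := by
    rw [h1]
    exact Subgroup.mul_mem _ (Subgroup.mul_mem _ hb' h) (Subgroup.inv_mem _ hτb')
  have h3 := eq_zero_of_conj_mem_borel D hD F i hi _ h2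
  have hσt : σ t = t := sub_eq_zero.mp h3
  obtain ⟨t₀, ht₀⟩ := hι t hσt
  refine ⟨xGL D hD F (D.simple i) t * n, ?_, ?_, ?_⟩
  · refine Subgroup.mul_mem _ ?_ (nFund_mem_G0 D hD ι i)
    rw [← ht₀]
    exact xGL_mem_G0 D hD ι _ _
  · rw [map_mul, tau_xGL D hD, hσt, hn, tau_nFund D hD]
  · have : a⁻¹ * (xGL D hD F (D.simple i) t * n) = b'⁻¹ := by
      rw [ha']; group
    rw [this]
    exact Subgroup.inv_mem _ hb'

include hD in
/-- **fixed points of a field automorphism**: an element of the Chevalley group fixed by the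
entrywise action of `σ` lies in the image of the Chevalley group over the fixed field -/
theorem fix_mem_G0 (A R Ainv : List (List ℤ)) (hAR : rootCoefOKB D A R = true)
    (hinv : invOKB D Ainv = true) (hι : ∀ a : F, σ a = a → a ∈ Set.range ι)
    (φ : ↥(D.group F) ≃* ↥(D.group F))
    (hφ : ∀ g : ↥(D.group F), ((φ g : ↥(D.group F)) : GL D.Idx F) = tau D σ (g : GL D.Idx F))
    (g : ↥(D.group F)) (hfix : φ g = g) : (g : GL D.Idx F) ∈ G0 D ι := by
  obtain ⟨P, hP⟩ : ∃ P, P = chevBNPair D hD F := ⟨_, rfl⟩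
  have hPB : ∀ g : ↥(D.group F), g ∈ P.B ↔ (g : GL D.Idx F) ∈ D.borelSubgroup F := by
    rw [hP]; exact mem_B_iff D hD F
  have hPS : ∀ s ∈ P.S, ∃ i < D.rank, (s : GL D.Idx F) = nFund D hD F i := by
    intro s hs
    rw [hP] at hs
    obtain ⟨i, hi, hsm⟩ := hs
    exact ⟨i, hi, coe_eq_nFund_of_mem_fundSet D hD F s i hsm⟩
  have key := Cfsg.Agent.Lib.Lead.BNFix.fix_mem' P φ ?_ ?_ ((G0 D ι).subgroupOf (D.group F)) ?_ ?_ g hfix
  · exact key
  · intro b hb
    rw [hPB] at hb ⊢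
    rw [hφ]
    exact tau_mem_borel D hD σ _ hb
  · intro s hs
    obtain ⟨i, hi, hsn⟩ := hPS s hs
    apply Subtype.ext
    rw [hφ, hsn, tau_nFund D hD]
  · intro b hb hbfix
    rw [hPB] at hb
    rw [Subgroup.mem_subgroupOf]
    apply fix_borel D hD σ ι A R Ainv hAR hinv hι _ hb
    rw [← hφ, hbfix]
  · intro s hs a haC haB
    obtain ⟨i, hi, hsn⟩ := hPS s hs
    rw [sb, C_mk, mem_dc] at haC
    obtain ⟨b₁, hb₁, b₂, hb₂, hab⟩ := haC
    rw [hPB] at hb₁ hb₂ haB
    have haB' : (a : GL D.Idx F)⁻¹ * tau D σ (a : GL D.Idx F) ∈ D.borelSubgroup F := by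
      rw [← hφ]; exact haB
    have hab' : (a : GL D.Idx F) = (b₁ : GL D.Idx F) * nFund D hD F i * (b₂ : GL D.Idx F) := by
      rw [hab, ← hsn]; rfl
    obtain ⟨a₀, ha₀, ha₀fix, ha₀B⟩ := cell_fix D hD σ ι hι i hi _ _ _ hb₁ hb₂ hab' haB'
    have ha₀G : a₀ ∈ D.group F := G0_le D hD ι ha₀
    refine ⟨⟨a₀, ha₀G⟩, ?_, ?_, ?_⟩
    · rw [Subgroup.mem_subgroupOf]; exact ha₀
    · apply Subtype.ext
      rw [hφ]; exact ha₀fix
    · rw [hPB]; exact ha₀B

end

end Cfsg.Agent.Lib.Lead.ChevFix
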