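import Cfsg.Agent.Lib.Lead.ChevFixC
import Cfsg.Agent.Lib.Helper18.PSLnFldF
import Cfsg.Prelude.Def_ChevAutomorphisms

/-! Field automorphisms of prime order of Chevalley groups with unimodular Cartan matrix: the fixed
points are the Chevalley group over the fixed field (lead). -/

set_option autoImplicit false

namespace Cfsg.Agent.Lib.Lead.ChevFix

open Cfsg Cfsg.Lie Matrix Cfsg.Agent.Lib.Helper7

section
variable (D : ChevalleyDatum) (hD : D ∈ [chevG2, chevB2, chevD4, chevF4, chevE6, chevE7, chevE8])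
variable {F : Type*} [Field F]

theorem tau_one (g : GL D.Idx F) : tau D (RingEquiv.refl F) g = g := by
  apply Units.ext
  show (g : Matrix D.Idx D.Idx F).map _ = _
  ext i j
  rfl

theorem tau_mul (σ₁ σ₂ : RingAut F) (g : GL D.Idx F) :
    tau D (σ₁ * σ₂) g = tau D σ₁ (tau D σ₂ g) := by
  apply Units.ext
  show (g : Matrix D.Idx D.Idx F).map _ = ((g : Matrix D.Idx D.Idx F).map _).map _
  ext i j
  rfl

theorem tau_pow (σ : RingAut F) (k : ℕ) (g : GL D.Idx F) :
    tau D (σ ^ k) g = (tau D σ)^[k] g := by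
  induction k generalizing g with
  | zero => exact tau_one D g
  | succ k ih =>
    rw [pow_succ', tau_mul, ih, Function.iterate_succ_apply']

include hD in
/-- a field automorphism in the sense of the frozen definition is the entrywise map -/
theorem coe_of_isFieldAut (φ : ↥(D.group F) ≃* ↥(D.group F)) (σ : F ≃+* F)
    (hφ : ∀ (g : ↥(D.group F)) (r : ℕ) (t : F), r < D.nroots →
      ((g : GL D.Idx F) : Matrix D.Idx D.Idx F) = D.x F r t →
        ((φ g : GL D.Idx F) : Matrix D.Idx D.Idx F) = D.x F r (σ t))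
    (g : ↥(D.group F)) : ((φ g : ↥(D.group F)) : GL D.Idx F) = tau D σ (g : GL D.Idx F) := by
  have key : ∀ (g : GL D.Idx F) (hg : g ∈ D.group F),
      ((φ ⟨g, hg⟩ : ↥(D.group F)) : GL D.Idx F) = tau D σ g := by
    intro g hg
    induction hg using Subgroup.closure_induction with
    | mem x hx =>
      obtain ⟨r, t, hx'⟩ := hx
      apply Units.ext
      have h1 : (x : Matrix D.Idx D.Idx F) = D.x F r.val t := by
        rw [hx', x_eq_xMat D F r.val r.isLt]
      refine (hφ ⟨x, Subgroup.subset_closure ⟨r, t, hx'⟩⟩ r.val t r.isLt h1).trans ?_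
      show _ = (x : Matrix D.Idx D.Idx F).map _
      rw [h1, x_map₂]
      rfl
    | one =>
      have : (⟨1, (D.group F).one_mem⟩ : ↥(D.group F)) = 1 := rfl
      rw [this, map_one, map_one]
      rfl
    | mul x y hx hy ihx ihy =>
      have : (⟨x * y, (D.group F).mul_mem hx hy⟩ : ↥(D.group F)) = ⟨x, hx⟩ * ⟨y, hy⟩ := rfl
      rw [this, map_mul, map_mul, Subgroup.coe_mul, ihx, ihy]
    | inv x hx ihx =>
      have : (⟨x⁻¹, (D.group F).inv_mem hx⟩ : ↥(D.group F)) = (⟨x, hx⟩)⁻¹ := rfl
      rw [this, map_inv, map_inv, Subgroup.coe_inv, ihx]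
  exact key g.1 g.2

include hD in
theorem coe_pow_of_coe (φ : ↥(D.group F) ≃* ↥(D.group F)) (σ : RingAut F)
    (hφ : ∀ g : ↥(D.group F), ((φ g : ↥(D.group F)) : GL D.Idx F) = tau D σ (g : GL D.Idx F))
    (k : ℕ) (g : ↥(D.group F)) :
    (((φ ^ k : MulAut ↥(D.group F)) g : ↥(D.group F)) : GL D.Idx F) =
      tau D (σ ^ k) (g : GL D.Idx F) := by
  induction k generalizing g with
  | zero =>
    rw [pow_zero, pow_zero]
    exact (tau_one D _).symm
  | succ k ih =>
    rw [pow_succ', pow_succ', tau_mul, ← ih]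
    exact hφ _

include hD in
theorem eq_of_tau_eq (σ : RingAut F) (h : ∀ g : GL D.Idx F, g ∈ D.group F → tau D σ g = g)
    (hpos : 0 < D.nroots) : σ = 1 := by
  apply RingEquiv.ext
  intro t
  have h1 := h (xGL D hD F 0 t) (xGL_mem_group D hD F 0 t)
  rw [tau_xGL D hD] at h1
  have h2 : xGL D hD F 0 (σ t - t) = 1 := by
    rw [sub_eq_add_neg, ← xGL_mul, ← xGL_inv, h1, mul_inv_cancel]
  have h3 : D.x F 0 (σ t - t) = 1 := by
    rw [← coe_xGL D hD F, h2]; rfl
  have hN := negOK_of_mem D hD 0 hpos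
  exact sub_eq_zero.mp (eq_zero_of_x_eq_one D F 0 hpos hN.1 hN.2 _ h3)

include hD in
/-- the order of a field automorphism of the group is the order of the field automorphism -/
theorem orderOf_sigma (φ : MulAut ↥(D.group F)) (σ : RingAut F)
    (hφ : ∀ g : ↥(D.group F), ((φ g : ↥(D.group F)) : GL D.Idx F) = tau D σ (g : GL D.Idx F))
    (hpos : 0 < D.nroots) : orderOf σ = orderOf φ := by
  apply orderOf_eq_orderOf_iff.mpr
  intro k
  constructor
  · intro h
    apply MulEquiv.ext
    intro g
    apply Subtype.ext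
    rw [coe_pow_of_coe D hD φ σ hφ, h]
    exact tau_one D _
  · intro h
    apply eq_of_tau_eq D hD _ _ hpos
    intro g hg
    have := coe_pow_of_coe D hD φ σ hφ k ⟨g, hg⟩
    rw [h] at this
    exact this.symm

end

section main
variable (D : ChevalleyDatum) (hD : D ∈ [chevG2, chevB2, chevD4, chevF4, chevE6, chevE7, chevE8])

include hD in
/-- **Fixed points of a field automorphism of prime order** of a Chevalley group whose Cartan
matrix is unimodular. -/
theorem field_fix_main (A R Ainv : List (List ℤ)) (hAR : rootCoefOKB D A R = true)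
    (hinv : invOKB D Ainv = true) (hpos : 0 < D.nroots)
    {F : Type*} [Field F] [Fintype F]
    (φ : MulAut ↥(D.group F)) (hφ : D.IsFieldAut φ) (r : ℕ) (hr : r.Prime) (ho : orderOf φ = r) :
    ∃ (F₀ : Type) (_ : Field F₀) (_ : Fintype F₀), Fintype.card F = Fintype.card F₀ ^ r ∧
      Nonempty (↥((MulEquiv.toMonoidHom φ).eqLocus (MonoidHom.id ↥(D.group F))) ≃*
        ↥(D.group F₀)) := by
  classical
  obtain ⟨σ, hσ⟩ := hφ
  have hcoe := coe_of_isFieldAut D hD φ σ hσ
  have hoσ : orderOf (σ : RingAut F) = r := by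
    rw [orderOf_sigma D hD φ σ hcoe hpos, ho]
  -- the size of the field
  obtain ⟨p, hchar, n, hp, hcard⟩ := FiniteField.card' F
  have : Fact p.Prime := ⟨hp⟩
  -- the degree
  have : Finite (RingAut F) := Cfsg.Agent.Lib.Helper18.PSLnFld.finite_ringAut
  have : Fintype (Subgroup.zpowers (σ : RingAut F)) := Fintype.ofFinite _
  let K : Subfield F := FixedPoints.subfield (Subgroup.zpowers (σ : RingAut F)) F
  have h1 : Module.finrank K F = r := by
    rw [FixedPoints.finrank_eq_card, ← Nat.card_eq_fintype_card, Nat.card_zpowers, hoσ]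
  have h2 : Nat.card F = Nat.card K ^ r := by
    rw [← h1]
    exact Module.natCard_eq_pow_finrank
  have : CharP K p := RingHom.charP K.subtype Subtype.val_injective p
  have : Fintype K := Fintype.ofFinite _
  obtain ⟨d, -, hd⟩ := FiniteField.card K p
  rw [Nat.card_eq_fintype_card, Nat.card_eq_fintype_card, hcard, hd, ← pow_mul] at h2
  have h3 : (n : ℕ) = d * r := Nat.pow_right_injective hp.two_le h2
  have h4 : (n : ℕ) / r = d := by
    rw [h3]
    exact Nat.mul_div_cancel _ hr.pos
  have hd0 : (d : ℕ) ≠ 0 := d.ne_zero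
  -- the small field
  have : Fintype (GaloisField p d) := Fintype.ofFinite _
  have hF₀ : Fintype.card (GaloisField p d) = p ^ ((n : ℕ) / r) := by
    rw [h4, ← Nat.card_eq_fintype_card, GaloisField.card p d hd0]
  obtain ⟨-, ι, hι⟩ := Cfsg.Agent.Lib.Helper18.PSLnFld.exists_fixed_embedding hcard
    (σ : RingAut F) r hoσ hr.pos (GaloisField p d) hF₀
  refine ⟨GaloisField p d, inferInstance, inferInstance, ?_, ?_⟩
  · rw [hcard, hF₀, h4, h3, pow_mul]
  · -- the fixed points are the image of the small group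
    have hmap : ((MulEquiv.toMonoidHom φ).eqLocus (MonoidHom.id ↥(D.group F))).map
        (D.group F).subtype = G0 D ι := by
      ext g
      constructor
      · rintro ⟨x, hx, rfl⟩
        exact fix_mem_G0 D hD σ ι A R Ainv hAR hinv (fun a ha => (hι a).1 ha) φ hcoe x hx
      · rintro ⟨g₀, hg₀, rfl⟩
        have hG : glMap D ι g₀ ∈ D.group F := G0_le D hD ι ⟨g₀, hg₀, rfl⟩
        refine ⟨⟨_, hG⟩, ?_, rfl⟩
        show φ ⟨_, hG⟩ = ⟨_, hG⟩
        apply Subtype.ext
        rw [hcoe]
        apply Units.ext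
        show ((g₀ : Matrix D.Idx D.Idx (GaloisField p d)).map ι).map _ = 
          (g₀ : Matrix D.Idx D.Idx (GaloisField p d)).map ι
        ext i j
        exact (hι _).2 ⟨_, rfl⟩
    let e1 := ((MulEquiv.toMonoidHom φ).eqLocus (MonoidHom.id ↥(D.group F))).equivMapOfInjective
      (D.group F).subtype (D.group F).subtype_injective
    exact ⟨(e1.trans (MulEquiv.subgroupCongr hmap)).trans (equivG0 D ι).symm⟩

end main

end Cfsg.Agent.Lib.Lead.ChevFix
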