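import Cfsg.Agent.Lib.Lead.ChevFixD

/-! Fixed points of field automorphisms of Chevalley groups: version in which the Cartan matrix is
only invertible up to a factor `d` and `d`-th roots exist in the fixed field (lead). -/

set_option autoImplicit false

namespace Cfsg.Agent.Lib.Lead.ChevFix

open Cfsg Cfsg.Lie Matrix Cfsg.Agent.Lib.Helper7
open Cfsg.Agent.Lib.Helper3.BN Cfsg.Agent.Lib.Helper3.WordLen

/-- table check: `Ainv * A = d` for the Cartan matrix `A` -/
def invOKBd (D : ChevalleyDatum) (Ainv : List (List ℤ)) (d : ℕ) : Bool :=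
  (List.range D.rank).all fun i => (List.range D.rank).all fun k =>
    ((List.range D.rank).map fun j => matL Ainv i j * cartanA D j k).sum == if i = k then (d : ℤ) else 0

theorem inv_of_OKBd (D : ChevalleyDatum) (Ainv : List (List ℤ)) (d : ℕ) (h : invOKBd D Ainv d = true) :
    ∀ i < D.rank, ∀ k < D.rank,
      ∑ j ∈ Finset.range D.rank, matL Ainv i j * cartanA D j k = if i = k then (d : ℤ) else 0 := by
  unfold invOKBd at h
  simp only [List.all_eq_true, List.mem_range, beq_iff_eq] at h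
  intro i hi k hk
  rw [← list_sum_range]
  exact h i hi k hk

theorem zact_scalar {M : Type*} [CommGroup M] {l : ℕ} (A : ℕ → ℕ → ℤ) (d : ℕ)
    (hA : ∀ i < l, ∀ k < l, A i k = if i = k then (d : ℤ) else 0) (c : Fin l → M) :
    zact A c = fun k => c k ^ d := by
  funext k
  unfold zact
  rw [Finset.prod_eq_single k]
  · rw [hA k k.isLt k k.isLt, if_pos rfl, zpow_natCast]
  · intro i _ hik
    rw [hA i i.isLt k k.isLt, if_neg (fun h => hik (Fin.ext h)), zpow_zero]
  · intro h; exact absurd (Finset.mem_univ k) h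

section
variable (D : ChevalleyDatum) (hD : D ∈ [chevG2, chevB2, chevD4, chevF4, chevE6, chevE7, chevE8])
variable {F : Type*} [Field F] (σ : F ≃+* F)
variable {F₀ : Type*} [Field F₀] (ι : F₀ →+* F)

include hD in
/-- fixed points in `H` come from the small field, when `Ainv * A = d` and `d`-th roots exist -/
theorem fix_diagonal_d (A R Ainv : List (List ℤ)) (d : ℕ) (hAR : rootCoefOKB D A R = true)
    (hinv : invOKBd D Ainv d = true) (hroot : ∀ y : F₀ˣ, ∃ z : F₀ˣ, z ^ d = y)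
    (hι : ∀ a : F, σ a = a → a ∈ Set.range ι)
    (h : GL D.Idx F) (hh : h ∈ D.diagonalSubgroup F) (hfix : tau D σ h = h) : h ∈ G0 D ι := by
  obtain ⟨c, rfl⟩ := hOf_surj D hD F h hh
  have h1 : tau D σ (hOf D hD F c) =
      hOf D hD F (fun j => Units.map ((σ : F →+* F) : F →* F) (c j)) := glMap_hOf D hD _ c
  rw [h1, hOf_eq_iff D hD F A R hAR, zact_map] at hfix
  have h2 : ∀ k : Fin D.rank, ∃ a : F₀ˣ, Units.map (ι : F₀ →* F) a = zact (cartanA D) c k := by
    intro k
    have h3 : σ ((zact (cartanA D) c k : Fˣ) : F) = ((zact (cartanA D) c k : Fˣ) : F) := by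
      have := congrFun hfix k
      exact congrArg Units.val this
    obtain ⟨a, ha⟩ := hι _ h3
    have ha0 : a ≠ 0 := by
      intro h0
      rw [h0, map_zero] at ha
      exact (Units.ne_zero _) ha.symm
    refine ⟨Units.mk0 a ha0, ?_⟩
    apply Units.ext
    exact ha
  choose y₀ hy₀ using h2
  choose z₀ hz₀ using fun k => hroot (y₀ k)
  have h4 : zact (cartanA D) (fun j => Units.map (ι : F₀ →* F) (zact (matL Ainv) z₀ j)) =
      zact (cartanA D) c := by
    rw [zact_map, zact_zact, zact_scalar _ d (inv_of_OKBd D Ainv d hinv)]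
    funext k
    show Units.map (ι : F₀ →* F) (z₀ k ^ d) = _
    rw [hz₀ k]
    exact hy₀ k
  have h5 := (hOf_eq_iff D hD F A R hAR _ _).mpr h4
  rw [← h5, ← glMap_hOf D hD ι]
  exact ⟨_, wordGL_mem_group D hD F₀ _, rfl⟩

include hD in
/-- fixed points in `B` come from the small field (given this for `H`) -/
theorem fix_borel_of (hH : ∀ h : GL D.Idx F, h ∈ D.diagonalSubgroup F → tau D σ h = h → h ∈ G0 D ι)
    (hι : ∀ a : F, σ a = a → a ∈ Set.range ι)
    (b : GL D.Idx F) (hb : b ∈ D.borelSubgroup F) (hfix : tau D σ b = b) : b ∈ G0 D ι := by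
  have hb' : b ∈ ((D.borelSubgroup F : Subgroup (GL D.Idx F)) : Set (GL D.Idx F)) := hb
  rw [borel_eq_mul D hD F] at hb'
  obtain ⟨h, hh, u, hu, rfl⟩ := Set.mem_mul.mp hb'
  have hh' := tau_mem_diagonal D hD σ h hh
  have hu' := tau_mem_posUnipotent D σ u hu
  rw [map_mul] at hfix
  have h1 : tau D σ u * u⁻¹ = (tau D σ h)⁻¹ * h := by
    have : tau D σ u = (tau D σ h)⁻¹ * (h * u) := by rw [← hfix]; group
    rw [this]; group
  have h2 : tau D σ u * u⁻¹ ∈ D.posUnipotent F ⊓ D.diagonalSubgroup F := by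
    refine Subgroup.mem_inf.mpr ⟨Subgroup.mul_mem _ hu' (Subgroup.inv_mem _ hu), ?_⟩
    rw [h1]
    exact Subgroup.mul_mem _ (Subgroup.inv_mem _ hh') hh
  rw [posUnipotent_inf_diagonalSubgroup D hD F, Subgroup.mem_bot] at h2
  have hufix : tau D σ u = u := mul_inv_eq_one.mp h2
  have hhfix : tau D σ h = h := by
    rw [h2] at h1
    exact (inv_mul_eq_one.mp h1.symm)
  exact Subgroup.mul_mem _ (hH h hh hhfix) (fix_posUnipotent D hD σ ι hι u hu hufix)

include hD in
/-- fixed points of the entrywise field automorphism (given the statement for `H`) -/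
theorem fix_mem_G0_of
    (hH : ∀ h : GL D.Idx F, h ∈ D.diagonalSubgroup F → tau D σ h = h → h ∈ G0 D ι)
    (hι : ∀ a : F, σ a = a → a ∈ Set.range ι)
    (φ : ↥(D.group F) ≃* ↥(D.group F))
    (hφ : ∀ g : ↥(D.group F), ((φ g : ↥(D.group F)) : GL D.Idx F) = tau D σ (g : GL D.Idx F))
    (g : ↥(D.group F)) (hfix : φ g = g) : (g : GL D.Idx F) ∈ G0 D ι := by
  obtain ⟨P, hP⟩ : ∃ P, P = chevBNPair D hD F := ⟨_, rfl⟩
  have hPB : ∀ g : ↥(D.group F), g ∈ P.B ↔ (g : GL D.Idx F) ∈ D.borelSubgroup F := by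
    rw [hP]; exact mem_B_iff D hD F
  have hPS : ∀ s ∈ P.S, ∃ i < D.rank, (s : GL D.Idx F) = nFund D hD F i := by
    intro s hs
    rw [hP] at hs
    obtain ⟨i, hi, hsm⟩ := hs
    exact ⟨i, hi, coe_eq_nFund_of_mem_fundSet D hD F s i hsm⟩
  have key := Cfsg.Agent.Lib.Lead.BNFix.fix_mem' P φ ?_ ?_ ((G0 D ι).subgroupOf (D.group F)) ?_ ?_ g hfix
  · exact key
  · intro b hb
    rw [hPB] at hb ⊢
    rw [hφ]
    exact tau_mem_borel D hD σ _ hb
  · intro s hs
    obtain ⟨i, hi, hsn⟩ := hPS s hs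
    apply Subtype.ext
    rw [hφ, hsn, tau_nFund D hD]
  · intro b hb hbfix
    rw [hPB] at hb
    rw [Subgroup.mem_subgroupOf]
    apply fix_borel_of D hD σ ι hH hι _ hb
    rw [← hφ, hbfix]
  · intro s hs a haC haB
    obtain ⟨i, hi, hsn⟩ := hPS s hs
    rw [sb, C_mk, mem_dc] at haC
    obtain ⟨b₁, hb₁, b₂, hb₂, hab⟩ := haC
    rw [hPB] at hb₁ hb₂ haB
    have haB' : (a : GL D.Idx F)⁻¹ * tau D σ (a : GL D.Idx F) ∈ D.borelSubgroup F := by
      rw [← hφ]; exact haB
    have hab' : (a : GL D.Idx F) = (b₁ : GL D.Idx F) * nFund D hD F i * (b₂ : GL D.Idx F) := by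
      rw [hab, ← hsn]; rfl
    obtain ⟨a₀, ha₀, ha₀fix, ha₀B⟩ := cell_fix D hD σ ι hι i hi _ _ _ hb₁ hb₂ hab' haB'
    have ha₀G : a₀ ∈ D.group F := G0_le D hD ι ha₀
    refine ⟨⟨a₀, ha₀G⟩, ?_, ?_, ?_⟩
    · rw [Subgroup.mem_subgroupOf]; exact ha₀
    · apply Subtype.ext
      rw [hφ]; exact ha₀fix
    · rw [hPB]; exact ha₀B

include hD in
/-- the subgroup of fixed points is isomorphic to the group over the fixed field -/
theorem fix_equiv_of
    (hH : ∀ h : GL D.Idx F, h ∈ D.diagonalSubgroup F → tau D σ h = h → h ∈ G0 D ι)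
    (hι : ∀ a : F, σ a = a ↔ a ∈ Set.range ι)
    (φ : ↥(D.group F) ≃* ↥(D.group F))
    (hφ : ∀ g : ↥(D.group F), ((φ g : ↥(D.group F)) : GL D.Idx F) = tau D σ (g : GL D.Idx F))
    (S : Subgroup ↥(D.group F)) (hS : ∀ x, x ∈ S ↔ φ x = x) :
    Nonempty (↥S ≃* ↥(D.group F₀)) := by
  have hmap : S.map (D.group F).subtype = G0 D ι := by
    ext g
    constructor
    · rintro ⟨x, hx, rfl⟩
      exact fix_mem_G0_of D hD σ ι hH (fun a ha => (hι a).1 ha) φ hφ x ((hS x).1 hx)
    · rintro ⟨g₀, hg₀, rfl⟩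
      have hG : glMap D ι g₀ ∈ D.group F := G0_le D hD ι ⟨g₀, hg₀, rfl⟩
      refine ⟨⟨_, hG⟩, ?_, rfl⟩
      show (⟨_, hG⟩ : ↥(D.group F)) ∈ S
      rw [hS]
      apply Subtype.ext
      rw [hφ]
      apply Units.ext
      show ((g₀ : Matrix D.Idx D.Idx F₀).map ι).map _ = (g₀ : Matrix D.Idx D.Idx F₀).map ι
      ext i j
      exact (hι _).2 ⟨_, rfl⟩
  let e1 := S.equivMapOfInjective (D.group F).subtype (D.group F).subtype_injective
  exact ⟨(e1.trans (MulEquiv.subgroupCongr hmap)).trans (equivG0 D ι).symm⟩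

end

end Cfsg.Agent.Lib.Lead.ChevFix
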