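import Mathlib
import Cfsg.Agent.Lib.Helper1.Hall
import Cfsg.Agent.Lib.Helper1.MinNormal
import Cfsg.Agent.Lib.Helper9.FpfAction
import Cfsg.Agent.Lib.Helper18.FrobComp
/-! Solvable groups all of whose elements have prime power order (Higman): at most two primes. -/
open scoped Pointwise
namespace Cfsg.Agent.CharLib
universe u

theorem not_isPrimePow_mul_of_coprime {a b : ℕ} (ha : 1 < a) (hb : 1 < b) (hab : a.Coprime b) :
    ¬ IsPrimePow (a * b) := by
  intro h
  rcases (Nat.Coprime.isPrimePow_dvd_mul hab h).1 dvd_rfl with h1 | h1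
  · have := Nat.le_of_dvd (by omega) h1
    nlinarith
  · have := Nat.le_of_dvd (by omega) h1
    nlinarith

theorem eppo_solvable_two_primes {G : Type u} [Group G] [Finite G] [Group.IsSolvable G]
    (h : ∀ g : G, IsPrimePow (orderOf g) ∨ g = 1) : (Nat.card G).primeFactors.card ≤ 2 := by
  classical
  by_contra hcard
  push Not at hcard
  have hnt : Nontrivial G := by
    by_contra hnt
    rw [not_nontrivial_iff_subsingleton] at hnt
    have : Nat.card G = 1 := Nat.card_eq_one_iff_unique.mpr ⟨hnt, ⟨1⟩⟩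
    rw [this] at hcard
    simp at hcard
  obtain ⟨V, hV⟩ := Cfsg.Agent.Lib.Helper1.exists_isMinNormal (G := G)
  have hVab : IsMulCommutative V := hV.isMulCommutative
  obtain ⟨p, hp, hVp⟩ := hV.exists_prime_isPGroup
  haveI : Fact p.Prime := ⟨hp⟩
  obtain ⟨hVn, hVne, -⟩ := hV
  haveI := hVn
  set n := Nat.card G with hn
  have hn0 : n ≠ 0 := Nat.card_pos.ne'
  set m := n / p ^ n.factorization p with hm
  have hnm : n = m * p ^ n.factorization p := by
    rw [hm, mul_comm]; exact (Nat.ordProj_mul_ordCompl_eq_self n p).symm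
  have hcop : m.Coprime (p ^ n.factorization p) :=
    (Nat.Coprime.pow_left _ (Nat.coprime_ordCompl hp hn0)).symm
  have hmp : m.Coprime p := (Nat.coprime_ordCompl hp hn0).symm
  obtain ⟨H, hH⟩ := Cfsg.Agent.Lib.Helper1.hall_exists n G rfl m _ hnm hcop
  -- two distinct primes ≠ p dividing m
  obtain ⟨a, ha, b, hb, c, hc, hab, hac, hbc⟩ := Finset.two_lt_card.mp hcard
  have hdvd : ∀ q ∈ n.primeFactors, q ≠ p → q ∣ m := by
    intro q hq hqp
    have hq' := Nat.mem_primeFactors.1 hq
    have : q ∣ m * p ^ n.factorization p := hnm ▸ hq'.2.1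
    refine (Nat.Coprime.dvd_of_dvd_mul_right ?_ this)
    exact Nat.Coprime.pow_right _ ((Nat.coprime_primes hq'.1 hp).2 hqp)
  obtain ⟨q, r, hq, hr, hqr, hqm, hrm⟩ : ∃ q r : ℕ, q.Prime ∧ r.Prime ∧ q ≠ r ∧ q ∣ m ∧ r ∣ m := by
    have pa := (Nat.mem_primeFactors.1 ha).1
    have pb := (Nat.mem_primeFactors.1 hb).1
    have pc := (Nat.mem_primeFactors.1 hc).1
    by_cases h1 : a = p
    · refine ⟨b, c, pb, pc, hbc, hdvd b hb (fun e => hab (h1.trans e.symm)),
        hdvd c hc (fun e => hac (h1.trans e.symm))⟩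
    · by_cases h2 : b = p
      · exact ⟨a, c, pa, pc, hac, hdvd a ha h1, hdvd c hc (fun e => hbc (h2.trans e.symm))⟩
      · exact ⟨a, b, pa, pb, hab, hdvd a ha h1, hdvd b hb h2⟩
  -- fixed-point-freeness of H on V
  have hfpfH : ∀ x ∈ H, x ≠ 1 → V ⊓ Subgroup.centralizer {x} = ⊥ := by
    intro x hx hx1
    rw [eq_bot_iff]
    intro v hv
    obtain ⟨hvV, hvc⟩ := Subgroup.mem_inf.1 hv
    rw [Subgroup.mem_bot]
    by_contra hv1
    rw [Subgroup.mem_centralizer_singleton_iff] at hvc
    have hcomm : Commute x v := hvc.symm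
    obtain ⟨j, hj⟩ := (IsPGroup.iff_orderOf.1 hVp) ⟨v, hvV⟩
    rw [Subgroup.orderOf_mk] at hj
    have hox : orderOf x ∣ m := by
      have : orderOf (⟨x, hx⟩ : H) ∣ Nat.card H := orderOf_dvd_natCard _
      rwa [Subgroup.orderOf_mk, hH] at this
    have hcop' : (orderOf x).Coprime (orderOf v) := by
      rw [hj]
      exact Nat.Coprime.pow_right _ (Nat.Coprime.coprime_dvd_left hox hmp)
    have hmul := hcomm.orderOf_mul_eq_mul_orderOf_of_coprime hcop'
    have h1 : 1 < orderOf x := by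
      have : orderOf x ≠ 1 := fun e => hx1 (orderOf_eq_one_iff.1 e)
      have : orderOf x ≠ 0 := (orderOf_pos x).ne'
      omega
    have h2 : 1 < orderOf v := by
      have : orderOf v ≠ 1 := fun e => hv1 (orderOf_eq_one_iff.1 e)
      have : orderOf v ≠ 0 := (orderOf_pos v).ne'
      omega
    rcases h (x * v) with h3 | h3
    · rw [hmul] at h3
      exact not_isPrimePow_mul_of_coprime h1 h2 hcop' h3
    · rw [h3, orderOf_one] at hmul
      nlinarith
  -- minimal normal subgroup of H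
  have hHnt : Nontrivial H := by
    rw [← Finite.one_lt_card_iff_nontrivial, hH]
    have hm0 : 0 < m := Nat.pos_of_ne_zero (fun e => by rw [e, zero_mul] at hnm; exact hn0 hnm)
    exact lt_of_lt_of_le hq.one_lt (Nat.le_of_dvd hm0 hqm)
  obtain ⟨M, hM⟩ := Cfsg.Agent.Lib.Helper1.exists_isMinNormal (G := H)
  have hMab : IsMulCommutative M := hM.isMulCommutative
  obtain ⟨s, hs, hMs⟩ := hM.exists_prime_pow_eq_one
  obtain ⟨hMn, hMne, -⟩ := hM
  set M' : Subgroup G := M.map H.subtype with hM'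
  have hM'H : M' ≤ H := by
    rintro _ ⟨x, -, rfl⟩
    exact x.2
  have hM'ne : M' ≠ ⊥ := by
    intro e
    apply hMne
    rw [eq_bot_iff]
    intro x hx
    have : (x : G) ∈ M' := ⟨x, hx, rfl⟩
    rw [e, Subgroup.mem_bot] at this
    rw [Subgroup.mem_bot]
    exact Subtype.ext this
  haveI : IsMulCommutative M' := Subgroup.map_isMulCommutative M H.subtype
  have hcyc : IsCyclic M' :=
    Cfsg.Agent.Lib.Helper9.isCyclic_of_fpf_on_subgroup M' V hVne
      (by rw [Subgroup.normalizer_eq_top]; exact le_top)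
      (fun x hx => hfpfH x (hM'H hx)) (Or.inl inferInstance)
  obtain ⟨g₀, hg₀⟩ := hcyc.exists_generator
  set z : G := (g₀ : G) with hz
  have hzM' : z ∈ M' := g₀.2
  have hzH : z ∈ H := hM'H hzM'
  have hM'z : ∀ x ∈ M', x ∈ Subgroup.zpowers z := by
    intro x hx
    obtain ⟨k, hk⟩ := Subgroup.mem_zpowers_iff.1 (hg₀ ⟨x, hx⟩)
    refine Subgroup.mem_zpowers_iff.2 ⟨k, ?_⟩
    have := congrArg Subtype.val hk
    simpa using this
  have hz1 : z ≠ 1 := by
    intro e
    apply hM'ne
    rw [eq_bot_iff]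
    intro x hx
    have := hM'z x hx
    rw [e, Subgroup.zpowers_one_eq_bot] at this
    exact this
  have hzs : orderOf z = s := by
    have hzs' : z ^ s = 1 := by
      obtain ⟨x, hx, e⟩ := hzM'
      have := hMs x hx
      rw [← e]
      have h2 := congrArg Subtype.val this
      simpa using h2
    have := orderOf_dvd_of_pow_eq_one hzs'
    rcases (Nat.dvd_prime hs).1 this with e | e
    · exact absurd (orderOf_eq_one_iff.1 e) hz1
    · exact e
  -- a prime t ≠ s dividing m
  obtain ⟨t, ht, hts, htm⟩ : ∃ t : ℕ, t.Prime ∧ t ≠ s ∧ t ∣ m := by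
    by_cases e : q = s
    · exact ⟨r, hr, fun e' => hqr (e.trans e'.symm), hrm⟩
    · exact ⟨q, hq, e, hqm⟩
  haveI : Fact t.Prime := ⟨ht⟩
  obtain ⟨y₀, hy₀⟩ := exists_prime_orderOf_dvd_card' (G := H) t (by rw [hH]; exact htm)
  set y : G := (y₀ : G) with hy
  have hyH : y ∈ H := y₀.2
  have hyt : orderOf y = t := by rw [hy, Subgroup.orderOf_coe, hy₀]
  have hn' : y * z * y⁻¹ ∈ Subgroup.zpowers z := by
    apply hM'z
    obtain ⟨x, hx, e⟩ := hzM'
    refine ⟨y₀ * x * y₀⁻¹, hMn.conj_mem x hx y₀, ?_⟩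
    simp [hy, ← e]
  have hsolvH : Group.IsSolvable H := inferInstance
  have hconj := Cfsg.Agent.Lib.Helper18.conj_eq_of_fpf_pq V H hVne hfpfH hsolvH t s ht hs hts z y
    hzH hyH hzs hyt hn'
  have hcomm : Commute y z := by
    have : y * z = z * y := by
      calc y * z = (y * z * y⁻¹) * y := by group
        _ = z * y := by rw [hconj]
    exact this
  have hcop' : (orderOf y).Coprime (orderOf z) := by
    rw [hyt, hzs]; exact (Nat.coprime_primes ht hs).2 hts
  have hmul := hcomm.orderOf_mul_eq_mul_orderOf_of_coprime hcop'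
  rcases h (y * z) with h3 | h3
  · rw [hmul, hyt, hzs] at h3
    exact not_isPrimePow_mul_of_coprime ht.one_lt hs.one_lt ((Nat.coprime_primes ht hs).2 hts) h3
  · rw [h3, orderOf_one, hyt, hzs] at hmul
    have := ht.one_lt; have := hs.one_lt
    nlinarith

end Cfsg.Agent.CharLib
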