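import Mathlib
import Cfsg.Agent.Lib.Lead.GalChar
/-! Degree of the field of values of a character = index of its stabiliser in `(ZMod N)ˣ`
(acting through power maps). -/
set_option autoImplicit false
open Representation Module
namespace Cfsg.Agent.CharLib.GalDeg
universe u

variable {G : Type u} [Group G]

/-- A Galois automorphism fixes `adjoin ℚ S` pointwise iff it fixes `S` pointwise. -/
theorem mem_fixingSubgroup_adjoin_iff {K : Type*} [Field K] [Algebra ℚ K] (S : Set K)
    (σ : K ≃ₐ[ℚ] K) :
    σ ∈ (IntermediateField.adjoin ℚ S).fixingSubgroup ↔ ∀ s ∈ S, σ s = s := by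
  rw [IntermediateField.mem_fixingSubgroup_iff]
  constructor
  · intro h s hs
    exact h s (IntermediateField.subset_adjoin ℚ S hs)
  · intro h x hx
    have hle : IntermediateField.adjoin ℚ S ≤ IntermediateField.fixedField (Subgroup.zpowers σ) := by
      rw [IntermediateField.adjoin_le_iff]
      intro s hs
      rw [SetLike.mem_coe, IntermediateField.mem_fixedField_iff]
      intro τ hτ
      obtain ⟨k, rfl⟩ := Subgroup.mem_zpowers_iff.mp hτ
      have h1 : σ s = s := h s hs
      have h2 : ∀ k : ℕ, (σ ^ k) s = s := by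
        intro k
        induction k with
        | zero => simp
        | succ k ih => rw [pow_succ, AlgEquiv.mul_apply, h1, ih]
      have h3 : ∀ k : ℕ, (σ ^ k)⁻¹ s = s := by
        intro k
        have := h2 k
        calc (σ ^ k)⁻¹ s = (σ ^ k)⁻¹ ((σ ^ k) s) := by rw [this]
          _ = s := by
            rw [← AlgEquiv.mul_apply, inv_mul_cancel, AlgEquiv.one_apply]
      rcases Int.eq_nat_or_neg k with ⟨n, rfl | rfl⟩
      · rw [zpow_natCast]; exact h2 n
      · rw [zpow_neg, zpow_natCast]; exact h3 n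
    have := hle hx
    rw [IntermediateField.mem_fixedField_iff] at this
    exact this σ (Subgroup.mem_zpowers σ)

theorem finrank_map_eq (K : Type) [Field K] [Algebra ℚ K] (K' : IntermediateField ℚ K)
    (φ : K →ₐ[ℚ] ℂ) : Module.finrank ℚ (K'.map φ) = Module.finrank ℚ K' := by
  let f : ↥K' →+ ↥(K'.map φ) :=
    { toFun := fun y => ⟨φ y, ⟨y, y.2, rfl⟩⟩
      map_zero' := by apply Subtype.ext; simp
      map_add' := fun a b => by apply Subtype.ext; simp }
  have hbij : Function.Bijective f := by
    constructor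
    · intro a b hab
      have : φ a = φ b := congrArg Subtype.val hab
      exact Subtype.ext (φ.toRingHom.injective this)
    · rintro ⟨_, y, hy, rfl⟩
      exact ⟨⟨y, hy⟩, rfl⟩
  let r : ↥K' ≃+ ↥(K'.map φ) := AddEquiv.ofBijective f hbij
  let el : ↥K' ≃ₗ[ℚ] ↥(K'.map φ) :=
    { toFun := r, invFun := r.symm, map_add' := map_add r,
      map_smul' := fun c y => map_rat_smul r c y
      left_inv := r.left_inv, right_inv := r.right_inv }
  exact el.finrank_eq.symm

theorem finrank_mul_card_stab_aux [Finite G] (N : ℕ) [NeZero N] (K : Type) [Field K] [Algebra ℚ K]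
    [IsCyclotomicExtension {N} ℚ K] (φ : K →ₐ[ℚ] ℂ) (hN : ∀ g : G, g ^ N = 1)
    {n : ℕ} (ρ : Representation ℂ G (Fin n → ℂ)) :
    Module.finrank ℚ (IntermediateField.adjoin ℚ (Set.range ρ.character)) *
      Nat.card {u : (ZMod N)ˣ // ∀ g : G, ρ.character (g ^ (u : ZMod N).val) = ρ.character g} =
        N.totient := by
  classical
  haveI hfin : Module.Finite ℚ K := IsCyclotomicExtension.finite {N} ℚ K
  haveI : IsGalois ℚ K := IsCyclotomicExtension.isGalois {N} ℚ K
  have hex := fun g : G => exists_cyclotomic_charVal N K φ.toRingHom ρ g (hN g)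
  choose x _ hx1 hx2 using hex
  let K' : IntermediateField ℚ K := IntermediateField.adjoin ℚ (Set.range x)
  have hmap : K'.map φ = IntermediateField.adjoin ℚ (Set.range ρ.character) := by
    change (IntermediateField.adjoin ℚ (Set.range x)).map φ = _
    rw [IntermediateField.adjoin_map]
    congr 1
    ext z
    constructor
    · rintro ⟨y, ⟨g, rfl⟩, rfl⟩
      exact ⟨g, (hx1 g).symm⟩
    · rintro ⟨g, rfl⟩
      exact ⟨x g, ⟨g, rfl⟩, hx1 g⟩
  have h1 : Module.finrank ℚ (IntermediateField.adjoin ℚ (Set.range ρ.character)) =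
      Module.finrank ℚ K' := by
    rw [← hmap]
    exact finrank_map_eq K K' φ
  have h2 : Nat.card K'.fixingSubgroup = Module.finrank K' K :=
    IsGalois.card_fixingSubgroup_eq_finrank K'
  have h3 : Module.finrank ℚ K' * Module.finrank K' K = Module.finrank ℚ K :=
    Module.finrank_mul_finrank ℚ K' K
  have h4 : Module.finrank ℚ K = N.totient :=
    IsCyclotomicExtension.finrank K (irreducible_cyclotomic_rat_lead N)
  have hmem : ∀ σ : K ≃ₐ[ℚ] K, σ ∈ K'.fixingSubgroup ↔
      ∀ g : G, ρ.character (g ^ galExp N K σ) = ρ.character g := by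
    intro σ
    rw [mem_fixingSubgroup_adjoin_iff]
    constructor
    · intro h g
      rw [← hx2 g σ, h (x g) ⟨g, rfl⟩]
      exact hx1 g
    · rintro h _ ⟨g, rfl⟩
      apply φ.toRingHom.injective
      rw [hx2 g σ, h g]
      exact (hx1 g).symm
  have h5 : Nat.card K'.fixingSubgroup =
      Nat.card {u : (ZMod N)ˣ // ∀ g : G, ρ.character (g ^ (u : ZMod N).val) = ρ.character g} := by
    apply Nat.card_congr
    refine Equiv.subtypeEquiv
      (IsCyclotomicExtension.autEquivPow K (irreducible_cyclotomic_rat_lead N)).toEquiv ?_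
    intro σ
    exact hmem σ
  rw [h1, ← h5, h2, h3, h4]

/-- **Degree of the field of values.**  If `g ^ N = 1` for all `g`, then for a character `χ` of `G`,
`[ℚ(χ) : ℚ]` times the order of the stabiliser of `χ` in `(ZMod N)ˣ` (acting by `g ↦ g ^ u`)
is `φ(N)`. -/
theorem finrank_mul_card_stab [Finite G] (N : ℕ) [NeZero N] (hN : ∀ g : G, g ^ N = 1)
    {χ : G → ℂ} (hχ : Cfsg.IsCharacter G χ) :
    Module.finrank ℚ (IntermediateField.adjoin ℚ (Set.range χ)) *
      Nat.card {u : (ZMod N)ˣ // ∀ g : G, χ (g ^ (u : ZMod N).val) = χ g} = N.totient := by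
  obtain ⟨n, ρ, rfl⟩ := hχ
  obtain ⟨K, hK1, hK2, hK3, ⟨φ⟩⟩ := exists_cyclotomic_field N
  exact finrank_mul_card_stab_aux N K φ.toRatAlgHom hN ρ

end Cfsg.Agent.CharLib.GalDeg
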