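import Mathlib
import Cfsg.Agent.Lib.Lead.GalDegA
/-! The action of `(ZMod N)ˣ` on complex functions by power maps; comparing fields of values of a
character of a group and of a subgroup by orbit counting. -/
set_option autoImplicit false
open Representation Module
namespace Cfsg.Agent.CharLib.GalDeg
universe u

variable (N : ℕ) [NeZero N]

/-- The power twist of a function. -/
def tw {H : Type*} [Group H] (u : (ZMod N)ˣ) (θ : H → ℂ) : H → ℂ :=
  fun g => θ (g ^ (u : ZMod N).val)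

theorem tw_apply {H : Type*} [Group H] (u : (ZMod N)ˣ) (θ : H → ℂ) (g : H) :
    tw N u θ g = θ (g ^ (u : ZMod N).val) := rfl

theorem pow_mod_of_pow_eq_one {H : Type*} [Group H] {g : H} (hg : g ^ N = 1) (m : ℕ) :
    g ^ (m % N) = g ^ m := by
  conv_rhs => rw [← Nat.div_add_mod m N, pow_add, pow_mul, hg, one_pow, one_mul]

theorem pow_val_mul {H : Type*} [Group H] {g : H} (hg : g ^ N = 1) (a b : ZMod N) :
    g ^ (a * b).val = (g ^ a.val) ^ b.val := by
  rw [ZMod.val_mul, pow_mod_of_pow_eq_one N hg, pow_mul]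

theorem pow_val_one {H : Type*} [Group H] {g : H} (hg : g ^ N = 1) :
    g ^ (1 : ZMod N).val = g := by
  have h : (1 : ZMod N).val = 1 % N := by
    have := ZMod.val_natCast (n := N) 1
    rwa [Nat.cast_one] at this
  rw [h, pow_mod_of_pow_eq_one N hg, pow_one]

/-- The action of `(ZMod N)ˣ` on functions on a group of exponent dividing `N`. -/
@[reducible] def twAction {H : Type*} [Group H] (hN : ∀ g : H, g ^ N = 1) :
    MulAction (ZMod N)ˣ (H → ℂ) where
  smul u θ := tw N u θ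
  one_smul θ := by
    funext g
    change θ (g ^ ((1 : (ZMod N)ˣ) : ZMod N).val) = θ g
    rw [Units.val_one, pow_val_one N (hN g)]
  mul_smul u v θ := by
    funext g
    change θ (g ^ ((u * v : (ZMod N)ˣ) : ZMod N).val) = θ ((g ^ (u : ZMod N).val) ^ (v : ZMod N).val)
    rw [Units.val_mul, pow_val_mul N (hN g)]

variable {P : Type u} [Group P] [Finite P]

/-- Orbit counting: compare the fields of values of `χ` (on `P`) and `ψ` (on a subgroup `M`). -/
theorem orbit_count (M : Subgroup P) (hNP : ∀ g : P, g ^ N = 1) {χ : P → ℂ}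
    (hχ : Cfsg.IsCharacter P χ) {ψ : M → ℂ} (hψ : Cfsg.IsCharacter M ψ) (S : Finset (M → ℂ))
    (h1 : ∀ u : (ZMod N)ˣ, (∀ g : M, ψ (g ^ (u : ZMod N).val) = ψ g) →
      ∀ g : P, χ (g ^ (u : ZMod N).val) = χ g)
    (h2 : ∀ u : (ZMod N)ˣ, (∀ g : P, χ (g ^ (u : ZMod N).val) = χ g) → tw N u ψ ∈ S) :
    ∃ j : ℕ, j ∣ Nat.card {u : (ZMod N)ˣ // ∀ g : P, χ (g ^ (u : ZMod N).val) = χ g} ∧
      j ≤ S.card ∧
      Module.finrank ℚ (IntermediateField.adjoin ℚ (Set.range ψ)) =
        Module.finrank ℚ (IntermediateField.adjoin ℚ (Set.range χ)) * j ∧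
      (j = S.card → ∀ φ ∈ S, ∃ u : (ZMod N)ˣ, φ = tw N u ψ) := by
  classical
  have hNM : ∀ g : M, g ^ N = 1 := fun g => Subtype.ext (by simpa using hNP g)
  letI aP : MulAction (ZMod N)ˣ (P → ℂ) := twAction N hNP
  letI aM : MulAction (ZMod N)ˣ (M → ℂ) := twAction N hNM
  let H : Subgroup (ZMod N)ˣ := MulAction.stabilizer (ZMod N)ˣ χ
  let H0 : Subgroup (ZMod N)ˣ := MulAction.stabilizer (ZMod N)ˣ ψ
  have hHmem : ∀ u : (ZMod N)ˣ, u ∈ H ↔ ∀ g : P, χ (g ^ (u : ZMod N).val) = χ g := by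
    intro u
    rw [MulAction.mem_stabilizer_iff]
    constructor
    · intro h g; exact congrFun h g
    · intro h; funext g; exact h g
  have hH0mem : ∀ u : (ZMod N)ˣ, u ∈ H0 ↔ ∀ g : M, ψ (g ^ (u : ZMod N).val) = ψ g := by
    intro u
    rw [MulAction.mem_stabilizer_iff]
    constructor
    · intro h g; exact congrFun h g
    · intro h; funext g; exact h g
  have hle : H0 ≤ H := fun u hu => (hHmem u).mpr (h1 u ((hH0mem u).mp hu))
  have hcH : Nat.card {u : (ZMod N)ˣ // ∀ g : P, χ (g ^ (u : ZMod N).val) = χ g} = Nat.card H :=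
    Nat.card_congr (Equiv.subtypeEquivRight (fun u => (hHmem u).symm))
  have hcH0 : Nat.card {u : (ZMod N)ˣ // ∀ g : M, ψ (g ^ (u : ZMod N).val) = ψ g} = Nat.card H0 :=
    Nat.card_congr (Equiv.subtypeEquivRight (fun u => (hH0mem u).symm))
  have hF1 := finrank_mul_card_stab N hNP hχ
  have hF2 := finrank_mul_card_stab N hNM hψ
  rw [hcH] at hF1
  rw [hcH0] at hF2
  -- orbit of ψ under H
  have hos : Nat.card (MulAction.orbit H ψ) * Nat.card (MulAction.stabilizer H ψ) = Nat.card H := by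
    rw [Nat.card_congr (MulAction.orbitEquivQuotientStabilizer H ψ)]
    exact (Subgroup.card_eq_card_quotient_mul_card_subgroup _).symm
  have hst : Nat.card (MulAction.stabilizer H ψ) = Nat.card H0 := by
    have : MulAction.stabilizer H ψ = H0.subgroupOf H := by
      ext ⟨u, hu⟩
      rw [MulAction.mem_stabilizer_iff, Subgroup.mem_subgroupOf]
      exact Iff.rfl
    rw [this]
    exact Nat.card_congr (Subgroup.subgroupOfEquivOfLe hle).toEquiv
  rw [hst] at hos
  have hH0pos : 0 < Nat.card H0 := Nat.card_pos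
  refine ⟨Nat.card (MulAction.orbit H ψ), ?_, ?_, ?_, ?_⟩
  · rw [hcH]; exact Dvd.intro _ hos
  · have hsub : MulAction.orbit H ψ ⊆ (S : Set (M → ℂ)) := by
      rintro _ ⟨⟨u, hu⟩, rfl⟩
      exact h2 u ((hHmem u).mp hu)
    rw [Nat.card_coe_set_eq, ← Set.ncard_coe_finset S]
    exact Set.ncard_le_ncard hsub (Finset.finite_toSet S)
  · have : Module.finrank ℚ (IntermediateField.adjoin ℚ (Set.range ψ)) * Nat.card H0 =
        Module.finrank ℚ (IntermediateField.adjoin ℚ (Set.range χ)) *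
          Nat.card (MulAction.orbit H ψ) * Nat.card H0 := by
      rw [hF2, mul_assoc, hos, hF1]
    exact Nat.eq_of_mul_eq_mul_right hH0pos this
  · intro hj φ hφ
    have hsub : MulAction.orbit H ψ ⊆ (S : Set (M → ℂ)) := by
      rintro _ ⟨⟨u, hu⟩, rfl⟩
      exact h2 u ((hHmem u).mp hu)
    have heq : MulAction.orbit H ψ = (S : Set (M → ℂ)) := by
      apply Set.eq_of_subset_of_ncard_le hsub _ (Finset.finite_toSet S)
      rw [Set.ncard_coe_finset, ← hj, Nat.card_coe_set_eq]
    have hφ' : φ ∈ MulAction.orbit H ψ := by rw [heq]; exact hφ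
    obtain ⟨⟨u, hu⟩, rfl⟩ := hφ'
    exact ⟨u, rfl⟩

end Cfsg.Agent.CharLib.GalDeg
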