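import Mathlib
import Cfsg.Agent.Lib.Lead.CharOrtho
import Cfsg.Agent.Lib.Helper6.CentralHom
/-! A faithful nonlinear irreducible character of a `p`-group vanishes off some normal subgroup of
index `p`. -/
set_option autoImplicit false
open Representation Module
open scoped commutatorElement
namespace Cfsg.Agent.CharLib.GalDeg
universe u

variable {P : Type u} [Group P] [Finite P]

theorem exists_index_p_vanishing (p a : ℕ) [hp : Fact p.Prime] (hP : Nat.card P = p ^ a)
    {χ : P → ℂ} (hχ : Cfsg.IsIrrCharacter P χ) (hfaith : ∀ g : P, χ g = χ 1 → g = 1)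
    (hdeg : χ 1 ≠ 1) :
    ∃ M : Subgroup P, M.Normal ∧ M.index = p ∧ Nat.card M = p ^ (a - 1) ∧ 0 < a ∧
      ∀ g : P, g ∉ M → χ g = 0 := by
  classical
  have hPG : IsPGroup p P := IsPGroup.of_card hP
  obtain ⟨c, hc1, hc2⟩ := Cfsg.Agent.Lib.Helper6.IsIrrCharacter.exists_central_hom hχ
  have hcls : Cfsg.IsClassFunction P χ :=
    IsCharacter.isClassFunction (IsIrrCharacter.isCharacter hχ)
  -- the centre is proper
  have hZ : Subgroup.center P ≠ ⊤ := by
    intro hZ
    apply hdeg
    apply Cfsg.Agent.Lib.Helper6.IsIrrCharacter.apply_one_eq_one_of_commutator hχ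
    intro g k
    have : ⁅g, k⁆ = 1 := by
      rw [commutatorElement_eq_one_iff_mul_comm]
      have hk : k ∈ Subgroup.center P := by rw [hZ]; exact Subgroup.mem_top k
      exact Subgroup.mem_center_iff.mp hk g
    rw [this]
  -- a noncentral element central modulo the centre
  haveI : Nontrivial (P ⧸ Subgroup.center P) := by
    by_contra h
    rw [not_nontrivial_iff_subsingleton] at h
    apply hZ
    rw [eq_top_iff]
    intro g _
    have := Subsingleton.elim (g : P ⧸ Subgroup.center P) 1
    exact (QuotientGroup.eq_one_iff g).mp this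
  have hQ : IsPGroup p (P ⧸ Subgroup.center P) := hPG.to_quotient _
  haveI := hQ.center_nontrivial
  obtain ⟨⟨q, hq⟩, hq1⟩ := exists_ne (1 : Subgroup.center (P ⧸ Subgroup.center P))
  obtain ⟨x, rfl⟩ := QuotientGroup.mk_surjective q
  have hxZ : x ∉ Subgroup.center P := by
    intro hx
    apply hq1
    apply Subtype.ext
    exact (QuotientGroup.eq_one_iff x).mpr hx
  have hz : ∀ g : P, (x * g)⁻¹ * (g * x) ∈ Subgroup.center P := by
    intro g
    have h1 := Subgroup.mem_center_iff.mp hq (g : P ⧸ Subgroup.center P)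
    rw [← QuotientGroup.mk_mul, ← QuotientGroup.mk_mul] at h1
    have h2 := QuotientGroup.eq.mp h1.symm
    exact h2
  -- χ vanishes off the centralizer of x
  have hvan : ∀ g : P, g * x ≠ x * g → χ g = 0 := by
    intro g hg
    set z : P := (x * g)⁻¹ * (g * x) with hzdef
    have hzc : z ∈ Subgroup.center P := hz g
    have hz1 : z ≠ 1 := by
      intro h
      apply hg
      have : (x * g) * z = g * x := by rw [hzdef]; group
      rw [h, mul_one] at this
      exact this.symm
    have h3 : x⁻¹ * g * x = z * g := by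
      have h4 : z * g = g * z := (Subgroup.mem_center_iff.mp hzc g).symm
      rw [h4, hzdef]; group
    have h5 : χ (x⁻¹ * g * x) = χ g := by
      have := hcls g x⁻¹
      rw [inv_inv] at this
      exact this
    have h6 : χ (z * g) = c ⟨z, hzc⟩ * χ g := hc1 ⟨z, hzc⟩ g
    have h7 : c ⟨z, hzc⟩ ≠ 1 := by
      intro h
      apply hz1
      apply hfaith
      have := hc1 ⟨z, hzc⟩ 1
      rw [mul_one, h, one_mul] at this
      exact this
    rw [h3, h6] at h5
    have h8 : (c ⟨z, hzc⟩ - 1) * χ g = 0 := by rw [sub_mul, one_mul, h5, sub_self]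
    rcases mul_eq_zero.mp h8 with h9 | h9
    · exact absurd (sub_eq_zero.mp h9) h7
    · exact h9
  -- the centralizer is proper
  set C : Subgroup P := Subgroup.centralizer {x} with hCdef
  have hCne : C ≠ ⊤ := by
    intro hC
    apply hxZ
    rw [Subgroup.mem_center_iff]
    intro g
    have : g ∈ C := by rw [hC]; exact Subgroup.mem_top g
    exact Subgroup.mem_centralizer_singleton_iff.mp this
  obtain ⟨n, hn⟩ := (hPG.to_subgroup C).exists_card_eq
  have hna : n < a := by
    have h1 : Nat.card C < Nat.card P := by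
      have h2 := Subgroup.index_mul_card C
      have h3 : C.index ≠ 1 := fun h => hCne (Subgroup.index_eq_one.mp h)
      have h4 : 0 < Nat.card C := Nat.card_pos
      have h5 : C.index ≠ 0 := Subgroup.index_ne_zero_of_finite
      have h6 : 2 ≤ C.index := by omega
      nlinarith
    rw [hn, hP] at h1
    exact (Nat.pow_lt_pow_iff_right hp.out.one_lt).mp h1
  have ha : 0 < a := by omega
  obtain ⟨M, hM1, hM2⟩ := Sylow.exists_subgroup_card_pow_prime_le p (m := a - 1)
    (by rw [hP]; exact pow_dvd_pow p (Nat.sub_le a 1)) C hn (by omega)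
  have hMi : M.index = p := by
    have h2 := Subgroup.index_mul_card M
    rw [hM1, hP] at h2
    have h3 : p ^ a = p * p ^ (a - 1) := by
      rw [← pow_succ']
      congr 1
      omega
    rw [h3] at h2
    exact Nat.eq_of_mul_eq_mul_right (pow_pos hp.out.pos _) h2
  have hMn : M.Normal := by
    apply Subgroup.normal_of_index_eq_minFac_card
    rw [hMi, hP, Nat.Prime.pow_minFac hp.out (by omega)]
  refine ⟨M, hMn, hMi, hM1, ha, ?_⟩
  intro g hg
  apply hvan
  intro h
  apply hg
  apply hM2
  exact Subgroup.mem_centralizer_singleton_iff.mpr h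

end Cfsg.Agent.CharLib.GalDeg
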