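import Mathlib
import Cfsg.Agent.Lib.Lead.CharOrtho
import Cfsg.Agent.Lib.Lead.CharInd
import Cfsg.Agent.Lib.Lead.CharEquiv
import Cfsg.Agent.Lib.Helper6.Clifford
/-! Restriction of an irreducible character vanishing off a normal subgroup of prime index. -/
set_option autoImplicit false
open Representation Module
open scoped ComplexConjugate
namespace Cfsg.Agent.CharLib.GalDeg
open Cfsg.Agent.Lib.Helper6
universe u

variable {P : Type u} [Group P] [Fintype P]

theorem classInner_resFun_self_of_vanishing (M : Subgroup P) [Fintype M] {χ : P → ℂ}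
    (hχ : Cfsg.IsIrrCharacter P χ) (hvan : ∀ g : P, g ∉ M → χ g = 0) :
    Cfsg.classInner (resFun M χ) (resFun M χ) = (M.index : ℂ) := by
  classical
  have h1 : ∑ h : M, resFun M χ h * conj (resFun M χ h) = ∑ g : P, χ g * conj (χ g) := by
    have h2 := sum_extendByZero_mul M (resFun M χ) (fun g => conj (χ g))
    have h2' : ∑ h : M, resFun M χ h * conj (resFun M χ h) =
        ∑ h : M, resFun M χ h * (fun g => conj (χ g)) (h : P) := rfl
    rw [h2', ← h2]
    apply Finset.sum_congr rfl
    intro g _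
    by_cases hg : g ∈ M
    · have := extendByZero_apply_coe M (resFun M χ) ⟨g, hg⟩
      rw [this]; rfl
    · rw [extendByZero_apply_of_not_mem M _ hg, hvan g hg, zero_mul]
  have h3 := classInner_irr hχ hχ
  rw [if_pos rfl] at h3
  unfold Cfsg.classInner at h3 ⊢
  rw [h1]
  have hP0 : (Nat.card P : ℂ) ≠ 0 := by
    have : 0 < Nat.card P := Nat.card_pos
    exact_mod_cast this.ne'
  have hM0 : (Nat.card M : ℂ) ≠ 0 := by
    have : 0 < Nat.card M := Nat.card_pos
    exact_mod_cast this.ne'
  have h4 : ∑ g : P, χ g * conj (χ g) = (Nat.card P : ℂ) := by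
    field_simp at h3
    exact h3
  rw [h4]
  have h5 := Subgroup.index_mul_card M
  have h6 : (M.index : ℂ) * (Nat.card M : ℂ) = (Nat.card P : ℂ) := by exact_mod_cast h5
  rw [← h6]
  field_simp

theorem classInner_sum_orbit (M : Subgroup P) [hMn : M.Normal] [Fintype M] {ψ : M → ℂ}
    (hψ : Cfsg.IsIrrCharacter M ψ) (e : ℂ) :
    Cfsg.classInner (e • ∑ φ ∈ conjOrbit M ψ, φ) (e • ∑ φ ∈ conjOrbit M ψ, φ) =
      e * conj e * ((conjOrbit M ψ).card : ℂ) := by
  classical
  rw [Cfsg.Agent.CharLib.classInner_smul_left, Cfsg.Agent.CharLib.classInner_smul_right,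
    Cfsg.Agent.CharLib.classInner_sum_left]
  have h1 : ∀ φ ∈ conjOrbit M ψ, Cfsg.classInner φ (∑ φ' ∈ conjOrbit M ψ, φ') = 1 := by
    intro φ hφ
    rw [Cfsg.Agent.CharLib.classInner_sum_right, Finset.sum_eq_single φ]
    · obtain ⟨g, rfl⟩ := (mem_conjOrbit M).mp hφ
      have := classInner_irr (isIrrCharacter_conjFun M hψ g) (isIrrCharacter_conjFun M hψ g)
      rw [if_pos rfl] at this
      exact this
    · intro φ' hφ' hne
      obtain ⟨g, rfl⟩ := (mem_conjOrbit M).mp hφ
      obtain ⟨g', rfl⟩ := (mem_conjOrbit M).mp hφ'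
      rw [classInner_irr (isIrrCharacter_conjFun M hψ g) (isIrrCharacter_conjFun M hψ g'),
        if_neg (Ne.symm hne)]
    · intro h; exact absurd hφ h
  rw [Finset.sum_congr rfl h1, Finset.sum_const, nsmul_eq_mul, mul_one]
  ring

/-- If the irreducible `χ` vanishes off the normal subgroup `M` of prime index `p`, then `χ|_M` is
the sum of the `p` distinct conjugates of any irreducible constituent. -/
theorem restrict_decomp (p : ℕ) [hp : Fact p.Prime] (M : Subgroup P) [hMn : M.Normal] [Fintype M]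
    (hMi : M.index = p) {χ : P → ℂ} (hχ : Cfsg.IsIrrCharacter P χ)
    (hvan : ∀ g : P, g ∉ M → χ g = 0) {ψ : M → ℂ} (hψ : Cfsg.IsIrrCharacter M ψ)
    (hc : Cfsg.classInner (resFun M χ) ψ ≠ 0) :
    (conjOrbit M ψ).card = p ∧ resFun M χ = ∑ φ ∈ conjOrbit M ψ, φ ∧ χ 1 = (p : ℂ) * ψ 1 := by
  classical
  obtain ⟨m, hm⟩ := IsCharacter.classInner_nat
    (isCharacter_resFun M (IsIrrCharacter.isCharacter hχ)) (IsIrrCharacter.isCharacter hψ)
  have hcl := clifford M hχ hψ hc
  have h1 := classInner_resFun_self_of_vanishing M hχ hvan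
  have h2 := classInner_sum_orbit M hψ (Cfsg.classInner (resFun M χ) ψ)
  rw [← hcl, h1, hm, hMi] at h2
  have h3 : p = m * m * (conjOrbit M ψ).card := by
    have : (starRingEnd ℂ) (m : ℂ) = m := Complex.conj_natCast m
    rw [this] at h2
    exact_mod_cast h2
  have hm1 : m = 1 := by
    have hdvd : m ∣ p := ⟨m * (conjOrbit M ψ).card, by rw [h3]; ring⟩
    rcases (Nat.dvd_prime hp.out).mp hdvd with h | h
    · exact h
    · exfalso
      rw [h] at h3
      have hp0 : 0 < p := hp.out.pos
      have h4 : p * (conjOrbit M ψ).card = 1 := by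
        have : p * 1 = p * (p * (conjOrbit M ψ).card) := by rw [mul_one]; rw [← mul_assoc]; exact h3
        exact (Nat.eq_of_mul_eq_mul_left hp0 this).symm
      have h5 : p = 1 := Nat.eq_one_of_mul_eq_one_right h4
      exact hp.out.one_lt.ne' h5
  rw [hm1] at h3 hm
  have hcard : (conjOrbit M ψ).card = p := by omega
  refine ⟨hcard, ?_, ?_⟩
  · rw [hcl, hm, Nat.cast_one, one_smul]
  · have := clifford_degree M hχ hψ hc
    rw [this, hm, hcard, Nat.cast_one, one_mul]

end Cfsg.Agent.CharLib.GalDeg
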