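import Mathlib
import Cfsg.Agent.Lib.Lead.CharOrtho
import Cfsg.Agent.Lib.Helper6.Clifford
import Cfsg.Agent.Lib.Helper24.Deflation
/-! Kernels of irreducible characters, deflation, and an index bound for conjugate kernels. -/
set_option autoImplicit false
open Representation Module
open scoped ComplexConjugate
namespace Cfsg.Agent.CharLib.GalDeg
open Cfsg.Agent.Lib.Helper6
universe u

/-- The kernel of an irreducible character and its deflation to the quotient. -/
theorem exists_kernel_deflation {M : Type u} [Group M] [Finite M] {ψ : M → ℂ}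
    (hψ : Cfsg.IsIrrCharacter M ψ) :
    ∃ (K : Subgroup M) (_ : K.Normal), (∀ g : M, g ∈ K ↔ ψ g = ψ 1) ∧
      ∃ ψ' : M ⧸ K → ℂ, Cfsg.IsIrrCharacter (M ⧸ K) ψ' ∧ ∀ g : M, ψ' (g : M ⧸ K) = ψ g := by
  classical
  obtain ⟨n, ρ, hirr, rfl⟩ := hψ
  have hmem : ∀ g : M, g ∈ (MonoidHom.ker ρ) ↔ ρ.character g = ρ.character 1 := by
    intro g
    rw [MonoidHom.mem_ker]
    constructor
    · intro h
      unfold Representation.character
      rw [h, map_one ρ]
    · intro h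
      apply Cfsg.Agent.Lib.Helper24.rep_eq_one_of_char_eq_finrank ρ g
      rw [h, Representation.char_one]
  have hK : ∀ k ∈ MonoidHom.ker ρ, ρ k = 1 := fun k hk => MonoidHom.mem_ker.mp hk
  refine ⟨MonoidHom.ker ρ, MonoidHom.normal_ker ρ, hmem, ?_⟩
  haveI := hirr
  refine ⟨(Cfsg.Agent.Lib.Helper24.deflate (MonoidHom.ker ρ) ρ hK).character,
    ⟨n, Cfsg.Agent.Lib.Helper24.deflate (MonoidHom.ker ρ) ρ hK,
      Cfsg.Agent.Lib.Helper24.deflate_isIrreducible (MonoidHom.ker ρ) ρ hK, rfl⟩, ?_⟩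
  intro g
  exact Cfsg.Agent.Lib.Helper24.deflate_character (MonoidHom.ker ρ) ρ hK g

variable {P : Type u} [Group P] [Fintype P]

/-- If the kernels of the conjugates of `ψ` intersect trivially, then `|M| ≤ [M : ker ψ] ^ (#conjugates)`. -/
theorem card_le_index_pow (M : Subgroup P) [hMn : M.Normal] (K : Subgroup M) (ψ : M → ℂ)
    (hK : ∀ g : M, g ∈ K ↔ ψ g = ψ 1)
    (hcore : ∀ h : M, (∀ φ ∈ conjOrbit M ψ, φ h = φ 1) → h = 1) :
    Nat.card M ≤ K.index ^ (conjOrbit M ψ).card := by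
  classical
  have hex : ∀ φ : ↥(conjOrbit M ψ), ∃ x : P, conjFun M x ψ = φ.1 :=
    fun φ => (mem_conjOrbit M).mp φ.2
  choose x hx using hex
  let c : P → (M →* M) := fun y => (MulAut.conjNormal y : MulAut M).toMonoidHom
  have hc : ∀ (y : P) (h : M), ((c y h : M) : P) = y * h * y⁻¹ := fun y h => rfl
  let f : ↥(conjOrbit M ψ) → Subgroup M := fun φ => K.comap (c (x φ))
  have hfi : ∀ φ, (f φ).index = K.index := by
    intro φ
    apply Subgroup.index_comap_of_surjective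
    exact (MulAut.conjNormal (x φ) : MulAut M).surjective
  have hinf : (⨅ φ, f φ) = ⊥ := by
    rw [eq_bot_iff]
    intro h hh
    rw [Subgroup.mem_bot]
    apply hcore
    intro φ hφ
    have h1 : h ∈ f ⟨φ, hφ⟩ := (Subgroup.mem_iInf.mp hh) ⟨φ, hφ⟩
    have h2 : c (x ⟨φ, hφ⟩) h ∈ K := h1
    rw [hK] at h2
    have h3 : φ = conjFun M (x ⟨φ, hφ⟩) ψ := (hx ⟨φ, hφ⟩).symm
    rw [h3, conjFun_apply, conjFun_apply_one]
    have h4 : (⟨x ⟨φ, hφ⟩ * (h : P) * (x ⟨φ, hφ⟩)⁻¹, hMn.conj_mem h h.2 _⟩ : M) = c (x ⟨φ, hφ⟩) h :=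
      Subtype.ext (hc _ h).symm
    rw [h4]
    exact h2
  have h5 := Subgroup.index_iInf_le f
  rw [hinf, Subgroup.index_bot] at h5
  calc Nat.card M ≤ ∏ φ, (f φ).index := h5
    _ = ∏ _φ : ↥(conjOrbit M ψ), K.index := Finset.prod_congr rfl (fun φ _ => hfi φ)
    _ = K.index ^ (conjOrbit M ψ).card := by
      rw [Finset.prod_const, Finset.card_univ, Fintype.card_coe]

end Cfsg.Agent.CharLib.GalDeg
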