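import Mathlib
import Cfsg.Agent.Lib.Lead.GalDegB
import Cfsg.Agent.Lib.Helper6.LinChar
/-! Base case: a faithful linear character of a `p`-group of order `p ^ a` has field of values of
degree `φ(p ^ a)`. -/
set_option autoImplicit false
open Representation Module
namespace Cfsg.Agent.CharLib.GalDeg
universe u

variable {P : Type u} [Group P] [Finite P]

theorem linear_case (p a : ℕ) [hp : Fact p.Prime] (hP : Nat.card P = p ^ a) (ha : 0 < a)
    {χ : P → ℂ} (hχ : Cfsg.IsIrrCharacter P χ) (hfaith : ∀ g : P, χ g = χ 1 → g = 1)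
    (h1 : χ 1 = 1) (t : ℕ)
    (hfield : Module.finrank ℚ (IntermediateField.adjoin ℚ (Set.range χ)) = (p - 1) * p ^ t) :
    a ≤ t + 1 := by
  classical
  haveI : NeZero (p ^ a) := ⟨(pow_pos hp.out.pos a).ne'⟩
  have hN : ∀ g : P, g ^ (p ^ a) = 1 := fun g => by rw [← hP]; exact pow_card_eq_one'
  have hF := finrank_mul_card_stab (p ^ a) hN (IsIrrCharacter.isCharacter hχ)
  rw [Nat.totient_prime_pow hp.out ha, hfield] at hF
  -- χ is an injective homomorphism to ℂˣ
  let lam : P →* ℂˣ := Cfsg.Agent.Lib.Helper6.linCharUnitsHom (IsIrrCharacter.isCharacter hχ) h1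
  have hlam : ∀ g : P, ((lam g : ℂˣ) : ℂ) = χ g := fun g => rfl
  have hinj : Function.Injective lam := by
    rw [injective_iff_map_eq_one]
    intro g hg
    apply hfaith
    rw [← hlam g, hg, h1]; rfl
  let f : P →* ℂ := (Units.coeHom ℂ).comp lam
  have hfinj : Function.Injective f := fun a b hab => hinj (Units.ext hab)
  haveI : IsCyclic P := isCyclic_of_injective_ringHom f hfinj
  obtain ⟨g0, hg0⟩ := IsCyclic.exists_generator (α := P)
  have hord : orderOf g0 = p ^ a := by
    rw [orderOf_eq_card_of_forall_mem_zpowers hg0, hP]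
  -- the stabiliser is trivial
  have hstab : Nat.card {u : (ZMod (p ^ a))ˣ // ∀ g : P, χ (g ^ (u : ZMod (p ^ a)).val) = χ g} = 1 := by
    rw [Nat.card_eq_one_iff_unique]
    refine ⟨⟨?_⟩, ⟨⟨1, ?_⟩⟩⟩
    · rintro ⟨u, hu⟩ ⟨v, hv⟩
      apply Subtype.ext
      have key : ∀ w : (ZMod (p ^ a))ˣ, (∀ g : P, χ (g ^ (w : ZMod (p ^ a)).val) = χ g) → w = 1 := by
        intro w hw
        have h2 : g0 ^ (w : ZMod (p ^ a)).val = g0 := by
          apply hinj
          apply Units.ext
          rw [hlam, hlam, hw g0]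
        have h3 : g0 ^ (w : ZMod (p ^ a)).val = g0 ^ 1 := by rw [h2, pow_one]
        rw [pow_eq_pow_iff_modEq, hord] at h3
        have h4 := (ZMod.natCast_eq_natCast_iff _ _ _).mpr h3
        rw [ZMod.natCast_zmod_val, Nat.cast_one] at h4
        exact Units.ext h4
      exact (key u hu).trans (key v hv).symm
    · intro g
      rw [Units.val_one, pow_val_one (p ^ a) (hN g)]
  rw [hstab, mul_one] at hF
  have hp1 : 0 < p - 1 := Nat.sub_pos_of_lt hp.out.one_lt
  have h5 : p ^ t = p ^ (a - 1) := by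
    have : (p - 1) * p ^ t = (p - 1) * p ^ (a - 1) := by rw [hF, mul_comm]
    exact Nat.eq_of_mul_eq_mul_left hp1 this
  have h6 := Nat.pow_right_injective hp.out.two_le h5
  omega

end Cfsg.Agent.CharLib.GalDeg
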