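import Mathlib
import Cfsg.Agent.Lib.Lead.GalDegB
import Cfsg.Agent.Lib.Lead.GalDegD
import Cfsg.Agent.Lib.Helper23.GaloisChar
/-! Power twists of the conjugates of a character of a normal subgroup. -/
set_option autoImplicit false
open Representation Module
open scoped ComplexConjugate
namespace Cfsg.Agent.CharLib.GalDeg
open Cfsg.Agent.Lib.Helper6
universe u

variable {P : Type u} [Group P] [Fintype P]

theorem conjFun_pow (M : Subgroup P) [hMn : M.Normal] (x : P) (ψ : M → ℂ) (h : M) (k : ℕ) :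
    conjFun M x ψ (h ^ k) = (conjFun M x (fun m => ψ (m ^ k))) h := by
  rw [conjFun_apply, conjFun_apply]
  congr 1
  apply Subtype.ext
  simp [conj_pow]

/-- If `χ|_M` is the sum of the conjugates of `ψ` and `χ` vanishes off `M`, every power map fixing
`ψ` fixes `χ`. -/
theorem twist_fixed_of_fixed (M : Subgroup P) [hMn : M.Normal] {χ : P → ℂ} {ψ : M → ℂ}
    (hvan : ∀ g : P, g ∉ M → χ g = 0)
    (hres : resFun M χ = ∑ φ ∈ conjOrbit M ψ, φ) (k : ℕ) (hk : k.Coprime (Nat.card P))
    (hψ : ∀ g : M, ψ (g ^ k) = ψ g) : ∀ g : P, χ (g ^ k) = χ g := by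
  classical
  intro g
  by_cases hg : g ∈ M
  · have h1 : χ (g ^ k) = resFun M χ (⟨g, hg⟩ ^ k) := rfl
    have h2 : χ g = resFun M χ ⟨g, hg⟩ := rfl
    rw [h1, h2, hres, Finset.sum_apply, Finset.sum_apply]
    apply Finset.sum_congr rfl
    intro φ hφ
    obtain ⟨x, rfl⟩ := (mem_conjOrbit M).mp hφ
    rw [conjFun_pow]
    congr 1
    funext m
    exact hψ m
  · have hgk : g ^ k ∉ M := by
      intro h
      apply hg
      have hc : k.Coprime (orderOf g) := Nat.Coprime.coprime_dvd_right (orderOf_dvd_natCard g) hk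
      obtain ⟨m, hm⟩ := exists_pow_eq_self_of_coprime hc
      rw [← hm]
      exact M.pow_mem h m
    rw [hvan g hg, hvan _ hgk]

/-- A power map fixing `χ` sends an irreducible constituent `ψ` of `χ|_M` to a conjugate of `ψ`. -/
theorem twist_mem_conjOrbit (M : Subgroup P) [hMn : M.Normal] [Fintype M] {χ : P → ℂ}
    (hχ : Cfsg.IsIrrCharacter P χ) {ψ : M → ℂ} (hψ : Cfsg.IsIrrCharacter M ψ)
    (hc : Cfsg.classInner (resFun M χ) ψ ≠ 0) (k : ℕ) (hk : k.Coprime (Nat.card M))
    (hfix : ∀ g : P, χ (g ^ k) = χ g) : (fun m : M => ψ (m ^ k)) ∈ conjOrbit M ψ := by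
  classical
  have hψk : Cfsg.IsIrrCharacter M (fun m : M => ψ (m ^ k)) :=
    Cfsg.Agent.Lib.Helper23.isIrrCharacter_comp_pow hψ k hk
  have hc' : Cfsg.classInner (resFun M χ) (fun m : M => ψ (m ^ k)) ≠ 0 := by
    have h1 : Cfsg.classInner (resFun M χ) (fun m : M => ψ (m ^ k)) =
        Cfsg.classInner (resFun M χ) ψ := by
      unfold Cfsg.classInner
      congr 1
      have h2 := Equiv.sum_comp (powCoprime hk.symm) (fun m : M => resFun M χ m * conj (ψ m))
      rw [← h2]
      apply Finset.sum_congr rfl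
      intro m _
      rw [powCoprime_apply]
      congr 1
      change χ ((m : P)) = χ (((m ^ k : M) : P))
      rw [Subgroup.coe_pow, hfix]
    rw [h1]; exact hc
  obtain ⟨g, hg⟩ := exists_conjFun_eq_of_constituent M hχ hψ hψk hc hc'
  exact (mem_conjOrbit M).mpr ⟨g, hg⟩

end Cfsg.Agent.CharLib.GalDeg
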