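import Mathlib
import Cfsg.Agent.Lib.Lead.GalDegC
import Cfsg.Agent.Lib.Lead.GalDegE
import Cfsg.Agent.Lib.Lead.GalDegF
import Cfsg.Agent.Lib.Lead.GalDegG
import Cfsg.Agent.Lib.Helper6.CliffordCorr
/-! Order of a `p`-group bounded by the degree and the field of values of a faithful irreducible
character. -/
set_option autoImplicit false
open Representation Module
open scoped ComplexConjugate
namespace Cfsg.Agent.CharLib.GalDeg
open Cfsg.Agent.Lib.Helper6
universe u

theorem arith_caseA (q b v t : ℕ) (hq : 1 ≤ q)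
    (hIH : q * b ≤ v + q * (t + 1 + 1) * (v + 1)) :
    q * (b + 1) ≤ ((q + 1) * (v + 1) - 1) + q * (t + 1) * ((q + 1) * (v + 1)) := by
  have h1 : (q + 1) * (v + 1) - 1 = q * v + q + v := by
    have : (q + 1) * (v + 1) = q * v + q + v + 1 := by ring
    omega
  rw [h1]
  have h2 : 1 ≤ q * (t + 1) * (v + 1) := by
    have : 1 ≤ (t + 1) * (v + 1) := Nat.one_le_iff_ne_zero.mpr (by positivity)
    nlinarith
  nlinarith

theorem arith_caseB (q a a' v t : ℕ) (hIH : q * a' ≤ v + q * (t + 1) * (v + 1))
    (ha : a - 1 ≤ a' * (q + 1)) :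
    q * a ≤ ((q + 1) * (v + 1) - 1) + q * (t + 1) * ((q + 1) * (v + 1)) := by
  have h1 : (q + 1) * (v + 1) - 1 = q * v + q + v := by
    have : (q + 1) * (v + 1) = q * v + q + v + 1 := by ring
    omega
  rw [h1]
  have h2 : a ≤ a' * (q + 1) + 1 := by omega
  have h3 : q * a ≤ q * (a' * (q + 1) + 1) := Nat.mul_le_mul_left q h2
  have h4 : q * a' * (q + 1) ≤ (v + q * (t + 1) * (v + 1)) * (q + 1) :=
    Nat.mul_le_mul_right (q + 1) hIH
  nlinarith

theorem main_bound (p : ℕ) [hp : Fact p.Prime] :
    ∀ (a : ℕ) (P : Type u) [Group P] [Finite P], Nat.card P = p ^ a → 0 < a →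
      ∀ χ : P → ℂ, Cfsg.IsIrrCharacter P χ → (∀ g : P, χ g = χ 1 → g = 1) →
      ∀ f t : ℕ, χ 1 = (f : ℂ) →
        Module.finrank ℚ (IntermediateField.adjoin ℚ (Set.range χ)) = (p - 1) * p ^ t →
        (p - 1) * a ≤ (f - 1) + (p - 1) * (t + 1) * f := by
  classical
  intro a
  induction a using Nat.strong_induction_on with
  | _ a ih =>
  intro P _ _ hP ha χ hχ hfaith f t hf hfield
  have hp1 : 1 ≤ p - 1 := Nat.sub_pos_of_lt hp.out.one_lt
  by_cases h1 : χ 1 = 1
  · -- linear case
    have hf1 : f = 1 := by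
      have : (f : ℂ) = 1 := by rw [← hf, h1]
      exact_mod_cast this
    have hat := linear_case p a hP ha hχ hfaith h1 t hfield
    rw [hf1]
    have : (p - 1) * a ≤ (p - 1) * (t + 1) := Nat.mul_le_mul_left _ hat
    omega
  · -- nonlinear case
    obtain ⟨M, hMn, hMi, hMc, _, hvan⟩ := exists_index_p_vanishing p a hP hχ hfaith h1
    letI : Fintype P := Fintype.ofFinite P
    letI : Fintype M := Fintype.ofFinite M
    haveI := hMn
    have hχc := IsIrrCharacter.isCharacter hχ
    have hres0 : resFun M χ ≠ 0 := by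
      intro h
      obtain ⟨n, hn, hn1⟩ := IsIrrCharacter.apply_one_pos hχ
      have h2 : resFun M χ 1 = 0 := by rw [h]; rfl
      have h3 : resFun M χ 1 = χ 1 := rfl
      rw [h3, hn1] at h2
      have : n = 0 := by exact_mod_cast h2
      omega
    obtain ⟨ψ, hψ, hc⟩ := Cfsg.Agent.Lib.Helper6.IsCharacter.exists_constituent
      (isCharacter_resFun M hχc) hres0
    obtain ⟨hcard, hres, hdeg⟩ := restrict_decomp p M hMi hχ hvan hψ hc
    obtain ⟨w, hw0, hw⟩ := IsIrrCharacter.apply_one_pos hψ
    have hψc := IsIrrCharacter.isCharacter hψ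
    have hfw : f = p * w := by
      have : (f : ℂ) = ((p * w : ℕ) : ℂ) := by rw [← hf, hdeg, hw]; push_cast; ring
      exact_mod_cast this
    -- Galois orbit counting
    haveI : NeZero (p ^ a) := ⟨(pow_pos hp.out.pos a).ne'⟩
    have hN : ∀ g : P, g ^ (p ^ a) = 1 := fun g => by rw [← hP]; exact pow_card_eq_one'
    have hcop : ∀ u : (ZMod (p ^ a))ˣ, ((u : ZMod (p ^ a)).val).Coprime (p ^ a) :=
      fun u => ZMod.val_coe_unit_coprime u
    have hcopM : ∀ u : (ZMod (p ^ a))ˣ, ((u : ZMod (p ^ a)).val).Coprime (Nat.card M) := by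
      intro u
      rw [hMc]
      exact Nat.Coprime.coprime_dvd_right (pow_dvd_pow p (Nat.sub_le a 1)) (hcop u)
    obtain ⟨j, hjdvd, hjle, hfr, hall⟩ := orbit_count (p ^ a) M hN hχc hψc (conjOrbit M ψ)
      (fun u hu => twist_fixed_of_fixed M hvan hres _ (by rw [hP]; exact hcop u) hu)
      (fun u hu => twist_mem_conjOrbit M hχ hψ hc _ (hcopM u) hu)
    rw [hcard] at hjle hall
    rw [hfield] at hfr
    -- j is 1 or p
    have hF := finrank_mul_card_stab (p ^ a) hN hχc
    rw [Nat.totient_prime_pow hp.out ha, hfield] at hF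
    have hj : j = 1 ∨ j = p := by
      have h2 : Nat.card {u : (ZMod (p ^ a))ˣ // ∀ g : P, χ (g ^ (u : ZMod (p ^ a)).val) = χ g} ∣
          p ^ (a - 1) := by
        have h3 : (p - 1) * (p ^ t * Nat.card {u : (ZMod (p ^ a))ˣ //
            ∀ g : P, χ (g ^ (u : ZMod (p ^ a)).val) = χ g}) = (p - 1) * p ^ (a - 1) := by
          rw [← mul_assoc, hF, mul_comm]
        have h4 := Nat.eq_of_mul_eq_mul_left hp1 h3
        exact Dvd.intro_left _ h4
      obtain ⟨i, _, hi⟩ := (Nat.dvd_prime_pow hp.out).mp (dvd_trans hjdvd h2)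
      rcases i with _ | _ | i
      · left; rw [hi, pow_zero]
      · right; rw [hi]; simp
      · exfalso
        rw [hi] at hjle
        have : p ^ 2 ≤ p ^ (i + 1 + 1) := Nat.pow_le_pow_right hp.out.pos (by omega)
        have h5 : p * p ≤ p := by rw [← sq]; exact le_trans this hjle
        have := hp.out.one_lt
        nlinarith
    -- χ h = χ 1 when all conjugates of ψ take the value φ 1 at h
    have hcore : ∀ h : M, (∀ φ ∈ conjOrbit M ψ, φ h = φ 1) → h = 1 := by
      intro h hh
      apply Subtype.ext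
      apply hfaith
      have e1 : χ (h : P) = resFun M χ h := rfl
      have e2 : χ 1 = resFun M χ 1 := rfl
      rw [e1, e2, hres, Finset.sum_apply, Finset.sum_apply]
      exact Finset.sum_congr rfl hh
    obtain ⟨K, hKn, hKmem, ψ', hψ', hψ'v⟩ := exists_kernel_deflation hψ
    have hMG : IsPGroup p M := IsPGroup.of_card hMc
    rcases hj with hj | hj
    · -- case B: same field
      rw [hj, mul_one] at hfr
      haveI := hKn
      obtain ⟨a', ha'⟩ := (hMG.to_quotient K).exists_card_eq
      have ha'pos : 0 < a' := by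
        by_contra h0
        have h0' : a' = 0 := by omega
        rw [h0', pow_zero] at ha'
        have hsub : Subsingleton (M ⧸ K) := (Nat.card_eq_one_iff_unique.mp ha').1
        have hconst : ∀ m : M, ψ m = ψ 1 := by
          intro m
          rw [← hψ'v m, ← hψ'v 1]
          congr 1
          exact Subsingleton.elim _ _
        have horb : conjOrbit M ψ = {ψ} := by
          ext φ
          rw [mem_conjOrbit, Finset.mem_singleton]
          constructor
          · rintro ⟨x, rfl⟩
            funext m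
            rw [conjFun_apply, hconst, hconst m]
          · intro h; exact ⟨1, by rw [conjFun_one, h]⟩
        rw [horb, Finset.card_singleton] at hcard
        exact hp.out.one_lt.ne' hcard.symm
      have ha'lt : a' < a := by
        have h2 : Nat.card (M ⧸ K) ≤ Nat.card M := Nat.card_le_card_of_surjective _ (QuotientGroup.mk_surjective)
        rw [ha', hMc] at h2
        have := (Nat.pow_le_pow_iff_right hp.out.one_lt).mp h2
        omega
      have hfaith' : ∀ q : M ⧸ K, ψ' q = ψ' 1 → q = 1 := by
        intro q hq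
        obtain ⟨m, rfl⟩ := QuotientGroup.mk_surjective q
        have h2 : ψ' ((1 : M) : M ⧸ K) = ψ 1 := hψ'v 1
        rw [hψ'v m, ← QuotientGroup.mk_one, h2] at hq
        exact (QuotientGroup.eq_one_iff m).mpr ((hKmem m).mpr hq)
      have hrange : Set.range ψ' = Set.range ψ := by
        ext z
        constructor
        · rintro ⟨q, rfl⟩
          obtain ⟨m, rfl⟩ := QuotientGroup.mk_surjective q
          exact ⟨m, (hψ'v m).symm⟩
        · rintro ⟨m, rfl⟩
          exact ⟨(m : M ⧸ K), hψ'v m⟩
      have hψ'1 : ψ' 1 = (w : ℂ) := by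
        rw [← hw, ← hψ'v 1]; rfl
      have hIH := ih a' ha'lt (M ⧸ K) ha' ha'pos ψ' hψ' hfaith' w t hψ'1 (by rw [hrange]; exact hfr)
      have hidx := card_le_index_pow M K ψ hKmem hcore
      rw [hcard, Subgroup.index_eq_card, ha', hMc, ← pow_mul] at hidx
      have hle : a - 1 ≤ a' * p := (Nat.pow_le_pow_iff_right hp.out.one_lt).mp hidx
      obtain ⟨q, rfl⟩ : ∃ q, p = q + 1 := ⟨p - 1, by omega⟩
      obtain ⟨v, rfl⟩ : ∃ v, w = v + 1 := ⟨w - 1, by omega⟩
      rw [hfw]
      simp only [Nat.add_sub_cancel] at hIH ⊢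
      exact arith_caseB q a a' v t hIH hle
    · -- case A: ψ is faithful with a larger field
      rw [hj] at hfr
      have hall' := hall hj
      have hψfaith : ∀ m : M, ψ m = ψ 1 → m = 1 := by
        intro m hm
        apply hcore
        intro φ hφ
        obtain ⟨u, rfl⟩ := hall' φ hφ
        rw [tw_apply, tw_apply, one_pow]
        have h2 : m ∈ K := (hKmem m).mpr hm
        exact (hKmem _).mp (K.pow_mem h2 _)
      have hapos : 0 < a - 1 := by
        by_contra h0
        have h0' : a - 1 = 0 := by omega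
        rw [h0', pow_zero] at hMc
        have hsub : Subsingleton M := (Nat.card_eq_one_iff_unique.mp hMc).1
        have horb : conjOrbit M ψ = {ψ} := by
          ext φ
          rw [mem_conjOrbit, Finset.mem_singleton]
          constructor
          · rintro ⟨x, rfl⟩
            funext m
            rw [conjFun_apply]
            congr 1
            exact Subsingleton.elim _ _
          · intro h; exact ⟨1, by rw [conjFun_one, h]⟩
        rw [horb, Finset.card_singleton] at hcard
        exact hp.out.one_lt.ne' hcard.symm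
      have hfr' : Module.finrank ℚ (IntermediateField.adjoin ℚ (Set.range ψ)) =
          (p - 1) * p ^ (t + 1) := by
        rw [hfr, pow_succ, mul_assoc]
      have hIH := ih (a - 1) (by omega) M hMc hapos ψ hψ hψfaith w (t + 1) hw hfr'
      obtain ⟨q, rfl⟩ : ∃ q, p = q + 1 := ⟨p - 1, by omega⟩
      obtain ⟨v, rfl⟩ : ∃ v, w = v + 1 := ⟨w - 1, by omega⟩
      obtain ⟨b, rfl⟩ : ∃ b, a = b + 1 := ⟨a - 1, by omega⟩
      rw [hfw]
      simp only [Nat.add_sub_cancel] at hIH ⊢
      exact arith_caseA q b v t hp1 hIH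

end Cfsg.Agent.CharLib.GalDeg
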