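/-
lead: elementary fusion of involutions in groups without elements of order `2p` (for S4738).
-/
import Mathlib
import Cfsg.Agent.Lib.Helper12.Basic

set_option autoImplicit false

namespace Cfsg.Agent.Lib.Lead.InvolFusion

open Subgroup

variable {G : Type*} [Group G]

theorem orderOf_conj_eq (a x : G) : orderOf (a * x * a⁻¹) = orderOf x := by
  have h : SemiconjBy a x (a * x * a⁻¹) := by
    unfold SemiconjBy
    group
  exact (h.orderOf_eq a).symm

theorem inv_eq_self_of_mul_self {s : G} (hs : s * s = 1) : s⁻¹ = s :=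
  inv_eq_of_mul_eq_one_right hs

theorem mul_self_of_orderOf_two {s : G} (hs : orderOf s = 2) : s * s = 1 := by
  rw [← sq, ← hs]
  exact pow_orderOf_eq_one s

/-- If the involution `s` inverts the element `c` of odd order then `c * s` is conjugate to `s`. -/
theorem isConj_mul_of_inverts (s c : G) (hinv : s * c * s⁻¹ = c⁻¹)
    (hodd : Odd (orderOf c)) : IsConj s (c * s) := by
  obtain ⟨j, hj⟩ := hodd
  set d := c ^ (j + 1) with hd
  have hdd : d * d = c := by
    rw [hd, ← pow_add]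
    have : j + 1 + (j + 1) = orderOf c + 1 := by omega
    rw [this, pow_succ, pow_orderOf_eq_one, one_mul]
  have hsd : s * d * s⁻¹ = d⁻¹ := by
    rw [hd, ← conj_pow, hinv, inv_pow]
  have hsd' : s * d⁻¹ * s⁻¹ = d := by
    have : s * d⁻¹ * s⁻¹ = (s * d * s⁻¹)⁻¹ := by group
    rw [this, hsd, inv_inv]
  rw [isConj_iff]
  refine ⟨d, ?_⟩
  calc d * s * d⁻¹ = d * (s * d⁻¹ * s⁻¹) * s := by group
    _ = d * d * s := by rw [hsd']
    _ = c * s := by rw [hdd]

section main

variable [Finite G] {p : ℕ} [hpp : Fact p.Prime]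

/-- An involution normalizing an abelian Sylow `p`-subgroup inverts it, if no nontrivial `p`-element
has a centralizer of even order. -/
theorem inverts_of_mem_normalizer
    (hC : ∀ g : G, g ≠ 1 → (∃ k : ℕ, orderOf g = p ^ k) →
      Odd (Nat.card ↥(Subgroup.centralizer ({g} : Set G))))
    (P : Sylow p G) (hcomm : IsMulCommutative ↥(P : Subgroup G)) (u : G) (hu : orderOf u = 2)
    (huN : u ∈ Subgroup.normalizer ((P : Subgroup G) : Set G)) (z : G)
    (hz : z ∈ (P : Subgroup G)) : u * z * u⁻¹ = z⁻¹ := by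
  have hu2 : u * u = 1 := mul_self_of_orderOf_two hu
  have huinv : u⁻¹ = u := inv_eq_self_of_mul_self hu2
  have hwP : u * z * u⁻¹ ∈ (P : Subgroup G) := (Subgroup.mem_normalizer_iff.mp huN z).mp hz
  set w : G := u * z * u⁻¹ with hw
  have hzw : z * w = w * z := by
    have := hcomm.is_comm.comm (⟨z, hz⟩ : ↥(P : Subgroup G)) ⟨w, hwP⟩
    exact congrArg Subtype.val this
  have hyP : z * w ∈ (P : Subgroup G) := Subgroup.mul_mem _ hz hwP
  have huy : u * (z * w) = (z * w) * u := by
    have h1 : u * w = z * u := by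
      rw [hw, huinv]
      calc u * (u * z * u) = (u * u) * z * u := by group
        _ = z * u := by rw [hu2, one_mul]
    have h2 : u * z = w * u := by
      rw [hw, huinv]
      calc u * z = u * z * (u * u) := by rw [hu2, mul_one]
        _ = u * z * u * u := by group
    calc u * (z * w) = (u * z) * w := by group
      _ = w * (u * w) := by rw [h2]; group
      _ = w * (z * u) := by rw [h1]
      _ = (w * z) * u := by group
      _ = (z * w) * u := by rw [hzw]
  have hy1 : z * w = 1 := by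
    by_contra hne
    have hpow : ∃ k : ℕ, orderOf (z * w) = p ^ k := by
      obtain ⟨k, hk⟩ := (IsPGroup.iff_orderOf.mp P.2) ⟨z * w, hyP⟩
      exact ⟨k, by rw [← hk, Subgroup.orderOf_mk]⟩
    have hoddC := hC _ hne hpow
    have humem : u ∈ Subgroup.centralizer ({z * w} : Set G) := by
      rw [Subgroup.mem_centralizer_iff]
      intro h hh
      rw [Set.mem_singleton_iff] at hh
      subst hh
      exact huy.symm
    have hdvd : orderOf (⟨u, humem⟩ : ↥(Subgroup.centralizer ({z * w} : Set G))) ∣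
        Nat.card ↥(Subgroup.centralizer ({z * w} : Set G)) := orderOf_dvd_natCard _
    rw [Subgroup.orderOf_mk, hu] at hdvd
    exact (Nat.not_even_iff_odd.mpr hoddC) (even_iff_two_dvd.mpr hdvd)
  exact (inv_eq_of_mul_eq_one_right hy1).symm

/-- Any two involutions normalizing the nontrivial abelian Sylow `p`-subgroup `P` are conjugate. -/
theorem isConj_of_mem_normalizer
    (hC : ∀ g : G, g ≠ 1 → (∃ k : ℕ, orderOf g = p ^ k) →
      Odd (Nat.card ↥(Subgroup.centralizer ({g} : Set G))))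
    (P : Sylow p G) (hcomm : IsMulCommutative ↥(P : Subgroup G)) (x : G)
    (hxP : x ∈ (P : Subgroup G)) (hx1 : x ≠ 1) (s t : G) (hs : orderOf s = 2) (ht : orderOf t = 2)
    (hsN : s ∈ Subgroup.normalizer ((P : Subgroup G) : Set G))
    (htN : t ∈ Subgroup.normalizer ((P : Subgroup G) : Set G)) : IsConj s t := by
  have hs2 : s * s = 1 := mul_self_of_orderOf_two hs
  have ht2 : t * t = 1 := mul_self_of_orderOf_two ht
  have hsinv : s⁻¹ = s := inv_eq_self_of_mul_self hs2
  have htinv : t⁻¹ = t := inv_eq_self_of_mul_self ht2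
  have hsx := inverts_of_mem_normalizer hC P hcomm s hs hsN
  have htx := inverts_of_mem_normalizer hC P hcomm t ht htN
  -- `c = t * s` centralizes `x`
  set c : G := t * s with hc
  have hcx : c * x * c⁻¹ = x := by
    have h1 : s * x * s⁻¹ = x⁻¹ := hsx x hxP
    have h2 : t * x⁻¹ * t⁻¹ = x := by
      have := htx x⁻¹ (Subgroup.inv_mem _ hxP)
      rw [this, inv_inv]
    calc c * x * c⁻¹ = t * (s * x * s⁻¹) * t⁻¹ := by rw [hc]; group
      _ = x := by rw [h1, h2]
  have hxpow : ∃ k : ℕ, orderOf x = p ^ k := by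
    obtain ⟨k, hk⟩ := (IsPGroup.iff_orderOf.mp P.2) ⟨x, hxP⟩
    exact ⟨k, by rw [← hk, Subgroup.orderOf_mk]⟩
  have hoddC := hC x hx1 hxpow
  have hcmem : c ∈ Subgroup.centralizer ({x} : Set G) := by
    rw [Subgroup.mem_centralizer_iff]
    intro h hh
    rw [Set.mem_singleton_iff] at hh
    subst hh
    have : c * h = h * c := by
      calc c * h = (c * h * c⁻¹) * c := by group
        _ = h * c := by rw [hcx]
    exact this.symm
  have hcodd : Odd (orderOf c) := by
    have hdvd : orderOf (⟨c, hcmem⟩ : ↥(Subgroup.centralizer ({x} : Set G))) ∣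
        Nat.card ↥(Subgroup.centralizer ({x} : Set G)) := orderOf_dvd_natCard _
    rw [Subgroup.orderOf_mk] at hdvd
    exact Odd.of_dvd_nat hoddC hdvd
  have hinv : s * c * s⁻¹ = c⁻¹ := by
    rw [hc, hsinv]
    calc s * (t * s) * s = s * t * (s * s) := by group
      _ = s * t := by rw [hs2, mul_one]
      _ = (t * s)⁻¹ := by rw [mul_inv_rev, hsinv, htinv]
  have h := isConj_mul_of_inverts s c hinv hcodd
  have hcs : c * s = t := by
    rw [hc]
    calc t * s * s = t * (s * s) := by group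
      _ = t := by rw [hs2, mul_one]
  rwa [hcs] at h

/-- An involution inverting a nontrivial element `w` of the abelian Sylow `p`-subgroup `P` is
conjugate to an involution of `N_G(P)`. -/
theorem exists_isConj_mem_normalizer
    (hC : ∀ g : G, g ≠ 1 → (∃ k : ℕ, orderOf g = p ^ k) →
      Odd (Nat.card ↥(Subgroup.centralizer ({g} : Set G))))
    (P : Sylow p G) (hcomm : IsMulCommutative ↥(P : Subgroup G)) (w : G)
    (hwP : w ∈ (P : Subgroup G)) (hw1 : w ≠ 1) (s : G) (hs : orderOf s = 2)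
    (hsw : s * w * s⁻¹ = w⁻¹) :
    ∃ s' : G, orderOf s' = 2 ∧ s' ∈ Subgroup.normalizer ((P : Subgroup G) : Set G) ∧
      IsConj s s' := by
  have hs2 : s * s = 1 := mul_self_of_orderOf_two hs
  have hsinv : s⁻¹ = s := inv_eq_self_of_mul_self hs2
  have hPcent : ∀ y ∈ (P : Subgroup G), y ∈ Subgroup.centralizer ((P : Subgroup G) : Set G) := by
    intro y hy
    rw [Subgroup.mem_centralizer_iff]
    intro h hh
    have := hcomm.is_comm.comm (⟨h, hh⟩ : ↥(P : Subgroup G)) ⟨y, hy⟩
    exact congrArg Subtype.val this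
  have hx : w ∈ Subgroup.centralizer ((P : Subgroup G) : Set G) := hPcent w hwP
  have hy : s⁻¹ * w * s ∈ Subgroup.centralizer ((P : Subgroup G) : Set G) := by
    have : s⁻¹ * w * s = w⁻¹ := by
      rw [← hsw]
      nth_rewrite 2 [hsinv]
      rw [hsinv]
    rw [this]
    exact hPcent _ (Subgroup.inv_mem _ hwP)
  obtain ⟨n, hnN, hn⟩ := Sylow.conj_eq_normalizer_conj_of_mem_centralizer P w s hx hy
  have hsw' : s⁻¹ * w * s = w⁻¹ := by
    rw [← hsw]
    nth_rewrite 2 [hsinv]
    rw [hsinv]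
  have hnw : n⁻¹ * w * n = w⁻¹ := by rw [← hn, hsw']
  -- the centralizer of `w`
  have hwpow : ∃ k : ℕ, orderOf w = p ^ k := by
    obtain ⟨k, hk⟩ := (IsPGroup.iff_orderOf.mp P.2) ⟨w, hwP⟩
    exact ⟨k, by rw [← hk, Subgroup.orderOf_mk]⟩
  have hoddC := hC w hw1 hwpow
  set C := Subgroup.centralizer ({w} : Set G) with hCdef
  have hmemC : ∀ y : G, y ∈ C ↔ y * w * y⁻¹ = w := by
    intro y
    rw [hCdef, Subgroup.mem_centralizer_iff]
    constructor
    · intro h
      have := h w (Set.mem_singleton w)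
      calc y * w * y⁻¹ = (y * w) * y⁻¹ := by group
        _ = (w * y) * y⁻¹ := by rw [this]
        _ = w := by group
    · intro h x hx
      rw [Set.mem_singleton_iff] at hx
      subst hx
      calc x * y = (y * x * y⁻¹) * y := by rw [h]
        _ = y * x := by group
  have hoddOf : ∀ y ∈ C, Odd (orderOf y) := by
    intro y hy
    have hdvd : orderOf (⟨y, hy⟩ : ↥C) ∣ Nat.card ↥C := orderOf_dvd_natCard _
    rw [Subgroup.orderOf_mk] at hdvd
    exact Odd.of_dvd_nat hoddC hdvd
  -- `s` normalizes `C`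
  have hsC : ∀ y ∈ C, s * y * s⁻¹ ∈ C := by
    intro y hy
    rw [hmemC] at hy ⊢
    have h1 : s⁻¹ * w * s = w⁻¹ := hsw'
    have h2 : y * w⁻¹ * y⁻¹ = w⁻¹ := by
      calc y * w⁻¹ * y⁻¹ = (y * w * y⁻¹)⁻¹ := by group
        _ = w⁻¹ := by rw [hy]
    calc s * y * s⁻¹ * w * (s * y * s⁻¹)⁻¹ = s * (y * (s⁻¹ * w * s) * y⁻¹) * s⁻¹ := by group
      _ = s * w⁻¹ * s⁻¹ := by rw [h1, h2]
      _ = (s * w * s⁻¹)⁻¹ := by group
      _ = w := by rw [hsw, inv_inv]
  -- `n = c * s` with `c ∈ C`
  set c : G := n * s⁻¹ with hc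
  have hcC : c ∈ C := by
    rw [hmemC, hc]
    have h1 : n * w⁻¹ * n⁻¹ = w := by
      calc n * w⁻¹ * n⁻¹ = n * (n⁻¹ * w * n) * n⁻¹ := by rw [hnw]
        _ = w := by group
    calc n * s⁻¹ * w * (n * s⁻¹)⁻¹ = n * (s⁻¹ * w * s) * n⁻¹ := by group
      _ = w := by rw [hsw', h1]
  have hncs : n = c * s := by rw [hc]; group
  -- every odd power of `n` lies in `C * s`
  have hnn : n * n ∈ C := by
    have : n * n = c * (s * c * s⁻¹) := by
      rw [hncs]
      calc c * s * (c * s) = c * (s * c * s) := by group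
        _ = c * (s * c * s⁻¹) := by rw [hsinv]
    rw [this]
    exact C.mul_mem hcC (hsC c hcC)
  have hoddpow : ∀ j : ℕ, ∃ c₁ ∈ C, n ^ (2 * j + 1) = c₁ * s := by
    intro j
    refine ⟨c * (s * (n * n) ^ j * s⁻¹), C.mul_mem hcC (hsC _ (C.pow_mem hnn j)), ?_⟩
    calc n ^ (2 * j + 1) = n * (n * n) ^ j := by
          rw [pow_succ', pow_mul, sq]
      _ = c * s * (n * n) ^ j := by rw [← hncs]
      _ = c * (s * (n * n) ^ j * s⁻¹) * s := by group
  obtain ⟨j, hj⟩ := hoddOf (n * n) hnn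
  obtain ⟨c₁, hc₁C, hc₁⟩ := hoddpow j
  set s' : G := n ^ (2 * j + 1) with hs'
  have hs'2 : s' * s' = 1 := by
    rw [hs', ← pow_add]
    have : 2 * j + 1 + (2 * j + 1) = 2 * (2 * j + 1) := by ring
    rw [this, pow_mul, sq, ← hj, pow_orderOf_eq_one]
  have hinv : s * c₁ * s⁻¹ = c₁⁻¹ := by
    rw [hc₁] at hs'2
    have h1 : c₁ * (s * c₁ * s) = 1 := by
      calc c₁ * (s * c₁ * s) = c₁ * s * (c₁ * s) := by group
        _ = 1 := hs'2
    rw [hsinv]
    exact (inv_eq_of_mul_eq_one_right h1).symm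
  have hconj : IsConj s s' := by
    rw [hc₁]
    exact isConj_mul_of_inverts s c₁ hinv (hoddOf c₁ hc₁C)
  refine ⟨s', ?_, Subgroup.pow_mem _ hnN _, hconj⟩
  obtain ⟨a, ha⟩ := isConj_iff.mp hconj
  rw [← ha, orderOf_conj_eq, hs]

end main

end Cfsg.Agent.Lib.Lead.InvolFusion
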