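import Mathlib

/-!
lead: a sign-counting lemma for real weights satisfying three quadratic relations.
-/

set_option autoImplicit false

namespace Cfsg.Agent.CharLib

section signs

variable {α : Type*} [DecidableEq α]

theorem quad_relation (S : Finset α) (x τ w : α → ℝ) (hx : ∀ s ∈ S, 0 < x s)
    (h1 : ∑ s ∈ S, w s * x s = 0) (h2 : ∑ s ∈ S, w s * τ s = 0)
    (h3 : ∑ s ∈ S, w s * τ s ^ 2 / x s = 0) (l : ℝ) :
    ∑ s ∈ S, w s * ((τ s - l * x s) ^ 2 / x s) = 0 := by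
  have h : ∑ s ∈ S, w s * ((τ s - l * x s) ^ 2 / x s) =
      ∑ s ∈ S, w s * τ s ^ 2 / x s - 2 * l * ∑ s ∈ S, w s * τ s + l ^ 2 * ∑ s ∈ S, w s * x s := by
    rw [Finset.mul_sum, Finset.mul_sum, ← Finset.sum_sub_distrib, ← Finset.sum_add_distrib]
    apply Finset.sum_congr rfl
    intro s hs
    have := (hx s hs).ne'
    field_simp
    ring
  rw [h, h1, h2, h3]
  ring

/-- Sign counting. -/
theorem sign_count_aux (S : Finset α) (o : α) (ho : o ∈ S) (x τ w : α → ℝ)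
    (hx : ∀ s ∈ S, 0 < x s) (hτo : τ o = x o) (hτ : ∀ s ∈ S, s ≠ o → τ s ≠ x s)
    (h1 : ∑ s ∈ S, w s * x s = 0) (h2 : ∑ s ∈ S, w s * τ s = 0)
    (h3 : ∑ s ∈ S, w s * τ s ^ 2 / x s = 0) (hwo : 0 < w o) :
    (∃ s₂ ∈ S, s₂ ≠ o ∧ 0 < w s₂) ∧
      (∃ s₁ ∈ S, ∃ s₃ ∈ S, s₁ ≠ s₃ ∧ w s₁ < 0 ∧ w s₃ < 0) := by
  have hQ := quad_relation S x τ w hx h1 h2 h3
  have hsq : ∀ s ∈ S, ∀ l : ℝ, 0 ≤ (τ s - l * x s) ^ 2 / x s := fun s hs l =>
    div_nonneg (sq_nonneg _) (hx s hs).le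
  -- (a) a negative weight
  have ha : ∃ s₁ ∈ S, w s₁ < 0 := by
    by_contra hcon
    push Not at hcon
    have h0 := hQ (-1)
    have hnn : ∀ s ∈ S, 0 ≤ w s * ((τ s - -1 * x s) ^ 2 / x s) := fun s hs =>
      mul_nonneg (hcon s hs) (hsq s hs _)
    have h4 := (Finset.sum_eq_zero_iff_of_nonneg hnn).mp h0 o ho
    rw [hτo] at h4
    have hxo := hx o ho
    have : (x o - -1 * x o) ^ 2 / x o = 4 * x o := by
      field_simp
      ring
    rw [this] at h4
    have : 0 < w o * (4 * x o) := by positivity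
    linarith
  obtain ⟨s₁, hs₁, hw₁⟩ := ha
  have hs₁o : s₁ ≠ o := by
    intro h
    rw [h] at hw₁
    linarith
  -- (b) a second positive weight
  have hb : ∃ s₂ ∈ S, s₂ ≠ o ∧ 0 < w s₂ := by
    by_contra hcon
    push Not at hcon
    have h0 := hQ 1
    have hnp : ∀ s ∈ S, w s * ((τ s - 1 * x s) ^ 2 / x s) ≤ 0 := by
      intro s hs
      by_cases hso : s = o
      · rw [hso, hτo]
        simp
      · exact mul_nonpos_of_nonpos_of_nonneg (hcon s hs hso) (hsq s hs _)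
    have h4 := (Finset.sum_eq_zero_iff_of_nonpos hnp).mp h0 s₁ hs₁
    have h5 : (τ s₁ - 1 * x s₁) ^ 2 / x s₁ = 0 := by
      rcases mul_eq_zero.mp h4 with h | h
      · linarith
      · exact h
    have hx₁ := hx s₁ hs₁
    have h6 : (τ s₁ - 1 * x s₁) ^ 2 = 0 := by
      rcases div_eq_zero_iff.mp h5 with h | h
      · exact h
      · linarith
    have h7 : τ s₁ - 1 * x s₁ = 0 := by
      exact pow_eq_zero_iff (two_ne_zero) |>.mp h6
    apply hτ s₁ hs₁ hs₁o
    linarith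
  obtain ⟨s₂, hs₂, hs₂o, hw₂⟩ := hb
  refine ⟨⟨s₂, hs₂, hs₂o, hw₂⟩, ?_⟩
  -- (c) a second negative weight
  by_contra hcon
  have honly : ∀ s ∈ S, s ≠ s₁ → 0 ≤ w s := by
    intro s hs hne
    by_contra hneg
    push Not at hneg
    exact hcon ⟨s₁, hs₁, s, hs, Ne.symm hne, hw₁, hneg⟩
  have hx₁ := hx s₁ hs₁
  set l := τ s₁ / x s₁ with hl
  have h0 := hQ l
  have hnn : ∀ s ∈ S, 0 ≤ w s * ((τ s - l * x s) ^ 2 / x s) := by
    intro s hs
    by_cases hss : s = s₁
    · rw [hss]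
      have : τ s₁ - l * x s₁ = 0 := by
        rw [hl]
        field_simp
        ring
      rw [this]
      simp
    · exact mul_nonneg (honly s hs hss) (hsq s hs _)
  have hzero := (Finset.sum_eq_zero_iff_of_nonneg hnn).mp h0
  have hterm : ∀ s ∈ S, 0 < w s → τ s = l * x s := by
    intro s hs hw
    have h4 := hzero s hs
    have hxs := hx s hs
    have h5 : (τ s - l * x s) ^ 2 / x s = 0 := by
      rcases mul_eq_zero.mp h4 with h | h
      · linarith
      · exact h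
    have h6 : (τ s - l * x s) ^ 2 = 0 := by
      rcases div_eq_zero_iff.mp h5 with h | h
      · exact h
      · linarith
    have h7 : τ s - l * x s = 0 := pow_eq_zero_iff (two_ne_zero) |>.mp h6
    linarith
  have hl1 : l = 1 := by
    have h4 := hterm o ho hwo
    rw [hτo] at h4
    have hxo := hx o ho
    have : x o * (1 - l) = 0 := by linarith
    rcases mul_eq_zero.mp this with h | h
    · linarith
    · linarith
  have h8 := hterm s₂ hs₂ hw₂
  rw [hl1, one_mul] at h8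
  exact hτ s₂ hs₂ hs₂o h8

end signs

end Cfsg.Agent.CharLib
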