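import Mathlib
import Cfsg.Agent.Lib.Lead.InvolSums1
import Cfsg.Agent.Lib.Lead.InvolSums2
import Cfsg.Agent.Lib.Lead.BlockBasic
import Cfsg.Agent.Lib.Lead.CharEquiv
import Cfsg.Agent.Lib.Helper24.Deflation
import Cfsg.Agent.Lib.Helper6.QuotBlock
import Cfsg.Agent.Lib.Helper1.Fitting
import Cfsg.Agent.Lib.Helper12.Cores

/-!
lead: Brauer's vanishing sums for a generalized character of a 2-subgroup supported on elements
inverted by no conjugate of an involution `t`, and the resulting sign count (S4722).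
-/

set_option autoImplicit false

namespace Cfsg.Agent.CharLib

open Cfsg Cfsg.Agent.Lib.Helper24 Cfsg.Agent.Lib.Helper6
open scoped ComplexConjugate

universe u

section main

variable {G : Type u} [Group G] [Finite G] {M : Ideal AlgInt}

/-- The general vanishing principle. -/
theorem sum_coeff_mul_eq_zero (P : Subgroup G) (hP : IsPGroup 2 P) (U : Set G)
    (hUP : U ⊆ (P : Set G)) (t : G)
    (hinv : ∀ u ∈ U, ∀ g : G, (g * t * g⁻¹) * u * (g * t * g⁻¹)⁻¹ ≠ u⁻¹)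
    (θ : ↥P → ℂ) (hθU : ∀ y : ↥P, (y : G) ∉ U → θ y = 0) (B : Set (IrrCharacter G))
    (c : IrrCharacter G → ℂ)
    (hc : ∀ v : G, NotInverted t v → ∑ᶠ χ ∈ B, c χ * (χ : G → ℂ) v = 0) :
    ∑ᶠ χ ∈ B, ((Nat.card ↥P : ℂ)⁻¹ * ∑ᶠ y : ↥P, (χ : G → ℂ) (y : G) * θ y⁻¹) * c χ = 0 := by
  classical
  let _ : Fintype G := Fintype.ofFinite G
  let _ : Fintype P := Fintype.ofFinite P
  let _ : Fintype (IrrCharacter G) := Fintype.ofFinite _
  have hNI : ∀ y : P, θ y⁻¹ ≠ 0 → NotInverted t (y : G) := by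
    intro y hy
    have hU : ((y⁻¹ : P) : G) ∈ U := by
      by_contra h
      exact hy (hθU _ h)
    have h1 : NotInverted t ((y⁻¹ : P) : G) := by
      refine ⟨?_, hinv _ hU⟩
      obtain ⟨k, hk⟩ := hP (y⁻¹)
      have h2 : ((y⁻¹ : P) : G) ^ 2 ^ k = 1 := by
        have := congrArg Subtype.val hk
        simpa using this
      obtain ⟨j, -, hj⟩ := (Nat.dvd_prime_pow Nat.prime_two).mp (orderOf_dvd_of_pow_eq_one h2)
      exact ⟨j, hj⟩
    have h3 := h1.inv
    rw [Subgroup.coe_inv, inv_inv] at h3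
    exact h3
  rw [finsum_mem_eq_sum_ite, ← Finset.sum_filter]
  simp_rw [finsum_eq_sum_of_fintype]
  have h4 : ∑ χ ∈ Finset.univ.filter (fun χ : IrrCharacter G => χ ∈ B),
      ((Nat.card ↥P : ℂ)⁻¹ * ∑ y : ↥P, (χ : G → ℂ) (y : G) * θ y⁻¹) * c χ =
      (Nat.card ↥P : ℂ)⁻¹ * ∑ y : ↥P, θ y⁻¹ *
        ∑ χ ∈ Finset.univ.filter (fun χ : IrrCharacter G => χ ∈ B), c χ * (χ : G → ℂ) (y : G) := by
    simp_rw [mul_assoc, Finset.sum_mul, Finset.mul_sum]
    rw [Finset.sum_comm]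
    apply Finset.sum_congr rfl
    intro y _
    apply Finset.sum_congr rfl
    intro χ _
    ring
  rw [h4]
  have h5 : ∀ y : ↥P, θ y⁻¹ *
      ∑ χ ∈ Finset.univ.filter (fun χ : IrrCharacter G => χ ∈ B), c χ * (χ : G → ℂ) (y : G) = 0 := by
    intro y
    by_cases hy : θ y⁻¹ = 0
    · rw [hy, zero_mul]
    · have := hc (y : G) (hNI y hy)
      rw [finsum_mem_eq_sum_ite, ← Finset.sum_filter] at this
      rw [this, mul_zero]
  simp only [h5, Finset.sum_const_zero, mul_zero]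

/-- **Brauer**: S4722. -/
theorem brauer_involution_sums (hM : IsPModular 2 M) (P : Subgroup G) (hP : IsPGroup 2 P)
    (U : Set G) (hUP : U ⊆ (P : Set G)) (t : G) (ht : orderOf t = 2)
    (hinv : ∀ u ∈ U, ∀ g : G, (g * t * g⁻¹) * u * (g * t * g⁻¹)⁻¹ ≠ u⁻¹)
    (θ : ↥P → ℂ) (hθ : IsGeneralizedCharacter ↥P θ) (hθU : ∀ y : ↥P, (y : G) ∉ U → θ y = 0) :
    (∑ᶠ χ ∈ principalBlock M G, ((Nat.card ↥P : ℂ)⁻¹ * ∑ᶠ y : ↥P, (χ : G → ℂ) (y : G) * θ y⁻¹) *
        (χ : G → ℂ) t ^ 2 / (χ : G → ℂ) 1 = 0) ∧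
    (∑ᶠ χ ∈ principalBlock M G, ((Nat.card ↥P : ℂ)⁻¹ * ∑ᶠ y : ↥P, (χ : G → ℂ) (y : G) * θ y⁻¹) *
        (χ : G → ℂ) 1 = 0) ∧
    (∑ᶠ χ ∈ principalBlock M G, ((Nat.card ↥P : ℂ)⁻¹ * ∑ᶠ y : ↥P, (χ : G → ℂ) (y : G) * θ y⁻¹) *
        (χ : G → ℂ) t = 0) ∧
    ((Nat.card ↥P : ℂ)⁻¹ * ∑ᶠ y : ↥P, θ y ≠ 0 →
      (2 ≤ Nat.card {χ : IrrCharacter G // χ ∈ principalBlock M G ∧
          0 < (((Nat.card ↥P : ℂ)⁻¹ * ∑ᶠ y : ↥P, (χ : G → ℂ) (y : G) * θ y⁻¹)).re} ∧
        2 ≤ Nat.card {χ : IrrCharacter G // χ ∈ principalBlock M G ∧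
          (((Nat.card ↥P : ℂ)⁻¹ * ∑ᶠ y : ↥P, (χ : G → ℂ) (y : G) * θ y⁻¹)).re < 0}) ∨
      ∃ K : Subgroup G, K.Normal ∧ K ≠ ⊤ ∧ pPrimeCore 2 G ≤ K ∧ t ∈ K) := by
  classical
  haveI : Fact (Nat.Prime 2) := ⟨Nat.prime_two⟩
  have hprime : M.IsPrime := isPrime_of_isPModular hM
  let _ : Fintype G := Fintype.ofFinite G
  let _ : Fintype P := Fintype.ofFinite P
  let _ : Fintype (IrrCharacter G) := Fintype.ofFinite _
  set B0 := principalBlock M G with hB0
  set A : IrrCharacter G → ℂ := fun χ =>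
    (Nat.card ↥P : ℂ)⁻¹ * ∑ᶠ y : ↥P, (χ : G → ℂ) (y : G) * θ y⁻¹ with hA
  have hgen := sum_coeff_mul_eq_zero P hP U hUP t hinv θ hθU B0
  have id1 : ∑ᶠ χ ∈ B0, A χ * (χ : G → ℂ) t ^ 2 / (χ : G → ℂ) 1 = 0 := by
    have := hgen (fun χ => (χ : G → ℂ) t * (χ : G → ℂ) t / (χ : G → ℂ) 1)
      (fun v hv => sum_principal_sq_div_eq_zero hM t ht v hv)
    rw [← this]
    apply finsum_mem_congr rfl
    intro χ _
    simp only [hA]
    ring
  have id2 : ∑ᶠ χ ∈ B0, A χ * (χ : G → ℂ) 1 = 0 :=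
    hgen (fun χ => (χ : G → ℂ) 1) (fun v hv => sum_principal_deg_eq_zero hM t v hv)
  have id3 : ∑ᶠ χ ∈ B0, A χ * (χ : G → ℂ) t = 0 :=
    hgen (fun χ => (χ : G → ℂ) t) (fun v hv => sum_principal_invol_eq_zero hM t ht v hv)
  refine ⟨id1, id2, id3, ?_⟩
  intro hne
  -- the alternative with a kernel
  by_cases hker : ∃ χ ∈ B0, χ ≠ trivIrr G ∧ (χ : G → ℂ) t = (χ : G → ℂ) 1
  · right
    obtain ⟨χ, hχB, hχne, hχt⟩ := hker
    obtain ⟨n, ρ, hρ, hχρ⟩ := χ.2
    have hdeg : (χ : G → ℂ) 1 = (Module.finrank ℂ (Fin n → ℂ) : ℂ) := by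
      rw [← hχρ, Representation.char_one]
    have hone : ∀ g : G, (χ : G → ℂ) g = (χ : G → ℂ) 1 → ρ g = 1 := by
      intro g hg
      apply rep_eq_one_of_char_eq_finrank ρ g
      rw [hχρ, hg, hdeg]
    refine ⟨(ρ : G →* ((Fin n → ℂ) →ₗ[ℂ] (Fin n → ℂ))).ker, MonoidHom.normal_ker _, ?_, ?_, ?_⟩
    · intro htop
      have hall : ∀ g : G, (χ : G → ℂ) g = (χ : G → ℂ) 1 := by
        intro g
        have hg : g ∈ (ρ : G →* ((Fin n → ℂ) →ₗ[ℂ] (Fin n → ℂ))).ker := by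
          rw [htop]; exact Subgroup.mem_top g
        rw [MonoidHom.mem_ker] at hg
        have h1 : ρ g = ρ 1 := by rw [map_one]; exact hg
        rw [← hχρ]
        unfold Representation.character
        rw [h1]
      have h2 := classInner_irr' χ (trivIrr G)
      rw [if_neg hχne] at h2
      unfold classInner at h2
      have h3 : ∑ g : G, (χ : G → ℂ) g * conj (((trivIrr G : IrrCharacter G) : G → ℂ) g) =
          (Nat.card G : ℂ) * (χ : G → ℂ) 1 := by
        have : ∀ g : G, (χ : G → ℂ) g * conj (((trivIrr G : IrrCharacter G) : G → ℂ) g) =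
            (χ : G → ℂ) 1 := by
          intro g
          have h11 : ((trivIrr G : IrrCharacter G) : G → ℂ) g = 1 := rfl
          rw [h11, map_one, mul_one, hall g]
        simp only [this, Finset.sum_const, Finset.card_univ, nsmul_eq_mul,
          Nat.card_eq_fintype_card]
      rw [h3] at h2
      obtain ⟨d, hdpos, hd⟩ := IsIrrCharacter.apply_one_pos χ.2
      rw [hd] at h2
      have hG0 : (Nat.card G : ℂ) ≠ 0 := Nat.cast_ne_zero.mpr Nat.card_pos.ne'
      have hd0 : (d : ℂ) ≠ 0 := Nat.cast_ne_zero.mpr hdpos.ne'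
      rcases mul_eq_zero.mp h2 with h | h
      · exact inv_ne_zero hG0 h
      · rcases mul_eq_zero.mp h with h' | h'
        · exact hG0 h'
        · exact hd0 h'
    · intro g hg
      rw [MonoidHom.mem_ker]
      apply hone
      haveI : (pPrimeCore 2 G).Normal := Cfsg.Agent.Lib.Helper1.pPrimeCore_normal 2 G
      have hcop : (Nat.card (pPrimeCore 2 G)).Coprime 2 :=
        Cfsg.Agent.Lib.Helper12.pPrimeCore_coprime 2
      have hpK : ¬ 2 ∣ Nat.card (pPrimeCore 2 G) := by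
        intro h
        have := Nat.Coprime.eq_one_of_dvd hcop.symm h
        omega
      exact le_ker_of_sameBlock_one hM (pPrimeCore 2 G) hpK χ hχB g hg
    · rw [MonoidHom.mem_ker]
      exact hone t hχt
  · left
    push Not at hker
    set S : Finset (IrrCharacter G) := Finset.univ.filter (fun χ => χ ∈ B0) with hS
    have hmemS : ∀ χ, χ ∈ S ↔ χ ∈ B0 := by
      intro χ
      rw [hS, Finset.mem_filter]
      simp
    have ht2 : t * t = 1 := by
      have := pow_orderOf_eq_one t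
      rw [ht, pow_two] at this
      exact this
    have htinv : t⁻¹ = t := inv_eq_of_mul_eq_one_right ht2
    -- real data
    have hx1 : ∀ χ : IrrCharacter G, (χ : G → ℂ) 1 = ((((χ : G → ℂ) 1).re : ℝ) : ℂ) ∧
        0 < ((χ : G → ℂ) 1).re := by
      intro χ
      obtain ⟨d, hdpos, hd⟩ := IsIrrCharacter.apply_one_pos χ.2
      rw [hd]
      refine ⟨by simp, ?_⟩
      simp only [Complex.natCast_re]
      exact_mod_cast hdpos
    have hτ1 : ∀ χ : IrrCharacter G, (χ : G → ℂ) t = ((((χ : G → ℂ) t).re : ℝ) : ℂ) := by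
      intro χ
      have h1 := IsCharacter.apply_inv (IsIrrCharacter.isCharacter χ.2) t
      rw [htinv] at h1
      exact (Complex.conj_eq_iff_re.mp h1.symm).symm
    have hre : ∀ (z : ℂ) (r : ℝ), (z * (r : ℂ)).re = z.re * r := by
      intro z r
      simp [Complex.mul_re]
    have h1 : ∑ χ ∈ S, (A χ).re * ((χ : G → ℂ) 1).re = 0 := by
      have := id2
      rw [finsum_mem_eq_sum_ite, ← Finset.sum_filter] at this
      have h2 := congrArg Complex.re this
      rw [Complex.re_sum, Complex.zero_re] at h2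
      rw [← h2]
      apply Finset.sum_congr rfl
      intro χ _
      rw [(hx1 χ).1, hre]
      simp
    have h2 : ∑ χ ∈ S, (A χ).re * ((χ : G → ℂ) t).re = 0 := by
      have := id3
      rw [finsum_mem_eq_sum_ite, ← Finset.sum_filter] at this
      have h2 := congrArg Complex.re this
      rw [Complex.re_sum, Complex.zero_re] at h2
      rw [← h2]
      apply Finset.sum_congr rfl
      intro χ _
      rw [hτ1 χ, hre]
      simp
    have h3 : ∑ χ ∈ S, (A χ).re * ((χ : G → ℂ) t).re ^ 2 / ((χ : G → ℂ) 1).re = 0 := by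
      have := id1
      rw [finsum_mem_eq_sum_ite, ← Finset.sum_filter] at this
      have h2 := congrArg Complex.re this
      rw [Complex.re_sum, Complex.zero_re] at h2
      rw [← h2]
      apply Finset.sum_congr rfl
      intro χ _
      have e : A χ * (χ : G → ℂ) t ^ 2 / (χ : G → ℂ) 1 =
          A χ * (((((χ : G → ℂ) t).re ^ 2 / ((χ : G → ℂ) 1).re : ℝ)) : ℂ) := by
        rw [(hx1 χ).1, hτ1 χ]
        push_cast
        simp only [Complex.ofReal_re]
        ring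
      rw [e, hre]
      ring
    have hoS : trivIrr G ∈ S := by
      rw [hmemS]
      exact mem_blockOf_self (trivIrr G)
    have htriv1 : ∀ g : G, ((trivIrr G : IrrCharacter G) : G → ℂ) g = 1 := fun g => rfl
    have hτo : (((trivIrr G : IrrCharacter G) : G → ℂ) t).re =
        (((trivIrr G : IrrCharacter G) : G → ℂ) 1).re := by
      rw [htriv1, htriv1]
    have hτne : ∀ χ ∈ S, χ ≠ trivIrr G → ((χ : G → ℂ) t).re ≠ ((χ : G → ℂ) 1).re := by
      intro χ hχ hne heq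
      apply hker χ ((hmemS χ).mp hχ) hne
      rw [hτ1 χ, (hx1 χ).1, heq]
    -- the weight of the trivial character
    have hwo : (A (trivIrr G)).re ≠ 0 := by
      have hAo : A (trivIrr G) = (Nat.card ↥P : ℂ)⁻¹ * ∑ᶠ y : ↥P, θ y := by
        simp only [hA]
        congr 1
        rw [finsum_eq_sum_of_fintype, finsum_eq_sum_of_fintype,
          ← Equiv.sum_comp (Equiv.inv ↥P) (fun y => θ y)]
        apply Finset.sum_congr rfl
        intro y _
        rw [htriv1, one_mul]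
        rfl
      obtain ⟨χ₁, χ₂, hχ₁, hχ₂, hθeq⟩ := hθ
      obtain ⟨m₁, hm₁⟩ := IsCharacter.classInner_nat hχ₁ (isCharacter_one (G := ↥P))
      obtain ⟨m₂, hm₂⟩ := IsCharacter.classInner_nat hχ₂ (isCharacter_one (G := ↥P))
      have h4 : A (trivIrr G) = ((m₁ : ℂ) - (m₂ : ℂ)) := by
        rw [hAo, ← hm₁, ← hm₂, finsum_eq_sum_of_fintype]
        unfold classInner
        simp only [Pi.one_apply, map_one, mul_one]
        rw [← mul_sub, ← Finset.sum_sub_distrib]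
        congr 1
        apply Finset.sum_congr rfl
        intro y _
        rw [hθeq]
        rfl
      have h5 : A (trivIrr G) ≠ 0 := by
        rw [hAo]
        exact hne
      intro h6
      apply h5
      rw [h4] at h6 ⊢
      have h7 : ((m₁ : ℂ) - (m₂ : ℂ)).re = (m₁ : ℝ) - (m₂ : ℝ) := by simp
      rw [h7] at h6
      have h8 : (m₁ : ℝ) = (m₂ : ℝ) := by linarith
      have h9 : m₁ = m₂ := by exact_mod_cast h8
      rw [h9, sub_self]
    have hxpos : ∀ χ ∈ S, 0 < ((χ : G → ℂ) 1).re := fun χ _ => (hx1 χ).2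
    rcases lt_or_gt_of_ne hwo with hneg | hpos
    · -- negative weight at the trivial character: apply the lemma to `-w`
      have := sign_count_aux S (trivIrr G) hoS (fun χ => ((χ : G → ℂ) 1).re)
        (fun χ => ((χ : G → ℂ) t).re) (fun χ => -(A χ).re) hxpos hτo hτne
        (by simp only [neg_mul, Finset.sum_neg_distrib, h1, neg_zero])
        (by simp only [neg_mul, Finset.sum_neg_distrib, h2, neg_zero])
        (by simp only [neg_mul, neg_div, Finset.sum_neg_distrib, h3, neg_zero])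
        (by simpa using hneg)
      obtain ⟨⟨s₂, hs₂, hs₂o, hw₂⟩, s₁, hs₁, s₃, hs₃, hne13, hw₁, hw₃⟩ := this
      simp only [Left.neg_pos_iff, Left.neg_neg_iff] at hw₂ hw₁ hw₃
      constructor
      · have : Nontrivial {χ : IrrCharacter G // χ ∈ B0 ∧ 0 < (A χ).re} :=
          ⟨⟨⟨s₁, (hmemS s₁).mp hs₁, hw₁⟩, ⟨s₃, (hmemS s₃).mp hs₃, hw₃⟩,
            fun h => hne13 (congrArg Subtype.val h)⟩⟩
        exact Finite.one_lt_card_iff_nontrivial.mpr this
      · have : Nontrivial {χ : IrrCharacter G // χ ∈ B0 ∧ (A χ).re < 0} :=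
          ⟨⟨⟨trivIrr G, (hmemS _).mp hoS, hneg⟩, ⟨s₂, (hmemS s₂).mp hs₂, hw₂⟩,
            fun h => hs₂o (congrArg Subtype.val h).symm⟩⟩
        exact Finite.one_lt_card_iff_nontrivial.mpr this
    · have := sign_count_aux S (trivIrr G) hoS (fun χ => ((χ : G → ℂ) 1).re)
        (fun χ => ((χ : G → ℂ) t).re) (fun χ => (A χ).re) hxpos hτo hτne h1 h2 h3 hpos
      obtain ⟨⟨s₂, hs₂, hs₂o, hw₂⟩, s₁, hs₁, s₃, hs₃, hne13, hw₁, hw₃⟩ := this
      constructor
      · have : Nontrivial {χ : IrrCharacter G // χ ∈ B0 ∧ 0 < (A χ).re} :=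
          ⟨⟨⟨trivIrr G, (hmemS _).mp hoS, hpos⟩, ⟨s₂, (hmemS s₂).mp hs₂, hw₂⟩,
            fun h => hs₂o (congrArg Subtype.val h).symm⟩⟩
        exact Finite.one_lt_card_iff_nontrivial.mpr this
      · have : Nontrivial {χ : IrrCharacter G // χ ∈ B0 ∧ (A χ).re < 0} :=
          ⟨⟨⟨s₁, (hmemS s₁).mp hs₁, hw₁⟩, ⟨s₃, (hmemS s₃).mp hs₃, hw₃⟩,
            fun h => hne13 (congrArg Subtype.val h)⟩⟩
        exact Finite.one_lt_card_iff_nontrivial.mpr this

end main

end Cfsg.Agent.CharLib
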