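import Mathlib

/-!
lead: matrix lemmas for the Frobenius–Jordan argument (finite linear groups): the squared Frobenius
norm `fn`, "small" unitary matrices and the contraction inequality for commutators.
-/

set_option autoImplicit false

namespace Cfsg.Agent.CharLib.Jordan

open Matrix
open scoped ComplexOrder MatrixOrder

variable {ι : Type*} [Fintype ι] [DecidableEq ι]

/-- The squared Frobenius norm `tr (Aᴴ A)` as a real number. -/
noncomputable def fn (A : Matrix ι ι ℂ) : ℝ := (Aᴴ * A).trace.re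

theorem trace_conjTranspose_mul_self_im (A : Matrix ι ι ℂ) : (Aᴴ * A).trace.im = 0 := by
  have h := (posSemidef_conjTranspose_mul_self A).trace_nonneg
  exact (Complex.nonneg_iff.mp h).2.symm

theorem fn_nonneg (A : Matrix ι ι ℂ) : 0 ≤ fn A := by
  have h := (posSemidef_conjTranspose_mul_self A).trace_nonneg
  exact (Complex.nonneg_iff.mp h).1

theorem fn_eq_zero_iff (A : Matrix ι ι ℂ) : fn A = 0 ↔ A = 0 := by
  constructor
  · intro h
    apply trace_conjTranspose_mul_self_eq_zero_iff.mp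
    apply Complex.ext
    · simpa [fn] using h
    · simpa using trace_conjTranspose_mul_self_im A
  · rintro rfl
    simp [fn]

theorem fn_pos {A : Matrix ι ι ℂ} (hA : A ≠ 0) : 0 < fn A :=
  lt_of_le_of_ne (fn_nonneg A) (fun h => hA ((fn_eq_zero_iff A).mp h.symm))

theorem fn_mul_unitary_right (A W : Matrix ι ι ℂ) (hW : W * Wᴴ = 1) : fn (A * W) = fn A := by
  unfold fn
  rw [conjTranspose_mul, Matrix.mul_assoc, Matrix.trace_mul_comm, Matrix.mul_assoc, Matrix.mul_assoc, hW,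
    Matrix.mul_one, Matrix.trace_mul_comm]

theorem fn_sub_add (P Q : Matrix ι ι ℂ) : fn (P - Q) + fn (P + Q) = 2 * fn P + 2 * fn Q := by
  unfold fn
  simp only [conjTranspose_sub, conjTranspose_add, sub_mul, mul_sub, add_mul, mul_add, trace_add,
    trace_sub, Complex.add_re, Complex.sub_re]
  ring

theorem fn_sub_le (P Q : Matrix ι ι ℂ) : fn (P - Q) ≤ 2 * fn P + 2 * fn Q := by
  have h := fn_sub_add P Q
  have h2 := fn_nonneg (P + Q)
  linarith

/-- Strict positivity of `tr (Bᴴ D B)` for positive definite `D` and `B ≠ 0`. -/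
theorem trace_pos_of_posDef {D B : Matrix ι ι ℂ} (hD : D.PosDef) (hB : B ≠ 0) :
    0 < (Bᴴ * D * B).trace.re := by
  obtain ⟨E, hE⟩ := CStarAlgebra.nonneg_iff_eq_star_mul_self.mp hD.posSemidef.nonneg
  have hunit : IsUnit E := by
    have h1 : IsUnit D := hD.isUnit
    rw [hE] at h1
    exact isUnit_of_mul_isUnit_right h1
  have hEB : E * B ≠ 0 := by
    intro h
    apply hB
    have := hunit.mul_right_injective (a₁ := B) (a₂ := 0)
    apply this
    simpa using h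
  have h2 := fn_pos hEB
  have h3 : Bᴴ * D * B = (E * B)ᴴ * (E * B) := by
    rw [hE, conjTranspose_mul, star_eq_conjTranspose]
    simp only [Matrix.mul_assoc]
  rw [h3]
  exact h2

/-- `√3`. -/
noncomputable def s3 : ℝ := Real.sqrt 3

theorem s3_sq : s3 * s3 = 3 := Real.mul_self_sqrt (by norm_num)

theorem s3_pos : 0 < s3 := Real.sqrt_pos.mpr (by norm_num)

theorem s3_gt : (3 : ℝ) / 2 < s3 := by
  unfold s3
  rw [Real.lt_sqrt (by norm_num)]
  norm_num

/-- A matrix is small if `X + Xᴴ - √3` is positive definite (for a unitary matrix: all eigenvalues have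
argument of absolute value less than `π / 6`). -/
def Small (X : Matrix ι ι ℂ) : Prop := (X + Xᴴ - (s3 : ℂ) • (1 : Matrix ι ι ℂ)).PosDef

theorem Small.conjTranspose {X : Matrix ι ι ℂ} (h : Small X) : Small Xᴴ := by
  unfold Small at h ⊢
  rw [conjTranspose_conjTranspose, add_comm Xᴴ X]
  exact h

theorem Small.conj {X V : Matrix ι ι ℂ} (h : Small X) (hV : V * Vᴴ = 1) : Small (V * X * Vᴴ) := by
  unfold Small at h ⊢
  have hunit : IsUnit V := (Matrix.isUnit_iff_isUnit_det V).mpr (Matrix.isUnit_det_of_right_inverse hV)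
  have h1 := h.mul_mul_conjTranspose_same (B := V) (Matrix.vecMul_injective_iff_isUnit.mpr hunit)
  have h2 : V * (X + Xᴴ - (s3 : ℂ) • (1 : Matrix ι ι ℂ)) * Vᴴ
      = V * X * Vᴴ + (V * X * Vᴴ)ᴴ - (s3 : ℂ) • (1 : Matrix ι ι ℂ) := by
    simp only [conjTranspose_mul, conjTranspose_conjTranspose, mul_sub, sub_mul, mul_add, add_mul,
      Matrix.mul_smul, Matrix.smul_mul, Matrix.mul_one, hV, Matrix.mul_assoc]
  rw [h2] at h1
  exact h1

theorem Small.posDef_add {X : Matrix ι ι ℂ} (h : Small X) : (X + Xᴴ).PosDef := by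
  unfold Small at h
  have h1 : ((s3 : ℂ) • (1 : Matrix ι ι ℂ)).PosDef :=
    PosDef.one.smul (by exact_mod_cast s3_pos)
  have h2 := h.add h1
  simpa using h2

theorem conjTranspose_sub_smul_mul_self {X : Matrix ι ι ℂ} (hX : Xᴴ * X = 1) (c : ℝ) :
    (X - (c : ℂ) • (1 : Matrix ι ι ℂ))ᴴ * (X - (c : ℂ) • (1 : Matrix ι ι ℂ))
      = ((1 + c ^ 2 : ℝ) : ℂ) • (1 : Matrix ι ι ℂ) - (c : ℂ) • (X + Xᴴ) := by
  simp only [conjTranspose_sub, conjTranspose_smul, conjTranspose_one, sub_mul, mul_sub,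
    Matrix.smul_mul, Matrix.mul_smul, Matrix.one_mul, Matrix.mul_one, hX, Complex.star_def,
    Complex.conj_ofReal]
  push_cast
  module

theorem fn_mul_left {X : Matrix ι ι ℂ} (hX : Xᴴ * X = 1) (c : ℝ) (B : Matrix ι ι ℂ) :
    fn ((X - (c : ℂ) • (1 : Matrix ι ι ℂ)) * B)
      = (1 + c ^ 2) * fn B - c * (Bᴴ * (X + Xᴴ) * B).trace.re := by
  unfold fn
  rw [conjTranspose_mul, Matrix.mul_assoc, ← Matrix.mul_assoc _ _ B,
    conjTranspose_sub_smul_mul_self hX c]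
  simp only [sub_mul, mul_sub, Matrix.smul_mul, Matrix.mul_smul, Matrix.one_mul, trace_sub,
    trace_smul, Complex.sub_re, smul_eq_mul, Complex.re_ofReal_mul, Matrix.mul_assoc]

theorem fn_mul_right {X : Matrix ι ι ℂ} (hX' : X * Xᴴ = 1) (c : ℝ) (B : Matrix ι ι ℂ) :
    fn (B * (X - (c : ℂ) • (1 : Matrix ι ι ℂ)))
      = (1 + c ^ 2) * fn B - c * (Bᴴ * B * (X + Xᴴ)).trace.re := by
  have h1 : (X - (c : ℂ) • (1 : Matrix ι ι ℂ)) * (X - (c : ℂ) • (1 : Matrix ι ι ℂ))ᴴ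
      = ((1 + c ^ 2 : ℝ) : ℂ) • (1 : Matrix ι ι ℂ) - (c : ℂ) • (X + Xᴴ) := by
    simp only [conjTranspose_sub, conjTranspose_smul, conjTranspose_one, sub_mul, mul_sub,
      Matrix.smul_mul, Matrix.mul_smul, Matrix.one_mul, Matrix.mul_one, hX', Complex.star_def,
      Complex.conj_ofReal]
    push_cast
    module
  have h2 : ((B * (X - (c : ℂ) • (1 : Matrix ι ι ℂ)))ᴴ * (B * (X - (c : ℂ) • (1 : Matrix ι ι ℂ)))).trace
      = (Bᴴ * B * ((X - (c : ℂ) • (1 : Matrix ι ι ℂ)) * (X - (c : ℂ) • (1 : Matrix ι ι ℂ))ᴴ)).trace := by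
    rw [conjTranspose_mul, Matrix.mul_assoc, Matrix.trace_mul_comm]
    simp only [Matrix.mul_assoc]
  unfold fn
  rw [h2, h1]
  simp only [mul_sub, Matrix.mul_smul, Matrix.mul_one, trace_sub,
    trace_smul, Complex.sub_re, smul_eq_mul, Complex.re_ofReal_mul, Matrix.mul_assoc]

theorem contraction {X Y : Matrix ι ι ℂ} (hX : Xᴴ * X = 1) (hX' : X * Xᴴ = 1) (hY : Yᴴ * Y = 1)
    (hY' : Y * Yᴴ = 1) (hS : Small X) (hne : Y ≠ 1) :
    fn (X * Y * Xᴴ * Yᴴ - 1) < fn (Y - 1) := by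
  set B : Matrix ι ι ℂ := Y - 1 with hB
  have hB0 : B ≠ 0 := sub_ne_zero.mpr hne
  set D : Matrix ι ι ℂ := X + Xᴴ - (s3 : ℂ) • (1 : Matrix ι ι ℂ) with hD
  have hXD : X + Xᴴ = D + (s3 : ℂ) • (1 : Matrix ι ι ℂ) := by rw [hD]; abel
  have hDpos : D.PosDef := hS
  obtain ⟨c, hc⟩ : ∃ c : ℝ, c = s3 / 2 := ⟨_, rfl⟩
  set Z : Matrix ι ι ℂ := X - (c : ℂ) • (1 : Matrix ι ι ℂ) with hZ
  have ha : X * Y * Xᴴ * Yᴴ - 1 = (X * Y - Y * X) * (Xᴴ * Yᴴ) := by
    rw [sub_mul]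
    have : Y * X * (Xᴴ * Yᴴ) = 1 := by
      rw [Matrix.mul_assoc, ← Matrix.mul_assoc X, hX', Matrix.one_mul, hY']
    rw [this]
    simp only [Matrix.mul_assoc]
  have hb : (Xᴴ * Yᴴ) * (Xᴴ * Yᴴ)ᴴ = 1 := by
    rw [conjTranspose_mul, conjTranspose_conjTranspose, conjTranspose_conjTranspose,
      Matrix.mul_assoc, ← Matrix.mul_assoc Yᴴ, hY, Matrix.one_mul, hX]
  have hcm : X * Y - Y * X = Z * B - B * Z := by
    rw [hZ, hB]
    simp only [sub_mul, mul_sub, Matrix.smul_mul, Matrix.mul_smul, Matrix.one_mul, Matrix.mul_one]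
    abel
  rw [ha, fn_mul_unitary_right _ _ hb, hcm]
  have h1 := fn_sub_le (Z * B) (B * Z)
  have h2 := fn_mul_left hX c B
  have h3 := fn_mul_right hX' c B
  have t1 : 0 < (Bᴴ * D * B).trace.re := trace_pos_of_posDef hDpos hB0
  have t2 : 0 < (Bᴴ * B * D).trace.re := by
    have hB0' : Bᴴ ≠ 0 := by
      intro h
      apply hB0
      have := congrArg conjTranspose h
      simpa using this
    have := trace_pos_of_posDef hDpos hB0'
    rw [conjTranspose_conjTranspose] at this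
    rw [Matrix.mul_assoc, Matrix.trace_mul_comm, Matrix.mul_assoc]
    rw [Matrix.mul_assoc] at this
    exact this
  have e1 : (Bᴴ * (X + Xᴴ) * B).trace.re = (Bᴴ * D * B).trace.re + s3 * fn B := by
    rw [hXD]
    unfold fn
    simp only [mul_add, add_mul, Matrix.smul_mul, Matrix.mul_smul, Matrix.mul_one, trace_add,
      trace_smul, Complex.add_re, smul_eq_mul, Complex.re_ofReal_mul]
  have e2 : (Bᴴ * B * (X + Xᴴ)).trace.re = (Bᴴ * B * D).trace.re + s3 * fn B := by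
    rw [hXD]
    unfold fn
    simp only [mul_add, add_mul, Matrix.smul_mul, Matrix.mul_smul, Matrix.mul_one, trace_add,
      trace_smul, Complex.add_re, smul_eq_mul, Complex.re_ofReal_mul]
  rw [← hZ] at h2 h3
  rw [e1] at h2
  rw [e2] at h3
  have hs := s3_sq
  have hp := s3_pos
  have hf := fn_pos hB0
  rw [h2, h3] at h1
  have key : 2 * ((1 + c ^ 2) * fn B - c * ((Bᴴ * D * B).trace.re + s3 * fn B)) +
      2 * ((1 + c ^ 2) * fn B - c * ((Bᴴ * B * D).trace.re + s3 * fn B))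
      = fn B - s3 * ((Bᴴ * D * B).trace.re + (Bᴴ * B * D).trace.re) := by
    rw [hc]
    linear_combination (- fn B) * hs
  rw [key] at h1
  have := mul_pos hp (add_pos t1 t2)
  linarith

theorem eq_of_commute_of_posDef {X X' Y : Matrix ι ι ℂ} (hX : Xᴴ * X = 1) (hX' : X * Xᴴ = 1)
    (hX1 : X'ᴴ * X' = 1) (hX1' : X' * X'ᴴ = 1)
    (hrel : Y * X' = X * Y) (hcomm : X * X' = X' * X) (hpos : (Y + Yᴴ).PosDef) : X' = X := by
  by_contra hne
  set W : Matrix ι ι ℂ := X - X' with hW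
  have hW0 : W ≠ 0 := sub_ne_zero.mpr (Ne.symm hne)
  have hpos' := trace_pos_of_posDef hpos hW0
  have hA : X * X'ᴴ = X'ᴴ * X := by
    calc X * X'ᴴ = (X'ᴴ * X') * X * X'ᴴ := by rw [hX1, Matrix.one_mul]
      _ = X'ᴴ * (X' * X) * X'ᴴ := by simp only [Matrix.mul_assoc]
      _ = X'ᴴ * (X * X') * X'ᴴ := by rw [hcomm]
      _ = X'ᴴ * X * (X' * X'ᴴ) := by simp only [Matrix.mul_assoc]
      _ = X'ᴴ * X := by rw [hX1', Matrix.mul_one]
  have hB : Y * X'ᴴ = Xᴴ * Y := by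
    calc Y * X'ᴴ = (Xᴴ * X) * Y * X'ᴴ := by rw [hX, Matrix.one_mul]
      _ = Xᴴ * (X * Y) * X'ᴴ := by simp only [Matrix.mul_assoc]
      _ = Xᴴ * (Y * X') * X'ᴴ := by rw [hrel]
      _ = Xᴴ * Y * (X' * X'ᴴ) := by simp only [Matrix.mul_assoc]
      _ = Xᴴ * Y := by rw [hX1', Matrix.mul_one]
  have hWW : W * Wᴴ = (2 : ℂ) • (1 : Matrix ι ι ℂ) - X * X'ᴴ - X' * Xᴴ := by
    rw [hW]
    simp only [conjTranspose_sub, sub_mul, mul_sub, hX', hX1']
    module
  have t1 : (Y * (X' * Xᴴ)).trace = Y.trace := by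
    rw [← Matrix.mul_assoc, hrel, Matrix.mul_assoc, Matrix.trace_mul_comm, Matrix.mul_assoc, hX,
      Matrix.mul_one]
  have t2 : (Y * (X * X'ᴴ)).trace = Y.trace := by
    rw [hA, ← Matrix.mul_assoc, hB, Matrix.mul_assoc, Matrix.trace_mul_comm, Matrix.mul_assoc, hX',
      Matrix.mul_one]
  have key : (Wᴴ * Y * W).trace = 0 := by
    rw [Matrix.mul_assoc, Matrix.trace_mul_comm, Matrix.mul_assoc, hWW]
    simp only [mul_sub, Matrix.mul_smul, Matrix.mul_one, trace_sub, trace_smul, t1, t2, smul_eq_mul]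
    ring
  have key2 : (Wᴴ * Yᴴ * W).trace = 0 := by
    have : Wᴴ * Yᴴ * W = (Wᴴ * Y * W)ᴴ := by
      simp only [conjTranspose_mul, conjTranspose_conjTranspose, Matrix.mul_assoc]
    rw [this, trace_conjTranspose, key, star_zero]
  have : (Wᴴ * (Y + Yᴴ) * W).trace = 0 := by
    rw [mul_add, add_mul, trace_add, key, key2, add_zero]
  rw [this] at hpos'
  simp at hpos'

theorem Small.posDef_mul {X Y : Matrix ι ι ℂ} (hX' : X * Xᴴ = 1) (hY : Yᴴ * Y = 1)
    (hSX : Small X) (hSY : Small Y) : (X * Y + (X * Y)ᴴ).PosDef := by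
  have hid : X * Y + (X * Y)ᴴ = (2 : ℂ) • (X + Xᴴ - (s3 : ℂ) • (1 : Matrix ι ι ℂ))
      + (2 : ℂ) • (Y + Yᴴ - (s3 : ℂ) • (1 : Matrix ι ι ℂ))
      + ((4 * s3 - 6 : ℝ) : ℂ) • (1 : Matrix ι ι ℂ)
      + ((Xᴴ - 1) + (Y - 1))ᴴ * ((Xᴴ - 1) + (Y - 1)) := by
    simp only [conjTranspose_add, conjTranspose_sub, conjTranspose_one, conjTranspose_conjTranspose,
      conjTranspose_mul, add_mul, mul_add, sub_mul, mul_sub, Matrix.one_mul, Matrix.mul_one, hX', hY]
    push_cast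
    module
  rw [hid]
  have h2 : (0 : ℂ) < 2 := by norm_num
  have h3 : (0 : ℂ) < ((4 * s3 - 6 : ℝ) : ℂ) := by
    have := s3_gt
    exact_mod_cast (by linarith : (0 : ℝ) < 4 * s3 - 6)
  exact PosDef.add_posSemidef (PosDef.add (PosDef.add (PosDef.smul hSX h2) (PosDef.smul hSY h2))
    (PosDef.one.smul h3)) (posSemidef_conjTranspose_mul_self _)

end Cfsg.Agent.CharLib.Jordan
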