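import Mathlib
import Cfsg.Agent.Lib.Lead.Jordan1

/-!
lead: Frobenius' theorem for finite unitary groups: the "small" elements (all eigenvalues within `π/6` of `1`)
pairwise commute and generate an abelian normal subgroup.
-/

set_option autoImplicit false

namespace Cfsg.Agent.CharLib.Jordan

open Matrix
open scoped ComplexOrder MatrixOrder commutatorElement

variable {ι : Type*} [Fintype ι] [DecidableEq ι] {G : Type*} [Group G]

section

variable (U : G →* Matrix ι ι ℂ) (hU : ∀ g, (U g)ᴴ * U g = 1)

include hU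

theorem unitary_mul_conjTranspose (g : G) : U g * (U g)ᴴ = 1 :=
  mul_eq_one_comm.mp (hU g)

theorem conjTranspose_eq_map_inv (g : G) : (U g)ᴴ = U g⁻¹ := by
  have h1 : U g * U g⁻¹ = 1 := by rw [← map_mul, mul_inv_cancel, map_one]
  calc (U g)ᴴ = (U g)ᴴ * (U g * U g⁻¹) := by rw [h1, Matrix.mul_one]
    _ = ((U g)ᴴ * U g) * U g⁻¹ := by rw [Matrix.mul_assoc]
    _ = U g⁻¹ := by rw [hU g, Matrix.one_mul]

omit hU in
/-- The set of small elements. -/
def smallSet : Set G := {g | Small (U g)}

theorem smallSet_inv {g : G} (hg : g ∈ smallSet U) : g⁻¹ ∈ smallSet U := by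
  unfold smallSet at hg ⊢
  simp only [Set.mem_setOf_eq] at hg ⊢
  rw [← conjTranspose_eq_map_inv U hU g]
  exact hg.conjTranspose

theorem smallSet_conj {g : G} (hg : g ∈ smallSet U) (h : G) : h * g * h⁻¹ ∈ smallSet U := by
  unfold smallSet at hg ⊢
  simp only [Set.mem_setOf_eq] at hg ⊢
  rw [map_mul, map_mul, ← conjTranspose_eq_map_inv U hU h]
  exact hg.conj (unitary_mul_conjTranspose U hU h)

omit hU in
/-- An element is good if `U g + (U g)ᴴ` is positive definite. -/
def Good (g : G) : Prop := (U g + (U g)ᴴ).PosDef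

omit hU in
theorem good_of_small {g : G} (hg : g ∈ smallSet U) : Good U g := Small.posDef_add hg

theorem good_commutator {x : G} (hx : x ∈ smallSet U) (y : G) : Good U ⁅x, y⁆ := by
  have h1 : ⁅x, y⁆ = x * (y * x⁻¹ * y⁻¹) := by
    rw [commutatorElement_def]; group
  have h2 : y * x⁻¹ * y⁻¹ ∈ smallSet U := smallSet_conj U hU (smallSet_inv U hU hx) y
  unfold Good
  rw [h1, map_mul]
  exact Small.posDef_mul (unitary_mul_conjTranspose U hU x) (hU _) hx h2

theorem fn_commutator_lt {x : G} (hx : x ∈ smallSet U) {y : G} (hy : U y ≠ 1) :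
    fn (U ⁅x, y⁆ - 1) < fn (U y - 1) := by
  have h := contraction (hU x) (unitary_mul_conjTranspose U hU x) (hU y)
    (unitary_mul_conjTranspose U hU y) hx hy
  rw [commutatorElement_def, map_mul, map_mul, map_mul, ← conjTranspose_eq_map_inv U hU x,
    ← conjTranspose_eq_map_inv U hU y]
  exact h

end

section

variable [Finite G] (U : G →* Matrix ι ι ℂ) (hU : ∀ g, (U g)ᴴ * U g = 1)
  (hinj : Function.Injective U)

include hU hinj

theorem exists_iterate_commutator_eq_one {x : G} (hx : x ∈ smallSet U) (y : G) :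
    ∃ k : ℕ, (fun z => ⁅x, z⁆)^[k] y = 1 := by
  have hwf : WellFounded (fun y' y : G => fn (U y' - 1) < fn (U y - 1)) := by
    haveI : IsTrans G (fun y' y : G => fn (U y' - 1) < fn (U y - 1)) := ⟨fun a b c h1 h2 => lt_trans h1 h2⟩
    haveI : IsIrrefl G (fun y' y : G => fn (U y' - 1) < fn (U y - 1)) := ⟨fun a h => lt_irrefl _ h⟩
    exact Finite.wellFounded_of_trans_of_irrefl _
  induction y using hwf.induction with
  | _ y ih =>
    by_cases hy : y = 1
    · exact ⟨0, by simpa using hy⟩
    · have hy' : U y ≠ 1 := by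
        intro h
        apply hy
        apply hinj
        rw [h, map_one]
      obtain ⟨k, hk⟩ := ih ⁅x, y⁆ (fn_commutator_lt U hU hx hy')
      exact ⟨k + 1, by rw [Function.iterate_succ_apply]; exact hk⟩

theorem commutator_eq_one_of_good {x : G} (hx : x ∈ smallSet U) {y : G} (hy : Good U y)
    (hc : ⁅x, ⁅x, y⁆⁆ = 1) : ⁅x, y⁆ = 1 := by
  -- `x` commutes with `x' = y x y⁻¹`
  have hcomm : x * (y * x * y⁻¹) = (y * x * y⁻¹) * x := by
    have h1 : Commute x ⁅x, y⁆ := commutatorElement_eq_one_iff_commute.mp hc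
    have h2 : y * x * y⁻¹ = ⁅x, y⁆⁻¹ * x := by rw [commutatorElement_def]; group
    rw [h2]
    have h3 : Commute x (⁅x, y⁆⁻¹ * x) := (h1.inv_right).mul_right (Commute.refl x)
    exact h3.eq
  have hpos : (U y⁻¹ + (U y⁻¹)ᴴ).PosDef := by
    unfold Good at hy
    rw [← conjTranspose_eq_map_inv U hU y, conjTranspose_conjTranspose, add_comm]
    exact hy
  have hrel : U y⁻¹ * U (y * x * y⁻¹) = U x * U y⁻¹ := by
    rw [← map_mul, ← map_mul]
    congr 1
    group
  have hcomm' : U x * U (y * x * y⁻¹) = U (y * x * y⁻¹) * U x := by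
    rw [← map_mul, ← map_mul, hcomm]
  have h := eq_of_commute_of_posDef (hU x) (unitary_mul_conjTranspose U hU x) (hU (y * x * y⁻¹))
    (unitary_mul_conjTranspose U hU _) hrel hcomm' hpos
  have h4 : y * x * y⁻¹ = x := hinj h
  rw [commutatorElement_def]
  calc x * y * x⁻¹ * y⁻¹ = x * (y * x * y⁻¹)⁻¹ := by group
    _ = 1 := by rw [h4, mul_inv_cancel]

theorem commute_of_small {x y : G} (hx : x ∈ smallSet U) (hy : y ∈ smallSet U) : x * y = y * x := by
  have key : ∀ k : ℕ, ∀ y : G, Good U y → (fun z => ⁅x, z⁆)^[k + 1] y = 1 → ⁅x, y⁆ = 1 := by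
    intro k
    induction k with
    | zero =>
      intro y _ h
      simpa using h
    | succ k ih =>
      intro y hy h
      rw [Function.iterate_succ_apply] at h
      have h1 := ih ⁅x, y⁆ (good_commutator U hU hx y) h
      exact commutator_eq_one_of_good U hU hinj hx hy h1
  obtain ⟨k, hk⟩ := exists_iterate_commutator_eq_one U hU hinj hx y
  rcases k with _ | k
  · have : y = 1 := by simpa using hk
    rw [this, mul_one, one_mul]
  · have h := key k y (good_of_small U hy) hk
    exact (commutatorElement_eq_one_iff_commute.mp h).eq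

/-- The abelian normal subgroup generated by the small elements. -/
def smallSubgroup : Subgroup G := Subgroup.normalClosure (smallSet U)

omit hU hinj in
theorem smallSubgroup_normal : (smallSubgroup U).Normal := Subgroup.normalClosure_normal

omit hU hinj in
theorem smallSet_subset : smallSet U ⊆ smallSubgroup U := Subgroup.subset_normalClosure

theorem smallSubgroup_comm : ∀ a ∈ smallSubgroup U, ∀ b ∈ smallSubgroup U, a * b = b * a := by
  have hsub : Group.conjugatesOfSet (smallSet U) ⊆ smallSet U := by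
    intro a ha
    rw [Group.mem_conjugatesOfSet_iff] at ha
    obtain ⟨b, hb, hba⟩ := ha
    rw [isConj_iff] at hba
    obtain ⟨c, rfl⟩ := hba
    exact smallSet_conj U hU hb c
  have hcomm : ∀ a ∈ Group.conjugatesOfSet (smallSet U), ∀ b ∈ Group.conjugatesOfSet (smallSet U),
      a * b = b * a := fun a ha b hb => commute_of_small U hU hinj (hsub ha) (hsub hb)
  letI := Subgroup.closureCommGroupOfComm hcomm
  intro a ha b hb
  have h := mul_comm (⟨a, ha⟩ : Subgroup.closure (Group.conjugatesOfSet (smallSet U))) ⟨b, hb⟩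
  exact congrArg Subtype.val h

end

end Cfsg.Agent.CharLib.Jordan
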