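import Mathlib
import Cfsg.Agent.Lib.Lead.Jordan2

/-!
lead: joint spectral idempotents of a finite abelian group of unitary matrices (via the dual group), the criterion
for smallness in terms of linear characters, and the `12 ^ n` pigeonhole bound.
-/

set_option autoImplicit false

namespace Cfsg.Agent.CharLib.Jordan

open Matrix
open scoped ComplexOrder MatrixOrder

/-- The index of the arc of length `π/6` containing `z`. -/
noncomputable def arcIdx (z : ℂ) : ℤ := ⌈Complex.arg z * 6 / Real.pi⌉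

theorem arcIdx_mem (z : ℂ) : arcIdx z ∈ Finset.Icc (-5 : ℤ) 6 := by
  have hpi := Real.pi_pos
  have h1 := Complex.neg_pi_lt_arg z
  have h2 := Complex.arg_le_pi z
  rw [Finset.mem_Icc]
  constructor
  · have : (-6 : ℤ) < arcIdx z := by
      unfold arcIdx
      rw [Int.lt_ceil, lt_div_iff₀ hpi]
      push_cast
      nlinarith
    omega
  · unfold arcIdx
    rw [Int.ceil_le, div_le_iff₀ hpi]
    push_cast
    nlinarith

theorem re_inv_mul_of_arcIdx_eq {z w : ℂ} (hz : ‖z‖ = 1) (hw : ‖w‖ = 1)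
    (h : arcIdx z = arcIdx w) : s3 < 2 * (z⁻¹ * w).re := by
  have hpi := Real.pi_pos
  set a := Complex.arg z with ha
  set b := Complex.arg w with hb
  have hz' : z = Complex.exp (a * Complex.I) := by
    have := Complex.norm_mul_exp_arg_mul_I z
    rw [hz] at this
    simpa using this.symm
  have hw' : w = Complex.exp (b * Complex.I) := by
    have := Complex.norm_mul_exp_arg_mul_I w
    rw [hw] at this
    simpa using this.symm
  have hzw : z⁻¹ * w = Complex.exp (((b - a : ℝ) : ℂ) * Complex.I) := by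
    rw [hz', hw', ← Complex.exp_neg, ← Complex.exp_add]
    congr 1
    push_cast
    ring
  rw [hzw, Complex.exp_ofReal_mul_I_re]
  -- |a - b| < π / 6
  unfold arcIdx at h
  rw [← ha, ← hb] at h
  have h1 := Int.ceil_lt_add_one (a * 6 / Real.pi)
  have h2 := Int.le_ceil (a * 6 / Real.pi)
  have h3 := Int.ceil_lt_add_one (b * 6 / Real.pi)
  have h4 := Int.le_ceil (b * 6 / Real.pi)
  rw [h] at h1 h2
  have h5 : |b - a| < Real.pi / 6 := by
    have e1 : b * 6 / Real.pi - a * 6 / Real.pi = (b - a) * 6 / Real.pi := by ring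
    have h6 : |(b - a) * 6 / Real.pi| < 1 := by
      rw [← e1, abs_lt]
      constructor <;> linarith
    rw [abs_div, abs_mul, abs_of_pos hpi, div_lt_one hpi] at h6
    have : |(6 : ℝ)| = 6 := abs_of_pos (by norm_num)
    rw [this] at h6
    linarith
  have h6 : Real.cos (Real.pi / 6) < Real.cos |b - a| :=
    Real.cos_lt_cos_of_nonneg_of_le_pi (abs_nonneg _) (by linarith) h5
  rw [Real.cos_abs, Real.cos_pi_div_six] at h6
  unfold s3
  linarith

variable {H : Type*} [CommGroup H] [Finite H]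

instance dualFinite : Finite (H →* ℂˣ) :=
  Finite.of_equiv H (CommGroup.monoidHom_mulEquiv_of_hasEnoughRootsOfUnity H ℂ).some.symm.toEquiv

open Classical in
theorem sum_dual_apply [Fintype (H →* ℂˣ)] (h : H) :
    ∑ φ : H →* ℂˣ, ((φ h : ℂˣ) : ℂ) = if h = 1 then (Nat.card H : ℂ) else 0 := by
  split_ifs with hh
  · subst hh
    simp only [map_one, Units.val_one, Finset.sum_const, Finset.card_univ, nsmul_eq_mul, mul_one]
    rw [← Nat.card_eq_fintype_card, CommGroup.card_monoidHom_of_hasEnoughRootsOfUnity]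
  · obtain ⟨φ₀, hφ₀⟩ := CommGroup.exists_apply_ne_one_of_hasEnoughRootsOfUnity H ℂ hh
    have h1 : ((φ₀ h : ℂˣ) : ℂ) * ∑ φ : H →* ℂˣ, ((φ h : ℂˣ) : ℂ) = ∑ φ : H →* ℂˣ, ((φ h : ℂˣ) : ℂ) := by
      rw [Finset.mul_sum]
      refine Fintype.sum_equiv (Equiv.mulLeft φ₀) _ _ (fun φ => ?_)
      simp
    have h2 : ((φ₀ h : ℂˣ) : ℂ) ≠ 1 := by
      intro h3
      apply hφ₀
      exact Units.ext h3
    have h3 : (((φ₀ h : ℂˣ) : ℂ) - 1) * ∑ φ : H →* ℂˣ, ((φ h : ℂˣ) : ℂ) = 0 := by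
      rw [sub_mul, h1, one_mul, sub_self]
    rcases mul_eq_zero.mp h3 with h4 | h4
    · exact absurd (sub_eq_zero.mp h4) h2
    · exact h4

theorem norm_dual_apply (φ : H →* ℂˣ) (h : H) : ‖((φ h : ℂˣ) : ℂ)‖ = 1 := by
  have h1 : ((φ h : ℂˣ) : ℂ) ^ (Nat.card H) = 1 := by
    rw [← Units.val_pow_eq_pow_val, ← map_pow, pow_card_eq_one', map_one, Units.val_one]
  exact Complex.norm_eq_one_of_pow_eq_one h1 (Nat.card_pos).ne'

theorem star_dual_apply (φ : H →* ℂˣ) (h : H) : star ((φ h : ℂˣ) : ℂ) = ((φ h⁻¹ : ℂˣ) : ℂ) := by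
  rw [map_inv, Units.val_inv_eq_inv_val, Complex.inv_eq_conj (norm_dual_apply φ h)]
  rfl

variable {ι : Type*} [Fintype ι] [DecidableEq ι] [Fintype H]

/-- The spectral idempotent of the commuting family `V` attached to the linear character `φ`. -/
noncomputable def proj (V : H →* Matrix ι ι ℂ) (φ : H →* ℂˣ) : Matrix ι ι ℂ :=
  (Fintype.card H : ℂ)⁻¹ • ∑ h : H, ((φ h⁻¹ : ℂˣ) : ℂ) • V h

omit [Finite H] in
theorem card_ne_zero' : (Fintype.card H : ℂ) ≠ 0 := by
  exact_mod_cast Fintype.card_ne_zero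

omit [Finite H] in
theorem map_mul_proj (V : H →* Matrix ι ι ℂ) (φ : H →* ℂˣ) (g : H) :
    V g * proj V φ = ((φ g : ℂˣ) : ℂ) • proj V φ := by
  have key : V g * ∑ h : H, ((φ h⁻¹ : ℂˣ) : ℂ) • V h
      = ((φ g : ℂˣ) : ℂ) • ∑ h : H, ((φ h⁻¹ : ℂˣ) : ℂ) • V h := by
    rw [Finset.mul_sum, Finset.smul_sum]
    refine Fintype.sum_equiv (Equiv.mulLeft g) _ _ (fun h => ?_)
    simp only [Equiv.coe_mulLeft, Matrix.mul_smul, ← map_mul, smul_smul]
    congr 1
    rw [← Units.val_mul, ← map_mul]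
    congr 2
    rw [_root_.mul_inv_rev, mul_comm g, inv_mul_cancel_right]
  unfold proj
  rw [Matrix.mul_smul, key, smul_comm]

omit [Finite H] in
theorem proj_mul_self (V : H →* Matrix ι ι ℂ) (φ : H →* ℂˣ) : proj V φ * proj V φ = proj V φ := by
  nth_rewrite 1 [proj]
  rw [Matrix.smul_mul, Finset.sum_mul]
  have : ∀ h : H, (((φ h⁻¹ : ℂˣ) : ℂ) • V h) * proj V φ = proj V φ := by
    intro h
    rw [Matrix.smul_mul, map_mul_proj, smul_smul, ← Units.val_mul, ← map_mul, inv_mul_cancel,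
      map_one, Units.val_one, one_smul]
  rw [Finset.sum_congr rfl (fun h _ => this h), Finset.sum_const, Finset.card_univ, ← Nat.cast_smul_eq_nsmul ℂ,
    smul_smul, inv_mul_cancel₀ card_ne_zero', one_smul]

theorem proj_conjTranspose (V : H →* Matrix ι ι ℂ) (hV : ∀ g, (V g)ᴴ * V g = 1) (φ : H →* ℂˣ) :
    (proj V φ)ᴴ = proj V φ := by
  unfold proj
  rw [conjTranspose_smul, conjTranspose_sum]
  congr 1
  · simp
  · refine Fintype.sum_equiv (Equiv.inv H) _ _ (fun h => ?_)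
    rw [conjTranspose_smul, star_dual_apply, conjTranspose_eq_map_inv V hV]
    simp

theorem sum_proj (V : H →* Matrix ι ι ℂ) [Fintype (H →* ℂˣ)] : ∑ φ : H →* ℂˣ, proj V φ = 1 := by
  classical
  unfold proj
  rw [← Finset.smul_sum, Finset.sum_comm]
  have : ∀ h : H, ∑ φ : H →* ℂˣ, ((φ h⁻¹ : ℂˣ) : ℂ) • V h
      = (if h = 1 then (Nat.card H : ℂ) else 0) • V h := by
    intro h
    rw [← Finset.sum_smul, sum_dual_apply]
    simp only [inv_eq_one]
  rw [Finset.sum_congr rfl (fun h _ => this h)]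
  simp only [ite_smul, zero_smul, Finset.sum_ite_eq', Finset.mem_univ, if_true, map_one]
  rw [smul_smul, Nat.card_eq_fintype_card, inv_mul_cancel₀ card_ne_zero', one_smul]

theorem proj_posSemidef (V : H →* Matrix ι ι ℂ) (hV : ∀ g, (V g)ᴴ * V g = 1) (φ : H →* ℂˣ) :
    (proj V φ).PosSemidef := by
  have h := posSemidef_conjTranspose_mul_self (proj V φ)
  rwa [proj_conjTranspose V hV, proj_mul_self] at h


omit [Finite H] in
theorem exists_nat_trace_proj (V : H →* Matrix ι ι ℂ) (φ : H →* ℂˣ) :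
    ∃ d : ℕ, (proj V φ).trace = d ∧ (d = 0 ↔ proj V φ = 0) := by
  have he : IsIdempotentElem (Matrix.toLin' (proj V φ)) := by
    unfold IsIdempotentElem
    rw [Module.End.mul_eq_comp, ← Matrix.toLin'_mul, proj_mul_self]
  refine ⟨Module.finrank ℂ (LinearMap.range (Matrix.toLin' (proj V φ))), ?_, ?_⟩
  · rw [← Matrix.trace_toLin'_eq, (LinearMap.IsIdempotentElem.isProj_range _ he).trace]
  · have h1 := LinearMap.IsIdempotentElem.trace_eq_zero_iff he
    rw [(LinearMap.IsIdempotentElem.isProj_range _ he).trace, Nat.cast_eq_zero] at h1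
    rw [h1]
    exact LinearEquiv.map_eq_zero_iff _

theorem card_filter_proj_ne_zero_le (V : H →* Matrix ι ι ℂ) [Fintype (H →* ℂˣ)]
    [DecidablePred fun φ : H →* ℂˣ => proj V φ ≠ 0] :
    (Finset.univ.filter (fun φ : H →* ℂˣ => proj V φ ≠ 0)).card ≤ Fintype.card ι := by
  choose d hd1 hd2 using exists_nat_trace_proj V
  have h1 : ((∑ φ : H →* ℂˣ, d φ : ℕ) : ℂ) = (Fintype.card ι : ℂ) := by
    push_cast
    rw [← Finset.sum_congr rfl (fun φ _ => hd1 φ), ← Matrix.trace_sum, sum_proj]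
    simp
  have h2 : ∑ φ : H →* ℂˣ, d φ = Fintype.card ι := by exact_mod_cast h1
  rw [← h2, Finset.card_eq_sum_ones]
  calc ∑ φ ∈ Finset.univ.filter (fun φ : H →* ℂˣ => proj V φ ≠ 0), 1
      ≤ ∑ φ ∈ Finset.univ.filter (fun φ : H →* ℂˣ => proj V φ ≠ 0), d φ := by
        apply Finset.sum_le_sum
        intro φ hφ
        rw [Finset.mem_filter] at hφ
        have : d φ ≠ 0 := fun h => hφ.2 ((hd2 φ).mp h)
        omega
    _ ≤ ∑ φ : H →* ℂˣ, d φ := Finset.sum_le_sum_of_subset (Finset.filter_subset _ _)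

theorem posDef_sum_smul_proj (V : H →* Matrix ι ι ℂ) (hV : ∀ g, (V g)ᴴ * V g = 1)
    [Fintype (H →* ℂˣ)] (c : (H →* ℂˣ) → ℝ) (hc : ∀ φ, proj V φ ≠ 0 → 0 < c φ) :
    (∑ φ : H →* ℂˣ, (c φ : ℂ) • proj V φ).PosDef := by
  classical
  obtain ⟨ε, hε, hle⟩ : ∃ ε : ℝ, 0 < ε ∧ ∀ φ, proj V φ ≠ 0 → ε ≤ c φ := by
    by_cases hne : (Finset.univ.filter (fun φ : H →* ℂˣ => proj V φ ≠ 0)).Nonempty
    · obtain ⟨φ₀, hφ₀, hmin⟩ := Finset.exists_min_image _ c hne
      rw [Finset.mem_filter] at hφ₀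
      exact ⟨c φ₀, hc φ₀ hφ₀.2, fun φ hφ => hmin φ (Finset.mem_filter.mpr ⟨Finset.mem_univ _, hφ⟩)⟩
    · refine ⟨1, one_pos, fun φ hφ => ?_⟩
      exact absurd ⟨φ, Finset.mem_filter.mpr ⟨Finset.mem_univ _, hφ⟩⟩ hne
  have hsplit : ∑ φ : H →* ℂˣ, (c φ : ℂ) • proj V φ
      = (ε : ℂ) • (1 : Matrix ι ι ℂ) + ∑ φ : H →* ℂˣ, ((c φ - ε : ℝ) : ℂ) • proj V φ := by
    rw [← sum_proj V, Finset.smul_sum, ← Finset.sum_add_distrib]
    refine Finset.sum_congr rfl (fun φ _ => ?_)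
    rw [← add_smul]
    congr 1
    push_cast
    ring
  rw [hsplit]
  refine PosDef.add_posSemidef (PosDef.one.smul (by exact_mod_cast hε)) ?_
  refine posSemidef_sum _ (fun φ _ => ?_)
  by_cases h0 : proj V φ = 0
  · rw [h0, smul_zero]
    exact PosSemidef.zero
  · refine (proj_posSemidef V hV φ).smul ?_
    have := hle φ h0
    exact_mod_cast (by linarith : (0 : ℝ) ≤ c φ - ε)

theorem small_of_dual (V : H →* Matrix ι ι ℂ) (hV : ∀ g, (V g)ᴴ * V g = 1) (h : H)
    (hh : ∀ φ : H →* ℂˣ, proj V φ ≠ 0 → s3 < 2 * ((φ h : ℂˣ) : ℂ).re) : Small (V h) := by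
  classical
  have : Fintype (H →* ℂˣ) := Fintype.ofFinite _
  have h1 : V h = ∑ φ : H →* ℂˣ, ((φ h : ℂˣ) : ℂ) • proj V φ := by
    calc V h = V h * 1 := (Matrix.mul_one _).symm
      _ = V h * ∑ φ : H →* ℂˣ, proj V φ := by rw [sum_proj]
      _ = ∑ φ : H →* ℂˣ, ((φ h : ℂˣ) : ℂ) • proj V φ := by
        rw [Finset.mul_sum]
        exact Finset.sum_congr rfl (fun φ _ => map_mul_proj V φ h)
  have h2 : (V h)ᴴ = ∑ φ : H →* ℂˣ, (star ((φ h : ℂˣ) : ℂ)) • proj V φ := by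
    conv_lhs => rw [h1]
    rw [conjTranspose_sum]
    refine Finset.sum_congr rfl (fun φ _ => ?_)
    rw [conjTranspose_smul, proj_conjTranspose V hV]
  have h3 : V h + (V h)ᴴ - (s3 : ℂ) • (1 : Matrix ι ι ℂ)
      = ∑ φ : H →* ℂˣ, ((2 * ((φ h : ℂˣ) : ℂ).re - s3 : ℝ) : ℂ) • proj V φ := by
    rw [h2]
    conv_lhs => rw [h1]
    rw [← sum_proj V, Finset.smul_sum, ← Finset.sum_add_distrib, ← Finset.sum_sub_distrib]
    refine Finset.sum_congr rfl (fun φ _ => ?_)
    rw [← add_smul, ← sub_smul]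
    congr 1
    rw [Complex.star_def, Complex.add_conj]
    push_cast
    ring
  unfold Small
  rw [h3]
  exact posDef_sum_smul_proj V hV _ (fun φ hφ => by have := hh φ hφ; linarith)

theorem index_le_of_small_mem (V : H →* Matrix ι ι ℂ) (hV : ∀ g, (V g)ᴴ * V g = 1)
    (K : Subgroup H) (hK : ∀ h, Small (V h) → h ∈ K) : K.index ≤ 12 ^ Fintype.card ι := by
  classical
  have : Fintype (H →* ℂˣ) := Fintype.ofFinite _
  set Φ := Finset.univ.filter (fun φ : H →* ℂˣ => proj V φ ≠ 0) with hΦ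
  let key : H → (Φ → Finset.Icc (-5 : ℤ) 6) :=
    fun h φ => ⟨arcIdx ((φ.1 h : ℂˣ) : ℂ), arcIdx_mem _⟩
  have hkey : ∀ h₁ h₂ : H, key h₁ = key h₂ → h₁⁻¹ * h₂ ∈ K := by
    intro h₁ h₂ he
    apply hK
    apply small_of_dual V hV
    intro φ hφ
    have hmem : φ ∈ Φ := Finset.mem_filter.mpr ⟨Finset.mem_univ _, hφ⟩
    have h1 := congrFun he ⟨φ, hmem⟩
    have h2 : arcIdx ((φ h₁ : ℂˣ) : ℂ) = arcIdx ((φ h₂ : ℂˣ) : ℂ) := by
      have := congrArg Subtype.val h1
      simpa [key] using this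
    have h3 := re_inv_mul_of_arcIdx_eq (norm_dual_apply φ h₁) (norm_dual_apply φ h₂) h2
    rw [map_mul, map_inv, Units.val_mul, Units.val_inv_eq_inv_val]
    exact h3
  have hinj : Function.Injective (fun q : H ⧸ K => key q.out) := by
    intro q₁ q₂ hq
    have := hkey _ _ hq
    rw [← QuotientGroup.eq, QuotientGroup.out_eq', QuotientGroup.out_eq'] at this
    exact this
  have h1 : K.index ≤ Nat.card (Φ → Finset.Icc (-5 : ℤ) 6) := by
    unfold Subgroup.index
    exact Nat.card_le_card_of_injective _ hinj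
  have h2 : Nat.card (Φ → Finset.Icc (-5 : ℤ) 6) = 12 ^ Φ.card := by
    rw [Nat.card_eq_fintype_card, Fintype.card_fun, Fintype.card_coe, Fintype.card_coe]
    simp
  rw [h2] at h1
  exact h1.trans (Nat.pow_le_pow_right (by norm_num) (card_filter_proj_ne_zero_le V))

end Cfsg.Agent.CharLib.Jordan
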