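import Mathlib
import Cfsg.Agent.Lib.Lead.Jordan3

/-!
lead: unitarization of a finite matrix group and the Frobenius–Jordan theorem: a finite subgroup of `GL(n, ℂ)`
has an abelian normal subgroup `A` with `[H : H ∩ A] ≤ 12 ^ n` for every abelian subgroup `H`.
-/

set_option autoImplicit false

namespace Cfsg.Agent.CharLib.Jordan

open Matrix
open scoped ComplexOrder MatrixOrder

variable {ι : Type*} [Fintype ι] [DecidableEq ι] {G : Type*} [Group G] [Finite G]

/-- Weyl's unitary trick for matrices. -/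
theorem exists_unitary_conj (M : G →* Matrix ι ι ℂ) (hinj : Function.Injective M) :
    ∃ U : G →* Matrix ι ι ℂ, (∀ g, (U g)ᴴ * U g = 1) ∧ Function.Injective U := by
  classical
  have : Fintype G := Fintype.ofFinite G
  set P : Matrix ι ι ℂ := ∑ g : G, (M g)ᴴ * M g with hPdef
  have hP : P.PosDef := by
    rw [hPdef, ← Finset.add_sum_erase Finset.univ _ (Finset.mem_univ (1 : G))]
    refine PosDef.add_posSemidef ?_ (posSemidef_sum _ (fun g _ => posSemidef_conjTranspose_mul_self _))
    rw [map_one, conjTranspose_one, Matrix.one_mul]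
    exact PosDef.one
  have hinv : ∀ g : G, (M g)ᴴ * P * M g = P := by
    intro g
    rw [hPdef, Finset.mul_sum, Finset.sum_mul]
    refine Fintype.sum_equiv (Equiv.mulRight g) _ _ (fun h => ?_)
    simp only [Equiv.coe_mulRight, map_mul, conjTranspose_mul, Matrix.mul_assoc]
  obtain ⟨B, hB⟩ := CStarAlgebra.nonneg_iff_eq_star_mul_self.mp hP.posSemidef.nonneg
  rw [star_eq_conjTranspose] at hB
  have hunit : IsUnit B := by
    have h1 : IsUnit P := hP.isUnit
    rw [hB] at h1
    exact isUnit_of_mul_isUnit_right h1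
  have hdet : IsUnit B.det := (Matrix.isUnit_iff_isUnit_det B).mp hunit
  have hBi : B * B⁻¹ = 1 := Matrix.mul_nonsing_inv B hdet
  have hiB : B⁻¹ * B = 1 := Matrix.nonsing_inv_mul B hdet
  let U : G →* Matrix ι ι ℂ :=
    { toFun := fun g => B * M g * B⁻¹
      map_one' := by rw [map_one, Matrix.mul_one, hBi]
      map_mul' := fun g h => by
        rw [map_mul]
        calc B * (M g * M h) * B⁻¹ = B * M g * 1 * (M h * B⁻¹) := by
              simp only [Matrix.mul_assoc, Matrix.one_mul]
          _ = B * M g * B⁻¹ * (B * M h * B⁻¹) := by rw [← hiB]; simp only [Matrix.mul_assoc] }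
  refine ⟨U, fun g => ?_, fun g h hgh => ?_⟩
  · change (B * M g * B⁻¹)ᴴ * (B * M g * B⁻¹) = 1
    calc (B * M g * B⁻¹)ᴴ * (B * M g * B⁻¹)
        = (B⁻¹)ᴴ * ((M g)ᴴ * (Bᴴ * B) * M g) * B⁻¹ := by
          simp only [conjTranspose_mul, Matrix.mul_assoc]
      _ = (B⁻¹)ᴴ * (Bᴴ * B) * B⁻¹ := by rw [← hB, hinv g]
      _ = (B * B⁻¹)ᴴ * (B * B⁻¹) := by simp only [conjTranspose_mul, Matrix.mul_assoc]
      _ = 1 := by rw [hBi, conjTranspose_one, Matrix.one_mul]
  · apply hinj
    have h1 : B * M g * B⁻¹ = B * M h * B⁻¹ := hgh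
    calc M g = B⁻¹ * (B * M g * B⁻¹) * B := by
          simp only [Matrix.mul_assoc, hiB, Matrix.mul_one]
          rw [← Matrix.mul_assoc, hiB, Matrix.one_mul]
      _ = B⁻¹ * (B * M h * B⁻¹) * B := by rw [h1]
      _ = M h := by
          simp only [Matrix.mul_assoc, hiB, Matrix.mul_one]
          rw [← Matrix.mul_assoc, hiB, Matrix.one_mul]

/-- **Frobenius–Jordan**: a finite group of complex `n × n` matrices has an abelian normal subgroup `A` such that
every abelian subgroup `H` satisfies `[H : H ∩ A] ≤ 12 ^ n`. -/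
theorem exists_abelian_normal_index_le (M : G →* Matrix ι ι ℂ) (hinj : Function.Injective M) :
    ∃ A : Subgroup G, A.Normal ∧ (∀ x ∈ A, ∀ y ∈ A, x * y = y * x) ∧
      ∀ H : Subgroup G, (∀ x ∈ H, ∀ y ∈ H, x * y = y * x) →
        (A.subgroupOf H).index ≤ 12 ^ Fintype.card ι := by
  obtain ⟨U, hU, hUinj⟩ := exists_unitary_conj M hinj
  refine ⟨smallSubgroup U, smallSubgroup_normal U, smallSubgroup_comm U hU hUinj, ?_⟩
  intro H hH
  letI : CommGroup H :=
    { (inferInstance : Group H) with mul_comm := fun a b => Subtype.ext (hH a a.2 b b.2) }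
  have : Fintype H := Fintype.ofFinite H
  have hV : ∀ g : H, ((U.comp H.subtype) g)ᴴ * (U.comp H.subtype) g = 1 := fun g => hU g
  refine index_le_of_small_mem (U.comp H.subtype) hV ((smallSubgroup U).subgroupOf H) ?_
  intro h hh
  rw [Subgroup.mem_subgroupOf]
  exact smallSet_subset U hh

end Cfsg.Agent.CharLib.Jordan
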