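import Mathlib
import Cfsg.Agent.Lib.Lead.Jordan4

/-!
lead: the weights of an abelian normal subgroup of a finite matrix group are permuted by the group; the kernel of
this permutation action centralizes the subgroup.  Consequently `|G : C_G(B)|` divides `n!`.
-/

set_option autoImplicit false

namespace Cfsg.Agent.CharLib.Jordan

open Matrix
open scoped ComplexOrder MatrixOrder

variable {ι : Type*} [Fintype ι] [DecidableEq ι]

section abstract

variable {H : Type*} [CommGroup H] [Finite H] [Fintype H]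

theorem map_eq_sum_proj (V : H →* Matrix ι ι ℂ) [Fintype (H →* ℂˣ)] (h : H) :
    V h = ∑ φ : H →* ℂˣ, ((φ h : ℂˣ) : ℂ) • proj V φ := by
  calc V h = V h * 1 := (Matrix.mul_one _).symm
    _ = V h * ∑ φ : H →* ℂˣ, proj V φ := by rw [sum_proj]
    _ = ∑ φ : H →* ℂˣ, ((φ h : ℂˣ) : ℂ) • proj V φ := by
      rw [Finset.mul_sum]
      exact Finset.sum_congr rfl (fun φ _ => map_mul_proj V φ h)

variable {G : Type*} [Group G]

/-- The action of `G` on the dual group through `α : G →* MulAut H`. -/
def dualAction (α : G →* MulAut H) : MulAction G (H →* ℂˣ) where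
  smul g φ := φ.comp ((α g)⁻¹ : MulAut H).toMonoidHom
  one_smul φ := by
    refine MonoidHom.ext fun b => ?_
    show φ (((α 1)⁻¹ : MulAut H) b) = φ b
    rw [map_one, inv_one]; rfl
  mul_smul g h φ := by
    refine MonoidHom.ext fun b => ?_
    show φ (((α (g * h))⁻¹ : MulAut H) b) = φ (((α h)⁻¹ : MulAut H) (((α g)⁻¹ : MulAut H) b))
    rw [map_mul, _root_.mul_inv_rev]; rfl

omit [Finite H] in
theorem proj_dualAction (α : G →* MulAut H) (V : H →* Matrix ι ι ℂ) (M : G →* Matrix ι ι ℂ)
    (hVM : ∀ g b, V (α g b) = M g * V b * M g⁻¹) (g : G) (φ : H →* ℂˣ) :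
    proj V (φ.comp ((α g)⁻¹ : MulAut H).toMonoidHom) = M g * proj V φ * M g⁻¹ := by
  unfold proj
  rw [Matrix.mul_smul, Matrix.smul_mul, Finset.mul_sum, Finset.sum_mul]
  congr 1
  refine (Fintype.sum_equiv (α g).toEquiv _ _ (fun b => ?_)).symm
  simp only [MulEquiv.toEquiv_eq_coe, MulEquiv.coe_toEquiv, MonoidHom.coe_comp, MulEquiv.coe_toMonoidHom,
    Function.comp_apply, Matrix.mul_smul, Matrix.smul_mul, hVM]
  congr 2
  have : ((α g)⁻¹ : MulAut H) ((α g) b)⁻¹ = b⁻¹ := by
    rw [← map_inv (α g) b, MulAut.inv_apply_self]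
  rw [this]

end abstract

section concrete

variable {G : Type*} [Group G] [Finite G]

theorem conj_eq_zero_iff (M : G →* Matrix ι ι ℂ) (g : G) (P : Matrix ι ι ℂ) :
    M g * P * M g⁻¹ = 0 ↔ P = 0 := by
  have h1 : M g⁻¹ * M g = 1 := by rw [← map_mul, inv_mul_cancel, map_one]
  constructor
  · intro h
    calc P = M g⁻¹ * (M g * P * M g⁻¹) * M g := by
          simp only [Matrix.mul_assoc, h1, Matrix.mul_one]
          rw [← Matrix.mul_assoc, h1, Matrix.one_mul]
      _ = 0 := by rw [h, Matrix.mul_zero, Matrix.zero_mul]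
  · rintro rfl
    rw [Matrix.mul_zero, Matrix.zero_mul]

/-- For an abelian normal subgroup `B` of a finite group `G` of complex `n × n` matrices, `|G : C_G(B)|` divides
`n!`. -/
theorem index_centralizer_dvd_factorial (M : G →* Matrix ι ι ℂ) (hinj : Function.Injective M)
    (B : Subgroup G) [hBn : B.Normal] (hB : ∀ x ∈ B, ∀ y ∈ B, x * y = y * x) :
    (Subgroup.centralizer (B : Set G)).index ∣ (Fintype.card ι).factorial := by
  classical
  letI : CommGroup B :=
    { (inferInstance : Group B) with mul_comm := fun a b => Subtype.ext (hB a a.2 b b.2) }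
  have : Fintype B := Fintype.ofFinite B
  have : Fintype (B →* ℂˣ) := Fintype.ofFinite _
  set V : B →* Matrix ι ι ℂ := M.comp B.subtype with hV
  set α : G →* MulAut B := MulAut.conjNormal with hα
  have hVM : ∀ g b, V (α g b) = M g * V b * M g⁻¹ := by
    intro g b
    simp [V, α, MulAut.conjNormal_apply, map_mul]
  letI act : MulAction G (B →* ℂˣ) := dualAction α
  have hsm : ∀ (g : G) (φ : B →* ℂˣ), proj V (g • φ) = M g * proj V φ * M g⁻¹ :=
    fun g φ => proj_dualAction α V M hVM g φ
  let Λ : SubMulAction G (B →* ℂˣ) :=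
    { carrier := {φ | proj V φ ≠ 0}
      smul_mem' := by
        intro g φ hφ
        simp only [Set.mem_setOf_eq] at hφ ⊢
        rw [hsm, Ne, conj_eq_zero_iff]
        exact hφ }
  let f : G →* Equiv.Perm Λ := MulAction.toPermHom G Λ
  have hker : f.ker ≤ Subgroup.centralizer (B : Set G) := by
    intro g hg
    rw [MonoidHom.mem_ker] at hg
    have hfix : ∀ φ : B →* ℂˣ, proj V φ ≠ 0 → g • φ = φ := by
      intro φ hφ
      have h1 := Equiv.ext_iff.mp hg ⟨φ, hφ⟩
      have h2 := congrArg Subtype.val h1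
      simpa [f] using h2
    have hterm : ∀ φ : B →* ℂˣ, proj V (g • φ) = proj V φ := by
      intro φ
      by_cases h : proj V φ = 0
      · rw [hsm, h, Matrix.mul_zero, Matrix.zero_mul]
      · rw [hfix φ h]
    have hb : ∀ b : B, M (g * b * g⁻¹) = M b := by
      intro b
      have h1 : M (g * b * g⁻¹) = M g * V b * M g⁻¹ := by
        simp [V, map_mul]
      rw [h1, map_eq_sum_proj V b, Finset.mul_sum, Finset.sum_mul]
      have h2 : M (b : G) = V b := rfl
      rw [h2, map_eq_sum_proj V b]
      refine Finset.sum_congr rfl (fun φ _ => ?_)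
      rw [Matrix.mul_smul, Matrix.smul_mul, ← hsm, hterm]
    rw [Subgroup.mem_centralizer_iff]
    intro b hb'
    have h3 := hinj (hb ⟨b, hb'⟩)
    simp only at h3
    calc b * g = (g * b * g⁻¹) * g := by rw [h3]
      _ = g * b := by group
  have h1 : (Subgroup.centralizer (B : Set G)).index ∣ f.ker.index := Subgroup.index_dvd_of_le hker
  have h2 : f.ker.index ∣ (Nat.card Λ).factorial := by
    rw [Subgroup.index_ker, ← Nat.card_perm]
    exact Subgroup.card_subgroup_dvd_card _
  have h3 : Nat.card Λ ≤ Fintype.card ι := by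
    have h4 : Nat.card Λ = (Finset.univ.filter (fun φ : B →* ℂˣ => proj V φ ≠ 0)).card := by
      rw [← Fintype.card_subtype, ← Nat.card_eq_fintype_card]
      rfl
    rw [h4]
    exact card_filter_proj_ne_zero_le V
  exact h1.trans (h2.trans (Nat.factorial_dvd_factorial h3))

end concrete

end Cfsg.Agent.CharLib.Jordan
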