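import Mathlib
import Cfsg.Agent.Lib.Lead.Jordan5
import Cfsg.Agent.Lib.Helper10.PGroupBasic

/-!
lead: assembling the explicit Jordan bound `n! * 12 ^ (n * (π(n+1) + 1))` from the Frobenius bound (abelian
subgroups), Blichfeldt's abelian Hall subgroup and the `n!` bound for `p`-subgroups.
-/

set_option autoImplicit false

namespace Cfsg.Agent.CharLib.Jordan

open Matrix

section arith

theorem prod_pow_factorization_of_subset {m : ℕ} (hm : m ≠ 0) (S : Finset ℕ) (hS : m.primeFactors ⊆ S) :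
    ∏ r ∈ S, r ^ m.factorization r = m := by
  conv_rhs => rw [← Nat.factorization_prod_pow_eq_self hm]
  rw [Nat.prod_factorization_eq_prod_primeFactors]
  symm
  apply Finset.prod_subset hS
  intro r _ hr
  have : m.factorization r = 0 := by
    rw [← Finsupp.notMem_support_iff, Nat.support_factorization]
    exact hr
  rw [this, pow_zero]

theorem card_primes_le (n : ℕ) :
    ((Finset.range (n + 2)).filter Nat.Prime).card = Nat.primeCounting (n + 1) := by
  unfold Nat.primeCounting Nat.primeCounting'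
  rw [Nat.count_eq_card_filter_range]

/-- The arithmetic heart of the bound. -/
theorem le_of_local_bounds (n N a m : ℕ) (hN : N = a * m) (hm : m ≠ 0) (ha0 : a ≠ 0) (ha : a ≤ 12 ^ n)
    (hmp : ∀ r, r.Prime → r ∣ m → r ≤ n + 1)
    (hloc : ∀ r, r.Prime → r ^ N.factorization r ≤ 12 ^ n * r ^ (n.factorial).factorization r) :
    N ≤ n.factorial * 12 ^ (n * (Nat.primeCounting (n + 1) + 1)) := by
  set S := (Finset.range (n + 2)).filter Nat.Prime with hS
  have hSp : ∀ r ∈ S, r.Prime := fun r hr => (Finset.mem_filter.mp hr).2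
  have hmS : m.primeFactors ⊆ S := by
    intro r hr
    rw [Nat.mem_primeFactors] at hr
    rw [hS, Finset.mem_filter, Finset.mem_range]
    exact ⟨by have := hmp r hr.1 hr.2.1; omega, hr.1⟩
  have hfS : (n.factorial).primeFactors ⊆ S := by
    intro r hr
    rw [Nat.mem_primeFactors] at hr
    rw [hS, Finset.mem_filter, Finset.mem_range]
    have := (Nat.Prime.dvd_factorial hr.1).mp hr.2.1
    exact ⟨by omega, hr.1⟩
  have h1 : ∏ r ∈ S, r ^ m.factorization r = m := prod_pow_factorization_of_subset hm S hmS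
  have h2 : ∏ r ∈ S, r ^ (n.factorial).factorization r = n.factorial :=
    prod_pow_factorization_of_subset (Nat.factorial_ne_zero n) S hfS
  have h3 : m ≤ ∏ r ∈ S, (12 ^ n * r ^ (n.factorial).factorization r) := by
    conv_lhs => rw [← h1]
    apply Finset.prod_le_prod'
    intro r hr
    refine le_trans ?_ (hloc r (hSp r hr))
    apply Nat.pow_le_pow_right (hSp r hr).pos
    rw [hN, Nat.factorization_mul ha0 hm]
    simp
  rw [Finset.prod_mul_distrib, h2, Finset.prod_const, card_primes_le] at h3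
  calc N = a * m := hN
    _ ≤ 12 ^ n * ((12 ^ n) ^ Nat.primeCounting (n + 1) * n.factorial) := Nat.mul_le_mul ha h3
    _ = n.factorial * 12 ^ (n * (Nat.primeCounting (n + 1) + 1)) := by
      rw [mul_add, mul_one, pow_add, pow_mul]
      ring

end arith

section group

variable {G : Type*} [Group G] [Finite G]

/-- local bound at a prime `r` -/
theorem local_bound (n r : ℕ) (hr : r.Prime) (A : Subgroup G) [A.Normal]
    (hA : ∀ H : Subgroup G, (∀ x ∈ H, ∀ y ∈ H, x * y = y * x) → A.relIndex H ≤ 12 ^ n)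
    (R : Subgroup G) (hR : IsPGroup r R) (hRi : ¬ r ∣ R.index)
    (B : Subgroup G) (hBR : B ≤ R) (hB : ∀ x ∈ B, ∀ y ∈ B, x * y = y * x)
    (hBi : B.relIndex R ∣ n.factorial) :
    r ^ A.index.factorization r ≤ 12 ^ n * r ^ (n.factorial).factorization r := by
  haveI := Fact.mk hr
  -- `r ^ v_r(A.index)` divides `A.relIndex R`
  have h1 : A.index = A.relIndex R * (R ⊔ A).index := by
    rw [← Subgroup.relIndex_sup_right R A]
    exact (Subgroup.relIndex_mul_index le_sup_right).symm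
  have h2 : (R ⊔ A).index ∣ R.index := Subgroup.index_dvd_of_le le_sup_left
  have h3 : ¬ r ∣ (R ⊔ A).index := fun h => hRi (h.trans h2)
  have h4 : r ^ A.index.factorization r ∣ A.relIndex R := by
    have h5 : r ^ A.index.factorization r ∣ A.relIndex R * (R ⊔ A).index := by
      rw [← h1]
      exact Nat.ordProj_dvd _ _
    refine Nat.Coprime.dvd_of_dvd_mul_right ?_ h5
    exact Nat.Coprime.pow_left _ ((Nat.Prime.coprime_iff_not_dvd hr).mpr h3)
  have hne : ∀ K L : Subgroup G, K.relIndex L ≠ 0 := fun K L => by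
    unfold Subgroup.relIndex
    exact Subgroup.index_ne_zero_of_finite
  have h6 : A.relIndex R ∣ (A ⊓ B).relIndex R := Subgroup.relIndex_dvd_of_le_left R inf_le_left
  have h7 : (A ⊓ B).relIndex R = A.relIndex B * B.relIndex R := by
    rw [← Subgroup.relIndex_mul_relIndex (A ⊓ B) B R inf_le_right hBR, Subgroup.inf_relIndex_right]
  -- `B.relIndex R` is a power of `r` dividing `n!`
  have h8 : B.relIndex R ∣ r ^ (n.factorial).factorization r := by
    obtain ⟨k, hk⟩ := IsPGroup.iff_card.mp hR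
    have h9 : B.relIndex R ∣ r ^ k := hk ▸ Subgroup.relIndex_dvd_card B R
    obtain ⟨j, _, hj⟩ := (Nat.dvd_prime_pow hr).mp h9
    rw [hj] at hBi ⊢
    exact Nat.pow_dvd_pow r ((Nat.Prime.pow_dvd_iff_le_factorization hr (Nat.factorial_ne_zero n)).mp hBi)
  calc r ^ A.index.factorization r ≤ A.relIndex R := Nat.le_of_dvd (Nat.pos_of_ne_zero (hne _ _)) h4
    _ ≤ (A ⊓ B).relIndex R := Nat.le_of_dvd (Nat.pos_of_ne_zero (hne _ _)) h6
    _ = A.relIndex B * B.relIndex R := h7
    _ ≤ 12 ^ n * r ^ (n.factorial).factorization r :=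
      Nat.mul_le_mul (hA B hB) (Nat.le_of_dvd (pow_pos hr.pos _) h8)

theorem index_le_of_hall_sylow (n : ℕ) (A : Subgroup G) [A.Normal]
    (hA : ∀ H : Subgroup G, (∀ x ∈ H, ∀ y ∈ H, x * y = y * x) → A.relIndex H ≤ 12 ^ n)
    (H₀ : Subgroup G) (hH₀ : ∀ x ∈ H₀, ∀ y ∈ H₀, x * y = y * x)
    (hH₀i : ∀ s : ℕ, s.Prime → s ∣ H₀.index → s ≤ n + 1)
    (hsyl : ∀ r : ℕ, r.Prime → ∃ R : Subgroup G, IsPGroup r R ∧ ¬ r ∣ R.index ∧
      ∃ B : Subgroup G, B ≤ R ∧ (∀ x ∈ B, ∀ y ∈ B, x * y = y * x) ∧ B.relIndex R ∣ n.factorial) :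
    A.index ≤ n.factorial * 12 ^ (n * (Nat.primeCounting (n + 1) + 1)) := by
  have hne : ∀ K L : Subgroup G, K.relIndex L ≠ 0 := fun K L => by
    unfold Subgroup.relIndex
    exact Subgroup.index_ne_zero_of_finite
  have h1 : A.index = A.relIndex H₀ * (H₀ ⊔ A).index := by
    rw [← Subgroup.relIndex_sup_right H₀ A]
    exact (Subgroup.relIndex_mul_index le_sup_right).symm
  have h2 : (H₀ ⊔ A).index ∣ H₀.index := Subgroup.index_dvd_of_le le_sup_left
  refine le_of_local_bounds n A.index (A.relIndex H₀) (H₀ ⊔ A).index h1 Subgroup.index_ne_zero_of_finite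
    (hne _ _) (hA H₀ hH₀) (fun r hr hd => hH₀i r hr (hd.trans h2)) ?_
  intro r hr
  obtain ⟨R, hR, hRi, B, hBR, hB, hBi⟩ := hsyl r hr
  exact local_bound n r hr A hA R hR hRi B hBR hB hBi

variable {ι : Type*} [Fintype ι] [DecidableEq ι]

theorem exists_abelian_relIndex_dvd_factorial (M : G →* Matrix ι ι ℂ) (hinj : Function.Injective M)
    (r : ℕ) [Fact r.Prime] (R : Subgroup G) (hR : IsPGroup r R) :
    ∃ B : Subgroup G, B ≤ R ∧ (∀ x ∈ B, ∀ y ∈ B, x * y = y * x) ∧
      B.relIndex R ∣ (Fintype.card ι).factorial := by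
  obtain ⟨A₀, hA₀n, hA₀c, hA₀cent⟩ :=
    Cfsg.Agent.Lib.Helper10.exists_normal_abelian_self_centralizing (R := ↥R) r hR
  have hcomm : ∀ x ∈ A₀, ∀ y ∈ A₀, x * y = y * x := by
    intro x hx y hy
    have := hA₀c.is_comm.comm ⟨x, hx⟩ ⟨y, hy⟩
    exact congrArg Subtype.val this
  have h1 := index_centralizer_dvd_factorial (M.comp R.subtype)
    (hinj.comp R.subtype_injective) A₀ hcomm
  rw [hA₀cent] at h1
  refine ⟨A₀.map R.subtype, ?_, ?_, ?_⟩
  · rintro _ ⟨x, _, rfl⟩
    exact x.2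
  · rintro _ ⟨x, hx, rfl⟩ _ ⟨y, hy, rfl⟩
    rw [← map_mul, ← map_mul, hcomm x hx y hy]
  · unfold Subgroup.relIndex Subgroup.subgroupOf
    rw [Subgroup.comap_map_eq_self_of_injective R.subtype_injective]
    exact h1

/-- **Jordan's theorem with an explicit bound** (matrix form). -/
theorem exists_abelian_normal_index_le_explicit (M : G →* Matrix ι ι ℂ) (hinj : Function.Injective M)
    (H₀ : Subgroup G) (hH₀ : ∀ x ∈ H₀, ∀ y ∈ H₀, x * y = y * x)
    (hH₀i : ∀ s : ℕ, s.Prime → s ∣ H₀.index → s ≤ Fintype.card ι + 1) :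
    ∃ A : Subgroup G, A.Normal ∧ (∀ x ∈ A, ∀ y ∈ A, x * y = y * x) ∧
      A.index ≤ (Fintype.card ι).factorial *
        12 ^ (Fintype.card ι * (Nat.primeCounting (Fintype.card ι + 1) + 1)) := by
  obtain ⟨A, hA1, hA2, hA3⟩ := exists_abelian_normal_index_le M hinj
  refine ⟨A, hA1, hA2, ?_⟩
  refine index_le_of_hall_sylow (Fintype.card ι) A hA3 H₀ hH₀ hH₀i ?_
  intro r hr
  haveI := Fact.mk hr
  obtain ⟨R⟩ : Nonempty (Sylow r G) := inferInstance
  refine ⟨R, R.isPGroup', R.not_dvd_index, ?_⟩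
  exact exists_abelian_relIndex_dvd_factorial M hinj r R R.isPGroup'

end group

end Cfsg.Agent.CharLib.Jordan
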