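import Mathlib
import Cfsg.Agent.Lib.Lead.KleinSqrt2
import Cfsg.Agent.Lib.Helper13.TwoGroupModels

/-!
lead: S4480 — the Klein four order formula in the case `ε₁ ε₂ ε₃ = -1`, `ε₃ = -1`.
-/

set_option autoImplicit false

namespace Cfsg.Agent.CharLib

open Cfsg Cfsg.Agent.Lib.Helper24 Cfsg.Agent.Lib.Helper6
open scoped ComplexConjugate

universe u

/-- The arithmetic at the end of S4480. -/
theorem klein_neg_arith (N cJ cP x q : ℕ) (hx : x % 4 = 1) (hq : q = 2 * x + 1) (hcP : 0 < cP)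
    (hcJ : 0 < cJ) (hdvd1 : cP ∣ cJ) (hdvd2 : cJ ∣ N)
    (hform : N * (x + 1) ^ 2 * cP ^ 2 = 4 * x * q * cJ ^ 3) :
    ∃ m : ℕ, 4 * cJ = m * cP * (q + 1) ∧ 8 * N = m ^ 3 * cP * (q ^ 3 - q) := by
  obtain ⟨k, rfl⟩ := hdvd1
  obtain ⟨n, rfl⟩ := hdvd2
  obtain ⟨j, rfl⟩ : ∃ j, x = 4 * j + 1 := ⟨x / 4, by omega⟩
  subst hq
  have hk : 0 < k := Nat.pos_of_mul_pos_left hcJ
  set Q := 2 * j + 1 with hQ
  have h1 : n * Q ^ 2 = (4 * j + 1) * (2 * (4 * j + 1) + 1) * k ^ 2 := by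
    have h2 : (cP ^ 3 * k * 4) * (n * Q ^ 2) =
        (cP ^ 3 * k * 4) * ((4 * j + 1) * (2 * (4 * j + 1) + 1) * k ^ 2) := by
      rw [hQ]
      nlinarith [hform]
    have hpos : 0 < cP ^ 3 * k * 4 := by positivity
    exact Nat.eq_of_mul_eq_mul_left hpos h2
  have hc1 : Nat.Coprime Q (4 * j + 1) := by
    rw [← Nat.isCoprime_iff_coprime]
    refine ⟨2, -1, ?_⟩
    rw [hQ]; push_cast; ring
  have hc2 : Nat.Coprime Q (2 * (4 * j + 1) + 1) := by
    rw [← Nat.isCoprime_iff_coprime]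
    refine ⟨4, -1, ?_⟩
    rw [hQ]; push_cast; ring
  have hc3 : Nat.Coprime (Q ^ 2) ((4 * j + 1) * (2 * (4 * j + 1) + 1)) :=
    Nat.Coprime.pow_left 2 (Nat.Coprime.mul_right hc1 hc2)
  have hd : Q ^ 2 ∣ k ^ 2 := by
    apply hc3.dvd_of_dvd_mul_left
    rw [← h1]
    exact Dvd.intro_left _ rfl
  have hd' : Q ∣ k := (Nat.pow_dvd_pow_iff two_ne_zero).mp hd
  obtain ⟨m, rfl⟩ := hd'
  have hQpos : 0 < Q := by rw [hQ]; omega
  have hn : n = (4 * j + 1) * (2 * (4 * j + 1) + 1) * m ^ 2 := by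
    have h2 : Q ^ 2 * n = Q ^ 2 * ((4 * j + 1) * (2 * (4 * j + 1) + 1) * m ^ 2) := by
      nlinarith [h1]
    exact Nat.eq_of_mul_eq_mul_left (by positivity) h2
  refine ⟨m, ?_, ?_⟩
  · rw [hQ]; ring
  · have hsub : (2 * (4 * j + 1) + 1) ^ 3 - (2 * (4 * j + 1) + 1) =
        8 * Q * (4 * j + 1) * (2 * (4 * j + 1) + 1) := by
      apply Nat.sub_eq_of_eq_add
      rw [hQ]; ring
    rw [hsub, hn, hQ]
    ring

section main

variable {G : Type u} [Group G] [Finite G]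

/-- With a Klein four Sylow 2-subgroup no element squares into the section `J K`. -/
theorem klein_no_sqrt (P : Sylow 2 G) (hP : IsKleinFour (P : Subgroup G)) (J : G)
    (hJ2 : orderOf J = 2) (h c : G) (hcJ : c * J = J * c) (hodd : Odd (orderOf c)) :
    h * h ≠ J * c := by
  haveI : Fact (Nat.Prime 2) := ⟨Nat.prime_two⟩
  intro hh
  have hJJ : J ^ 2 = 1 := by rw [← hJ2]; exact pow_orderOf_eq_one J
  have hJ1 : J ≠ 1 := by
    intro h1
    rw [h1, orderOf_one] at hJ2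
    norm_num at hJ2
  set o := orderOf c with ho
  obtain ⟨r, hr⟩ := hodd
  have hJo : J ^ o = J := by
    rw [hr, pow_succ, pow_mul, hJJ, one_pow, one_mul]
  have h1 : (h * h) ^ o = J := by
    rw [hh, (Commute.symm (show Commute c J from hcJ)).mul_pow, hJo, ho, pow_orderOf_eq_one,
      mul_one]
  set h' := h ^ o with hh'
  have h2 : h' ^ 2 = J := by
    rw [hh', ← pow_mul, mul_comm, pow_mul, pow_two, h1]
  have h3 : h' ^ 2 ^ (1 + 1) = 1 := by
    have : (2 : ℕ) ^ (1 + 1) = 2 * 2 := by norm_num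
    rw [this, pow_mul, h2, hJJ]
  have h4 : ¬ h' ^ 2 ^ 1 = 1 := by
    rw [pow_one, h2]; exact hJ1
  have hord : orderOf h' = 2 ^ (1 + 1) := orderOf_eq_prime_pow h4 h3
  obtain ⟨t, ht⟩ := Cfsg.Agent.Lib.Helper13.exists_conj_mem_sylow P (Subgroup.zpowers h')
    (Cfsg.Agent.Lib.Helper13.isPGroup_zpowers_of_orderOf 2 (1 + 1) h' hord)
  have hmem : t * h' * t⁻¹ ∈ (P : Subgroup G) := ht h' (Subgroup.mem_zpowers h')
  have hsq : (t * h' * t⁻¹) * (t * h' * t⁻¹) = 1 := by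
    by_cases h5 : t * h' * t⁻¹ = 1
    · rw [h5, one_mul]
    · have := Cfsg.Agent.Lib.Helper2.klein_orderOf P hP hmem h5
      rw [← pow_two, ← this]; exact pow_orderOf_eq_one _
  have h6 : h' ^ 2 = 1 := by
    have e : (t * h' * t⁻¹) * (t * h' * t⁻¹) = t * (h' ^ 2) * t⁻¹ := by
      rw [pow_two]; group
    rw [e] at hsq
    calc h' ^ 2 = t⁻¹ * (t * (h' ^ 2) * t⁻¹) * t := by group
      _ = 1 := by rw [hsq]; group
  rw [h2] at h6
  exact hJ1 h6

end main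

end Cfsg.Agent.CharLib
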