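import Mathlib
import Cfsg.Agent.Lib.Lead.KleinSqrt3
import Cfsg.Agent.Lib.Lead.RealOddBlock

/-!
lead: S4480 — the Klein four order formula in the case `ε₁ ε₂ ε₃ = -1`, `ε₃ = -1`: main proof.
-/

set_option autoImplicit false

namespace Cfsg.Agent.CharLib

open Cfsg Cfsg.Agent.Lib.Helper24 Cfsg.Agent.Lib.Helper6
open scoped ComplexConjugate

universe u

section main

variable {G : Type u} [Group G] [Finite G]

/-- The sum of Frobenius–Schur indicators against the values at `J` over the principal block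
vanishes when the Sylow 2-subgroup is a four-group. -/
theorem klein_sum_fsInd [Fintype G] (M : Ideal AlgInt) (hM : IsPModular 2 M) (P : Sylow 2 G)
    (hP : IsKleinFour (P : Subgroup G)) (J : G) (hJ : J ∈ (P : Subgroup G))
    (hJ2 : orderOf J = 2) :
    ∑ᶠ χ ∈ principalBlock M G, conj (fsInd (χ : G → ℂ)) * (χ : G → ℂ) J = 0 := by
  classical
  haveI : Fact (Nat.Prime 2) := ⟨Nat.prime_two⟩
  have hJ1 : J ≠ 1 := by
    intro h
    rw [h, orderOf_one] at hJ2
    norm_num at hJ2
  have hk := exists_index_pPrimeCore_centralizer_klein P hP J hJ hJ1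
  have hsec := sum_sqrtFun_section hM J ⟨1, by rw [hJ2, pow_one]⟩ hk
  have hcnt := sum_sqrtFun_eq_count J (Subgroup.centralizer ({J} : Set G))
    (pPrimeCore 2 (Subgroup.centralizer ({J} : Set G)))
  set C := Subgroup.centralizer ({J} : Set G) with hC
  set K := pPrimeCore 2 C with hK
  have hzero : ∑ h : G, (if ∃ k ∈ K.map C.subtype, h * h = J * k then (1 : ℂ) else 0) = 0 := by
    apply Finset.sum_eq_zero
    intro h _
    rw [if_neg]
    rintro ⟨k, hk', hh⟩
    obtain ⟨c, hc, rfl⟩ := Subgroup.mem_map.mp hk'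
    have hcJ : (c : G) * J = J * (c : G) := by
      have h0 : (c : G) ∈ Subgroup.centralizer ({J} : Set G) := c.2
      rw [Subgroup.mem_centralizer_iff] at h0
      exact (h0 J rfl).symm
    have hcop : (Nat.card K).Coprime 2 := Cfsg.Agent.Lib.Helper12.pPrimeCore_coprime 2
    have hodd : Odd (orderOf (c : G)) := by
      have h1 : orderOf (c : G) ∣ Nat.card K := by
        have : orderOf (⟨c, hc⟩ : K) ∣ Nat.card K := orderOf_dvd_natCard _
        rwa [← Subgroup.orderOf_coe, ← Subgroup.orderOf_coe] at this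
      have h2 : (orderOf (c : G)).Coprime 2 := Nat.Coprime.coprime_dvd_left h1 hcop
      exact Nat.Coprime.odd_of_right h2
    exact klein_no_sqrt P hP J hJ2 h (c : G) hcJ hodd hh
  rw [hcnt, hzero] at hsec
  have hKne : (Nat.card K : ℂ) ≠ 0 := by
    exact_mod_cast (Nat.card_pos (α := K)).ne'
  exact (mul_eq_zero.mp hsec.symm).resolve_left hKne

end main

end Cfsg.Agent.CharLib
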