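import Mathlib
import Cfsg.Agent.Lib.Lead.KleinSqrt4
import Cfsg.Agent.Lib.Lead.KleinBlock4

/-!
lead: S4480 — assembly.
-/

set_option autoImplicit false

namespace Cfsg.Agent.CharLib

open Cfsg Cfsg.Agent.Lib.Helper24 Cfsg.Agent.Lib.Helper6
open scoped ComplexConjugate

universe u

section main

variable {G : Type u} [Group G] [Finite G]

theorem fsInd_trivIrr [Fintype G] : fsInd ((trivIrr G : IrrCharacter G) : G → ℂ) = 1 := by
  unfold fsInd
  have h : ∀ s : G, ((trivIrr G : IrrCharacter G) : G → ℂ) (s * s) = 1 := fun s => rfl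
  rw [Finset.sum_congr rfl (fun s _ => h s), Finset.sum_const, Finset.card_univ, nsmul_eq_mul,
    mul_one, Nat.card_eq_fintype_card]
  have : (Fintype.card G : ℂ) ≠ 0 := by
    exact_mod_cast Fintype.card_ne_zero
  field_simp

/-- **Brauer**: the Klein four order formula in the case `ε₁ ε₂ ε₃ = -1`, `ε₃ = -1` (S4480). -/
theorem klein_order_formula_neg (M : Ideal AlgInt) (hM : IsPModular 2 M) (g₀ : ℕ) (hg₀ : Odd g₀)
    (hG : Nat.card G = 4 * g₀) (hnc : ¬ ∃ N : Subgroup G, N.Normal ∧ Nat.card N = g₀)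
    (P : Sylow 2 G) (J : G) (hJ : J ∈ (P : Subgroup G)) (hJ2 : orderOf J = 2)
    (χ₁ χ₂ χ₃ : IrrCharacter G) (ε₁ ε₂ ε₃ : ℤ)
    (hB : principalBlock M G =
      {χ : IrrCharacter G | (χ : G → ℂ) = (fun _ => 1) ∨ χ = χ₁ ∨ χ = χ₂ ∨ χ = χ₃})
    (hdist : (χ₁ : G → ℂ) ≠ (fun _ => 1) ∧ (χ₂ : G → ℂ) ≠ (fun _ => 1) ∧
      (χ₃ : G → ℂ) ≠ (fun _ => 1) ∧ χ₁ ≠ χ₂ ∧ χ₁ ≠ χ₃ ∧ χ₂ ≠ χ₃)
    (hε : (ε₁ = 1 ∨ ε₁ = -1) ∧ (ε₂ = 1 ∨ ε₂ = -1) ∧ (ε₃ = 1 ∨ ε₃ = -1))
    (hval : (χ₁ : G → ℂ) J = ε₁ ∧ (χ₂ : G → ℂ) J = ε₂ ∧ (χ₃ : G → ℂ) J = ε₃)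
    (hprod : ε₁ * ε₂ * ε₃ = -1) (hε₃ : ε₃ = -1) :
    ∃ m : ℕ, 4 * Nat.card (Subgroup.centralizer ({J} : Set G)) =
        m * Nat.card (Subgroup.centralizer ((P : Subgroup G) : Set G)) *
          (charDegree (χ₃ : G → ℂ) + 1) ∧
      8 * Nat.card G = m ^ 3 * Nat.card (Subgroup.centralizer ((P : Subgroup G) : Set G)) *
        (charDegree (χ₃ : G → ℂ) ^ 3 - charDegree (χ₃ : G → ℂ)) := by
  classical
  haveI : Fact (Nat.Prime 2) := ⟨Nat.prime_two⟩
  let _ : Fintype G := Fintype.ofFinite G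
  let _ : Fintype (IrrCharacter G) := Fintype.ofFinite _
  have hP := ko_isKleinFour g₀ hg₀ hG hnc P
  have hJ1 : J ≠ 1 := by
    intro h
    rw [h, orderOf_one] at hJ2
    norm_num at hJ2
  have hone : ∀ s t : G, orderOf s = 2 → orderOf t = 2 → IsConj s t :=
    fun s t hs ht => ko_invol_conj g₀ hg₀ hG hnc P s t hs ht
  obtain ⟨a, b, c, ε, hε', ha1, hb1, hc1, hab, hac, hbc, hmem, haz, hbz, hcz, h4a, h4b, h4c, hrel⟩ :=
    klein_principal_block_aux hM P hP hone J hJ hJ1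
  have hform := klein_order_formula M hM g₀ hg₀ hG hnc P J hJ hJ2 χ₁ χ₂ χ₃ ε₁ ε₂ ε₃ hB hdist hε hval
  have htriv : ∀ χ : IrrCharacter G, (χ : G → ℂ) = (fun _ => 1) ↔ χ = trivIrr G := by
    intro χ
    constructor
    · intro h; exact Subtype.ext h
    · intro h; rw [h]; rfl
  -- membership in the block via `hB`
  have hmemB : ∀ χ : IrrCharacter G, χ ∈ principalBlock M G → χ ≠ trivIrr G →
      χ = χ₁ ∨ χ = χ₂ ∨ χ = χ₃ := by
    intro χ hχ hne
    rw [hB] at hχ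
    rcases hχ with h | h
    · exact absurd ((htriv χ).mp h) hne
    · exact h
  have haB : a ∈ principalBlock M G := (hmem a).mpr (Or.inr (Or.inl rfl))
  have hbB : b ∈ principalBlock M G := (hmem b).mpr (Or.inr (Or.inr (Or.inl rfl)))
  have hcB : c ∈ principalBlock M G := (hmem c).mpr (Or.inr (Or.inr (Or.inr rfl)))
  have hχ₁B : χ₁ ∈ principalBlock M G := by rw [hB]; exact Or.inr (Or.inl rfl)
  have hχ₂B : χ₂ ∈ principalBlock M G := by rw [hB]; exact Or.inr (Or.inr (Or.inl rfl))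
  have hχ₃B : χ₃ ∈ principalBlock M G := by rw [hB]; exact Or.inr (Or.inr (Or.inr rfl))
  obtain ⟨hv1, hv2, hv3⟩ := hval
  -- signs
  have h12 : ε₁ = 1 ∧ ε₂ = 1 := by
    rw [hε₃] at hprod
    rcases hε.1 with h1 | h1 <;> rcases hε.2.1 with h2 | h2
    · exact ⟨h1, h2⟩
    · rw [h1, h2] at hprod; norm_num at hprod
    · rw [h1, h2] at hprod; norm_num at hprod
    · exfalso
      rcases hmemB a haB ha1 with h | h | h
      · rw [h, hv1, h1] at haz; norm_num at haz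
      · rw [h, hv2, h2] at haz; norm_num at haz
      · rw [h, hv3, hε₃] at haz; norm_num at haz
  obtain ⟨he1, he2⟩ := h12
  rw [he1] at hv1
  rw [he2] at hv2
  rw [hε₃] at hv3
  simp only [Int.cast_one, Int.cast_neg] at hv1 hv2 hv3
  -- `c = χ₃`
  have hc3 : c = χ₃ := by
    rcases hmemB c hcB hc1 with h | h | h
    · rw [h, hv1] at hcz; norm_num at hcz
    · rw [h, hv2] at hcz; norm_num at hcz
    · exact h
  -- `{a, b} = {χ₁, χ₂}`
  have ha12 : a = χ₁ ∨ a = χ₂ := by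
    rcases hmemB a haB ha1 with h | h | h
    · exact Or.inl h
    · exact Or.inr h
    · exact absurd (h.trans hc3.symm) hac
  have hb12 : b = χ₁ ∨ b = χ₂ := by
    rcases hmemB b hbB hb1 with h | h | h
    · exact Or.inl h
    · exact Or.inr h
    · exact absurd (h.trans hc3.symm) hbc
  have hε1 : ε = 1 := by
    rcases hb12 with h | h
    · rw [h, hv1] at hbz
      exact_mod_cast hbz.symm
    · rw [h, hv2] at hbz
      exact_mod_cast hbz.symm
  -- degrees
  obtain ⟨d₁, hd₁pos, hd₁⟩ := IsIrrCharacter.apply_one_pos χ₁.2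
  obtain ⟨d₂, hd₂pos, hd₂⟩ := IsIrrCharacter.apply_one_pos χ₂.2
  obtain ⟨d₃, hd₃pos, hd₃⟩ := IsIrrCharacter.apply_one_pos χ₃.2
  have hcd₁ := charDegree_eq_of_apply_one hd₁
  have hcd₂ := charDegree_eq_of_apply_one hd₂
  have hcd₃ := charDegree_eq_of_apply_one hd₃
  -- oddness of degrees
  have hodd₁ : d₁ % 4 = 1 := by
    rcases ha12 with h | h
    · rw [h, hcd₁] at h4a; omega
    · rcases hb12 with h' | h'
      · rw [h', hcd₁, hε1] at h4b; omega
      · exact absurd (h.trans h'.symm) hab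
  have hodd₂ : d₂ % 4 = 1 := by
    rcases ha12 with h | h
    · rcases hb12 with h' | h'
      · exact absurd (h.trans h'.symm) hab
      · rw [h', hcd₂, hε1] at h4b; omega
    · rw [h, hcd₂] at h4a; omega
  have hodd₃ : d₃ % 4 = 3 := by
    rw [hc3, hcd₃] at h4c; omega
  -- the degree relation
  have hdeg : d₃ = d₁ + d₂ + 1 := by
    have h1 := hrel 1 (by rw [orderOf_one]; exact odd_one)
    rw [hε1, hc3] at h1
    have h2 : (a : G → ℂ) 1 + (b : G → ℂ) 1 = (d₁ : ℂ) + (d₂ : ℂ) := by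
      rcases ha12 with h | h <;> rcases hb12 with h' | h'
      · exact absurd (h.trans h'.symm) hab
      · rw [h, h', hd₁, hd₂]
      · rw [h, h', hd₁, hd₂]; ring
      · exact absurd (h.trans h'.symm) hab
    have h3 : (d₃ : ℂ) = (d₁ : ℂ) + (d₂ : ℂ) + 1 := by
      rw [hd₃] at h1
      simp only [Int.cast_one, one_mul] at h1
      linear_combination (-1 : ℂ) * h1 + h2
    exact_mod_cast h3
  -- Frobenius–Schur
  have hfs := klein_sum_fsInd M hM P hP J hJ hJ2
  have hBfin : principalBlock M G = ↑({trivIrr G, χ₁, χ₂, χ₃} : Finset (IrrCharacter G)) := by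
    rw [hB]
    ext χ
    simp only [Set.mem_setOf_eq, Finset.coe_insert, Finset.coe_singleton, Set.mem_insert_iff,
      Set.mem_singleton_iff, htriv]
  have hn1 : trivIrr G ∉ ({χ₁, χ₂, χ₃} : Finset (IrrCharacter G)) := by
    simp only [Finset.mem_insert, Finset.mem_singleton, not_or]
    refine ⟨fun h => hdist.1 ((htriv χ₁).mpr h.symm), fun h => hdist.2.1 ((htriv χ₂).mpr h.symm),
      fun h => hdist.2.2.1 ((htriv χ₃).mpr h.symm)⟩
  have hn2 : χ₁ ∉ ({χ₂, χ₃} : Finset (IrrCharacter G)) := by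
    simp only [Finset.mem_insert, Finset.mem_singleton, not_or]
    exact ⟨hdist.2.2.2.1, hdist.2.2.2.2.1⟩
  have hn3 : χ₂ ∉ ({χ₃} : Finset (IrrCharacter G)) := by
    simp only [Finset.mem_singleton]
    exact hdist.2.2.2.2.2
  rw [hBfin, finsum_mem_coe_finset, Finset.sum_insert hn1, Finset.sum_insert hn2,
    Finset.sum_insert hn3, Finset.sum_singleton, conj_fsInd, conj_fsInd, conj_fsInd, conj_fsInd,
    fsInd_trivIrr, hv1, hv2, hv3] at hfs
  have htJ : ((trivIrr G : IrrCharacter G) : G → ℂ) J = 1 := rfl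
  rw [htJ] at hfs
  have hnot₁ : fsInd (χ₁ : G → ℂ) ≠ -1 := by
    intro h
    have := even_of_fsInd_neg_one χ₁ h
    rw [hcd₁] at this
    rcases this with ⟨r, hr⟩
    omega
  have hnot₂ : fsInd (χ₂ : G → ℂ) ≠ -1 := by
    intro h
    have := even_of_fsInd_neg_one χ₂ h
    rw [hcd₂] at this
    rcases this with ⟨r, hr⟩
    omega
  have hnot₃ : fsInd (χ₃ : G → ℂ) ≠ -1 := by
    intro h
    have := even_of_fsInd_neg_one χ₃ h
    rw [hcd₃] at this
    rcases this with ⟨r, hr⟩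
    omega
  have hν₁ : fsInd (χ₁ : G → ℂ) = 0 := by
    rcases fsInd_cases χ₁ with h1 | h1 | h1
    · exact h1
    · exfalso
      rcases fsInd_cases χ₂ with h2 | h2 | h2 <;> rcases fsInd_cases χ₃ with h3 | h3 | h3
      all_goals first
        | exact hnot₂ h2
        | exact hnot₃ h3
        | (rw [h1, h2, h3] at hfs; norm_num at hfs)
    · exact absurd h1 hnot₁
  -- `χ₂` is the complex conjugate of `χ₁`
  obtain ⟨s, hs⟩ := (fsInd_eq_zero_iff χ₁).mp hν₁
  have hcjB : cjIrr χ₁ ∈ principalBlock M G := (cjIrr_mem_principal_iff M χ₁).mpr hχ₁B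
  have hcj_apply : ∀ g : G, ((cjIrr χ₁ : IrrCharacter G) : G → ℂ) g = conj ((χ₁ : G → ℂ) g) :=
    fun g => rfl
  have hcj2 : cjIrr χ₁ = χ₂ := by
    have hne : cjIrr χ₁ ≠ trivIrr G := by
      intro h
      have h1 := hcj_apply s
      rw [h] at h1
      have h2 : ((trivIrr G : IrrCharacter G) : G → ℂ) s = 1 := rfl
      rw [h2] at h1
      have h3 : (χ₁ : G → ℂ) s = 1 := by
        have := congrArg conj h1
        rw [Complex.conj_conj, map_one] at this
        exact this.symm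
      rw [h3] at hs
      simp at hs
    rcases hmemB _ hcjB hne with h | h | h
    · exfalso
      have h1 := hcj_apply s
      rw [h] at h1
      exact hs (Complex.conj_eq_iff_im.mp h1.symm)
    · exact h
    · exfalso
      have h1 := hcj_apply J
      rw [h, hv3, hv1, map_one] at h1
      norm_num at h1
  have hd12 : d₂ = d₁ := by
    have h1 := hcj_apply 1
    rw [hcj2, hd₁, hd₂, Complex.conj_natCast] at h1
    exact_mod_cast h1
  -- arithmetic
  subst hd12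
  rw [hcd₃]
  rw [hcd₁, hcd₂, hcd₃, he1, he2, hε₃] at hform
  have hcP : 0 < Nat.card (Subgroup.centralizer ((P : Subgroup G) : Set G)) := Nat.card_pos
  have hcJ : 0 < Nat.card (Subgroup.centralizer ({J} : Set G)) := Nat.card_pos
  have hle : Subgroup.centralizer ((P : Subgroup G) : Set G) ≤ Subgroup.centralizer ({J} : Set G) := by
    apply Subgroup.centralizer_le
    intro x hx
    rw [Set.mem_singleton_iff] at hx
    rw [hx]
    exact hJ
  have hdvd1 := Subgroup.card_dvd_of_le hle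
  have hdvd2 : Nat.card (Subgroup.centralizer ({J} : Set G)) ∣ Nat.card G :=
    Subgroup.card_subgroup_dvd_card _
  apply klein_neg_arith (Nat.card G) _ _ d₂ d₃ hodd₂ (by omega) hcP hcJ hdvd1 hdvd2
  set cJ := Nat.card (Subgroup.centralizer ({J} : Set G)) with hcJdef
  set cP := Nat.card (Subgroup.centralizer ((P : Subgroup G) : Set G)) with hcPdef
  have hcPq : (cP : ℚ) ≠ 0 := by exact_mod_cast hcP.ne'
  have hd2q : (d₂ : ℚ) ≠ 0 := by exact_mod_cast hd₂pos.ne'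
  have hd3 : (d₃ : ℚ) = 2 * (d₂ : ℚ) + 1 := by
    rw [hdeg]; push_cast; ring
  have hQ : (Nat.card G : ℚ) * ((d₂ : ℚ) + 1) ^ 2 * (cP : ℚ) ^ 2 =
      4 * (d₂ : ℚ) * (d₃ : ℚ) * (cJ : ℚ) ^ 3 := by
    rw [hform]
    push_cast
    rw [hd3]
    have h1 : (2 * (d₂ : ℚ) + 1 + -1) = 2 * (d₂ : ℚ) := by ring
    rw [h1]
    have h2 : ((d₂ : ℚ) + 1) ≠ 0 := by positivity
    field_simp
    ring
  exact_mod_cast hQ

end main

end Cfsg.Agent.CharLib
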