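import Mathlib
import Cfsg.Agent.Lib.Lead.OEDefs
import Cfsg.Agent.Lib.Helper4.AschA1
import Cfsg.Agent.Lib.Helper20.AschTS
import Cfsg.Agent.Lib.Helper29.AschKF2
import Cfsg.Agent.Lib.Helper29.AschS1K1
import Cfsg.Agent.Lib.Helper17.OERed
import Cfsg.Agent.Lib.Helper20.OECLF
import Cfsg.Agent.Lib.Helper7.OEFld
import Cfsg.Agent.Lib.Helper25.OETns
import Cfsg.Agent.Lib.Helper24.OENil
import Cfsg.Agent.Lib.Helper13.OEPrf
import Cfsg.Agent.Lib.Helper13.OEDsc
import Cfsg.Agent.Lib.Helper13.OEUni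

/-!
OMEGA-EVEN, PART 1 (planner lead): the generic theorem `mainE` / `aschE n hn : AschE n` ("Aschbacher for the isometry group of a
non-degenerate quadratic form on F^n", all characteristics, n >= 3), assembled from the eight blocks
E-RED (helper17), E-CLF (helper20), E-FLD (helper7), E-TNS (helper25), E-NIL (helper24), E-PRF / E-DSC / E-UNI (helper13).
The assembly is the copy of helper29's S5662 assembly from `notes/OmEven_leaves.lean`.
-/

set_option autoImplicit false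
set_option linter.unusedSectionVars false
set_option linter.unusedVariables false

namespace Cfsg.Agent.Lib.Lead.OEMain
open Matrix Cfsg Cfsg.Geo Cfsg.Agent.Lib.Helper20.Asch Cfsg.Agent.Lib.Lead.OE
open scoped Kronecker

variable {F : Type*} [Field F] [Fintype F] {n : ℕ} {Q : (Fin n → F) → F}
  {H N : Subgroup (GL (Fin n) F)}

/-! ## blocks (helpers' modules) -/

theorem egeo_of_not_irr (h : ECtx Q H) (hn : 2 ≤ n) (hred : ¬ Irr H) : EGeo Q H :=
  Cfsg.Agent.Lib.Helper17.OELeaf.egeo_of_not_irr h hn hred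

theorem egeo_of_not_homog (h : ECtx Q H) (hn : 3 ≤ n) (hirr : Irr H) (hN : N ≤ H) (hnorm : NormBy H N)
    (hnh : ¬ Homog N) : EGeo Q H :=
  Cfsg.Agent.Lib.Helper20.OELeaf.egeo_of_not_homog h hn hirr hN hnorm hnh

theorem egeo_of_field (h : ECtx Q H) (hn : 3 ≤ n) (hirr : Irr H) (hN : N ≤ H) (hnorm : NormBy H N)
    (hhom : Homog N) (hZ : ¬ ∀ T ∈ ZCen N, ∃ c : F, T = c • (1 : Matrix (Fin n) (Fin n) F)) :
    EGeo Q H :=
  Cfsg.Agent.Lib.Helper7.OELeaf.egeo_of_field h hn hirr hN hnorm hhom hZ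

theorem egeo_of_tensor (h : ECtx Q H) (hn : 3 ≤ n) (hirr : Irr H) (hN : N ≤ H) (hnorm : NormBy H N)
    {s k : ℕ} (hs : 2 ≤ s) (hk : 2 ≤ k) (e : Fin n ≃ Fin s × Fin k) (P : GL (Fin n) F)
    (h1 : ∀ A : Matrix (Fin s) (Fin s) F, conjR e P (A ⊗ₖ (1 : Matrix (Fin k) (Fin k) F)) ∈ Env N)
    (h2 : ∀ T ∈ Env N, ∃ A : Matrix (Fin s) (Fin s) F,
      T = conjR e P (A ⊗ₖ (1 : Matrix (Fin k) (Fin k) F))) : EGeo Q H :=
  Cfsg.Agent.Lib.Helper25.OELeaf.egeo_of_tensor h hn hirr hN hnorm hs hk e P h1 h2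

theorem egeo_of_nilpotent (h : ECtx Q H) (hn : 3 ≤ n) (hirr : Irr H) (hqp : QP H) (hN : N ≤ H)
    (hnorm : NormBy H N) (hns : ¬ N ≤ scalars (Fin n) F)
    (hmin : ∀ M : Subgroup (GL (Fin n) F), M ≤ N → NormBy H M → M = N ∨ M ≤ scalars (Fin n) F)
    (hcomm : ⁅N, N⁆ ≤ scalars (Fin n) F) : EGeo Q H :=
  Cfsg.Agent.Lib.Helper24.OELeaf.egeo_of_nilpotent h hn hirr hqp hN hnorm hns hmin hcomm

theorem egeo_or_simple (h : ECtx Q H) (hn : 3 ≤ n) (hirr : Irr H) (hqp : QP H) (hN : N ≤ H)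
    (hnorm : NormBy H N) (hns : ¬ N ≤ scalars (Fin n) F)
    (hmin : ∀ M : Subgroup (GL (Fin n) F), M ≤ N → NormBy H M → M = N ∨ M ≤ scalars (Fin n) F)
    (hperf : ⁅N, N⁆ = N) :
    EGeo Q H ∨ IsSimpleGroup (N ⧸ (scalars (Fin n) F).subgroupOf N) :=
  Cfsg.Agent.Lib.Helper13.OELeaf.egeo_or_simple h hn hirr hqp hN hnorm hns hmin hperf

theorem egeo_of_realisable (h : ECtx Q H) (hn : 3 ≤ n) (hN : N ≤ H) (hnorm : NormBy H N)
    (habs : AbsIrr N) (F₀ : Subfield F) (hF₀ : F₀ ≠ ⊤) (hreal : RealisableOver F₀ (matrixSet N)) :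
    EGeo Q H :=
  Cfsg.Agent.Lib.Helper13.OELeaf.egeo_of_realisable h hn hN hnorm habs F₀ hF₀ hreal

theorem realisable_of_fixes_unitary (h : ECtx Q H) (hN : N ≤ H) (habs : AbsIrr N)
    (σ : F ≃+* F) (g : (Fin n → F) → (Fin n → F) → F) (hg : IsUnitaryForm σ g)
    (hfix : FixesForm (matrixSet N) g) :
    ∃ F₀ : Subfield F, F₀ ≠ ⊤ ∧ RealisableOver F₀ (matrixSet N) :=
  Cfsg.Agent.Lib.Helper13.OELeaf.realisable_of_fixes_unitary h hN habs σ g hg hfix

/-! ## assembly -/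

/-- every `H`-normal subgroup is scalar or absolutely irreducible -/
theorem egeo_or_qp (h : ECtx Q H) (hn : 3 ≤ n) (hirr : Irr H) : EGeo Q H ∨ QP H := by
  by_cases hgeo : EGeo Q H
  · exact Or.inl hgeo
  right
  intro N hN hnorm
  have hn0 : 0 < n := by omega
  have hhom : Homog N := by
    by_contra hnh
    exact hgeo (egeo_of_not_homog h hn hirr hN hnorm hnh)
  have hZ : ∀ T ∈ ZCen N, ∃ c : F, T = c • (1 : Matrix (Fin n) (Fin n) F) := by
    by_contra hZ
    exact hgeo (egeo_of_field h hn hirr hN hnorm hhom hZ)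
  obtain ⟨s, k, e, P, h1, h2⟩ := Cfsg.Agent.Lib.Helper20.AschLeaf.tensor_of_homog hn0 hhom hZ
  have hcard : n = s * k := by
    have := Fintype.card_congr e
    simpa using this
  rcases Nat.lt_or_ge s 2 with hs | hs
  · have hs1 : s = 1 := by
      rcases Nat.eq_zero_or_pos s with h0 | h0
      · subst h0; omega
      · omega
    subst hs1
    exact Or.inl (Cfsg.Agent.Lib.Helper29.AschLeaf.scalar_of_tensor_one e P h2)
  rcases Nat.lt_or_ge k 2 with hk | hk
  · have hk1 : k = 1 := by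
      rcases Nat.eq_zero_or_pos k with h0 | h0
      · subst h0; omega
      · omega
    subst hk1
    exact Or.inr (Cfsg.Agent.Lib.Helper29.AschLeaf.absIrr_of_tensor_one e P h1)
  exact absurd (egeo_of_tensor h hn hirr hN hnorm hs hk e P h1 h2) hgeo

/-- THE GENERIC THEOREM -/
theorem mainE (h : ECtx Q H) (hn : 3 ≤ n) : EGeo Q H ∨ InOrthogonalResidualClass H := by
  by_cases hgeo : EGeo Q H
  · exact Or.inl hgeo
  right
  have hirr : Irr H := by
    by_contra hred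
    exact hgeo (egeo_of_not_irr h (by omega) hred)
  have hqp : QP H := (egeo_or_qp h hn hirr).resolve_left hgeo
  obtain ⟨N, hN, hnorm, hns, hmin⟩ :=
    Cfsg.Agent.Lib.Helper4.AschLeaf.exists_min_normal (by omega) hirr
  have hNabs : AbsIrr N := (hqp N hN hnorm).resolve_left hns
  have hperf : ⁅N, N⁆ = N := by
    rcases hmin ⁅N, N⁆ (Subgroup.commutator_le.mpr (fun x hx y hy =>
      N.mul_mem (N.mul_mem (N.mul_mem hx hy) (N.inv_mem hx)) (N.inv_mem hy)))
      (Cfsg.Agent.Lib.Helper4.AschLeaf.normBy_commutator hnorm) with h' | h'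
    · exact h'
    · exact absurd (egeo_of_nilpotent h hn hirr hqp hN hnorm hns hmin h') hgeo
  have hsimple := (egeo_or_simple h hn hirr hqp hN hnorm hns hmin hperf).resolve_left hgeo
  refine ⟨N, ⟨hN, hnorm, hperf, hsimple, ?_, ?_, hNabs, ?_⟩, ?_⟩
  · -- nonabelian
    intro hab
    have h1 := (Subgroup.Normal.quotient_commutative_iff_commutator_le
      (N := (scalars (Fin n) F).subgroupOf N)).mp hab
    apply hns
    intro x hx
    have h2 : x ∈ ⁅N, N⁆ := by rw [hperf]; exact hx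
    rw [← Subgroup.map_subtype_commutator] at h2
    obtain ⟨y, hy, rfl⟩ := h2
    exact h1 hy
  · -- centralizer
    intro g _ hc
    exact Cfsg.Agent.Lib.Helper4.AschLeaf.scalar_of_centralizes_mod hNabs hperf g hc
  · -- no subfield
    intro F₀ hF₀ hreal
    exact hgeo (egeo_of_realisable h hn hN hnorm hNabs F₀ hF₀ hreal)
  · rintro ⟨σ, g, hg, hfix⟩
    obtain ⟨F₀, hF₀, hreal⟩ := realisable_of_fixes_unitary h hN hNabs σ g hg hfix
    exact hgeo (egeo_of_realisable h hn hN hnorm hNabs F₀ hF₀ hreal)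

theorem aschE (n : ℕ) (hn : 3 ≤ n) : AschE n := fun Q H h => mainE h hn

end Cfsg.Agent.Lib.Lead.OEMain
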