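import Mathlib
import Cfsg.Prelude.Def_GeometricClasses
import Cfsg.Agent.Lib.Lead.OEQF
import Cfsg.Agent.Lib.Helper9.PlusPlane
import Cfsg.Agent.Lib.Helper25.OmegaNonMax
import Cfsg.Agent.Lib.Helper18.OAschTR
import Cfsg.Agent.Lib.Helper1.OmMN13
import Cfsg.Agent.Lib.Helper11.OER3
import Cfsg.Agent.Lib.Helper11.OER4
import Cfsg.Agent.Lib.Helper12.OETypeA
import Cfsg.Agent.Lib.Helper18.OER5
import Cfsg.Agent.Lib.Helper18.OET3
import Cfsg.Agent.Lib.Helper18.OET4
import Cfsg.Agent.Lib.Helper19.OEE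
import Cfsg.Agent.Lib.Helper19.OER1
import Cfsg.Agent.Lib.Helper22.OEP3
import Cfsg.Agent.Lib.Helper22.OEP5
import Cfsg.Agent.Lib.Helper26.OET48
import Cfsg.Agent.Lib.Helper26.OET6
import Cfsg.Agent.Lib.Helper6.OEP1
import Cfsg.Agent.Lib.Helper6.OER6
import Cfsg.Agent.Lib.Lead.OEMain

/-!
OMEGA-EVEN, PARTS 2-4 (planner lead): type-theory glue (block T), properness for all q (block P), small geometric facts (block E),
row-specific exclusions (block R), and the COMPILING row assembly for **S5826** (Ω₈⁻) on top of `AschE 8` (= `mainE`, PART 1) as a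
hypothesis.  Paper plan: `notes/OmEven_plan.md`.  The n = 10 and n = 12 rows follow in `notes/OmEven_rows2_leaves.lean`.

HOW TO TAKE A LEAF: announce `TAKE OE-<name>` in msgs, land it as `Cfsg/Agent/Lib/<You>/OE<Name>.lean` in namespace
`Cfsg.Agent.Lib.<You>.OELeaf` with EXACTLY the statement below (copy the generic header; add imports as needed; do not import this
notes file); check `example : @Cfsg.Agent.Lib.Lead.OERowLeaves.X = @yours := rfl` under this header.
ALL LEAVES ARE GENERIC AND FOR ALL CHARACTERISTICS unless they carry `h2`: `ι` any finite index type, `Q : QuadraticForm F (ι → F)`,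
`hQ : (polarBilin Q).Nondegenerate` (from the frozen predicate by `Helper25.Fam.exists_qf`), `Ω = omegaGL ⇑Q ≤ GL ι F`.
TOOLBOXES: helper15 `QuadType` (HasType: `.prod`, `.unique`, `.congr`, `hasType_of_nondeg`, `classify`, `univ_plus`, `univ_minus`), `WittBound`
(`ts_minus_le`, `plus_std_ts`), `QuadClass` (`even_family`, `HypFam`, `EllFam`, `exists_singular_in`, `exists_hyp_partner`), `Helper12.OrPM.hasType_smul`,
odd q: `Helper25.DiscType`, `Helper15.UniDisc.exists_isometry_of_gram`; Ω: `Helper5.TSMax` (`omega_pretransitive`, all q), `Helper1.OmMP1`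
(`exists_omega_map`, `eq_top_of_invariant`), `Helper19.OSubBasic` (`rt` long root elements), `Helper22.OmMP3`, `Helper25.Siegel`.
-/

set_option autoImplicit false
set_option linter.unusedSectionVars false
set_option linter.unusedVariables false

namespace Cfsg.Agent.Lib.Lead.OERow1

open Cfsg.Agent.Lib.Helper11.OELeaf (plus_of_talt_two)
open Cfsg.Agent.Lib.Helper11.OELeaf (plus_of_quadratic_subfield)
open Cfsg.Agent.Lib.Helper12.OELeaf (exists_typeOn typeOn_unique typeOn_of_isometric)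
open Cfsg.Agent.Lib.Helper18.OELeaf (plus_of_c6)
open Cfsg.Agent.Lib.Helper18.OELeaf (typeOn_one_iff_plus)
open Cfsg.Agent.Lib.Helper18.OELeaf (typeOn_sup nd_sup)
open Cfsg.Agent.Lib.Helper19.OELeaf (two_eq_zero_of_not_odd nd_perp even_finrank_of_nd ts_ne_top)
open Cfsg.Agent.Lib.Helper19.OELeaf (plus_of_dec_odd)
open Cfsg.Agent.Lib.Helper22.OELeaf (not_omega_le_field)
open Cfsg.Agent.Lib.Helper22.OELeaf (not_omega_le_subfield)
open Cfsg.Agent.Lib.Helper26.OELeaf (typeOn_top_of_dec)
open Cfsg.Agent.Lib.Helper26.OELeaf (isometric_of_typeOn)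
open Cfsg.Agent.Lib.Helper6.OELeaf (not_omega_le_subspace)
open Cfsg.Agent.Lib.Helper6.OELeaf (plus_of_c7_two)

open Cfsg Cfsg.Geo Matrix Module QuadraticMap Cfsg.Agent.Lib.Lead.OE

section generic
variable {ι : Type} [Fintype ι] [DecidableEq ι] {F : Type*} [Field F] [Fintype F]
  (Q : QuadraticForm F (ι → F))

/-! ## Block T : the type of an even-dimensional non-degenerate subspace (glue on helper15's `HasType`) -/









/-! ## Block E : small geometric facts -/





/-! ## Block P : properness, ALL q (twins of helper20's OM-P1 / P3 / P5, without `h2`) -/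




/-! ## Block R : exclusions by type -/






end generic

/-! ## ASSEMBLY: S5826 (Ω₈⁻) -/

section row8
universe u
variable {F : Type u} [Field F] [Fintype F]

lemma card_tensor {ι : Type} [Fintype ι] {n₁ n₂ : ℕ} (e : ι ≃ Fin n₁ × Fin n₂) :
    Fintype.card ι = n₁ * n₂ := by
  rw [Fintype.card_congr e]
  simp

lemma card_wreath {ι : Type} [Fintype ι] {k t : ℕ} (e : ι ≃ (Fin t → Fin k)) :
    Fintype.card ι = k ^ t := by
  rw [Fintype.card_congr e]
  simp

/-- the plus type from an even-dimensional isometric decomposition with an even number of members -/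
theorem plus_of_dec_even {ι : Type} [Fintype ι] [DecidableEq ι] (Q : QuadraticForm F (ι → F))
    (hQ : (polarBilin Q).Nondegenerate) {t k : ℕ} {D : Fin t → Submodule F (ι → F)}
    (hD : IsOrthogonalMDecomposition ⇑Q k D) (hk : Even k) (ht : Even t) : IsPlusTypeOn ⇑Q ⊤ := by
  have h2 : 2 ≤ t := hD.decomp.decomp.two_le
  obtain ⟨ε, hε, hty⟩ := exists_typeOn Q (hD.decomp.nondegenerate ⟨0, by omega⟩)
    (by rw [hD.decomp.decomp.finrank_eq]; exact hk)
  have htop := typeOn_top_of_dec Q hD hk ⟨0, by omega⟩ hty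
  have h1 : ε ^ t = 1 := by
    obtain ⟨j, rfl⟩ := ht
    rcases hε with rfl | rfl <;> simp [← two_mul, pow_mul]
  rw [h1] at htop
  have hndtop : IsNondegenerateOn (polar ⇑Q) (⊤ : Submodule F (ι → F)) := by
    intro w _ hw
    have h3 : ∃ x, polar ⇑Q x w ≠ 0 := by
      by_contra hcon
      push Not at hcon
      apply hw
      have := hQ.2 w (fun x => by
        rw [polarBilin_apply_apply]; exact hcon x)
      exact this
    obtain ⟨x, hx⟩ := h3
    exact ⟨⟨x, Submodule.mem_top, hx⟩, ⟨x, Submodule.mem_top, by rwa [polar_comm]⟩⟩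
  have hevtop : Even (finrank F (⊤ : Submodule F (ι → F))) := by
    obtain ⟨m, hm, -⟩ := htop
    rw [hm]
    exact even_two_mul m
  exact (typeOn_one_iff_plus Q hndtop hevtop).1 htop

/-- **S5826** from the generic theorem -/
theorem row5826 (hA : AschE.{u} 8) (Q : (Fin 8 → F) → F) (hQ : IsNondegenerateQuadraticForm Q)
    (hminus : ¬ IsPlusTypeOn Q ⊤) (H : Subgroup (GL (Fin 8) F)) (hH : IsMaximalIn (omegaGL Q) H) :
    (∃ W : Submodule F (Fin 8 → F), W ≠ ⊥ ∧ IsTotallySingularQuad Q W ∧ H = subspaceStabilizer W ⊓ omegaGL Q) ∨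
    (Odd (Fintype.card F) ∧ ∃ W : Submodule F (Fin 8 → F), W ≠ ⊥ ∧ W ≠ ⊤ ∧ Odd (finrank F W) ∧
      IsNondegenerateOn (polar Q) W ∧ H = subspaceStabilizer W ⊓ omegaGL Q) ∨
    (∃ W : Submodule F (Fin 8 → F), finrank F W = 2 ∧ IsNondegenerateOn (polar Q) W ∧
      ¬ IsPlusTypeOn Q W ∧ H = subspaceStabilizer W ⊓ omegaGL Q) ∨
    (4 ≤ Fintype.card F ∧ ∃ W : Submodule F (Fin 8 → F), finrank F W = 2 ∧
      IsNondegenerateOn (polar Q) W ∧ IsPlusTypeOn Q W ∧ H = subspaceStabilizer W ⊓ omegaGL Q) ∨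
    (∃ W : Submodule F (Fin 8 → F), finrank F W = 4 ∧ IsNondegenerateOn (polar Q) W ∧
      H = subspaceStabilizer W ⊓ omegaGL Q) ∨
    (¬ Odd (Fintype.card F) ∧ ∃ v : (Fin 8 → F), Q v ≠ 0 ∧
      H = subspaceStabilizer (Submodule.span F {v}) ⊓ omegaGL Q) ∨
    (∃ K : Subalgebra F (Matrix (Fin 8) (Fin 8) F), IsFieldSubalgebra 2 K ∧
      H = subalgebraNormalizer K ⊓ omegaGL Q) ∨
    (∃ (F₀ : Subfield F) (r : ℕ) (P : GL (Fin 8) F) (ζ : F), r.Prime ∧ Odd r ∧
      Fintype.card F = Nat.card F₀ ^ r ∧ ζ ≠ 0 ∧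
      IsQuadFormRationalStructure (fun v : Fin 8 → F => ζ * Q v) F₀ P ∧
      H = subfieldSubgroup F₀ P ⊓ omegaGL Q) ∨
    InOrthogonalResidualClass H := by
  obtain ⟨Qf, rfl, hnd⟩ := Cfsg.Agent.Lib.Helper25.Fam.exists_qf hQ
  have hcard : Fintype.card (Fin 8) = 8 := Fintype.card_fin 8
  have hfin : finrank F (Fin 8 → F) = 8 := by
    rw [Module.finrank_fintype_fun_eq_card, hcard]
  have hHΩ : H ≤ omegaGL ⇑Qf := hH.1.le
  have hHI : H ≤ isometryGroup F ⇑Qf := hHΩ.trans (Cfsg.Agent.Lib.Helper18.OAschLeaf.omegaGL_le _)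
  -- properness of subspace stabilisers
  have hP1 : ∀ W : Submodule F (Fin 8 → F), W ≠ ⊥ → W ≠ ⊤ → H ≤ subspaceStabilizer W →
      H = subspaceStabilizer W ⊓ omegaGL ⇑Qf := fun W h0 h1 hW =>
    eq_inf_of_maximal hH hW (not_omega_le_subspace Qf hnd (by omega) h0 h1)
  have hne_of_dim : ∀ W : Submodule F (Fin 8 → F), 0 < finrank F W → finrank F W < 8 → W ≠ ⊥ ∧ W ≠ ⊤ := by
    intro W h0 h1
    constructor
    · rintro rfl
      simp at h0
    · rintro rfl
      rw [finrank_top, hfin] at h1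
      omega
  -- a non-degenerate plane
  have hplane : ∀ W : Submodule F (Fin 8 → F), finrank F W = 2 → IsNondegenerateOn (polar ⇑Qf) W →
      H ≤ subspaceStabilizer W →
      (∃ W : Submodule F (Fin 8 → F), finrank F W = 2 ∧ IsNondegenerateOn (polar ⇑Qf) W ∧
        ¬ IsPlusTypeOn ⇑Qf W ∧ H = subspaceStabilizer W ⊓ omegaGL ⇑Qf) ∨
      (4 ≤ Fintype.card F ∧ ∃ W : Submodule F (Fin 8 → F), finrank F W = 2 ∧
        IsNondegenerateOn (polar ⇑Qf) W ∧ IsPlusTypeOn ⇑Qf W ∧ H = subspaceStabilizer W ⊓ omegaGL ⇑Qf) := by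
    intro W hdim hndW hW
    obtain ⟨h0, h1⟩ := hne_of_dim W (by omega) (by omega)
    have hEq := hP1 W h0 h1 hW
    by_cases hp : IsPlusTypeOn ⇑Qf W
    · by_cases hq : 4 ≤ Fintype.card F
      · exact Or.inr ⟨hq, W, hdim, hndW, hp, hEq⟩
      · exfalso
        obtain ⟨K, hK1, hK2⟩ := Cfsg.Agent.Lib.Helper9.PlusPlane.main Qf hnd (by omega)
          (by rw [hcard]; omega) W hdim hndW hp
        exact false_of_between hH (le_inf hW hHΩ) hK1 hK2
    · exact Or.inl ⟨W, hdim, hndW, hp, hEq⟩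
  rcases hA ⇑Qf H ⟨hQ, hHI⟩ with hG | hres
  swap
  · exact Or.inr (Or.inr (Or.inr (Or.inr (Or.inr (Or.inr (Or.inr (Or.inr hres)))))))
  cases hG with
  | ts W h0 hts hW =>
    exact Or.inl ⟨W, h0, hts, hP1 W h0 (ts_ne_top Qf hnd (by omega) hts) hW⟩
  | nd W h0 h1 hndW hW =>
    have hd8 : finrank F W < 8 := by
      have hle : finrank F W ≤ 8 := by
        have := Submodule.finrank_le W
        omega
      rcases Nat.lt_or_ge (finrank F W) 8 with h | h
      · exact h
      · exfalso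
        apply h1
        apply Submodule.eq_top_of_finrank_eq
        rw [hfin]; omega
    have hd0 : 0 < finrank F W := by
      rcases Nat.eq_zero_or_pos (finrank F W) with h | h
      · exact absurd (Submodule.finrank_eq_zero.1 h) h0
      · exact h
    rcases Nat.even_or_odd (finrank F W) with hev | hodd
    · -- even dimension 2, 4, 6
      obtain ⟨j, hj⟩ := hev
      have hj' : j = 1 ∨ j = 2 ∨ j = 3 := by omega
      rcases hj' with rfl | rfl | rfl
      · rcases hplane W (by omega) hndW hW with h | h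
        · exact Or.inr (Or.inr (Or.inl h))
        · exact Or.inr (Or.inr (Or.inr (Or.inl h)))
      · exact Or.inr (Or.inr (Or.inr (Or.inr (Or.inl ⟨W, by omega, hndW, hP1 W h0 h1 hW⟩))))
      · obtain ⟨U, hU0, hUd, hUnd, hle⟩ := nd_perp Qf hnd h1 hndW
        rw [hcard] at hUd
        rcases hplane U (by omega) hUnd ((le_inf hW hHI).trans hle) with h | h
        · exact Or.inr (Or.inr (Or.inl h))
        · exact Or.inr (Or.inr (Or.inr (Or.inl h)))
    · -- odd dimension: q odd
      have hq : Odd (Fintype.card F) := by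
        by_contra hne
        have h2 := two_eq_zero_of_not_odd hne
        have := even_finrank_of_nd Qf h2 hndW
        exact (Nat.not_even_iff_odd.2 hodd) this
      exact Or.inr (Or.inl ⟨hq, W, h0, h1, hodd, hndW, hP1 W h0 h1 hW⟩)
  | nsv heven v hv hW =>
    have hv0 : v ≠ 0 := by
      rintro rfl
      simp at hv
    have h0 : Submodule.span F {v} ≠ ⊥ := by
      rw [Ne, Submodule.span_singleton_eq_bot]
      exact hv0
    have h1 : Submodule.span F {v} ≠ ⊤ := by
      intro htop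
      have := finrank_span_singleton (K := F) hv0
      rw [htop, finrank_top, hfin] at this
      omega
    exact Or.inr (Or.inr (Or.inr (Or.inr (Or.inr (Or.inl ⟨heven, v, hv, hP1 _ h0 h1 hW⟩)))))
  | dec k D hD hW =>
    exfalso
    apply hminus
    rename_i t
    have htk : t * k = 8 := by
      rw [Cfsg.Agent.Lib.Helper1.OmMLeaf.mdec_card_gen hD.decomp.decomp, hcard]
    have h2 : 2 ≤ t := hD.decomp.decomp.two_le
    have hkpos : 0 < k := hD.decomp.decomp.pos
    rcases Nat.even_or_odd k with hk | hk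
    · have ht : Even t := by
        by_contra hodd
        rw [Nat.not_even_iff_odd] at hodd
        obtain ⟨a, ha⟩ := hodd
        obtain ⟨b, hb⟩ := hk
        subst ha hb
        have h8 : (2 * a + 1) ∣ 8 := ⟨b + b, htk.symm⟩
        have hle : 2 * a + 1 ≤ 8 := Nat.le_of_dvd (by norm_num) h8
        have ha3 : a ≤ 3 := by omega
        interval_cases a <;> omega
      exact plus_of_dec_even Qf hnd hD hk ht
    · have ht : 4 ∣ t := by
        obtain ⟨b, hb⟩ := hk
        subst hb
        have h8 : t ∣ 8 := ⟨2 * b + 1, htk.symm⟩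
        have hle : t ≤ 8 := Nat.le_of_dvd (by norm_num) h8
        interval_cases t <;> omega
      exact plus_of_dec_odd Qf hnd hD hk ht
  | pair k D hD hts hW =>
    exfalso
    apply hminus
    have htk : 2 * k = 8 := by
      rw [Cfsg.Agent.Lib.Helper1.OmMLeaf.mdec_card_gen hD, hcard]
    refine ⟨D 0, le_top, hts 0, ?_⟩
    rw [hD.finrank_eq, finrank_top, hfin]
    omega
  | fsa r K hr hK hsa hW =>
    have hdvd : r ∣ 8 := by
      have := Cfsg.Agent.Lib.Helper1.OmMLeaf.field_dvd_gen (by rw [hcard]; omega) hK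
      rwa [hcard] at this
    have hr2 : r = 2 := by
      have h8 : (8 : ℕ) = 2 ^ 3 := by norm_num
      rw [h8] at hdvd
      exact (Nat.prime_dvd_prime_iff_eq hr Nat.prime_two).1 (hr.dvd_of_dvd_pow hdvd)
    subst hr2
    exact Or.inr (Or.inr (Or.inr (Or.inr (Or.inr (Or.inr (Or.inl ⟨K, hK,
      eq_inf_of_maximal hH hW (not_omega_le_field Qf hnd (by rw [hcard]; omega) le_rfl hK)⟩))))))
  | funi K hK hac hnsa hsim hW =>
    exact Or.inr (Or.inr (Or.inr (Or.inr (Or.inr (Or.inr (Or.inl ⟨K, hK,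
      eq_inf_of_maximal hH hW (not_omega_le_field Qf hnd (by rw [hcard]; omega) le_rfl hK)⟩))))))
  | tsym hodd n₁ n₂ e P f₁ f₂ h1 h2 hf₁ hf₂ hten hW =>
    exfalso
    have := card_tensor e
    rw [hcard] at this
    have h9 : 9 ≤ n₁ * n₂ := by nlinarith
    omega
  | talt n₁ n₂ e P f₁ f₂ h1 h2 hf₁ hf₂ hten hpure hW =>
    exfalso
    apply hminus
    have h8 := card_tensor e
    rw [hcard] at h8
    have h12 : n₁ = 2 ∨ n₂ = 2 := by
      by_contra hcon
      push Not at hcon
      have h3 : 3 ≤ n₁ := by omega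
      have h3' : 3 ≤ n₂ := by omega
      have h9 : 9 ≤ n₁ * n₂ := by nlinarith
      omega
    exact plus_of_talt_two Qf e P h12 hpure
  | sub F₀ r P ζ hr hcd hζ hrat hW =>
    rcases hr.eq_two_or_odd' with rfl | hodd
    · exfalso
      apply hminus
      exact plus_of_quadratic_subfield Qf hnd (by rw [hcard]; decide) F₀ hcd P ζ hζ hrat
    · exact Or.inr (Or.inr (Or.inr (Or.inr (Or.inr (Or.inr (Or.inr (Or.inl ⟨F₀, r, P, ζ, hr, hodd, hcd, hζ,
        hrat, eq_inf_of_maximal hH hW
          (not_omega_le_subfield Qf hnd (by rw [hcard]; omega) F₀ hr hcd P ζ hζ hrat)⟩)))))))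
  | c6 R k hRH hnorm habs hst hZ h2 hk hcd hn =>
    exfalso
    apply hminus
    have hk3 : k = 3 := by
      have h8 : (2 : ℕ) ^ 3 = 2 ^ k := by rw [← hn]; norm_num
      exact (Nat.pow_right_injective (le_refl 2) h8).symm
    exact plus_of_c6 Qf hnd R k (hRH.trans hHI) habs hst hZ h2 (by omega) hcd hn
  | c7 k t e P f₁ hk ht hten hf₁ hW =>
    exfalso
    apply hminus
    have h8 := card_wreath e
    rw [hcard] at h8
    have hk2 : k = 2 := by
      by_contra hne
      have h3 : 3 ≤ k := by omega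
      have : 3 ^ 2 ≤ k ^ t := by
        calc 3 ^ 2 ≤ k ^ 2 := Nat.pow_le_pow_left h3 2
          _ ≤ k ^ t := Nat.pow_le_pow_right (by omega) ht
      omega
    subst hk2
    exact plus_of_c7_two Qf hnd ht e P f₁ hten hf₁

end row8

end Cfsg.Agent.Lib.Lead.OERow1
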