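import Mathlib
import Cfsg.Prelude.Def_GeometricClasses
import Cfsg.Agent.Lib.Lead.OEQF
import Cfsg.Agent.Lib.Helper9.PlusPlane
import Cfsg.Agent.Lib.Helper25.OmegaNonMax
import Cfsg.Agent.Lib.Helper18.OAschTR
import Cfsg.Agent.Lib.Helper1.OmMN13
import Cfsg.Agent.Lib.Helper25.SpinForms
import Cfsg.Agent.Lib.Helper11.OER3
import Cfsg.Agent.Lib.Helper11.OER4
import Cfsg.Agent.Lib.Helper12.OETypeA
import Cfsg.Agent.Lib.Helper18.OET3
import Cfsg.Agent.Lib.Helper19.OEE
import Cfsg.Agent.Lib.Helper19.OER1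
import Cfsg.Agent.Lib.Helper20.OER14
import Cfsg.Agent.Lib.Helper22.OEP3
import Cfsg.Agent.Lib.Helper22.OEP5
import Cfsg.Agent.Lib.Helper26.OET48
import Cfsg.Agent.Lib.Helper28.OEP4s
import Cfsg.Agent.Lib.Helper5.OEP2
import Cfsg.Agent.Lib.Helper5.OETsym
import Cfsg.Agent.Lib.Helper6.OEP1
import Cfsg.Agent.Lib.Lead.OEMain

/-!
OMEGA-EVEN, PART 4 continued (planner lead): the n = 12 rows **S5874 (Ω₁₂⁻)** [and S5871 (Ω₁₂⁺), appended later].
NEW leaves (blocks P', R') + the leaves of `notes/OmEven_rows_leaves.lean` RESTATED here as sorried copies (same names, same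
signatures: take them from THAT file, not from here) so that this file compiles alone.  COMPILING row assembly `row5874` on top of
`AschE 12`.  HOW TO TAKE: as in `notes/OmEven_rows_leaves.lean`; rfl-check vs `Cfsg.Agent.Lib.Lead.OERow2Leaves.<name>`.
-/

set_option autoImplicit false
set_option linter.unusedSectionVars false
set_option linter.unusedVariables false

namespace Cfsg.Agent.Lib.Lead.OERow2

open Cfsg.Agent.Lib.Helper11.OELeaf (plus_of_talt_two)
open Cfsg.Agent.Lib.Helper11.OELeaf (plus_of_quadratic_subfield)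
open Cfsg.Agent.Lib.Helper12.OELeaf (exists_typeOn typeOn_unique typeOn_of_isometric)
open Cfsg.Agent.Lib.Helper18.OELeaf (typeOn_one_iff_plus)
open Cfsg.Agent.Lib.Helper19.OELeaf (two_eq_zero_of_not_odd nd_perp even_finrank_of_nd ts_ne_top)
open Cfsg.Agent.Lib.Helper19.OELeaf (plus_of_dec_odd)
open Cfsg.Agent.Lib.Helper20.OELeaf (dec_of_tsym_three)
open Cfsg.Agent.Lib.Helper22.OELeaf (not_omega_le_field)
open Cfsg.Agent.Lib.Helper22.OELeaf (not_omega_le_subfield)
open Cfsg.Agent.Lib.Helper26.OELeaf (typeOn_top_of_dec)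
open Cfsg.Agent.Lib.Helper28.OELeaf (not_omega_le_tsym)
open Cfsg.Agent.Lib.Helper5.OELeaf (not_omega_le_dec)
open Cfsg.Agent.Lib.Helper5.OELeaf (even_of_symplectic tsym_swap minus_factor_of_tsym)
open Cfsg.Agent.Lib.Helper6.OELeaf (not_omega_le_subspace)

open Cfsg Cfsg.Geo Matrix Module QuadraticMap Cfsg.Agent.Lib.Lead.OE
open scoped Kronecker

section generic
variable {ι : Type} [Fintype ι] [DecidableEq ι] {F : Type*} [Field F] [Fintype F]
  (Q : QuadraticForm F (ι → F))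

/-! ## copies of the leaves of `notes/OmEven_rows_leaves.lean` used here (DO NOT take them from this file) -/


/-! ## NEW leaves -/







end generic

/-! ## ASSEMBLY: S5874 (Ω₁₂⁻) -/

section row12m
universe u
variable {F : Type u} [Field F] [Fintype F]

lemma card_tensor {ι : Type} [Fintype ι] {n₁ n₂ : ℕ} (e : ι ≃ Fin n₁ × Fin n₂) :
    Fintype.card ι = n₁ * n₂ := by
  rw [Fintype.card_congr e]
  simp

lemma card_wreath {ι : Type} [Fintype ι] {k t : ℕ} (e : ι ≃ (Fin t → Fin k)) :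
    Fintype.card ι = k ^ t := by
  rw [Fintype.card_congr e]
  simp

/-- `⊤` is non-degenerate -/
lemma nd_top {ι : Type} [Fintype ι] [DecidableEq ι] (Q : QuadraticForm F (ι → F))
    (hQ : (polarBilin Q).Nondegenerate) : IsNondegenerateOn (polar ⇑Q) (⊤ : Submodule F (ι → F)) := by
  intro w _ hw
  have h3 : ∃ x, polar ⇑Q x w ≠ 0 := by
    by_contra hcon
    push Not at hcon
    apply hw
    exact hQ.2 w (fun x => by rw [polarBilin_apply_apply]; exact hcon x)
  obtain ⟨x, hx⟩ := h3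
  exact ⟨⟨x, Submodule.mem_top, hx⟩, ⟨x, Submodule.mem_top, by rwa [polar_comm]⟩⟩

/-- the type of `⊤` for an isometric decomposition into even-dimensional members: `plus ⊤ ↔ (ε₀ ^ t = 1)` in the form used below -/
theorem plus_top_iff_of_dec {ι : Type} [Fintype ι] [DecidableEq ι] (Q : QuadraticForm F (ι → F))
    (hQ : (polarBilin Q).Nondegenerate) {t k : ℕ} {D : Fin t → Submodule F (ι → F)}
    (hD : IsOrthogonalMDecomposition ⇑Q k D) (hk : Even k) (i₀ : Fin t) :
    (Even t → IsPlusTypeOn ⇑Q ⊤) ∧ (Odd t → (IsPlusTypeOn ⇑Q ⊤ ↔ IsPlusTypeOn ⇑Q (D i₀))) := by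
  have hndi : IsNondegenerateOn (polar ⇑Q) (D i₀) := hD.decomp.nondegenerate i₀
  have hevi : Even (finrank F (D i₀)) := by rw [hD.decomp.decomp.finrank_eq]; exact hk
  obtain ⟨ε, hε, hty⟩ := exists_typeOn Q hndi hevi
  have htop := typeOn_top_of_dec Q hD hk i₀ hty
  have hevtop : Even (finrank F (⊤ : Submodule F (ι → F))) := by
    obtain ⟨m, hm, -⟩ := htop
    rw [hm]
    exact even_two_mul m
  constructor
  · rintro ⟨j, rfl⟩
    have h1 : ε ^ (j + j) = 1 := by
      rcases hε with rfl | rfl <;> simp [← two_mul, pow_mul]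
    rw [h1] at htop
    exact (typeOn_one_iff_plus Q (nd_top Q hQ) hevtop).1 htop
  · rintro ⟨j, rfl⟩
    have h1 : ε ^ (2 * j + 1) = ε := by
      rcases hε with rfl | rfl <;> simp [pow_succ, pow_mul]
    rw [h1] at htop
    constructor
    · intro hp
      have h := (typeOn_one_iff_plus Q (nd_top Q hQ) hevtop).2 hp
      have : ε = 1 := typeOn_unique Q htop h
      rw [this] at hty
      exact (typeOn_one_iff_plus Q hndi hevi).1 hty
    · intro hp
      have h := (typeOn_one_iff_plus Q hndi hevi).2 hp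
      have : ε = 1 := typeOn_unique Q hty h
      rw [this] at htop
      exact (typeOn_one_iff_plus Q (nd_top Q hQ) hevtop).1 htop

/-- **S5874** from the generic theorem -/
theorem row5874 (hA : AschE.{u} 12) (Q : (Fin 12 → F) → F) (hQ : Cfsg.Geo.IsNondegenerateQuadraticForm Q) (hminus : ¬ Cfsg.Geo.IsPlusTypeOn Q ⊤) (H : Subgroup (Matrix.GeneralLinearGroup (Fin 12) F)) (hH : Cfsg.Geo.IsMaximalIn (Cfsg.Geo.omegaGL Q) H) :
    (∃ W : Submodule F (Fin 12 → F), W ≠ ⊥ ∧ Cfsg.Geo.IsTotallySingularQuad Q W ∧ H = Cfsg.Geo.subspaceStabilizer W ⊓ Cfsg.Geo.omegaGL Q) ∨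
    (Odd (Fintype.card F) ∧ ∃ W : Submodule F (Fin 12 → F), W ≠ ⊥ ∧ W ≠ ⊤ ∧ Odd (Module.finrank F W) ∧ 2 * Module.finrank F W ≠ 12 ∧ Cfsg.Geo.IsNondegenerateOn (QuadraticMap.polar Q) W ∧ H = Cfsg.Geo.subspaceStabilizer W ⊓ Cfsg.Geo.omegaGL Q) ∨
    (∃ W : Submodule F (Fin 12 → F), Module.finrank F W = 2 ∧ Cfsg.Geo.IsNondegenerateOn (QuadraticMap.polar Q) W ∧ ¬ Cfsg.Geo.IsPlusTypeOn Q W ∧ H = Cfsg.Geo.subspaceStabilizer W ⊓ Cfsg.Geo.omegaGL Q) ∨
    (4 ≤ Fintype.card F ∧ ∃ W : Submodule F (Fin 12 → F), Module.finrank F W = 2 ∧ Cfsg.Geo.IsNondegenerateOn (QuadraticMap.polar Q) W ∧ Cfsg.Geo.IsPlusTypeOn Q W ∧ H = Cfsg.Geo.subspaceStabilizer W ⊓ Cfsg.Geo.omegaGL Q) ∨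
    (∃ W : Submodule F (Fin 12 → F), Module.finrank F W = 4 ∧ Cfsg.Geo.IsNondegenerateOn (QuadraticMap.polar Q) W ∧ H = Cfsg.Geo.subspaceStabilizer W ⊓ Cfsg.Geo.omegaGL Q) ∨
    (∃ W : Submodule F (Fin 12 → F), Module.finrank F W = 6 ∧ Cfsg.Geo.IsNondegenerateOn (QuadraticMap.polar Q) W ∧ H = Cfsg.Geo.subspaceStabilizer W ⊓ Cfsg.Geo.omegaGL Q) ∨
    (¬ Odd (Fintype.card F) ∧ ∃ v : (Fin 12 → F), Q v ≠ 0 ∧ H = Cfsg.Geo.subspaceStabilizer (Submodule.span F {v}) ⊓ Cfsg.Geo.omegaGL Q) ∨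
    (∃ D : Fin 3 → Submodule F (Fin 12 → F), Cfsg.Geo.IsOrthogonalMDecomposition Q 4 D ∧ (∀ i, ¬ Cfsg.Geo.IsPlusTypeOn Q (D i)) ∧ H = Cfsg.Geo.decompositionStabilizer D ⊓ Cfsg.Geo.omegaGL Q) ∨
    (∃ K : Subalgebra F (Matrix (Fin 12) (Fin 12) F), Cfsg.Geo.IsFieldSubalgebra 2 K ∧ H = Cfsg.Geo.subalgebraNormalizer K ⊓ Cfsg.Geo.omegaGL Q) ∨
    (∃ K : Subalgebra F (Matrix (Fin 12) (Fin 12) F), Cfsg.Geo.IsFieldSubalgebra 3 K ∧ H = Cfsg.Geo.subalgebraNormalizer K ⊓ Cfsg.Geo.omegaGL Q) ∨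
    (Odd (Fintype.card F) ∧ 5 ≤ Fintype.card F ∧ ∃ (e : Fin 12 ≃ Fin 3 × Fin 4) (P : Matrix.GeneralLinearGroup (Fin 12) F) (f₁ : (Fin 3 → F) → (Fin 3 → F) → F) (f₂ : (Fin 4 → F) → (Fin 4 → F) → F), Cfsg.Geo.IsSymmetricForm f₁ ∧ Cfsg.Geo.IsSymmetricForm f₂ ∧ ¬ Cfsg.Geo.IsPlusTypeOn (fun v : Fin 4 → F => f₂ v v) ⊤ ∧ Cfsg.Geo.IsTensorFormStructure id (QuadraticMap.polar Q) f₁ f₂ e P ∧ H = Cfsg.Geo.tensorProductSubgroup 3 4 e P ⊓ Cfsg.Geo.omegaGL Q) ∨
    (∃ (F₀ : Subfield F) (r : ℕ) (P : Matrix.GeneralLinearGroup (Fin 12) F) (ζ : F), r.Prime ∧ Odd r ∧ Fintype.card F = Nat.card F₀ ^ r ∧ ζ ≠ 0 ∧ Cfsg.Geo.IsQuadFormRationalStructure (fun v : Fin 12 → F => ζ * Q v) F₀ P ∧ H = Cfsg.Geo.subfieldSubgroup F₀ P ⊓ Cfsg.Geo.omegaGL Q) ∨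
    Cfsg.Geo.InOrthogonalResidualClass H := by
  obtain ⟨Qf, rfl, hnd⟩ := Cfsg.Agent.Lib.Helper25.Fam.exists_qf hQ
  have hcard : Fintype.card (Fin 12) = 12 := Fintype.card_fin 12
  have hfin : finrank F (Fin 12 → F) = 12 := by
    rw [Module.finrank_fintype_fun_eq_card, hcard]
  have hHΩ : H ≤ omegaGL ⇑Qf := hH.1.le
  have hHI : H ≤ isometryGroup F ⇑Qf := hHΩ.trans (Cfsg.Agent.Lib.Helper18.OAschLeaf.omegaGL_le _)
  have hP1 : ∀ W : Submodule F (Fin 12 → F), W ≠ ⊥ → W ≠ ⊤ → H ≤ subspaceStabilizer W →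
      H = subspaceStabilizer W ⊓ omegaGL ⇑Qf := fun W h0 h1 hW =>
    eq_inf_of_maximal hH hW (not_omega_le_subspace Qf hnd (by omega) h0 h1)
  have hne_of_dim : ∀ W : Submodule F (Fin 12 → F), 0 < finrank F W → finrank F W < 12 →
      W ≠ ⊥ ∧ W ≠ ⊤ := by
    intro W h0 h1
    constructor
    · rintro rfl
      simp at h0
    · rintro rfl
      rw [finrank_top, hfin] at h1
      omega
  -- a non-degenerate plane
  have hplane : ∀ W : Submodule F (Fin 12 → F), finrank F W = 2 → IsNondegenerateOn (polar ⇑Qf) W →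
      H ≤ subspaceStabilizer W →
      (∃ W : Submodule F (Fin 12 → F), finrank F W = 2 ∧ IsNondegenerateOn (polar ⇑Qf) W ∧
        ¬ IsPlusTypeOn ⇑Qf W ∧ H = subspaceStabilizer W ⊓ omegaGL ⇑Qf) ∨
      (4 ≤ Fintype.card F ∧ ∃ W : Submodule F (Fin 12 → F), finrank F W = 2 ∧
        IsNondegenerateOn (polar ⇑Qf) W ∧ IsPlusTypeOn ⇑Qf W ∧ H = subspaceStabilizer W ⊓ omegaGL ⇑Qf) := by
    intro W hdim hndW hW
    obtain ⟨h0, h1⟩ := hne_of_dim W (by omega) (by omega)
    have hEq := hP1 W h0 h1 hW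
    by_cases hp : IsPlusTypeOn ⇑Qf W
    · by_cases hq : 4 ≤ Fintype.card F
      · exact Or.inr ⟨hq, W, hdim, hndW, hp, hEq⟩
      · exfalso
        obtain ⟨K, hK1, hK2⟩ := Cfsg.Agent.Lib.Helper9.PlusPlane.main Qf hnd (by omega)
          (by rw [hcard]; omega) W hdim hndW hp
        exact false_of_between hH (le_inf hW hHΩ) hK1 hK2
    · exact Or.inl ⟨W, hdim, hndW, hp, hEq⟩
  -- a decomposition into three 4-spaces
  have hdec43 : ∀ D : Fin 3 → Submodule F (Fin 12 → F), IsOrthogonalMDecomposition ⇑Qf 4 D →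
      H ≤ decompositionStabilizer D →
      ∃ D : Fin 3 → Submodule F (Fin 12 → F), IsOrthogonalMDecomposition ⇑Qf 4 D ∧
        (∀ i, ¬ IsPlusTypeOn ⇑Qf (D i)) ∧ H = decompositionStabilizer D ⊓ omegaGL ⇑Qf := by
    intro D hD hW
    refine ⟨D, hD, ?_, eq_inf_of_maximal hH hW (not_omega_le_dec Qf hnd (by rw [hcard]; omega) hD.decomp)⟩
    intro i hp
    apply hminus
    exact ((plus_top_iff_of_dec Qf hnd hD (by decide) i).2 (by decide)).2 hp
  rcases hA ⇑Qf H ⟨hQ, hHI⟩ with hG | hres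
  swap
  · iterate 12 right
    exact hres
  cases hG with
  | ts W h0 hts hW =>
    exact Or.inl ⟨W, h0, hts, hP1 W h0 (ts_ne_top Qf hnd (by omega) hts) hW⟩
  | nd W h0 h1 hndW hW =>
    have hd12 : finrank F W < 12 := by
      have hle : finrank F W ≤ 12 := by
        have := Submodule.finrank_le W
        omega
      rcases Nat.lt_or_ge (finrank F W) 12 with h | h
      · exact h
      · exfalso
        apply h1
        apply Submodule.eq_top_of_finrank_eq
        rw [hfin]; omega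
    have hd0 : 0 < finrank F W := by
      rcases Nat.eq_zero_or_pos (finrank F W) with h | h
      · exact absurd (Submodule.finrank_eq_zero.1 h) h0
      · exact h
    rcases Nat.even_or_odd (finrank F W) with hev | hodd
    · obtain ⟨j, hj⟩ := hev
      have hj' : j = 1 ∨ j = 2 ∨ j = 3 ∨ j = 4 ∨ j = 5 := by omega
      rcases hj' with rfl | rfl | rfl | rfl | rfl
      · rcases hplane W (by omega) hndW hW with h | h
        · right; right; left; exact h
        · right; right; right; left; exact h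
      · right; right; right; right; left
        exact ⟨W, by omega, hndW, hP1 W h0 h1 hW⟩
      · right; right; right; right; right; left
        exact ⟨W, by omega, hndW, hP1 W h0 h1 hW⟩
      · obtain ⟨U, hU0, hUd, hUnd, hle⟩ := nd_perp Qf hnd h1 hndW
        rw [hcard] at hUd
        obtain ⟨hU0', hU1⟩ := hne_of_dim U (by omega) (by omega)
        right; right; right; right; left
        exact ⟨U, by omega, hUnd, hP1 U hU0' hU1 ((le_inf hW hHI).trans hle)⟩
      · obtain ⟨U, hU0, hUd, hUnd, hle⟩ := nd_perp Qf hnd h1 hndW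
        rw [hcard] at hUd
        rcases hplane U (by omega) hUnd ((le_inf hW hHI).trans hle) with h | h
        · right; right; left; exact h
        · right; right; right; left; exact h
    · have hq : Odd (Fintype.card F) := by
        by_contra hne
        have h2 := two_eq_zero_of_not_odd hne
        have := even_finrank_of_nd Qf h2 hndW
        exact (Nat.not_even_iff_odd.2 hodd) this
      right; left
      refine ⟨hq, W, h0, h1, hodd, ?_, hndW, hP1 W h0 h1 hW⟩
      obtain ⟨j, hj⟩ := hodd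
      omega
  | nsv heven v hv hW =>
    have hv0 : v ≠ 0 := by
      rintro rfl
      simp at hv
    have h0 : Submodule.span F {v} ≠ ⊥ := by
      rw [Ne, Submodule.span_singleton_eq_bot]
      exact hv0
    have h1 : Submodule.span F {v} ≠ ⊤ := by
      intro htop
      have := finrank_span_singleton (K := F) hv0
      rw [htop, finrank_top, hfin] at this
      omega
    iterate 6 right
    left
    exact ⟨heven, v, hv, hP1 _ h0 h1 hW⟩
  | dec k D hD hW =>
    rename_i t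
    have htk : t * k = 12 := by
      rw [Cfsg.Agent.Lib.Helper1.OmMLeaf.mdec_card_gen hD.decomp.decomp, hcard]
    have h2 : 2 ≤ t := hD.decomp.decomp.two_le
    have hkpos : 0 < k := hD.decomp.decomp.pos
    have ht12 : t ∣ 12 := ⟨k, htk.symm⟩
    have htle : t ≤ 12 := Nat.le_of_dvd (by norm_num) ht12
    rcases Nat.even_or_odd k with hk | hk
    · rcases Nat.even_or_odd t with ht | ht
      · exact absurd ((plus_top_iff_of_dec Qf hnd hD hk ⟨0, by omega⟩).1 ht) hminus
      · -- t odd, k even, t k = 12: t = 3, k = 4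
        have ht3 : t = 3 := by
          obtain ⟨a, ha⟩ := ht
          interval_cases t <;> omega
        subst ht3
        have hk4 : k = 4 := by omega
        subst hk4
        iterate 7 right
        left
        exact hdec43 D hD hW
    · -- k odd: t = 12 or 4
      have ht : 4 ∣ t := by
        obtain ⟨b, hb⟩ := hk
        subst hb
        interval_cases t <;> omega
      exact absurd (plus_of_dec_odd Qf hnd hD hk ht) hminus
  | pair k D hD hts hW =>
    exfalso
    apply hminus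
    have htk : 2 * k = 12 := by
      rw [Cfsg.Agent.Lib.Helper1.OmMLeaf.mdec_card_gen hD, hcard]
    refine ⟨D 0, le_top, hts 0, ?_⟩
    rw [hD.finrank_eq, finrank_top, hfin]
    omega
  | fsa r K hr hK hsa hW =>
    have hdvd : r ∣ 12 := by
      have := Cfsg.Agent.Lib.Helper1.OmMLeaf.field_dvd_gen (by rw [hcard]; omega) hK
      rwa [hcard] at this
    have hprop := eq_inf_of_maximal hH hW
      (not_omega_le_field Qf hnd (by rw [hcard]; omega) hr.two_le hK)
    have hr23 : r = 2 ∨ r = 3 := by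
      have hle : r ≤ 12 := Nat.le_of_dvd (by norm_num) hdvd
      have h2 := hr.two_le
      interval_cases r <;> first | omega | (exfalso; revert hr; decide)
    rcases hr23 with rfl | rfl
    · iterate 8 right
      left
      exact ⟨K, hK, hprop⟩
    · iterate 9 right
      left
      exact ⟨K, hK, hprop⟩
  | funi K hK hac hnsa hsim hW =>
    iterate 8 right
    left
    exact ⟨K, hK, eq_inf_of_maximal hH hW (not_omega_le_field Qf hnd (by rw [hcard]; omega) le_rfl hK)⟩
  | tsym hodd n₁ n₂ e P f₁ f₂ h1 h2 hf₁ hf₂ hten hW =>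
    have h12 := card_tensor e
    rw [hcard] at h12
    have h2F : (2 : F) ≠ 0 := Cfsg.Agent.Lib.Helper25.Spin.two_ne_zero_of_odd_card hodd
    -- reduce to (3, 4)
    have key : ∀ (e : Fin 12 ≃ Fin 3 × Fin 4) (P : GL (Fin 12) F)
        (f₁ : (Fin 3 → F) → (Fin 3 → F) → F) (f₂ : (Fin 4 → F) → (Fin 4 → F) → F),
        IsSymmetricForm f₁ → IsSymmetricForm f₂ →
        IsTensorFormStructure id (polar ⇑Qf) f₁ f₂ e P → H ≤ tensorProductSubgroup 3 4 e P →
        (Odd (Fintype.card F) ∧ 5 ≤ Fintype.card F ∧ ∃ (e : Fin 12 ≃ Fin 3 × Fin 4)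
          (P : Matrix.GeneralLinearGroup (Fin 12) F) (f₁ : (Fin 3 → F) → (Fin 3 → F) → F)
          (f₂ : (Fin 4 → F) → (Fin 4 → F) → F), Cfsg.Geo.IsSymmetricForm f₁ ∧
          Cfsg.Geo.IsSymmetricForm f₂ ∧ ¬ Cfsg.Geo.IsPlusTypeOn (fun v : Fin 4 → F => f₂ v v) ⊤ ∧
          Cfsg.Geo.IsTensorFormStructure id (QuadraticMap.polar ⇑Qf) f₁ f₂ e P ∧
          H = Cfsg.Geo.tensorProductSubgroup 3 4 e P ⊓ Cfsg.Geo.omegaGL ⇑Qf) ∨
        (∃ D : Fin 3 → Submodule F (Fin 12 → F), IsOrthogonalMDecomposition ⇑Qf 4 D ∧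
          (∀ i, ¬ IsPlusTypeOn ⇑Qf (D i)) ∧ H = decompositionStabilizer D ⊓ omegaGL ⇑Qf) := by
      intro e P f₁ f₂ hf₁ hf₂ hten hW
      have hm := minus_factor_of_tsym Qf hnd h2F e P f₁ f₂ hf₁ hf₂ hten hminus
      by_cases hq5 : 5 ≤ Fintype.card F
      · left
        exact ⟨hodd, hq5, e, P, f₁, f₂, hf₁, hf₂, hm, hten, eq_inf_of_maximal hH hW
          (not_omega_le_tsym Qf hnd h2F (by rw [hcard]; omega) le_rfl (by omega) e P f₁ f₂ hf₁ hf₂ hten)⟩
      · have hq3 : Fintype.card F = 3 := by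
          have h1 : 1 < Fintype.card F := Fintype.one_lt_card
          obtain ⟨j, hj⟩ := hodd
          omega
        obtain ⟨D, hD, hle⟩ := dec_of_tsym_three Qf hnd hq3 e P f₁ f₂ hf₁ hf₂ hten
        right
        exact hdec43 D hD ((le_inf hW hHI).trans hle)
    have hcases : (n₁ = 3 ∧ n₂ = 4) ∨ (n₁ = 4 ∧ n₂ = 3) := by
      have h1' : n₁ ≤ 4 := by
        by_contra hcon
        push Not at hcon
        have : 15 ≤ n₁ * n₂ := by nlinarith
        omega
      interval_cases n₁ <;> omega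
    rcases hcases with ⟨rfl, rfl⟩ | ⟨rfl, rfl⟩
    · rcases key e P f₁ f₂ hf₁ hf₂ hten hW with h | h
      · iterate 10 right
        left
        exact h
      · iterate 7 right
        left
        exact h
    · obtain ⟨e', P', hten', hsub⟩ := tsym_swap e P f₁ f₂ (polar ⇑Qf) hten
      rcases key e' P' f₂ f₁ hf₂ hf₁ hten' (hsub ▸ hW) with h | h
      · iterate 10 right
        left
        exact h
      · iterate 7 right
        left
        exact h
  | talt n₁ n₂ e P f₁ f₂ h1 h2 hf₁ hf₂ hten hpure hW =>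
    exfalso
    apply hminus
    have h12 := card_tensor e
    rw [hcard] at h12
    have he1 := even_of_symplectic hf₁
    have he2 := even_of_symplectic hf₂
    have h12' : n₁ = 2 ∨ n₂ = 2 := by
      obtain ⟨a, ha⟩ := he1
      obtain ⟨b, hb⟩ := he2
      subst ha hb
      have hab : a * b = 3 := by nlinarith
      have ha3 : a ∣ 3 := ⟨b, hab.symm⟩
      have hale : a ≤ 3 := Nat.le_of_dvd (by norm_num) ha3
      interval_cases a <;> omega
    exact plus_of_talt_two Qf e P h12' hpure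
  | sub F₀ r P ζ hr hcd hζ hrat hW =>
    rcases hr.eq_two_or_odd' with rfl | hodd
    · exfalso
      apply hminus
      exact plus_of_quadratic_subfield Qf hnd (by rw [hcard]; decide) F₀ hcd P ζ hζ hrat
    · iterate 11 right
      left
      exact ⟨F₀, r, P, ζ, hr, hodd, hcd, hζ, hrat, eq_inf_of_maximal hH hW
        (not_omega_le_subfield Qf hnd (by rw [hcard]; omega) F₀ hr hcd P ζ hζ hrat)⟩
  | c6 R k hRH hnorm habs hst hZ h2 hk hcd hn =>
    exfalso
    have h3 : k ≤ 3 := by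
      by_contra hcon
      push Not at hcon
      have : 2 ^ 4 ≤ 2 ^ k := Nat.pow_le_pow_right (by norm_num) hcon
      omega
    interval_cases k <;> omega
  | c7 k t e P f₁ hk ht hten hf₁ hW =>
    exfalso
    have h12 := card_wreath e
    rw [hcard] at h12
    have hk3 : k ≤ 3 := by
      by_contra hcon
      push Not at hcon
      have : 4 ^ 2 ≤ k ^ t := by
        calc 4 ^ 2 ≤ k ^ 2 := Nat.pow_le_pow_left (by omega) 2
          _ ≤ k ^ t := Nat.pow_le_pow_right (by omega) ht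
      omega
    have ht3 : t ≤ 3 := by
      by_contra hcon
      push Not at hcon
      have : 2 ^ 4 ≤ k ^ t := by
        calc 2 ^ 4 ≤ k ^ 4 := Nat.pow_le_pow_left hk 4
          _ ≤ k ^ t := Nat.pow_le_pow_right (by omega) hcon
      omega
    interval_cases k <;> interval_cases t <;> omega

end row12m

end Cfsg.Agent.Lib.Lead.OERow2
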