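import Mathlib
import Cfsg.Prelude.Def_GeometricClasses
import Cfsg.Agent.Lib.Lead.OEQF
import Cfsg.Agent.Lib.Helper9.PlusPlane
import Cfsg.Agent.Lib.Helper9.FrameF3
import Cfsg.Agent.Lib.Helper25.OmegaNonMax
import Cfsg.Agent.Lib.Helper18.OAschTR
import Cfsg.Agent.Lib.Helper1.OmMN13
import Cfsg.Agent.Lib.Helper25.SpinForms
import Cfsg.Agent.Lib.Helper5.DecompNM2
import Cfsg.Agent.Lib.Helper1.OER10
import Cfsg.Agent.Lib.Helper11.OER21b
import Cfsg.Agent.Lib.Helper11.OER21d
import Cfsg.Agent.Lib.Helper11.OER4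
import Cfsg.Agent.Lib.Helper12.OETypeA
import Cfsg.Agent.Lib.Helper17.OER21a
import Cfsg.Agent.Lib.Helper17.OER21c
import Cfsg.Agent.Lib.Helper18.OET3
import Cfsg.Agent.Lib.Helper19.OEE
import Cfsg.Agent.Lib.Helper19.OER8
import Cfsg.Agent.Lib.Helper19.OER9
import Cfsg.Agent.Lib.Helper20.OER11
import Cfsg.Agent.Lib.Helper20.OER23
import Cfsg.Agent.Lib.Helper22.OEP3
import Cfsg.Agent.Lib.Helper22.OEP5
import Cfsg.Agent.Lib.Helper22.OER20
import Cfsg.Agent.Lib.Helper25.OEFsaH1
import Cfsg.Agent.Lib.Helper26.OET48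
import Cfsg.Agent.Lib.Helper5.OEP2
import Cfsg.Agent.Lib.Helper5.OEP2p
import Cfsg.Agent.Lib.Helper5.OETsym
import Cfsg.Agent.Lib.Helper6.OEP1
import Cfsg.Agent.Lib.Lead.OEMain

/-!
OMEGA-EVEN, PART 4 end (planner lead): the two n = 10 rows **S5850 (Ω₁₀⁻)** and **S5847 (Ω₁₀⁺)**.
NEW leaves (block R4) + sorried COPIES of the earlier leaves used here (same names, same signatures: they are on main, DO NOT take
them from this file) so that this file compiles alone.  COMPILING row assemblies `row5850`, `row5847` on top of `AschE 10`.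
HOW TO TAKE: announce `OE-ROWS4 TAKE <name>`; land `Cfsg/Agent/Lib/<You>/OE<Name>.lean`, ns `Cfsg.Agent.Lib.<You>.OELeaf`, EXACT
signature (rfl-check vs `Cfsg.Agent.Lib.Lead.OERow4Leaves.<name>` under this header).
-/

set_option autoImplicit false
set_option linter.unusedSectionVars false
set_option linter.unusedVariables false

namespace Cfsg.Agent.Lib.Lead.OERow4p

open Cfsg.Agent.Lib.Helper1.OELeaf (sub_of_frame)
open Cfsg.Agent.Lib.Helper11.OELeaf (halves_of_planes_three)
open Cfsg.Agent.Lib.Helper11.OELeaf (frame_of_planes_five)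
open Cfsg.Agent.Lib.Helper11.OELeaf (plus_of_quadratic_subfield)
open Cfsg.Agent.Lib.Helper12.OELeaf (exists_typeOn typeOn_unique)
open Cfsg.Agent.Lib.Helper17.OELeaf (nsv_of_planes_two)
open Cfsg.Agent.Lib.Helper17.OELeaf (sub_of_planes_four)
open Cfsg.Agent.Lib.Helper18.OELeaf (typeOn_one_iff_plus)
open Cfsg.Agent.Lib.Helper19.OELeaf (two_eq_zero_of_not_odd nd_perp even_finrank_of_nd ts_ne_top)
open Cfsg.Agent.Lib.Helper19.OELeaf (plus_iff_of_noniso_halves)
open Cfsg.Agent.Lib.Helper19.OELeaf (plus_iff_of_dec_odd)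
open Cfsg.Agent.Lib.Helper20.OELeaf (odd_of_fsa_two)
open Cfsg.Agent.Lib.Helper20.OELeaf (halves_of_nd)
open Cfsg.Agent.Lib.Helper22.OELeaf (not_omega_le_field)
open Cfsg.Agent.Lib.Helper22.OELeaf (not_omega_le_subfield)
open Cfsg.Agent.Lib.Helper22.OELeaf (not_plus_of_funi)
open Cfsg.Agent.Lib.Helper25.OELeaf (funi_or_pair_of_fsa_half)
open Cfsg.Agent.Lib.Helper26.OELeaf (typeOn_top_of_dec)
open Cfsg.Agent.Lib.Helper5.OELeaf (not_omega_le_dec)
open Cfsg.Agent.Lib.Helper5.OELeaf (not_omega_le_pair)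
open Cfsg.Agent.Lib.Helper5.OELeaf (even_of_symplectic)
open Cfsg.Agent.Lib.Helper6.OELeaf (not_omega_le_subspace)

open Cfsg Cfsg.Geo Matrix Module QuadraticMap Cfsg.Agent.Lib.Lead.OE
open scoped Kronecker

section generic
variable {ι : Type} [Fintype ι] [DecidableEq ι] {F : Type*} [Field F] [Fintype F]
  (Q : QuadraticForm F (ι → F))

/-! ## copies of earlier leaves (ON MAIN; DO NOT take them from this file) -/



/-! ## NEW leaves -/










end generic

/-! ## ASSEMBLY: S5850 (Ω₁₀⁻) and S5847 (Ω₁₀⁺) -/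

section row10
universe u
variable {F : Type u} [Field F] [Fintype F]

lemma card_tensor {ι : Type} [Fintype ι] {n₁ n₂ : ℕ} (e : ι ≃ Fin n₁ × Fin n₂) :
    Fintype.card ι = n₁ * n₂ := by
  rw [Fintype.card_congr e]
  simp

lemma card_wreath {ι : Type} [Fintype ι] {k t : ℕ} (e : ι ≃ (Fin t → Fin k)) :
    Fintype.card ι = k ^ t := by
  rw [Fintype.card_congr e]
  simp

/-- no field with six elements -/
lemma card_ne_six : Fintype.card F ≠ 6 := by
  intro h
  have hpp := Fintype.isPrimePow_card_of_field (α := F)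
  rw [h] at hpp
  revert hpp
  decide

/-- `⊤` is non-degenerate -/
lemma nd_top {ι : Type} [Fintype ι] [DecidableEq ι] (Q : QuadraticForm F (ι → F))
    (hQ : (polarBilin Q).Nondegenerate) : IsNondegenerateOn (polar ⇑Q) (⊤ : Submodule F (ι → F)) := by
  intro w _ hw
  have h3 : ∃ x, polar ⇑Q x w ≠ 0 := by
    by_contra hcon
    push Not at hcon
    apply hw
    exact hQ.2 w (fun x => by rw [polarBilin_apply_apply]; exact hcon x)
  obtain ⟨x, hx⟩ := h3
  exact ⟨⟨x, Submodule.mem_top, hx⟩, ⟨x, Submodule.mem_top, by rwa [polar_comm]⟩⟩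

/-- the type of `⊤` for an isometric decomposition into even-dimensional members: `plus ⊤ ↔ (ε₀ ^ t = 1)` in the form used below -/
theorem plus_top_iff_of_dec {ι : Type} [Fintype ι] [DecidableEq ι] (Q : QuadraticForm F (ι → F))
    (hQ : (polarBilin Q).Nondegenerate) {t k : ℕ} {D : Fin t → Submodule F (ι → F)}
    (hD : IsOrthogonalMDecomposition ⇑Q k D) (hk : Even k) (i₀ : Fin t) :
    (Even t → IsPlusTypeOn ⇑Q ⊤) ∧ (Odd t → (IsPlusTypeOn ⇑Q ⊤ ↔ IsPlusTypeOn ⇑Q (D i₀))) := by
  have hndi : IsNondegenerateOn (polar ⇑Q) (D i₀) := hD.decomp.nondegenerate i₀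
  have hevi : Even (finrank F (D i₀)) := by rw [hD.decomp.decomp.finrank_eq]; exact hk
  obtain ⟨ε, hε, hty⟩ := exists_typeOn Q hndi hevi
  have htop := typeOn_top_of_dec Q hD hk i₀ hty
  have hevtop : Even (finrank F (⊤ : Submodule F (ι → F))) := by
    obtain ⟨m, hm, -⟩ := htop
    rw [hm]
    exact even_two_mul m
  constructor
  · rintro ⟨j, rfl⟩
    have h1 : ε ^ (j + j) = 1 := by
      rcases hε with rfl | rfl <;> simp [← two_mul, pow_mul]
    rw [h1] at htop
    exact (typeOn_one_iff_plus Q (nd_top Q hQ) hevtop).1 htop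
  · rintro ⟨j, rfl⟩
    have h1 : ε ^ (2 * j + 1) = ε := by
      rcases hε with rfl | rfl <;> simp [pow_succ, pow_mul]
    rw [h1] at htop
    constructor
    · intro hp
      have h := (typeOn_one_iff_plus Q (nd_top Q hQ) hevtop).2 hp
      have : ε = 1 := typeOn_unique Q htop h
      rw [this] at hty
      exact (typeOn_one_iff_plus Q hndi hevi).1 hty
    · intro hp
      have h := (typeOn_one_iff_plus Q hndi hevi).2 hp
      have : ε = 1 := typeOn_unique Q hty h
      rw [this] at htop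
      exact (typeOn_one_iff_plus Q (nd_top Q hQ) hevtop).1 htop

/-- **S5847** from the generic theorem -/
theorem row5847 (hA : AschE.{u} 10) (Q : (Fin 10 → F) → F) (hQ : Cfsg.Geo.IsNondegenerateQuadraticForm Q) (hplus : Cfsg.Geo.IsPlusTypeOn Q ⊤) (H : Subgroup (Matrix.GeneralLinearGroup (Fin 10) F)) (hH : Cfsg.Geo.IsMaximalIn (Cfsg.Geo.omegaGL Q) H) :
    (∃ W : Submodule F (Fin 10 → F), W ≠ ⊥ ∧ Cfsg.Geo.IsTotallySingularQuad Q W ∧ Module.finrank F W ≠ 4 ∧ H = Cfsg.Geo.subspaceStabilizer W ⊓ Cfsg.Geo.omegaGL Q) ∨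
    (Odd (Fintype.card F) ∧ ∃ W : Submodule F (Fin 10 → F), W ≠ ⊥ ∧ W ≠ ⊤ ∧ Odd (Module.finrank F W) ∧ 2 * Module.finrank F W ≠ 10 ∧ Cfsg.Geo.IsNondegenerateOn (QuadraticMap.polar Q) W ∧ H = Cfsg.Geo.subspaceStabilizer W ⊓ Cfsg.Geo.omegaGL Q) ∨
    (∃ W : Submodule F (Fin 10 → F), Module.finrank F W = 2 ∧ Cfsg.Geo.IsNondegenerateOn (QuadraticMap.polar Q) W ∧ ¬ Cfsg.Geo.IsPlusTypeOn Q W ∧ H = Cfsg.Geo.subspaceStabilizer W ⊓ Cfsg.Geo.omegaGL Q) ∨
    (4 ≤ Fintype.card F ∧ ∃ W : Submodule F (Fin 10 → F), Module.finrank F W = 2 ∧ Cfsg.Geo.IsNondegenerateOn (QuadraticMap.polar Q) W ∧ Cfsg.Geo.IsPlusTypeOn Q W ∧ H = Cfsg.Geo.subspaceStabilizer W ⊓ Cfsg.Geo.omegaGL Q) ∨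
    (∃ W : Submodule F (Fin 10 → F), Module.finrank F W = 4 ∧ Cfsg.Geo.IsNondegenerateOn (QuadraticMap.polar Q) W ∧ H = Cfsg.Geo.subspaceStabilizer W ⊓ Cfsg.Geo.omegaGL Q) ∨
    (¬ Odd (Fintype.card F) ∧ ∃ v : (Fin 10 → F), Q v ≠ 0 ∧ H = Cfsg.Geo.subspaceStabilizer (Submodule.span F {v}) ⊓ Cfsg.Geo.omegaGL Q) ∨
    ((∃ p : ℕ, p.Prime ∧ Fintype.card F = p ∧ (p % 4 = 1)) ∧ ∃ D : Fin 10 → Submodule F (Fin 10 → F), Cfsg.Geo.IsOrthogonalMDecomposition Q 1 D ∧ H = Cfsg.Geo.decompositionStabilizer D ⊓ Cfsg.Geo.omegaGL Q) ∨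
    (7 ≤ Fintype.card F ∧ ∃ D : Fin 5 → Submodule F (Fin 10 → F), Cfsg.Geo.IsOrthogonalMDecomposition Q 2 D ∧ H = Cfsg.Geo.decompositionStabilizer D ⊓ Cfsg.Geo.omegaGL Q) ∨
    (Fintype.card F % 4 = 1 ∧ ∃ D : Fin 2 → Submodule F (Fin 10 → F), Cfsg.Geo.IsOrthogonalMDecomposition Q 5 D ∧ H = Cfsg.Geo.decompositionStabilizer D ⊓ Cfsg.Geo.omegaGL Q) ∨
    (Fintype.card F % 4 = 3 ∧ ∃ D : Fin 2 → Submodule F (Fin 10 → F), Cfsg.Geo.IsNondegenerateMDecomposition (QuadraticMap.polar Q) 5 D ∧ ¬ Cfsg.Geo.AreIsometricFor Q (D 0) (D 1) ∧ H = Cfsg.Geo.decompositionStabilizer D ⊓ Cfsg.Geo.omegaGL Q) ∨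
    (Odd (Fintype.card F) ∧ ∃ K : Subalgebra F (Matrix (Fin 10) (Fin 10) F), Cfsg.Geo.IsFieldSubalgebra 2 K ∧ Cfsg.Geo.IsSelfAdjointFor (QuadraticMap.polar Q) K ∧ H = Cfsg.Geo.subalgebraNormalizer K ⊓ Cfsg.Geo.omegaGL Q) ∨
    (∃ (F₀ : Subfield F) (r : ℕ) (P : Matrix.GeneralLinearGroup (Fin 10) F) (ζ : F), r.Prime ∧ Fintype.card F = Nat.card F₀ ^ r ∧ ζ ≠ 0 ∧ Cfsg.Geo.IsQuadFormRationalStructure (fun v : Fin 10 → F => ζ * Q v) F₀ P ∧ H = Cfsg.Geo.subfieldSubgroup F₀ P ⊓ Cfsg.Geo.omegaGL Q) ∨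
    Cfsg.Geo.InOrthogonalResidualClass H := by
  obtain ⟨Qf, rfl, hnd⟩ := Cfsg.Agent.Lib.Helper25.Fam.exists_qf hQ
  have hcard : Fintype.card (Fin 10) = 10 := Fintype.card_fin 10
  have hfin : finrank F (Fin 10 → F) = 10 := by
    rw [Module.finrank_fintype_fun_eq_card, hcard]
  have hq1 : 1 < Fintype.card F := Fintype.one_lt_card
  have hHΩ : H ≤ omegaGL ⇑Qf := hH.1.le
  have hHI : H ≤ isometryGroup F ⇑Qf := hHΩ.trans (Cfsg.Agent.Lib.Helper18.OAschLeaf.omegaGL_le _)
  have hP1 : ∀ W : Submodule F (Fin 10 → F), W ≠ ⊥ → W ≠ ⊤ → H ≤ subspaceStabilizer W →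
      H = subspaceStabilizer W ⊓ omegaGL ⇑Qf := fun W h0 h1 hW =>
    eq_inf_of_maximal hH hW (not_omega_le_subspace Qf hnd (by omega) h0 h1)
  have hP2 : ∀ {t k : ℕ} (D : Fin t → Submodule F (Fin 10 → F)),
      IsNondegenerateMDecomposition (polar ⇑Qf) k D →
      H ≤ decompositionStabilizer D → H = decompositionStabilizer D ⊓ omegaGL ⇑Qf := fun D hD hW =>
    eq_inf_of_maximal hH hW (not_omega_le_dec Qf hnd (by rw [hcard]; omega) hD)
  have hodd_of_nd : ∀ W : Submodule F (Fin 10 → F), IsNondegenerateOn (polar ⇑Qf) W →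
      Odd (finrank F W) → Odd (Fintype.card F) := by
    intro W hndW hodd
    by_contra hne
    have h2 := two_eq_zero_of_not_odd hne
    have := even_finrank_of_nd Qf h2 hndW
    exact (Nat.not_even_iff_odd.2 hodd) this
  have hmod4 : Odd (Fintype.card F) → Fintype.card F % 4 = 1 ∨ Fintype.card F % 4 = 3 := by
    rintro ⟨j, hj⟩
    omega
  have hne_of_dim : ∀ W : Submodule F (Fin 10 → F), 0 < finrank F W → finrank F W < 10 →
      W ≠ ⊥ ∧ W ≠ ⊤ := by
    intro W h0 h1
    constructor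
    · rintro rfl
      simp at h0
    · rintro rfl
      rw [finrank_top, hfin] at h1
      omega
  -- a non-degenerate plane
  have hplane : ∀ W : Submodule F (Fin 10 → F), finrank F W = 2 → IsNondegenerateOn (polar ⇑Qf) W →
      H ≤ subspaceStabilizer W →
      (∃ W : Submodule F (Fin 10 → F), finrank F W = 2 ∧ IsNondegenerateOn (polar ⇑Qf) W ∧
        ¬ IsPlusTypeOn ⇑Qf W ∧ H = subspaceStabilizer W ⊓ omegaGL ⇑Qf) ∨
      (4 ≤ Fintype.card F ∧ ∃ W : Submodule F (Fin 10 → F), finrank F W = 2 ∧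
        IsNondegenerateOn (polar ⇑Qf) W ∧ IsPlusTypeOn ⇑Qf W ∧ H = subspaceStabilizer W ⊓ omegaGL ⇑Qf) := by
    intro W hdim hndW hW
    obtain ⟨h0, h1⟩ := hne_of_dim W (by omega) (by omega)
    have hEq := hP1 W h0 h1 hW
    by_cases hp : IsPlusTypeOn ⇑Qf W
    · by_cases hq : 4 ≤ Fintype.card F
      · exact Or.inr ⟨hq, W, hdim, hndW, hp, hEq⟩
      · exfalso
        obtain ⟨K, hK1, hK2⟩ := Cfsg.Agent.Lib.Helper9.PlusPlane.main Qf hnd (by omega)
          (by rw [hcard]; omega) W hdim hndW hp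
        exact false_of_between hH (le_inf hW hHΩ) hK1 hK2
    · exact Or.inl ⟨W, hdim, hndW, hp, hEq⟩
  -- two orthogonal halves of dimension 5
  have hhalves : ∀ D : Fin 2 → Submodule F (Fin 10 → F), IsNondegenerateMDecomposition (polar ⇑Qf) 5 D →
      (AreIsometricFor ⇑Qf (D 0) (D 1) → IsOrthogonalMDecomposition ⇑Qf 5 D) →
      H ≤ decompositionStabilizer D →
      (Fintype.card F % 4 = 1 ∧ ∃ D : Fin 2 → Submodule F (Fin 10 → F), Cfsg.Geo.IsOrthogonalMDecomposition ⇑Qf 5 D ∧ H = Cfsg.Geo.decompositionStabilizer D ⊓ Cfsg.Geo.omegaGL ⇑Qf) ∨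
      (Fintype.card F % 4 = 3 ∧ ∃ D : Fin 2 → Submodule F (Fin 10 → F), Cfsg.Geo.IsNondegenerateMDecomposition (QuadraticMap.polar ⇑Qf) 5 D ∧ ¬ Cfsg.Geo.AreIsometricFor ⇑Qf (D 0) (D 1) ∧ H = Cfsg.Geo.decompositionStabilizer D ⊓ Cfsg.Geo.omegaGL ⇑Qf) := by
    intro D hDnd hDiso hW
    have hEq := hP2 D hDnd hW
    by_cases hiso : AreIsometricFor ⇑Qf (D 0) (D 1)
    · have hD := hDiso hiso
      have h4 : Fintype.card F % 4 = 1 := (plus_iff_of_dec_odd Qf hnd hD (by decide) (by decide)).1 hplus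
      left
      exact ⟨h4, D, hD, hEq⟩
    · have h4 : Fintype.card F % 4 = 3 :=
        (plus_iff_of_noniso_halves Qf hnd hDnd (by decide) hiso).1 hplus
      right
      exact ⟨h4, D, hDnd, hiso, hEq⟩
  -- a subfield group
  have hsub : ∀ (F₀ : Subfield F) (r : ℕ) (P : GL (Fin 10) F) (ζ : F), r.Prime →
      Fintype.card F = Nat.card F₀ ^ r → ζ ≠ 0 →
      IsQuadFormRationalStructure (fun v : Fin 10 → F => ζ * Qf v) F₀ P →
      H ≤ subfieldSubgroup F₀ P →
      (∃ (F₀ : Subfield F) (r : ℕ) (P : Matrix.GeneralLinearGroup (Fin 10) F) (ζ : F), r.Prime ∧ Fintype.card F = Nat.card F₀ ^ r ∧ ζ ≠ 0 ∧ Cfsg.Geo.IsQuadFormRationalStructure (fun v : Fin 10 → F => ζ * ⇑Qf v) F₀ P ∧ H = Cfsg.Geo.subfieldSubgroup F₀ P ⊓ Cfsg.Geo.omegaGL ⇑Qf) := by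
    intro F₀ r P ζ hr hcd hζ hrat hW
    exact ⟨F₀, r, P, ζ, hr, hcd, hζ, hrat, eq_inf_of_maximal hH hW
      (not_omega_le_subfield Qf hnd (by rw [hcard]; omega) F₀ hr hcd P ζ hζ hrat)⟩
  -- a frame
  have hframe : ∀ D : Fin 10 → Submodule F (Fin 10 → F), IsOrthogonalMDecomposition ⇑Qf 1 D →
      H ≤ decompositionStabilizer D →
      ((∃ p : ℕ, p.Prime ∧ Fintype.card F = p ∧ (p % 4 = 1)) ∧ ∃ D : Fin 10 → Submodule F (Fin 10 → F), Cfsg.Geo.IsOrthogonalMDecomposition ⇑Qf 1 D ∧ H = Cfsg.Geo.decompositionStabilizer D ⊓ Cfsg.Geo.omegaGL ⇑Qf) ∨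
      (∃ (F₀ : Subfield F) (r : ℕ) (P : Matrix.GeneralLinearGroup (Fin 10) F) (ζ : F), r.Prime ∧ Fintype.card F = Nat.card F₀ ^ r ∧ ζ ≠ 0 ∧ Cfsg.Geo.IsQuadFormRationalStructure (fun v : Fin 10 → F => ζ * ⇑Qf v) F₀ P ∧ H = Cfsg.Geo.subfieldSubgroup F₀ P ⊓ Cfsg.Geo.omegaGL ⇑Qf) := by
    intro D hD hW
    have hEq := hP2 D hD.decomp hW
    have h4 : Fintype.card F % 4 = 1 := (plus_iff_of_dec_odd Qf hnd hD (by decide) (by decide)).1 hplus
    by_cases hpr : (Fintype.card F).Prime
    · left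
      exact ⟨⟨_, hpr, rfl, h4⟩, D, hD, hEq⟩
    · obtain ⟨F₀, r, P, ζ, hr, hcd, hζ, hrat, hle⟩ := sub_of_frame Qf hnd hD hpr
      right
      exact hsub F₀ r P ζ hr hcd hζ hrat ((le_inf hW hHI).trans hle)
  -- a pair of totally singular 5-spaces
  have hpair : ∀ D : Fin 2 → Submodule F (Fin 10 → F), IsMDecomposition 5 D →
      (∀ i, IsTotallySingularQuad ⇑Qf (D i)) → H ≤ decompositionStabilizer D → False := by
    intro D hD hts hW
    have hdisj : D 0 ⊓ D 1 = ⊥ := by
      have h := hD.indep.pairwiseDisjoint (show (0 : Fin 2) ≠ 1 by decide)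
      exact disjoint_iff.1 h
    have hsup : D 0 ⊔ D 1 = ⊤ := by
      rw [← hD.iSup_eq_top]
      apply le_antisymm
      · exact sup_le (le_iSup D 0) (le_iSup D 1)
      · apply iSup_le
        intro i
        fin_cases i
        · exact le_sup_left
        · exact le_sup_right
    obtain ⟨K, hK1, hK2⟩ := Cfsg.Agent.Lib.Helper25.Fam.not_maximal_pair Qf hnd
      (Or.inr (by rw [hcard]; omega)) (k := 5) (by rw [hfin]) (by omega) (by decide) D hD.finrank_eq
      hdisj hsup hts
    exact false_of_between hH (le_inf hW hHΩ) hK1 hK2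
  rcases hA ⇑Qf H ⟨hQ, hHI⟩ with hG | hres
  swap
  · iterate 12 right
    exact hres
  cases hG with
  | ts W h0 hts hW =>
    left
    refine ⟨W, h0, hts, ?_, hP1 W h0 (ts_ne_top Qf hnd (by omega) hts) hW⟩
    intro h4
    obtain ⟨U₀, -, hU₀, hU₀d⟩ := hplus
    rw [finrank_top, hfin] at hU₀d
    obtain ⟨K, hK1, hK2⟩ := Cfsg.Agent.Lib.Helper25.Fam.not_maximal_codim_one Qf hnd
      (Or.inr (by rw [hcard]; omega)) (m := 5) (by rw [hfin]) (by omega) hU₀ (by omega) hts (by omega)
    exact false_of_between hH (le_inf hW hHΩ) hK1 hK2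
  | nd W h0 h1 hndW hW =>
    have hd10 : finrank F W < 10 := by
      have hle : finrank F W ≤ 10 := by
        have := Submodule.finrank_le W
        omega
      rcases Nat.lt_or_ge (finrank F W) 10 with h | h
      · exact h
      · exfalso
        apply h1
        apply Submodule.eq_top_of_finrank_eq
        rw [hfin]; omega
    have hd0 : 0 < finrank F W := by
      rcases Nat.eq_zero_or_pos (finrank F W) with h | h
      · exact absurd (Submodule.finrank_eq_zero.1 h) h0
      · exact h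
    rcases Nat.even_or_odd (finrank F W) with hev | hodd
    · obtain ⟨j, hj⟩ := hev
      have hj' : j = 1 ∨ j = 2 ∨ j = 3 ∨ j = 4 := by omega
      rcases hj' with rfl | rfl | rfl | rfl
      · rcases hplane W (by omega) hndW hW with h | h
        · right; right; left; exact h
        · right; right; right; left; exact h
      · right; right; right; right; left
        exact ⟨W, by omega, hndW, hP1 W h0 h1 hW⟩
      · obtain ⟨U, hU0, hUd, hUnd, hle⟩ := nd_perp Qf hnd h1 hndW
        rw [hcard] at hUd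
        obtain ⟨hU0', hU1⟩ := hne_of_dim U (by omega) (by omega)
        right; right; right; right; left
        exact ⟨U, by omega, hUnd, hP1 U hU0' hU1 ((le_inf hW hHI).trans hle)⟩
      · obtain ⟨U, hU0, hUd, hUnd, hle⟩ := nd_perp Qf hnd h1 hndW
        rw [hcard] at hUd
        rcases hplane U (by omega) hUnd ((le_inf hW hHI).trans hle) with h | h
        · right; right; left; exact h
        · right; right; right; left; exact h
    · have hq : Odd (Fintype.card F) := hodd_of_nd W hndW hodd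
      by_cases h5 : finrank F W = 5
      · obtain ⟨D, hDnd, hDiso, hle⟩ := halves_of_nd Qf hnd hndW h5 (by rw [hcard]) (by omega)
        rcases hhalves D hDnd hDiso ((le_inf hW hHI).trans hle) with h | h
        · iterate 8 right
          left
          exact h
        · iterate 9 right
          left
          exact h
      · right; left
        refine ⟨hq, W, h0, h1, hodd, ?_, hndW, hP1 W h0 h1 hW⟩
        omega
  | nsv heven v hv hW =>
    have hv0 : v ≠ 0 := by
      rintro rfl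
      simp at hv
    have h0 : Submodule.span F {v} ≠ ⊥ := by
      rw [Ne, Submodule.span_singleton_eq_bot]
      exact hv0
    have h1 : Submodule.span F {v} ≠ ⊤ := by
      intro htop
      have := finrank_span_singleton (K := F) hv0
      rw [htop, finrank_top, hfin] at this
      omega
    iterate 5 right
    left
    exact ⟨heven, v, hv, hP1 _ h0 h1 hW⟩
  | dec k D hD hW =>
    rename_i t
    have htk : t * k = 10 := by
      rw [Cfsg.Agent.Lib.Helper1.OmMLeaf.mdec_card_gen hD.decomp.decomp, hcard]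
    have h2 : 2 ≤ t := hD.decomp.decomp.two_le
    have hkpos : 0 < k := hD.decomp.decomp.pos
    have hk10 : k ∣ 10 := ⟨t, by rw [← htk, mul_comm]⟩
    have hkle : k ≤ 10 := Nat.le_of_dvd (by norm_num) hk10
    have hEq := hP2 D hD.decomp hW
    have hdimD : ∀ i, finrank F (D i) = k := hD.decomp.decomp.finrank_eq
    have hk' : k = 1 ∨ k = 2 ∨ k = 5 := by
      interval_cases k <;> omega
    rcases hk' with rfl | rfl | rfl
    · -- frame
      have ht : t = 10 := by omega
      subst ht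
      rcases hframe D hD hW with h | h
      · iterate 6 right
        left
        exact h
      · iterate 11 right
        left
        exact h
    · -- planes
      have ht : t = 5 := by omega
      subst ht
      have hall : ∀ i, IsPlusTypeOn ⇑Qf (D i) := fun i =>
        ((plus_top_iff_of_dec Qf hnd hD (by decide) i).2 (by decide)).1 hplus
      by_cases hq7 : 7 ≤ Fintype.card F
      · iterate 7 right
        left
        exact ⟨hq7, D, hD, hEq⟩
      · have h6 : Fintype.card F ≠ 6 := card_ne_six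
        have hq : Fintype.card F = 2 ∨ Fintype.card F = 3 ∨ Fintype.card F = 4 ∨ Fintype.card F = 5 := by
          omega
        rcases hq with hq | hq | hq | hq
        · obtain ⟨v, hv, hle⟩ := nsv_of_planes_two Qf hq hD hall (by decide)
          have hW' := (le_inf hW hHI).trans hle
          have heven : ¬ Odd (Fintype.card F) := by rw [hq]; decide
          have hv0 : v ≠ 0 := by
            rintro rfl
            simp at hv
          have h0 : Submodule.span F {v} ≠ ⊥ := by
            rw [Ne, Submodule.span_singleton_eq_bot]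
            exact hv0
          have h1 : Submodule.span F {v} ≠ ⊤ := by
            intro htop
            have := finrank_span_singleton (K := F) hv0
            rw [htop, finrank_top, hfin] at this
            omega
          iterate 5 right
          left
          exact ⟨heven, v, hv, hP1 _ h0 h1 hW'⟩
        · obtain ⟨D', hDnd, hDiso, hle⟩ := halves_of_planes_three Qf hq hD hall
          rcases hhalves D' hDnd hDiso ((le_inf hW hHI).trans hle) with h | h
          · iterate 8 right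
            left
            exact h
          · iterate 9 right
            left
            exact h
        · obtain ⟨F₀, P, ζ, hcd, hζ, hrat, hle⟩ := sub_of_planes_four Qf hq hD hall
          iterate 11 right
          left
          exact hsub F₀ 2 P ζ Nat.prime_two hcd hζ hrat ((le_inf hW hHI).trans hle)
        · obtain ⟨D', hD', hle⟩ := frame_of_planes_five Qf hq (t' := 10) (by norm_num) hD hall
          rcases hframe D' hD' ((le_inf hW hHI).trans hle) with h | h
          · iterate 6 right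
            left
            exact h
          · iterate 11 right
            left
            exact h
    · -- 5-spaces
      have ht : t = 2 := by omega
      subst ht
      rcases hhalves D hD.decomp (fun _ => hD) hW with h | h
      · iterate 8 right
        left
        exact h
      · iterate 9 right
        left
        exact h
  | pair k D hD hts hW =>
    exfalso
    have htk : 2 * k = 10 := by
      rw [Cfsg.Agent.Lib.Helper1.OmMLeaf.mdec_card_gen hD, hcard]
    have hk5 : k = 5 := by omega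
    subst hk5
    exact hpair D hD hts hW
  | fsa r K hr hK hsa hW =>
    have hdvd : r ∣ 10 := by
      have := Cfsg.Agent.Lib.Helper1.OmMLeaf.field_dvd_gen (by rw [hcard]; omega) hK
      rwa [hcard] at this
    have hprop := eq_inf_of_maximal hH hW
      (not_omega_le_field Qf hnd (by rw [hcard]; omega) hr.two_le hK)
    have hr25 : r = 2 ∨ r = 5 := by
      have hle : r ≤ 10 := Nat.le_of_dvd (by norm_num) hdvd
      have h2 := hr.two_le
      interval_cases r <;> first | omega | (exfalso; revert hr; decide)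
    rcases hr25 with rfl | rfl
    · have hodd := odd_of_fsa_two Qf hnd (m := 5) (by rw [hcard]) (by decide) hK hsa
      iterate 10 right
      left
      exact ⟨hodd, K, hK, hsa, hprop⟩
    · exfalso
      rcases funi_or_pair_of_fsa_half hQ (by norm_num) (by decide) K hK hsa with
        ⟨K₂, hK₂, hac, hnsa, hsim, hle⟩ | ⟨D, hD, hts, hle⟩
      · exact not_plus_of_funi Qf hnd (m := 5) (by rw [hcard]) (by decide) hK₂ hac hsim hplus
      · exact hpair D hD hts ((le_inf hW hHI).trans hle)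
  | funi K hK hac hnsa hsim hW =>
    exfalso
    exact not_plus_of_funi Qf hnd (m := 5) (by rw [hcard]) (by decide) hK hac hsim hplus
  | tsym hodd n₁ n₂ e P f₁ f₂ h1 h2 hf₁ hf₂ hten hW =>
    exfalso
    have h10 := card_tensor e
    rw [hcard] at h10
    have h1' : n₁ ≤ 3 := by
      by_contra hcon
      push Not at hcon
      have : 12 ≤ n₁ * n₂ := by nlinarith
      omega
    have h13 : n₁ = 3 := by omega
    subst h13
    omega
  | talt n₁ n₂ e P f₁ f₂ h1 h2 hf₁ hf₂ hten hpure hW =>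
    exfalso
    have h10 := card_tensor e
    rw [hcard] at h10
    obtain ⟨a, ha⟩ := even_of_symplectic hf₁
    obtain ⟨b, hb⟩ := even_of_symplectic hf₂
    subst ha hb
    have : (a + a) * (b + b) = 4 * (a * b) := by ring
    omega
  | c6 R k hRH hnorm habs hst hZ h2 hk hcd hn =>
    exfalso
    have h3 : k ≤ 3 := by
      by_contra hcon
      push Not at hcon
      have : 2 ^ 4 ≤ 2 ^ k := Nat.pow_le_pow_right (by norm_num) hcon
      omega
    interval_cases k <;> omega
  | c7 k t e P f₁ hk ht hten hf₁ hW =>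
    exfalso
    have h10 := card_wreath e
    rw [hcard] at h10
    have hk3 : k ≤ 3 := by
      by_contra hcon
      push Not at hcon
      have : 4 ^ 2 ≤ k ^ t := by
        calc 4 ^ 2 ≤ k ^ 2 := Nat.pow_le_pow_left (by omega) 2
          _ ≤ k ^ t := Nat.pow_le_pow_right (by omega) ht
      omega
    have ht3 : t ≤ 3 := by
      by_contra hcon
      push Not at hcon
      have : 2 ^ 4 ≤ k ^ t := by
        calc 2 ^ 4 ≤ k ^ 4 := Nat.pow_le_pow_left hk 4
          _ ≤ k ^ t := Nat.pow_le_pow_right (by omega) hcon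
      omega
    interval_cases k <;> interval_cases t <;> omega
  | sub F₀ r P ζ hr hcd hζ hrat hW =>
    iterate 11 right
    left
    exact hsub F₀ r P ζ hr hcd hζ hrat hW

end row10

end Cfsg.Agent.Lib.Lead.OERow4p
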