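import Mathlib
import Cfsg.Agent.Lib.Lead.OddIndexTwist
import Cfsg.Agent.Lib.Helper6.DetExtSolv

/-!
lead: twist-fixed extensions over normal subgroups of odd index with solvable quotient.
-/

set_option autoImplicit false

open Cfsg Cfsg.Agent.Lib.Helper24 Cfsg.Agent.Lib.Helper6
open scoped ComplexConjugate
namespace Cfsg.Agent.CharLib

universe u

theorem exists_twist_fixed_ext_solv_aux : ∀ (c : ℕ) (G : Type u) [Group G] [Fintype G]
    (N : Subgroup G) [hN : N.Normal] [Fintype N], Nat.card G = c → Group.IsSolvable (G ⧸ N) →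
    Odd N.index → ∀ (k : ℕ) (_hk : Nat.Coprime k (Nat.card G)) (e : ℕ),
    k ^ (2 ^ e) ≡ 1 [MOD Nat.card G] →
    (∀ g : G, Odd (orderOf g) → g ^ k = g⁻¹) →
    ∀ (θ : N → ℂ), IsIrrCharacter N θ → (∀ g : G, conjFun N g θ = θ) →
    (∀ n : N, θ (n ^ k) = θ n) →
    ∃ χ : G → ℂ, IsIrrCharacter G χ ∧ resFun N χ = θ ∧ ∀ g : G, χ (g ^ k) = χ g := by
  intro c
  induction c using Nat.strong_induction_on with
  | _ c ih =>
  intro G _ _ N hN _ hcard hsolv hodd k hk e hke hk₂ θ hθ hinv hfix
  classical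
  by_cases htop : N = ⊤
  · subst htop
    let e' : G ≃* (⊤ : Subgroup G) := Subgroup.topEquiv.symm
    refine ⟨θ ∘ e', isIrrCharacter_comp_mulEquiv' e' hθ, ?_, ?_⟩
    · funext n
      rfl
    · intro g
      rw [Function.comp_apply, Function.comp_apply, map_pow, hfix]
  · obtain ⟨M, hMn, hNM, hMp⟩ := exists_normal_prime_index N htop hsolv
    have hcardM : Nat.card M < c := by
      rw [← hcard]
      have h1 := Subgroup.card_mul_index M
      have h2 : 2 ≤ M.index := hMp.two_le
      have h3 : 0 < Nat.card M := Nat.card_pos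
      nlinarith
    let _ : Fintype M := Fintype.ofFinite M
    let _ : Fintype (N.subgroupOf M) := Fintype.ofFinite _
    let eq : N.subgroupOf M ≃* N := Subgroup.subgroupOfEquivOfLe hNM
    have hθ' : IsIrrCharacter (N.subgroupOf M) (θ ∘ eq) := isIrrCharacter_comp_mulEquiv' eq hθ
    have hinv' : ∀ m : M, conjFun (N.subgroupOf M) m (θ ∘ eq) = θ ∘ eq := by
      intro m
      rw [conjFun_subgroupOf, hinv]
    have hfix' : ∀ n : N.subgroupOf M, (θ ∘ eq) (n ^ k) = (θ ∘ eq) n := by
      intro n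
      rw [Function.comp_apply, Function.comp_apply, map_pow, hfix]
    have hMdvd : Nat.card M ∣ Nat.card G := Subgroup.card_subgroup_dvd_card M
    have hkM : Nat.Coprime k (Nat.card M) := Nat.Coprime.coprime_dvd_right hMdvd hk
    have hkeM : k ^ (2 ^ e) ≡ 1 [MOD Nat.card M] := Nat.ModEq.of_dvd hMdvd hke
    have hk₂M : ∀ m : M, Odd (orderOf m) → m ^ k = m⁻¹ := by
      intro m hm
      apply Subtype.ext
      rw [Subgroup.coe_pow, Subgroup.coe_inv]
      apply hk₂
      rwa [Subgroup.orderOf_coe]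
    have hoddNM : Odd (N.subgroupOf M).index := by
      have h1 : (N.subgroupOf M).index ∣ N.index := Subgroup.relIndex_dvd_index_of_le hNM
      exact Odd.of_dvd_nat hodd h1
    have hoddM : Odd M.index := by
      have h1 : M.index ∣ N.index := Subgroup.index_dvd_of_le hNM
      exact Odd.of_dvd_nat hodd h1
    obtain ⟨η, hη, hηN, hηfix⟩ := ih (Nat.card M) hcardM M (N.subgroupOf M) rfl
      (isSolvable_quotient_subgroupOf N M hsolv) hoddNM k hkM e hkeM hk₂M (θ ∘ eq) hθ' hinv' hfix'
    have hηval : ∀ (m : M) (hm : (m : G) ∈ N), η m = θ ⟨m, hm⟩ := by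
      intro m hm
      have := congrFun hηN ⟨m, hm⟩
      exact this
    have hover : ∀ η' : M → ℂ, resFun (N.subgroupOf M) η' = θ ∘ eq →
        classInner (resFun (N.subgroupOf M) η') (θ ∘ eq) ≠ 0 := by
      intro η' h
      rw [h, classInner_irr hθ' hθ', if_pos rfl]
      exact one_ne_zero
    -- invariance of `η`
    have hηinv : ∀ g : G, conjFun M g η = η := by
      intro g
      have hirr' : IsIrrCharacter M (conjFun M g η) := isIrrCharacter_conjFun M hη g
      have hres' : resFun (N.subgroupOf M) (conjFun M g η) = θ ∘ eq := by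
        funext n'
        rw [resFun_apply, conjFun_apply]
        have hmem : g * ((n' : M) : G) * g⁻¹ ∈ N := hN.conj_mem _ n'.2 g
        rw [hηval ⟨g * ((n' : M) : G) * g⁻¹, _⟩ hmem]
        have := congrFun (hinv g) (eq n')
        rw [conjFun_apply] at this
        exact this
      have hfix'' : ∀ m : M, conjFun M g η (m ^ k) = conjFun M g η m := by
        intro m
        rw [conjFun_apply, conjFun_apply]
        have : (⟨g * ((m ^ k : M) : G) * g⁻¹, hMn.conj_mem _ (m ^ k).2 g⟩ : M) =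
            (⟨g * (m : G) * g⁻¹, hMn.conj_mem _ m.2 g⟩ : M) ^ k := by
          apply Subtype.ext
          change g * (m : G) ^ k * g⁻¹ = (g * (m : G) * g⁻¹) ^ k
          rw [conj_pow]
        rw [this, hηfix]
      have := twist_unique_over (N.subgroupOf M) hoddNM k hkM e hkeM hk₂M ⟨θ ∘ eq, hθ'⟩
        ⟨conjFun M g η, hirr'⟩ ⟨η, hη⟩ hfix'' hηfix (hover _ hres') (hover _ hηN)
      exact congrArg Subtype.val this
    have hcyc : IsCyclic (G ⧸ M) := by
      have : Fact M.index.Prime := ⟨hMp⟩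
      exact isCyclic_of_prime_card (Subgroup.index_eq_card M).symm
    obtain ⟨χ', hχ', hχ'M⟩ := exists_irr_extension_of_cyclic M hcyc hη (by
      intro g m
      have := congrFun (hηinv g) m
      rw [conjFun_apply] at this
      exact this)
    have hχ'res : resFun M χ' = η := by
      funext m
      exact hχ'M m
    obtain ⟨χ, hχres, hχfix⟩ := exists_twist_fixed_extension M hoddM k hk e hke ⟨η, hη⟩ hηfix
      ⟨χ', hχ'⟩ hχ'res
    refine ⟨χ, χ.2, ?_, hχfix⟩
    funext n
    rw [resFun_apply]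
    have := congrFun hχres ⟨n, hNM n.2⟩
    change (χ : G → ℂ) n = _ at this
    rw [this]
    exact hηval ⟨n, hNM n.2⟩ n.2

/-- Let `N ⊴ G` have odd index with `G/N` solvable.  A `G`-invariant twist-fixed irreducible
character of `N` has a twist-fixed extension to `G`. -/
theorem exists_twist_fixed_ext_solv {G : Type u} [Group G] [Fintype G]
    (N : Subgroup G) [hN : N.Normal] [Fintype N] (hsolv : Group.IsSolvable (G ⧸ N))
    (hodd : Odd N.index) (k : ℕ) (hk : Nat.Coprime k (Nat.card G)) (e : ℕ)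
    (hke : k ^ (2 ^ e) ≡ 1 [MOD Nat.card G])
    (hk₂ : ∀ g : G, Odd (orderOf g) → g ^ k = g⁻¹)
    (θ : N → ℂ) (hθ : IsIrrCharacter N θ) (hinv : ∀ g : G, conjFun N g θ = θ)
    (hfix : ∀ n : N, θ (n ^ k) = θ n) :
    ∃ χ : G → ℂ, IsIrrCharacter G χ ∧ resFun N χ = θ ∧ ∀ g : G, χ (g ^ k) = χ g :=
  exists_twist_fixed_ext_solv_aux (Nat.card G) G N rfl hsolv hodd k hk e hke hk₂ θ hθ hinv hfix

end Cfsg.Agent.CharLib
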