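import Mathlib
import Cfsg.Agent.Lib.Lead.OddIndexTwistExt
import Cfsg.Agent.Lib.Helper6.ProjExt

/-!
lead: twist-fixed extensions over normal subgroups of odd index (general quotient, via the
Sylow-by-Sylow extension criterion).
-/

set_option autoImplicit false

open Cfsg Cfsg.Agent.Lib.Helper24 Cfsg.Agent.Lib.Helper6
open scoped ComplexConjugate
namespace Cfsg.Agent.CharLib

universe u

/-- Let `N ⊴ G` have odd index.  A `G`-invariant twist-fixed irreducible
character of `N` has a twist-fixed extension to `G`. -/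
theorem exists_twist_fixed_ext {G : Type u} [Group G] [Fintype G]
    (N : Subgroup G) [hN : N.Normal] [Fintype N]
    (hodd : Odd N.index) (k : ℕ) (hk : Nat.Coprime k (Nat.card G)) (e : ℕ)
    (hke : k ^ (2 ^ e) ≡ 1 [MOD Nat.card G])
    (hk₂ : ∀ g : G, Odd (orderOf g) → g ^ k = g⁻¹)
    (θ : IrrCharacter N) (hinv : ∀ g : G, conjFun N g (θ : N → ℂ) = (θ : N → ℂ))
    (hfix : ∀ n : N, (θ : N → ℂ) (n ^ k) = (θ : N → ℂ) n) :
    ∃ χ : IrrCharacter G, resFun N (χ : G → ℂ) = (θ : N → ℂ) ∧
      ∀ g : G, (χ : G → ℂ) (g ^ k) = (χ : G → ℂ) g := by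
  classical
  have hext : ∃ χ' : G → ℂ, IsIrrCharacter G χ' ∧ ∀ n : N, χ' n = (θ : N → ℂ) n := by
    apply exists_irr_extension_of_coprime N θ.2
    · intro g n
      have := congrFun (hinv g) n
      rw [conjFun_apply] at this
      exact this
    · intro p hp
      have : Fact p.Prime := ⟨hp⟩
      obtain ⟨Q⟩ : Nonempty (Sylow p (G ⧸ N)) := inferInstance
      set P : Subgroup G := (Q : Subgroup (G ⧸ N)).comap (QuotientGroup.mk' N) with hP
      have hNP : N ≤ P := by
        intro n hn
        rw [hP, Subgroup.mem_comap]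
        have : QuotientGroup.mk' N n = 1 := (QuotientGroup.eq_one_iff n).mpr hn
        rw [this]
        exact one_mem _
      have hidx : P.index = (Q : Subgroup (G ⧸ N)).index :=
        Subgroup.index_comap_of_surjective _ (QuotientGroup.mk'_surjective N)
      have hcop : Nat.Coprime P.index p := by
        rw [hidx, Nat.coprime_comm, Nat.Prime.coprime_iff_not_dvd hp]
        exact Sylow.not_dvd_index Q
      let _ : Fintype P := Fintype.ofFinite P
      let _ : Fintype (N.subgroupOf P) := Fintype.ofFinite _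
      let eq : N.subgroupOf P ≃* N := Subgroup.subgroupOfEquivOfLe hNP
      have hθ' : IsIrrCharacter (N.subgroupOf P) ((θ : N → ℂ) ∘ eq) :=
        isIrrCharacter_comp_mulEquiv' eq θ.2
      have hinv' : ∀ m : P, conjFun (N.subgroupOf P) m ((θ : N → ℂ) ∘ eq) = (θ : N → ℂ) ∘ eq := by
        intro m
        rw [conjFun_subgroupOf, hinv]
      have hfix' : ∀ n : N.subgroupOf P,
          ((θ : N → ℂ) ∘ eq) (n ^ k) = ((θ : N → ℂ) ∘ eq) n := by
        intro n
        rw [Function.comp_apply, Function.comp_apply, map_pow, hfix]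
      have hPdvd : Nat.card P ∣ Nat.card G := Subgroup.card_subgroup_dvd_card P
      have hkP : Nat.Coprime k (Nat.card P) := Nat.Coprime.coprime_dvd_right hPdvd hk
      have hkeP : k ^ (2 ^ e) ≡ 1 [MOD Nat.card P] := Nat.ModEq.of_dvd hPdvd hke
      have hk₂P : ∀ m : P, Odd (orderOf m) → m ^ k = m⁻¹ := by
        intro m hm
        apply Subtype.ext
        rw [Subgroup.coe_pow, Subgroup.coe_inv]
        apply hk₂
        rwa [Subgroup.orderOf_coe]
      have hoddNP : Odd (N.subgroupOf P).index := by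
        have h1 : (N.subgroupOf P).index ∣ N.index := Subgroup.relIndex_dvd_index_of_le hNP
        exact Odd.of_dvd_nat hodd h1
      have hpg : IsPGroup p (P ⧸ N.subgroupOf P) := by
        intro q
        obtain ⟨m, rfl⟩ := QuotientGroup.mk'_surjective (N.subgroupOf P) q
        have hmQ : QuotientGroup.mk' N (m : G) ∈ (Q : Subgroup (G ⧸ N)) := m.2
        obtain ⟨j, hj⟩ := Q.isPGroup' ⟨_, hmQ⟩
        refine ⟨j, ?_⟩
        have h1 : (QuotientGroup.mk' N (m : G)) ^ p ^ j = 1 := by
          have := congrArg Subtype.val hj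
          simpa using this
        rw [← map_pow]
        apply (QuotientGroup.eq_one_iff _).mpr
        rw [Subgroup.mem_subgroupOf, Subgroup.coe_pow]
        rw [← map_pow] at h1
        exact (QuotientGroup.eq_one_iff _).mp h1
      have hsolv : Group.IsSolvable (P ⧸ N.subgroupOf P) := by
        have := hpg.isNilpotent
        infer_instance
      obtain ⟨η, hη, hηN, -⟩ := exists_twist_fixed_ext_solv (N.subgroupOf P) hsolv hoddNP k hkP e
        hkeP hk₂P ((θ : N → ℂ) ∘ eq) hθ' hinv' hfix'
      refine ⟨P, hNP, η, hcop, hη, ?_⟩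
      intro n
      have := congrFun hηN ⟨⟨n, hNP n.2⟩, n.2⟩
      exact this
  obtain ⟨χ', hχ', hχ'N⟩ := hext
  have hres : resFun N χ' = (θ : N → ℂ) := by
    funext n
    exact hχ'N n
  exact exists_twist_fixed_extension N hodd k hk e hke θ hfix ⟨χ', hχ'⟩ hres

end Cfsg.Agent.CharLib
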