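import Mathlib
import Cfsg.Prelude.Def_Classical

set_option autoImplicit false

/-! Element orders in `Sp_6(3)`: every symplectic `6 × 6` matrix over the field with three elements
satisfies `M ^ m = ± 1` for some `m` in an explicit list (Cayley-Hamilton on the 27 possible palindromic
characteristic polynomials). -/

namespace Cfsg.Agent.Lib.Lead.PSp63

open Matrix Polynomial

section charpoly

variable {F : Type*} [Field F]

theorem charpoly_reverse_of_symp6 (M : Matrix (Fin 3 ⊕ Fin 3) (Fin 3 ⊕ Fin 3) F)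
    (hM : M ∈ symplecticGroup (Fin 3) F) : M.charpoly.reverse = M.charpoly := by
  have hdet : M.det = 1 := SymplecticGroup.det_eq_one hM
  have hunit : IsUnit M := by
    rw [Matrix.isUnit_iff_isUnit_det, hdet]
    exact isUnit_one
  have h1 := Matrix.charpoly_inv M hunit
  rw [hdet, Ring.inverse_one, map_one, mul_one] at h1
  have hc : Fintype.card (Fin 3 ⊕ Fin 3) = 6 := by simp
  rw [hc] at h1
  have h4 : ((-1 : F[X]) ^ 6) = 1 := by norm_num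
  rw [h4, one_mul] at h1
  rw [Matrix.reverse_charpoly, ← h1, SymplecticGroup.inv_eq_symplectic_inv M hM]
  have hJ' : J (Fin 3) F * (-J (Fin 3) F) = 1 := by
    rw [mul_neg, J_squared, neg_neg]
  rw [Matrix.charpoly_mul_comm, ← Matrix.mul_assoc, hJ', Matrix.one_mul, Matrix.charpoly_transpose]

theorem charpoly_form6 (M : Matrix (Fin 3 ⊕ Fin 3) (Fin 3 ⊕ Fin 3) F)
    (hM : M ∈ symplecticGroup (Fin 3) F) : ∃ a b c : F,
      M.charpoly = X ^ 6 + C a * X ^ 5 + C b * X ^ 4 + C c * X ^ 3 + C b * X ^ 2 + C a * X + 1 := by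
  have hrev := charpoly_reverse_of_symp6 M hM
  have hdet : M.det = 1 := SymplecticGroup.det_eq_one hM
  have hc : Fintype.card (Fin 3 ⊕ Fin 3) = 6 := by simp
  have hdeg : M.charpoly.natDegree = 6 := by rw [Matrix.charpoly_natDegree_eq_dim, hc]
  have hmon : M.charpoly.Monic := Matrix.charpoly_monic M
  have h6 : M.charpoly.coeff 6 = 1 := by
    have := hmon.coeff_natDegree
    rwa [hdeg] at this
  have h0 : M.charpoly.coeff 0 = 1 := by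
    have := Matrix.det_eq_sign_charpoly_coeff M
    rw [hdet, hc] at this
    have e : ((-1 : F) ^ 6) = 1 := by norm_num
    rw [e, one_mul] at this
    exact this.symm
  have h15 : M.charpoly.coeff 1 = M.charpoly.coeff 5 := by
    have := Polynomial.coeff_reverse M.charpoly 1
    rw [hrev, hdeg] at this
    rw [this]
    rfl
  have h24 : M.charpoly.coeff 2 = M.charpoly.coeff 4 := by
    have := Polynomial.coeff_reverse M.charpoly 2
    rw [hrev, hdeg] at this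
    rw [this]
    rfl
  refine ⟨M.charpoly.coeff 5, M.charpoly.coeff 4, M.charpoly.coeff 3, ?_⟩
  ext n
  rcases Nat.lt_or_ge n 7 with h | h
  · interval_cases n
    · simp [h0, coeff_X, coeff_one]
    · simp [h15, coeff_one]
    · simp [h24, coeff_one]
    · simp [coeff_one]
    · simp [coeff_one]
    · simp [coeff_one]
    · simp [h6, coeff_one]
  · rw [Polynomial.coeff_eq_zero_of_natDegree_lt (by rw [hdeg]; omega)]
    have hn0 : n ≠ 6 := by omega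
    have hn1 : n ≠ 5 := by omega
    have hn2 : n ≠ 4 := by omega
    have hn3 : n ≠ 3 := by omega
    have hn4 : n ≠ 2 := by omega
    have hn5 : n ≠ 1 := by omega
    have hn6 : n ≠ 0 := by omega
    simp [coeff_X_pow, coeff_X, coeff_one, hn0, hn1, hn2, hn3, hn4, hn5, hn6, Polynomial.coeff_C_mul]
    intro h1
    omega

theorem pow_of_poly6 (M : Matrix (Fin 3 ⊕ Fin 3) (Fin 3 ⊕ Fin 3) F) (m : ℕ) (q : F[X])
    (h : X ^ m - 1 = M.charpoly * q) : M ^ m = 1 := by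
  have := congrArg (aeval M) h
  simp only [map_sub, map_pow, aeval_X, map_one, map_mul, Matrix.aeval_self_charpoly, zero_mul] at this
  exact sub_eq_zero.mp this

theorem pow_of_poly6' (M : Matrix (Fin 3 ⊕ Fin 3) (Fin 3 ⊕ Fin 3) F) (m : ℕ) (q : F[X])
    (h : X ^ m + 1 = M.charpoly * q) : M ^ m = -1 := by
  have := congrArg (aeval M) h
  simp only [map_add, map_pow, aeval_X, map_one, map_mul, Matrix.aeval_self_charpoly, zero_mul] at this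
  exact eq_neg_of_add_eq_zero_left this

theorem tri_of_card_three [Fintype F] (hF : Fintype.card F = 3) :
    (3 : F) = 0 ∧ ∀ x : F, x = 0 ∨ x = 1 ∨ x = -1 := by
  have h3 : (3 : F) = 0 := by
    have := Nat.cast_card_eq_zero F
    rw [hF] at this
    exact_mod_cast this
  refine ⟨h3, ?_⟩
  classical
  intro x
  have h10 : (1 : F) ≠ 0 := one_ne_zero
  have hm10 : (-1 : F) ≠ 0 := neg_ne_zero.mpr one_ne_zero
  have hm11 : (-1 : F) ≠ 1 := by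
    intro h
    have : (1 : F) = 0 := by linear_combination h3 + h
    exact one_ne_zero this
  have hcard : ({0, 1, -1} : Finset F).card = 3 := by
    rw [Finset.card_insert_of_notMem, Finset.card_insert_of_notMem, Finset.card_singleton]
    · simp [hm11.symm]
    · simp [h10.symm, hm10.symm]
  have huniv : ({0, 1, -1} : Finset F) = Finset.univ := by
    apply Finset.eq_univ_of_card
    rw [hcard, hF]
  have := Finset.mem_univ x
  rw [← huniv] at this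
  simpa using this

set_option maxHeartbeats 1600000 in
theorem symp_pow6 [Fintype F] (hF : Fintype.card F = 3)
    (M : Matrix (Fin 3 ⊕ Fin 3) (Fin 3 ⊕ Fin 3) F) (hM : M ∈ symplecticGroup (Fin 3) F) :
    ∃ m ∈ ({6, 7, 8, 9, 12, 13, 14, 15, 18, 20, 24, 30, 36} : Finset ℕ), M ^ m = 1 ∨ M ^ m = -1 := by
  obtain ⟨a, b, c, hp⟩ := charpoly_form6 M hM
  obtain ⟨h3, tri⟩ := tri_of_card_three hF
  have h3X : (3 : F[X]) = 0 := by
    have : (3 : F[X]) = C (3 : F) := (map_ofNat C 3).symm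
    rw [this, h3, map_zero]
  rcases tri a with rfl | rfl | rfl <;> rcases tri b with rfl | rfl | rfl <;>
    rcases tri c with rfl | rfl | rfl
  · -- (0,0,0)
    refine ⟨6, by decide, Or.inr (pow_of_poly6' M 6 (1) ?_)⟩
    rw [hp]; simp only [map_zero, map_one, map_neg]
    linear_combination (0) * h3X
  · -- (0,0,1)
    refine ⟨9, by decide, Or.inl (pow_of_poly6 M 9 (-1 + X ^ 3) ?_)⟩
    rw [hp]; simp only [map_zero, map_one, map_neg]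
    linear_combination (0) * h3X
  · -- (0,0,-1)
    refine ⟨9, by decide, Or.inr (pow_of_poly6' M 9 (1 + X ^ 3) ?_)⟩
    rw [hp]; simp only [map_zero, map_one, map_neg]
    linear_combination (0) * h3X
  · -- (0,1,0)
    refine ⟨8, by decide, Or.inl (pow_of_poly6 M 8 (-1 + X ^ 2) ?_)⟩
    rw [hp]; simp only [map_zero, map_one, map_neg]
    linear_combination (0) * h3X
  · -- (0,1,1)
    refine ⟨30, by decide, Or.inl (pow_of_poly6 M 30 (-1 + X ^ 2 + X ^ 3 + X ^ 5 - X ^ 6 + X ^ 7 - X ^ 8 + X ^ 9 + X ^ 10 + X ^ 11 - X ^ 13 - X ^ 14 - X ^ 15 + X ^ 16 - X ^ 17 + X ^ 18 - X ^ 19 - X ^ 21 - X ^ 22 + X ^ 24) ?_)⟩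
    rw [hp]; simp only [map_zero, map_one, map_neg]
    linear_combination (-X ^ 5 - X ^ 7 - X ^ 9 - X ^ 11 - X ^ 13 + X ^ 17 + X ^ 19 + X ^ 21 + X ^ 23 + X ^ 25) * h3X
  · -- (0,1,-1)
    refine ⟨30, by decide, Or.inl (pow_of_poly6 M 30 (-1 + X ^ 2 - X ^ 3 - X ^ 5 - X ^ 6 - X ^ 7 - X ^ 8 - X ^ 9 + X ^ 10 - X ^ 11 + X ^ 13 - X ^ 14 + X ^ 15 + X ^ 16 + X ^ 17 + X ^ 18 + X ^ 19 + X ^ 21 - X ^ 22 + X ^ 24) ?_)⟩
    rw [hp]; simp only [map_zero, map_one, map_neg]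
    linear_combination (X ^ 5 + X ^ 7 + X ^ 9 + X ^ 11 + X ^ 13 - X ^ 17 - X ^ 19 - X ^ 21 - X ^ 23 - X ^ 25) * h3X
  · -- (0,-1,0)
    refine ⟨12, by decide, Or.inl (pow_of_poly6 M 12 (-1 - X ^ 2 + X ^ 4 + X ^ 6) ?_)⟩
    rw [hp]; simp only [map_zero, map_one, map_neg]
    linear_combination (-X ^ 4 + X ^ 8) * h3X
  · -- (0,-1,1)
    refine ⟨13, by decide, Or.inr (pow_of_poly6' M 13 (1 + X ^ 2 - X ^ 3 - X ^ 4 + X ^ 5 + X ^ 7) ?_)⟩
    rw [hp]; simp only [map_zero, map_one, map_neg]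
    linear_combination (X ^ 4 - X ^ 5 - X ^ 8 + X ^ 9) * h3X
  · -- (0,-1,-1)
    refine ⟨13, by decide, Or.inl (pow_of_poly6 M 13 (-1 - X ^ 2 - X ^ 3 + X ^ 4 + X ^ 5 + X ^ 7) ?_)⟩
    rw [hp]; simp only [map_zero, map_one, map_neg]
    linear_combination (-X ^ 4 - X ^ 5 + X ^ 8 + X ^ 9) * h3X
  · -- (1,0,0)
    refine ⟨15, by decide, Or.inr (pow_of_poly6' M 15 (1 - X + X ^ 2 - X ^ 3 + X ^ 4 + X ^ 5 - X ^ 6 + X ^ 7 - X ^ 8 + X ^ 9) ?_)⟩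
    rw [hp]; simp only [map_zero, map_one, map_neg]
    linear_combination (-X ^ 5 - X ^ 10) * h3X
  · -- (1,0,1)
    refine ⟨14, by decide, Or.inr (pow_of_poly6' M 14 (1 - X + X ^ 2 + X ^ 3 + X ^ 5 + X ^ 6 - X ^ 7 + X ^ 8) ?_)⟩
    rw [hp]; simp only [map_zero, map_one, map_neg]
    linear_combination (-X ^ 3 - X ^ 5 - X ^ 6 - X ^ 8 - X ^ 9 - X ^ 11) * h3X
  · -- (1,0,-1)
    refine ⟨12, by decide, Or.inl (pow_of_poly6 M 12 (-1 + X - X ^ 2 + X ^ 4 - X ^ 5 + X ^ 6) ?_)⟩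
    rw [hp]; simp only [map_zero, map_one, map_neg]
    linear_combination (0) * h3X
  · -- (1,1,0)
    refine ⟨24, by decide, Or.inl (pow_of_poly6 M 24 (-1 + X - X ^ 3 - X ^ 4 - X ^ 5 - X ^ 6 - X ^ 7 + X ^ 8 - X ^ 10 + X ^ 11 + X ^ 12 + X ^ 13 + X ^ 14 + X ^ 15 - X ^ 17 + X ^ 18) ?_)⟩
    rw [hp]; simp only [map_zero, map_one, map_neg]
    linear_combination (X ^ 4 + X ^ 5 + X ^ 6 + X ^ 7 + X ^ 8 + X ^ 9 + X ^ 10 + X ^ 11 - X ^ 13 - X ^ 14 - X ^ 15 - X ^ 16 - X ^ 17 - X ^ 18 - X ^ 19 - X ^ 20) * h3X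
  · -- (1,1,1)
    refine ⟨7, by decide, Or.inl (pow_of_poly6 M 7 (-1 + X) ?_)⟩
    rw [hp]; simp only [map_zero, map_one, map_neg]
    linear_combination (0) * h3X
  · -- (1,1,-1)
    refine ⟨36, by decide, Or.inl (pow_of_poly6 M 36 (-1 + X + X ^ 3 + X ^ 4 + X ^ 5 - X ^ 6 - X ^ 7 + X ^ 8 - X ^ 9 + X ^ 10 - X ^ 11 + X ^ 14 - X ^ 16 + X ^ 19 - X ^ 20 + X ^ 21 - X ^ 22 + X ^ 23 + X ^ 24 - X ^ 25 - X ^ 26 - X ^ 27 - X ^ 29 + X ^ 30) ?_)⟩
    rw [hp]; simp only [map_zero, map_one, map_neg]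
    linear_combination (-X ^ 3 - X ^ 5 - X ^ 9 - X ^ 10 + X ^ 11 + X ^ 13 - X ^ 14 + X ^ 17 - X ^ 19 + X ^ 22 - X ^ 23 - X ^ 25 + X ^ 26 + X ^ 27 + X ^ 31 + X ^ 33) * h3X
  · -- (1,-1,0)
    refine ⟨13, by decide, Or.inl (pow_of_poly6 M 13 (-1 + X + X ^ 2 - X ^ 5 - X ^ 6 + X ^ 7) ?_)⟩
    rw [hp]; simp only [map_zero, map_one, map_neg]
    linear_combination (-X ^ 2 + X ^ 5 + X ^ 6 - X ^ 7 - X ^ 8 + X ^ 11) * h3X
  · -- (1,-1,1)
    refine ⟨18, by decide, Or.inl (pow_of_poly6 M 18 (-1 + X + X ^ 2 + X ^ 3 + X ^ 4 + X ^ 5 - X ^ 7 - X ^ 8 - X ^ 9 - X ^ 10 - X ^ 11 + X ^ 12) ?_)⟩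
    rw [hp]; simp only [map_zero, map_one, map_neg]
    linear_combination (-X ^ 2 - X ^ 4 + X ^ 14 + X ^ 16) * h3X
  · -- (1,-1,-1)
    refine ⟨20, by decide, Or.inl (pow_of_poly6 M 20 (-1 + X + X ^ 2 - X ^ 3 - X ^ 4 - X ^ 6 + X ^ 8 + X ^ 10 + X ^ 11 - X ^ 12 - X ^ 13 + X ^ 14) ?_)⟩
    rw [hp]; simp only [map_zero, map_one, map_neg]
    linear_combination (-X ^ 2 + X ^ 4 + X ^ 5 - X ^ 7 - X ^ 8 + X ^ 12 + X ^ 13 - X ^ 15 - X ^ 16 + X ^ 18) * h3X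
  · -- (-1,0,0)
    refine ⟨15, by decide, Or.inl (pow_of_poly6 M 15 (-1 - X - X ^ 2 - X ^ 3 - X ^ 4 + X ^ 5 + X ^ 6 + X ^ 7 + X ^ 8 + X ^ 9) ?_)⟩
    rw [hp]; simp only [map_zero, map_one, map_neg]
    linear_combination (-X ^ 5 + X ^ 10) * h3X
  · -- (-1,0,1)
    refine ⟨12, by decide, Or.inl (pow_of_poly6 M 12 (-1 - X - X ^ 2 + X ^ 4 + X ^ 5 + X ^ 6) ?_)⟩
    rw [hp]; simp only [map_zero, map_one, map_neg]
    linear_combination (0) * h3X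
  · -- (-1,0,-1)
    refine ⟨14, by decide, Or.inr (pow_of_poly6' M 14 (1 + X + X ^ 2 - X ^ 3 - X ^ 5 + X ^ 6 + X ^ 7 + X ^ 8) ?_)⟩
    rw [hp]; simp only [map_zero, map_one, map_neg]
    linear_combination (X ^ 3 + X ^ 5 - X ^ 6 - X ^ 8 + X ^ 9 + X ^ 11) * h3X
  · -- (-1,1,0)
    refine ⟨24, by decide, Or.inl (pow_of_poly6 M 24 (-1 - X + X ^ 3 - X ^ 4 + X ^ 5 - X ^ 6 + X ^ 7 + X ^ 8 - X ^ 10 - X ^ 11 + X ^ 12 - X ^ 13 + X ^ 14 - X ^ 15 + X ^ 17 + X ^ 18) ?_)⟩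
    rw [hp]; simp only [map_zero, map_one, map_neg]
    linear_combination (X ^ 4 - X ^ 5 + X ^ 6 - X ^ 7 + X ^ 8 - X ^ 9 + X ^ 10 - X ^ 11 + X ^ 13 - X ^ 14 + X ^ 15 - X ^ 16 + X ^ 17 - X ^ 18 + X ^ 19 - X ^ 20) * h3X
  · -- (-1,1,1)
    refine ⟨36, by decide, Or.inl (pow_of_poly6 M 36 (-1 - X - X ^ 3 + X ^ 4 - X ^ 5 - X ^ 6 + X ^ 7 + X ^ 8 + X ^ 9 + X ^ 10 + X ^ 11 + X ^ 14 - X ^ 16 - X ^ 19 - X ^ 20 - X ^ 21 - X ^ 22 - X ^ 23 + X ^ 24 + X ^ 25 - X ^ 26 + X ^ 27 + X ^ 29 + X ^ 30) ?_)⟩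
    rw [hp]; simp only [map_zero, map_one, map_neg]
    linear_combination (X ^ 3 + X ^ 5 + X ^ 9 - X ^ 10 - X ^ 11 - X ^ 13 - X ^ 14 - X ^ 17 + X ^ 19 + X ^ 22 + X ^ 23 + X ^ 25 + X ^ 26 - X ^ 27 - X ^ 31 - X ^ 33) * h3X
  · -- (-1,1,-1)
    refine ⟨7, by decide, Or.inr (pow_of_poly6' M 7 (1 + X) ?_)⟩
    rw [hp]; simp only [map_zero, map_one, map_neg]
    linear_combination (0) * h3X
  · -- (-1,-1,0)
    refine ⟨13, by decide, Or.inr (pow_of_poly6' M 13 (1 + X - X ^ 2 - X ^ 5 + X ^ 6 + X ^ 7) ?_)⟩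
    rw [hp]; simp only [map_zero, map_one, map_neg]
    linear_combination (X ^ 2 + X ^ 5 - X ^ 6 - X ^ 7 + X ^ 8 + X ^ 11) * h3X
  · -- (-1,-1,1)
    refine ⟨20, by decide, Or.inl (pow_of_poly6 M 20 (-1 - X + X ^ 2 + X ^ 3 - X ^ 4 - X ^ 6 + X ^ 8 + X ^ 10 - X ^ 11 - X ^ 12 + X ^ 13 + X ^ 14) ?_)⟩
    rw [hp]; simp only [map_zero, map_one, map_neg]
    linear_combination (-X ^ 2 + X ^ 4 - X ^ 5 + X ^ 7 - X ^ 8 + X ^ 12 - X ^ 13 + X ^ 15 - X ^ 16 + X ^ 18) * h3X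
  · -- (-1,-1,-1)
    refine ⟨18, by decide, Or.inl (pow_of_poly6 M 18 (-1 - X + X ^ 2 - X ^ 3 + X ^ 4 - X ^ 5 + X ^ 7 - X ^ 8 + X ^ 9 - X ^ 10 + X ^ 11 + X ^ 12) ?_)⟩
    rw [hp]; simp only [map_zero, map_one, map_neg]
    linear_combination (-X ^ 2 - X ^ 4 + X ^ 14 + X ^ 16) * h3X

end charpoly

end Cfsg.Agent.Lib.Lead.PSp63
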