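import Mathlib
import Cfsg.Prelude.Def_Classical
import Cfsg.Agent.Lib.Lead.PSp63A

set_option autoImplicit false

/-! Explicit elements of `Sp_6(3)` whose images in `PSp_6(3)` have orders 14, 30, 13; the prime graph of
`PSp_6(3)`. -/

namespace Cfsg.Agent.Lib.Lead.PSp63

open Matrix

/-- reindex a 6×6 matrix. -/
def mk6 (M : Matrix (Fin 6) (Fin 6) (ZMod 3)) : Matrix (Fin 3 ⊕ Fin 3) (Fin 3 ⊕ Fin 3) (ZMod 3) :=
  M.submatrix finSumFinEquiv finSumFinEquiv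

def Y28 : Matrix (Fin 6) (Fin 6) (ZMod 3) :=
  !![2, 1, 2, 2, 0, 0; 1, 1, 0, 0, 2, 0; 2, 0, 2, 0, 0, 2; 1, 0, 0, 0, 0, 0; 0, 1, 0, 0, 0, 0; 0, 0, 1, 0, 0, 0]
def Z30 : Matrix (Fin 6) (Fin 6) (ZMod 3) :=
  !![0, 0, 0, 2, 0, 0; 0, 0, 0, 0, 2, 0; 0, 0, 0, 0, 0, 2; 1, 0, 0, 1, 0, 0; 0, 1, 0, 0, 2, 2; 0, 0, 1, 0, 2, 0]
def G13 : Matrix (Fin 6) (Fin 6) (ZMod 3) :=
  !![1, 2, 1, 2, 0, 0; 2, 0, 0, 0, 2, 0; 1, 0, 1, 0, 0, 2; 1, 0, 0, 0, 0, 0; 0, 1, 0, 0, 0, 0; 0, 0, 1, 0, 0, 0]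
def W0 : Matrix (Fin 6) (Fin 6) (ZMod 3) :=
  !![1, 0, 0, 1, 0, 0; 0, 1, 0, 0, 0, 0; 0, 0, 1, 0, 0, 0; 0, 0, 0, 1, 0, 0; 0, 0, 0, 0, 1, 0; 0, 0, 0, 0, 0, 1]
def W2 : Matrix (Fin 6) (Fin 6) (ZMod 3) :=
  !![1, 0, 0, 0, 1, 0; 0, 1, 0, 1, 0, 0; 0, 0, 1, 0, 0, 0; 0, 0, 0, 1, 0, 0; 0, 0, 0, 0, 1, 0; 0, 0, 0, 0, 0, 1]

theorem Y28_mem : mk6 Y28 ∈ symplecticGroup (Fin 3) (ZMod 3) := by
  rw [SymplecticGroup.mem_iff]; decide +kernel
theorem Z30_mem : mk6 Z30 ∈ symplecticGroup (Fin 3) (ZMod 3) := by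
  rw [SymplecticGroup.mem_iff]; decide +kernel
theorem G13_mem : mk6 G13 ∈ symplecticGroup (Fin 3) (ZMod 3) := by
  rw [SymplecticGroup.mem_iff]; decide +kernel
theorem W0_mem : mk6 W0 ∈ symplecticGroup (Fin 3) (ZMod 3) := by
  rw [SymplecticGroup.mem_iff]; decide +kernel
theorem W2_mem : mk6 W2 ∈ symplecticGroup (Fin 3) (ZMod 3) := by
  rw [SymplecticGroup.mem_iff]; decide +kernel

theorem Y28_pow : mk6 Y28 ^ 14 = -1 := by decide +kernel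
theorem Z30_pow : mk6 Z30 ^ 30 = 1 := by decide +kernel
theorem G13_pow : mk6 G13 ^ 13 = 1 := by decide +kernel
theorem Y28_nc2 : mk6 W0 * mk6 Y28 ^ 2 ≠ mk6 Y28 ^ 2 * mk6 W0 := by decide +kernel
theorem Y28_nc7 : mk6 W0 * mk6 Y28 ^ 7 ≠ mk6 Y28 ^ 7 * mk6 W0 := by decide +kernel
theorem Z30_nc6 : mk6 W2 * mk6 Z30 ^ 6 ≠ mk6 Z30 ^ 6 * mk6 W2 := by decide +kernel
theorem Z30_nc10 : mk6 W0 * mk6 Z30 ^ 10 ≠ mk6 Z30 ^ 10 * mk6 W0 := by decide +kernel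
theorem Z30_nc15 : mk6 W2 * mk6 Z30 ^ 15 ≠ mk6 Z30 ^ 15 * mk6 W2 := by decide +kernel
theorem G13_nc : mk6 W0 * mk6 G13 ^ 1 ≠ mk6 G13 ^ 1 * mk6 W0 := by decide +kernel


theorem order_eq_of6 {G : Type*} [Monoid G] {g : G} {n : ℕ} (ms : List ℕ) (hn : 0 < n)
    (h1 : g ^ n = 1) (h2 : ∀ m ∈ ms, g ^ m ≠ 1)
    (h3 : ∀ d ∈ n.divisors, d = n ∨ ∃ m ∈ ms, d ∣ m) : orderOf g = n := by
  have hd : orderOf g ∈ n.divisors :=
    Nat.mem_divisors.mpr ⟨orderOf_dvd_of_pow_eq_one h1, hn.ne'⟩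
  rcases h3 _ hd with h | ⟨m, hm, hdm⟩
  · exact h
  · exact absurd (orderOf_dvd_iff_pow_eq_one.mp hdm) (h2 m hm)

theorem exists_orderOf_eq_of_dvd6 {G : Type*} [Monoid G] {g : G} {n d : ℕ} (hn : 0 < n)
    (h : orderOf g = n) (hd : d ∣ n) : ∃ g' : G, orderOf g' = d := by
  obtain ⟨e, rfl⟩ := hd
  have he0 : 0 < e := Nat.pos_of_ne_zero (by rintro rfl; simp at hn)
  refine ⟨g ^ e, ?_⟩
  rw [orderOf_pow_of_dvd he0.ne' (by rw [h]; exact dvd_mul_left e d), h,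
    Nat.mul_div_cancel _ he0]

section psp

variable {F : Type*} [Field F]

/-- transport to `F`. -/
def toSp6 (ι : ZMod 3 →+* F) (A : Matrix (Fin 3 ⊕ Fin 3) (Fin 3 ⊕ Fin 3) (ZMod 3))
    (hA : A ∈ symplecticGroup (Fin 3) (ZMod 3)) : symplecticGroup (Fin 3) F :=
  ⟨A.map ι, SymplecticGroup.map_mem hA ι⟩

theorem toSp6_pow (ι : ZMod 3 →+* F) (A : Matrix (Fin 3 ⊕ Fin 3) (Fin 3 ⊕ Fin 3) (ZMod 3))
    (hA : A ∈ symplecticGroup (Fin 3) (ZMod 3)) (k : ℕ) :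
    ((toSp6 ι A hA ^ k : symplecticGroup (Fin 3) F) : Matrix (Fin 3 ⊕ Fin 3) (Fin 3 ⊕ Fin 3) F) =
      (A ^ k).map ι := by
  rw [SubmonoidClass.coe_pow]
  exact (map_pow ι.mapMatrix A k).symm

theorem mk_eq_one_of_pm (A : symplecticGroup (Fin 3) F)
    (h : (A : Matrix (Fin 3 ⊕ Fin 3) (Fin 3 ⊕ Fin 3) F) = 1 ∨
      (A : Matrix (Fin 3 ⊕ Fin 3) (Fin 3 ⊕ Fin 3) F) = -1) :
    ((A : symplecticGroup (Fin 3) F) : Cfsg.PSp 3 F) = 1 := by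
  rw [QuotientGroup.eq_one_iff, Subgroup.mem_center_iff]
  intro g
  apply Subtype.ext
  rw [Submonoid.coe_mul, Submonoid.coe_mul]
  rcases h with h | h
  · rw [h, Matrix.mul_one, Matrix.one_mul]
  · rw [h, Matrix.mul_neg, Matrix.neg_mul, Matrix.mul_one, Matrix.one_mul]

theorem toSp6_mk_pow_eq_one (ι : ZMod 3 →+* F) (A : Matrix (Fin 3 ⊕ Fin 3) (Fin 3 ⊕ Fin 3) (ZMod 3))
    (hA : A ∈ symplecticGroup (Fin 3) (ZMod 3)) (k : ℕ) (h : A ^ k = 1 ∨ A ^ k = -1) :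
    ((toSp6 ι A hA : symplecticGroup (Fin 3) F) : Cfsg.PSp 3 F) ^ k = 1 := by
  rw [← QuotientGroup.mk_pow]
  apply mk_eq_one_of_pm
  rw [toSp6_pow]
  rcases h with h | h
  · left
    rw [h]
    exact map_one ι.mapMatrix
  · right
    rw [h]
    exact map_neg ι.mapMatrix 1 |>.trans (by rw [map_one])

theorem toSp6_not_center (ι : ZMod 3 →+* F) (hι : Function.Injective ι)
    (A B : Matrix (Fin 3 ⊕ Fin 3) (Fin 3 ⊕ Fin 3) (ZMod 3))
    (hA : A ∈ symplecticGroup (Fin 3) (ZMod 3)) (hB : B ∈ symplecticGroup (Fin 3) (ZMod 3)) (k : ℕ)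
    (h : B * A ^ k ≠ A ^ k * B) :
    ((toSp6 ι A hA : symplecticGroup (Fin 3) F) : Cfsg.PSp 3 F) ^ k ≠ 1 := by
  rw [← QuotientGroup.mk_pow, Ne, QuotientGroup.eq_one_iff]
  intro hc
  rw [Subgroup.mem_center_iff] at hc
  have h1 := congrArg (fun z : symplecticGroup (Fin 3) F =>
    (z : Matrix (Fin 3 ⊕ Fin 3) (Fin 3 ⊕ Fin 3) F)) (hc (toSp6 ι B hB))
  simp only [Submonoid.coe_mul, toSp6_pow] at h1
  change B.map ι * (A ^ k).map ι = (A ^ k).map ι * B.map ι at h1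
  rw [← Matrix.map_mul, ← Matrix.map_mul] at h1
  exact h (Matrix.map_injective hι h1)

/-- The bound for the spectrum of `PSp_6(3)`. -/
def SpecB : Finset ℕ := {6, 7, 8, 9, 12, 13, 14, 15, 18, 20, 24, 30, 36}

theorem orderOf_dvd_SpecB [Fintype F] (hF : Fintype.card F = 3) (x : Cfsg.PSp 3 F) :
    ∃ m ∈ SpecB, orderOf x ∣ m := by
  induction x using QuotientGroup.induction_on with
  | H A =>
    obtain ⟨m, hm, h⟩ := symp_pow6 hF A.1 A.2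
    refine ⟨m, hm, ?_⟩
    apply orderOf_dvd_of_pow_eq_one
    rw [← QuotientGroup.mk_pow]
    apply mk_eq_one_of_pm
    rw [SubmonoidClass.coe_pow]
    exact h

theorem exists_orders [Fintype F] (hF : Fintype.card F = 3) :
    (∃ x : Cfsg.PSp 3 F, orderOf x = 14) ∧ (∃ x : Cfsg.PSp 3 F, orderOf x = 30) ∧
      (∃ x : Cfsg.PSp 3 F, orderOf x = 13) := by
  let e : ZMod 3 ≃+* F := ZMod.ringEquivOfPrime F Nat.prime_three hF
  let ι : ZMod 3 →+* F := e.toRingHom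
  have hι : Function.Injective ι := e.injective
  refine ⟨⟨((toSp6 ι (mk6 Y28) Y28_mem : symplecticGroup (Fin 3) F) : Cfsg.PSp 3 F), ?_⟩,
    ⟨((toSp6 ι (mk6 Z30) Z30_mem : symplecticGroup (Fin 3) F) : Cfsg.PSp 3 F), ?_⟩,
    ⟨((toSp6 ι (mk6 G13) G13_mem : symplecticGroup (Fin 3) F) : Cfsg.PSp 3 F), ?_⟩⟩
  · apply order_eq_of6 [2, 7] (by norm_num)
    · exact toSp6_mk_pow_eq_one ι _ _ 14 (Or.inr Y28_pow)
    · intro m hm
      simp only [List.mem_cons, List.mem_nil_iff, or_false] at hm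
      rcases hm with rfl | rfl
      · exact toSp6_not_center ι hι (mk6 Y28) (mk6 W0) Y28_mem W0_mem 2 Y28_nc2
      · exact toSp6_not_center ι hι (mk6 Y28) (mk6 W0) Y28_mem W0_mem 7 Y28_nc7
    · decide
  · apply order_eq_of6 [6, 10, 15] (by norm_num)
    · exact toSp6_mk_pow_eq_one ι _ _ 30 (Or.inl Z30_pow)
    · intro m hm
      simp only [List.mem_cons, List.mem_nil_iff, or_false] at hm
      rcases hm with rfl | rfl | rfl
      · exact toSp6_not_center ι hι (mk6 Z30) (mk6 W2) Z30_mem W2_mem 6 Z30_nc6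
      · exact toSp6_not_center ι hι (mk6 Z30) (mk6 W0) Z30_mem W0_mem 10 Z30_nc10
      · exact toSp6_not_center ι hι (mk6 Z30) (mk6 W2) Z30_mem W2_mem 15 Z30_nc15
    · decide
  · apply order_eq_of6 [1] (by norm_num)
    · exact toSp6_mk_pow_eq_one ι _ _ 13 (Or.inl G13_pow)
    · intro m hm
      simp only [List.mem_cons, List.mem_nil_iff, or_false] at hm
      subst hm
      exact toSp6_not_center ι hι (mk6 G13) (mk6 W0) G13_mem W0_mem 1 G13_nc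
    · decide

theorem specB_le : ∀ m ∈ SpecB, m ≤ 36 ∧ 0 < m := by decide

theorem specB_prime : ∀ p ≤ 36, p.Prime → ∀ m ∈ SpecB, p ∣ m →
    p = 2 ∨ p = 3 ∨ p = 5 ∨ p = 7 ∨ p = 13 := by
  decide +kernel

theorem specB_pair (p q : ℕ) (hp : p = 2 ∨ p = 3 ∨ p = 5 ∨ p = 7 ∨ p = 13)
    (hq : q = 2 ∨ q = 3 ∨ q = 5 ∨ q = 7 ∨ q = 13) (hpq : p ≠ q) (m : ℕ) (hm : m ∈ SpecB)
    (h : p * q ∣ m) :
    (({p, q} : Finset ℕ) = {2, 3} ∨ ({p, q} : Finset ℕ) = {2, 5} ∨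
      ({p, q} : Finset ℕ) = {3, 5} ∨ ({p, q} : Finset ℕ) = {2, 7}) := by
  rcases hp with rfl | rfl | rfl | rfl | rfl <;> rcases hq with rfl | rfl | rfl | rfl | rfl <;>
  first
  | exact absurd rfl hpq
  | decide
  | (exfalso; revert m; decide)

/-- The prime graph of `PSp_6(3)`: vertices `2, 3, 5, 7, 13`, edges `2-3, 2-5, 3-5, 2-7`. -/
theorem target_graph [Fintype F] (hF : Fintype.card F = 3) :
    (∀ p : ℕ, p.Prime → (p ∣ Nat.card (Cfsg.PSp 3 F) ↔ p = 2 ∨ p = 3 ∨ p = 5 ∨ p = 7 ∨ p = 13)) ∧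
    (∀ p q : ℕ, p.Prime → q.Prime → p ≠ q → ((∃ g : Cfsg.PSp 3 F, orderOf g = p * q) ↔
      (({p, q} : Finset ℕ) = {2, 3} ∨ ({p, q} : Finset ℕ) = {2, 5} ∨ ({p, q} : Finset ℕ) = {3, 5} ∨
        ({p, q} : Finset ℕ) = {2, 7}))) := by
  obtain ⟨⟨x14, h14⟩, ⟨x30, h30⟩, ⟨x13, h13⟩⟩ := exists_orders (F := F) hF
  have key : ∀ n : ℕ, (∃ g : Cfsg.PSp 3 F, orderOf g = n) → ∃ m ∈ SpecB, n ∣ m := by
    rintro n ⟨g, rfl⟩
    exact orderOf_dvd_SpecB hF g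
  have ex : ∀ n : ℕ, (n ∣ 14 ∨ n ∣ 30 ∨ n ∣ 13) → ∃ g : Cfsg.PSp 3 F, orderOf g = n := by
    rintro n (h | h | h)
    · exact exists_orderOf_eq_of_dvd6 (by norm_num) h14 h
    · exact exists_orderOf_eq_of_dvd6 (by norm_num) h30 h
    · exact exists_orderOf_eq_of_dvd6 (by norm_num) h13 h
  constructor
  · intro p hp
    constructor
    · intro hdvd
      have : Fact p.Prime := ⟨hp⟩
      obtain ⟨g, hg⟩ := exists_prime_orderOf_dvd_card' p hdvd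
      obtain ⟨m, hm, hpm⟩ := key p ⟨g, hg⟩
      have hm36 := specB_le m hm
      have hple : p ≤ 36 := (Nat.le_of_dvd hm36.2 hpm).trans hm36.1
      exact specB_prime p hple hp m hm hpm
    · intro h
      have : p ∣ 14 ∨ p ∣ 30 ∨ p ∣ 13 := by
        rcases h with rfl | rfl | rfl | rfl | rfl <;> decide
      obtain ⟨g, hg⟩ := ex p this
      rw [← hg]
      exact orderOf_dvd_natCard g
  · intro p q hp hq hpq
    constructor
    · intro h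
      obtain ⟨m, hm, hpm⟩ := key (p * q) h
      have hm36 := specB_le m hm
      have hple : p ≤ 36 := (Nat.le_of_dvd hm36.2 ((dvd_mul_right p q).trans hpm)).trans hm36.1
      have hqle : q ≤ 36 := (Nat.le_of_dvd hm36.2 ((dvd_mul_left q p).trans hpm)).trans hm36.1
      exact specB_pair p q (specB_prime p hple hp m hm ((dvd_mul_right p q).trans hpm))
        (specB_prime q hqle hq m hm ((dvd_mul_left q p).trans hpm)) hpq m hm hpm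
    · intro h
      apply ex
      have e1 : ∀ a b c d : ℕ, ({a, b} : Finset ℕ) = {c, d} → (a = c ∧ b = d) ∨ (a = d ∧ b = c) := by
        intro a b c d hab
        have ha : a ∈ ({c, d} : Finset ℕ) := by rw [← hab]; simp
        have hb : b ∈ ({c, d} : Finset ℕ) := by rw [← hab]; simp
        have hc : c ∈ ({a, b} : Finset ℕ) := by rw [hab]; simp
        have hd : d ∈ ({a, b} : Finset ℕ) := by rw [hab]; simp
        simp only [Finset.mem_insert, Finset.mem_singleton] at ha hb hc hd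
        rcases ha with rfl | rfl <;> rcases hb with rfl | rfl <;> simp_all
      rcases h with h | h | h | h <;> rcases e1 _ _ _ _ h with ⟨rfl, rfl⟩ | ⟨rfl, rfl⟩ <;> decide

end psp

end Cfsg.Agent.Lib.Lead.PSp63
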