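import Cfsg.Agent.Lib.Lead.Sp4GraphI
import Cfsg.Agent.S0270

set_option autoImplicit false
set_option linter.unusedVariables false
set_option linter.unusedSectionVars false

/-!
# The order of the automorphism group of `PSp_{2m}(q)`

`|Aut(PSp_{2m}(q))| = gcd(2, q-1) · f · |PSp_{2m}(q)|` for `q = p^f`, with an additional factor `2` for `PSp₄(2^f)`.
Built on helper18's semilinearity theorems (`Helper18.PSpAut`) and on the graph automorphism library `Sp4Graph`.
-/

namespace Cfsg.Agent.Lib.Lead.Sp4Graph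

open Matrix Cfsg.Agent.Lib.Helper18.PSpAut Cfsg.Agent.Lib.Helper14.SpPerfect

variable {m : ℕ} {F : Type*} [Field F]

/-- the index of the image of the conformal symplectic group, when all automorphisms are semilinear -/
theorem card_aut_of_semilinear [Fintype F] (hm : 2 ≤ m) {p f : ℕ} [Fact p.Prime]
    (hF : Fintype.card F = p ^ f)
    (hsemi : ∀ β : Cfsg.PSp m F ≃* Cfsg.PSp m F,
      ∃ (g : Cfsg.GSp m F) (σ : F ≃+* F), ∀ x, β x = conjA g (fieldA σ x)) :
    Nat.card (MulAut (Cfsg.PSp m F)) = f * Nat.card (conjAHom (m := m) (F := F)).range := by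
  have : CharP F p := charP_of_card_eq_prime_pow hF
  have hcard : Nat.card (RingAut F) = f := Cfsg.Agent.Lib.Helper18.PSL2Aut.ringAut_card p hF
  have hN : (conjAHom (m := m) (F := F)).range.Normal := range_normal hm
  let Φ : RingAut F →* MulAut (Cfsg.PSp m F) ⧸ (conjAHom (m := m) (F := F)).range :=
    (QuotientGroup.mk' _).comp (fieldAHom (m := m) (F := F))
  have hinj : Function.Injective Φ := by
    rw [injective_iff_map_eq_one]
    intro σ hσ
    have h1 : fieldAHom (m := m) σ ∈ (conjAHom (m := m) (F := F)).range :=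
      (QuotientGroup.eq_one_iff _).1 hσ
    obtain ⟨g, hg⟩ := h1
    apply RingEquiv.ext
    intro a
    refine sigma_eq_of_fieldA_eq_conjA hm σ g (fun x => ?_) a
    have := congrArg (fun β : MulAut (Cfsg.PSp m F) => β x) hg
    exact this.symm
  have hsurj : Function.Surjective Φ := by
    intro o
    obtain ⟨β, rfl⟩ := QuotientGroup.mk_surjective o
    obtain ⟨g, σ, h⟩ := hsemi β
    refine ⟨σ, ?_⟩
    have hβ : β = conjAHom g * fieldAHom (m := m) (σ : RingAut F) := by
      ext x
      exact h x
    show (QuotientGroup.mk (fieldAHom (m := m) (σ : RingAut F)) :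
      MulAut (Cfsg.PSp m F) ⧸ (conjAHom (m := m) (F := F)).range) = QuotientGroup.mk β
    have hg1 : (QuotientGroup.mk (conjAHom g) :
        MulAut (Cfsg.PSp m F) ⧸ (conjAHom (m := m) (F := F)).range) = 1 :=
      (QuotientGroup.eq_one_iff _).2 ⟨g, rfl⟩
    rw [hβ, QuotientGroup.mk_mul, hg1, one_mul]
  rw [← Subgroup.card_mul_index (conjAHom (m := m) (F := F)).range, Subgroup.index_eq_card,
    ← Nat.card_congr (Equiv.ofBijective Φ ⟨hinj, hsurj⟩), hcard, mul_comm]

/-- `PSp` has trivial centre -/
theorem center_psp_eq_bot [Fintype F] (hm : 2 ≤ m) (h : m = 2 → 3 ≤ Fintype.card F) :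
    Subgroup.center (Cfsg.PSp m F) = ⊥ := by
  have hs : IsSimpleGroup (Cfsg.PSp m F) := Cfsg.Agent.S0270.result m hm h
  rcases (Subgroup.Normal.eq_bot_or_eq_top (inferInstance : (Subgroup.center (Cfsg.PSp m F)).Normal))
    with h1 | h1
  · exact h1
  · exfalso
    let i0 : Fin m := ⟨0, by omega⟩
    have hcomm : ∀ x ∈ TS (eL m F i0), ∀ y ∈ TS (Pi.single (Sum.inr i0) (1 : F) : Fin m ⊕ Fin m → F),
        x * y = y * x := by
      intro x _ y _
      have hy : y ∈ Subgroup.center (Cfsg.PSp m F) := by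
        rw [h1]
        exact Subgroup.mem_top y
      exact (Subgroup.mem_center_iff.1 hy) x
    have h2 := (TS_commute_iff hm).1 hcomm
    unfold eL at h2
    rw [Cfsg.Agent.Lib.Helper15.sympForm_eq] at h2
    simp [Pi.single_apply] at h2

theorem card_inn_psp [Fintype F] (hm : 2 ≤ m) (h : m = 2 → 3 ≤ Fintype.card F) :
    Nat.card (Cfsg.Inn (Cfsg.PSp m F)) = Nat.card (Cfsg.PSp m F) := by
  have hinj : Function.Injective (MulAut.conj : Cfsg.PSp m F →* MulAut (Cfsg.PSp m F)) := by
    rw [injective_iff_map_eq_one]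
    intro a ha
    have : a ∈ Subgroup.center (Cfsg.PSp m F) := by
      rw [Subgroup.mem_center_iff]
      intro b
      have := congrArg (fun β : MulAut (Cfsg.PSp m F) => β b) ha
      simp only [MulAut.conj_apply, MulAut.one_apply] at this
      calc b * a = (a * b * a⁻¹) * a := by rw [this]
        _ = a * b := by group
    rw [center_psp_eq_bot hm h] at this
    exact this
  exact (Nat.card_congr (MonoidHom.ofInjective hinj).toEquiv).symm

/-- the inner automorphisms as the image of the matrices with square multiplier -/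
theorem inn_eq_map_comap (hm : 2 ≤ m) :
    Cfsg.Inn (Cfsg.PSp m F) =
      (((powMonoidHom 2 : Fˣ →* Fˣ).range).comap
        (multHom (m := m) (F := F) (by omega : 1 ≤ m))).map conjAHom := by
  apply le_antisymm
  · rintro _ ⟨t, rfl⟩
    obtain ⟨s, rfl⟩ := pi_surjective t
    refine ⟨spG s, ?_, (conj_pi_eq_conjA s).symm⟩
    rw [SetLike.mem_coe, Subgroup.mem_comap, multHom_apply, mult_spG (by omega)]
    exact Subgroup.one_mem _
  · rintro _ ⟨g, hg, rfl⟩
    rw [SetLike.mem_coe, Subgroup.mem_comap, multHom_apply] at hg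
    obtain ⟨a, ha⟩ := hg
    refine conjAHom_mem_inn hm g a ?_
    rw [← ha]
    show a ^ 2 = a * a
    rw [pow_two]

/-- the order of the image of the conformal symplectic group in `Aut(PSp)` -/
theorem card_range_conjAHom [Fintype F] (hm : 2 ≤ m) (h : m = 2 → 3 ≤ Fintype.card F) :
    Nat.card (conjAHom (m := m) (F := F)).range =
      Nat.gcd 2 (Fintype.card F - 1) * Nat.card (Cfsg.PSp m F) := by
  have h1 := relIndex_map_comap_mult (m := m) (F := F) hm (powMonoidHom 2 : Fˣ →* Fˣ).range le_rfl
  rw [← inn_eq_map_comap hm, IsCyclic.index_powMonoidHom_range, Nat.card_units,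
    Nat.card_eq_fintype_card, Nat.gcd_comm] at h1
  rw [← h1, ← card_inn_psp hm h, mul_comm]
  have hle : Cfsg.Inn (Cfsg.PSp m F) ≤ (conjAHom (m := m) (F := F)).range := inn_le_range
  rw [← Subgroup.card_mul_index ((Cfsg.Inn (Cfsg.PSp m F)).subgroupOf (conjAHom (m := m) (F := F)).range)]
  congr 1
  exact Nat.card_congr (Subgroup.subgroupOfEquivOfLe hle).toEquiv

end Cfsg.Agent.Lib.Lead.Sp4Graph
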