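import Mathlib

/-!
lead: a non-scalar `2 × 2` complex matrix of finite order fixes exactly two lines of `ℂ²`.
-/

set_option autoImplicit false

namespace Cfsg.Agent.CharLib.Prim2

open Matrix Module

abbrev V2 := Fin 2 → ℂ

theorem cayley_hamilton_two (A : Matrix (Fin 2) (Fin 2) ℂ) :
    A * A = A.trace • A - A.det • (1 : Matrix (Fin 2) (Fin 2) ℂ) := by
  ext i j
  fin_cases i <;> fin_cases j <;>
    simp [Matrix.mul_apply, Fin.sum_univ_two, Matrix.trace_fin_two, Matrix.det_fin_two] <;> ring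

theorem pow_add_nilpotent (a : ℂ) (N : Matrix (Fin 2) (Fin 2) ℂ) (hN : N * N = 0) (k : ℕ) :
    (a • (1 : Matrix (Fin 2) (Fin 2) ℂ) + N) ^ (k + 1) =
      a ^ (k + 1) • (1 : Matrix (Fin 2) (Fin 2) ℂ) + ((k + 1 : ℕ) * a ^ k : ℂ) • N := by
  induction k with
  | zero => simp
  | succ k ih =>
    rw [pow_succ, ih]
    simp only [Matrix.add_mul, Matrix.mul_add, Matrix.smul_mul, Matrix.mul_smul, Matrix.one_mul,
      Matrix.mul_one, hN, smul_zero, add_zero, smul_smul]
    push_cast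
    module

/-- A matrix of finite order with `(A - a)² = 0` is scalar. -/
theorem eq_scalar_of_sq_zero (A : Matrix (Fin 2) (Fin 2) ℂ) (k : ℕ) (hk : 0 < k) (hA : A ^ k = 1)
    (a : ℂ) (h : (A - a • 1) * (A - a • 1) = 0) : A = a • 1 := by
  set N := A - a • (1 : Matrix (Fin 2) (Fin 2) ℂ) with hN
  have hAN : A = a • 1 + N := by rw [hN]; abel
  obtain ⟨j, rfl⟩ : ∃ j, k = j + 1 := ⟨k - 1, by omega⟩
  rw [hAN, pow_add_nilpotent a N h j] at hA
  by_contra hne
  have hN0 : N ≠ 0 := by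
    intro h0
    apply hne
    rw [hAN, h0, add_zero]
  -- multiply by N
  have h1 : a ^ (j + 1) • N = N := by
    have := congrArg (fun X => X * N) hA
    simp only [Matrix.add_mul, Matrix.smul_mul, Matrix.one_mul, h, smul_zero, add_zero] at this
    exact this
  have h2 : a ^ (j + 1) = 1 := by
    by_contra hc
    apply hN0
    have h3 : (a ^ (j + 1) - 1) • N = 0 := by rw [sub_smul, h1, one_smul, sub_self]
    exact (smul_eq_zero.mp h3).resolve_left (sub_ne_zero.mpr hc)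
  rw [h2, one_smul, add_eq_left] at hA
  have ha0 : a ≠ 0 := by
    rintro rfl
    simp at h2
  have h4 : ((j + 1 : ℕ) * a ^ j : ℂ) ≠ 0 := by
    apply mul_ne_zero
    · exact_mod_cast Nat.succ_ne_zero j
    · exact pow_ne_zero _ ha0
  exact hN0 ((smul_eq_zero.mp hA).resolve_left h4)

theorem pow_mulVec_mem (A : Matrix (Fin 2) (Fin 2) ℂ) (W : Submodule ℂ V2)
    (h : ∀ u ∈ W, A *ᵥ u ∈ W) (j : ℕ) : ∀ u ∈ W, (A ^ j) *ᵥ u ∈ W := by
  induction j with
  | zero => intro u hu; simpa using hu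
  | succ j ih =>
    intro u hu
    rw [pow_succ', ← Matrix.mulVec_mulVec]
    exact h _ (ih u hu)

theorem map_eq_of_forall_mem (A : Matrix (Fin 2) (Fin 2) ℂ) (k : ℕ) (hk : 0 < k) (hA : A ^ k = 1)
    (W : Submodule ℂ V2) (h : ∀ u ∈ W, A *ᵥ u ∈ W) : W.map (toLin' A) = W := by
  apply le_antisymm
  · rintro _ ⟨u, hu, rfl⟩
    rw [Matrix.toLin'_apply]
    exact h u hu
  · intro u hu
    obtain ⟨j, rfl⟩ : ∃ j, k = j + 1 := ⟨k - 1, by omega⟩
    refine ⟨(A ^ j) *ᵥ u, pow_mulVec_mem A W h j u hu, ?_⟩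
    rw [Matrix.toLin'_apply, Matrix.mulVec_mulVec, ← pow_succ', hA, Matrix.one_mulVec]

theorem forall_mem_of_map_eq (A : Matrix (Fin 2) (Fin 2) ℂ) (W : Submodule ℂ V2)
    (h : W.map (toLin' A) = W) : ∀ u ∈ W, A *ᵥ u ∈ W := by
  intro u hu
  rw [← h]
  exact ⟨u, hu, Matrix.toLin'_apply _ _⟩

/-- A non-scalar `2 × 2` complex matrix of finite order fixes exactly two lines. -/
theorem exists_two_fixed_lines (A : Matrix (Fin 2) (Fin 2) ℂ) (k : ℕ) (hk : 0 < k) (hA : A ^ k = 1)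
    (hns : ∀ c : ℂ, A ≠ c • 1) :
    ∃ E₁ E₂ : Submodule ℂ V2, E₁ ≠ E₂ ∧ finrank ℂ E₁ = 1 ∧ finrank ℂ E₂ = 1 ∧
      E₁.map (toLin' A) = E₁ ∧ E₂.map (toLin' A) = E₂ ∧
      ∀ W : Submodule ℂ V2, finrank ℂ W = 1 → W.map (toLin' A) = W → W = E₁ ∨ W = E₂ := by
  obtain ⟨a, ha⟩ := Module.End.exists_eigenvalue (toLin' A)
  obtain ⟨v, hv⟩ := ha.exists_hasEigenvector
  have hv0 : v ≠ 0 := hv.2
  have hAv : A *ᵥ v = a • v := by
    have := hv.apply_eq_smul
    rwa [Matrix.toLin'_apply] at this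
  set b : ℂ := A.trace - a with hb
  -- a is a root of the characteristic polynomial
  have hdet : (A - a • (1 : Matrix (Fin 2) (Fin 2) ℂ)).det = 0 := by
    rw [← Matrix.exists_mulVec_eq_zero_iff]
    refine ⟨v, hv0, ?_⟩
    rw [Matrix.sub_mulVec, hAv, Matrix.smul_mulVec, Matrix.one_mulVec, sub_self]
  have hab : a * b = A.det := by
    rw [Matrix.det_fin_two] at hdet
    simp only [Matrix.sub_apply, Matrix.smul_apply, Matrix.one_apply_eq, smul_eq_mul, mul_one,
      Matrix.one_apply_ne (show (0 : Fin 2) ≠ 1 by decide),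
      Matrix.one_apply_ne (show (1 : Fin 2) ≠ 0 by decide), mul_zero, sub_zero] at hdet
    rw [hb, Matrix.trace_fin_two, Matrix.det_fin_two]
    linear_combination (-1 : ℂ) * hdet
  have hprod : (A - a • (1 : Matrix (Fin 2) (Fin 2) ℂ)) * (A - b • 1) = 0 := by
    have hCH := cayley_hamilton_two A
    simp only [Matrix.sub_mul, Matrix.mul_sub, Matrix.smul_mul, Matrix.mul_smul, Matrix.one_mul,
      Matrix.mul_one, hCH, smul_smul]
    rw [← hab]
    have : A.trace = a + b := by rw [hb]; ring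
    rw [this]
    module
  have hprod' : (A - b • (1 : Matrix (Fin 2) (Fin 2) ℂ)) * (A - a • 1) = 0 := by
    have : (A - b • (1 : Matrix (Fin 2) (Fin 2) ℂ)) * (A - a • 1) = (A - a • 1) * (A - b • 1) := by
      simp only [Matrix.sub_mul, Matrix.mul_sub, Matrix.smul_mul, Matrix.mul_smul, Matrix.one_mul,
        Matrix.mul_one]
      module
    rw [this, hprod]
  have hne : a ≠ b := by
    intro hab'
    rw [← hab'] at hprod
    exact hns a (eq_scalar_of_sq_zero A k hk hA a hprod)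
  set E₁ : Submodule ℂ V2 := LinearMap.ker (toLin' (A - a • 1)) with hE₁
  set E₂ : Submodule ℂ V2 := LinearMap.ker (toLin' (A - b • 1)) with hE₂
  have hmem₁ : ∀ u : V2, u ∈ E₁ ↔ A *ᵥ u = a • u := by
    intro u
    rw [hE₁, LinearMap.mem_ker, Matrix.toLin'_apply, Matrix.sub_mulVec, Matrix.smul_mulVec,
      Matrix.one_mulVec, sub_eq_zero]
  have hmem₂ : ∀ u : V2, u ∈ E₂ ↔ A *ᵥ u = b • u := by
    intro u
    rw [hE₂, LinearMap.mem_ker, Matrix.toLin'_apply, Matrix.sub_mulVec, Matrix.smul_mulVec,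
      Matrix.one_mulVec, sub_eq_zero]
  have hE₁0 : E₁ ≠ ⊥ := by
    intro h
    have : v ∈ E₁ := (hmem₁ v).mpr hAv
    rw [h, Submodule.mem_bot] at this
    exact hv0 this
  have hE₂0 : E₂ ≠ ⊥ := by
    intro h
    apply hns a
    have h1 : ∀ u : V2, (A - a • (1 : Matrix (Fin 2) (Fin 2) ℂ)) *ᵥ u = 0 := by
      intro u
      have h2 : (A - a • (1 : Matrix (Fin 2) (Fin 2) ℂ)) *ᵥ u ∈ E₂ := by
        rw [hE₂, LinearMap.mem_ker, Matrix.toLin'_apply, Matrix.mulVec_mulVec, hprod',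
          Matrix.zero_mulVec]
      rw [h, Submodule.mem_bot] at h2
      exact h2
    have h3 : A - a • (1 : Matrix (Fin 2) (Fin 2) ℂ) = 0 := by
      apply Matrix.toLin'.injective
      refine LinearMap.ext fun u => ?_
      rw [Matrix.toLin'_apply, h1 u]
      simp
    exact sub_eq_zero.mp h3
  have hinf : E₁ ⊓ E₂ = ⊥ := by
    rw [eq_bot_iff]
    intro u hu
    rw [Submodule.mem_inf, hmem₁, hmem₂] at hu
    have h1 : (a - b) • u = 0 := by rw [sub_smul, ← hu.1, ← hu.2, sub_self]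
    rw [Submodule.mem_bot]
    exact (smul_eq_zero.mp h1).resolve_left (sub_ne_zero.mpr hne)
  have hr₁ : 1 ≤ finrank ℂ E₁ := by
    rw [Nat.one_le_iff_ne_zero, Ne, Submodule.finrank_eq_zero]
    exact hE₁0
  have hr₂ : 1 ≤ finrank ℂ E₂ := by
    rw [Nat.one_le_iff_ne_zero, Ne, Submodule.finrank_eq_zero]
    exact hE₂0
  have hsum : finrank ℂ E₁ + finrank ℂ E₂ ≤ 2 := by
    have h1 := Submodule.finrank_sup_add_finrank_inf_eq E₁ E₂
    rw [hinf, finrank_bot, add_zero] at h1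
    rw [← h1]
    have h2 : finrank ℂ ↥(E₁ ⊔ E₂) ≤ finrank ℂ V2 := Submodule.finrank_le _
    rw [Module.finrank_fin_fun] at h2
    exact h2
  have hf₁ : finrank ℂ E₁ = 1 := by omega
  have hf₂ : finrank ℂ E₂ = 1 := by omega
  have hinv₁ : ∀ u ∈ E₁, A *ᵥ u ∈ E₁ := by
    intro u hu
    rw [(hmem₁ u).mp hu]
    exact E₁.smul_mem a hu
  have hinv₂ : ∀ u ∈ E₂, A *ᵥ u ∈ E₂ := by
    intro u hu
    rw [(hmem₂ u).mp hu]
    exact E₂.smul_mem b hu
  refine ⟨E₁, E₂, ?_, hf₁, hf₂, map_eq_of_forall_mem A k hk hA E₁ hinv₁,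
    map_eq_of_forall_mem A k hk hA E₂ hinv₂, ?_⟩
  · intro h
    apply hE₁0
    rw [← inf_idem (a := E₁)]
    nth_rewrite 2 [h]
    exact hinf
  · intro W hW hWA
    obtain ⟨u, hu0, hu⟩ := finrank_eq_one_iff'.mp hW
    have huW : (u : V2) ∈ W := u.2
    have h1 := forall_mem_of_map_eq A W hWA u huW
    obtain ⟨c, hc⟩ := hu ⟨A *ᵥ (u : V2), h1⟩
    have hc' : A *ᵥ (u : V2) = c • (u : V2) := by
      have := congrArg Subtype.val hc
      simpa using this.symm
    -- (c - a)(c - b) u = 0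
    have h2 : ((c - a) * (c - b)) • (u : V2) = 0 := by
      have h3 : ((A - a • (1 : Matrix (Fin 2) (Fin 2) ℂ)) * (A - b • 1)) *ᵥ (u : V2) = 0 := by
        rw [hprod, Matrix.zero_mulVec]
      rw [← Matrix.mulVec_mulVec] at h3
      have h4 : (A - b • (1 : Matrix (Fin 2) (Fin 2) ℂ)) *ᵥ (u : V2) = (c - b) • (u : V2) := by
        rw [Matrix.sub_mulVec, hc', Matrix.smul_mulVec, Matrix.one_mulVec]
        exact (sub_smul c b _).symm
      rw [h4, Matrix.mulVec_smul, Matrix.sub_mulVec, hc', Matrix.smul_mulVec, Matrix.one_mulVec] at h3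
      rw [← h3]
      module
    have hu0' : (u : V2) ≠ 0 := fun h => hu0 (Subtype.ext h)
    have h5 : (c - a) * (c - b) = 0 := (smul_eq_zero.mp h2).resolve_right hu0'
    have hWle : ∀ E : Submodule ℂ V2, finrank ℂ E = 1 → (u : V2) ∈ E → W = E := by
      intro E hE huE
      apply Submodule.eq_of_le_of_finrank_eq
      · intro w hw
        obtain ⟨d, hd⟩ := hu ⟨w, hw⟩
        have : w = d • (u : V2) := by
          have := congrArg Subtype.val hd
          simpa using this.symm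
        rw [this]
        exact E.smul_mem d huE
      · rw [hW, hE]
    rcases mul_eq_zero.mp h5 with h6 | h6
    · left
      apply hWle E₁ hf₁
      rw [hmem₁, hc', sub_eq_zero.mp h6]
    · right
      apply hWle E₂ hf₂
      rw [hmem₂, hc', sub_eq_zero.mp h6]

end Cfsg.Agent.CharLib.Prim2
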