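import Mathlib

/-!
lead: the arithmetic of the orbit equation `∑ (N - s_ω) = 2N - 2` for finite subgroups of `PGL₂(ℂ)`.
-/

set_option autoImplicit false

namespace Cfsg.Agent.CharLib.Prim2

theorem arith_aux (N x y z n₁ n₂ n₃ : ℕ) (hx : x * n₁ = N) (hy : y * n₂ = N) (hz : z * n₃ = N)
    (hx3 : 3 ≤ x) (hy3 : 3 ≤ y) (hz3 : 3 ≤ z) (hsum : x + y + z = N + 2)
    (h1 : n₁ = 2) (h2 : n₂ ≤ 3) (hn₂ : 2 ≤ n₂) (hn₃ : 2 ≤ n₃) : N = 12 ∨ N = 24 ∨ N = 60 := by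
  subst h1
  have hn₂' : n₂ = 2 ∨ n₂ = 3 := by omega
  rcases hn₂' with rfl | rfl
  · omega
  · have h6 : z * n₃ < z * 6 := by omega
    have hn₃' : n₃ < 6 := Nat.lt_of_mul_lt_mul_left h6
    interval_cases n₃ <;> omega

theorem arith_three (N x y z n₁ n₂ n₃ : ℕ) (hx : x * n₁ = N) (hy : y * n₂ = N) (hz : z * n₃ = N)
    (hx3 : 3 ≤ x) (hy3 : 3 ≤ y) (hz3 : 3 ≤ z) (hsum : x + y + z = N + 2)
    (hn₁ : 2 ≤ n₁) (hn₂ : 2 ≤ n₂) (hn₃ : 2 ≤ n₃) : N = 12 ∨ N = 24 ∨ N = 60 := by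
  have key : ∀ (a b c m₁ m₂ m₃ : ℕ), a * m₁ = N → b * m₂ = N → c * m₃ = N → 3 ≤ a → 3 ≤ b → 3 ≤ c →
      a + b + c = N + 2 → m₁ = 2 → 2 ≤ m₂ → 2 ≤ m₃ → N = 12 ∨ N = 24 ∨ N = 60 := by
    intro a b c m₁ m₂ m₃ ha hb hc ha3 hb3 hc3 hs hm₁ hm₂ hm₃
    by_cases h : m₂ ≤ 3
    · exact arith_aux N a b c m₁ m₂ m₃ ha hb hc ha3 hb3 hc3 hs hm₁ h hm₂ hm₃
    · by_cases h' : m₃ ≤ 3
      · exact arith_aux N a c b m₁ m₃ m₂ ha hc hb ha3 hc3 hb3 (by omega) hm₁ h' hm₃ hm₂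
      · exfalso
        have h4b : b * 4 ≤ b * m₂ := Nat.mul_le_mul_left b (by omega)
        have h4c : c * 4 ≤ c * m₃ := Nat.mul_le_mul_left c (by omega)
        subst hm₁
        omega
  by_cases h1 : n₁ = 2
  · exact key x y z n₁ n₂ n₃ hx hy hz hx3 hy3 hz3 hsum h1 hn₂ hn₃
  by_cases h2 : n₂ = 2
  · exact key y x z n₂ n₁ n₃ hy hx hz hy3 hx3 hz3 (by omega) h2 hn₁ hn₃
  by_cases h3 : n₃ = 2
  · exact key z x y n₃ n₁ n₂ hz hx hy hz3 hx3 hy3 (by omega) h3 hn₁ hn₂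
  exfalso
  have h3x : x * 3 ≤ x * n₁ := Nat.mul_le_mul_left x (by omega)
  have h3y : y * 3 ≤ y * n₂ := Nat.mul_le_mul_left y (by omega)
  have h3z : z * 3 ≤ z * n₃ := Nat.mul_le_mul_left z (by omega)
  omega

/-- The orbit equation forces `N ∈ {12, 24, 60}` when all orbits have at least three elements. -/
theorem arith_orbits (N : ℕ) {Ω : Type*} [Fintype Ω] (s : Ω → ℕ) (hdiv : ∀ ω, s ω ∣ N)
    (h3 : ∀ ω, 3 ≤ s ω) (h2 : ∀ ω, 2 * s ω ≤ N) (hsum : ∑ ω, (N - s ω) = 2 * N - 2) (hN : 2 ≤ N) :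
    N = 12 ∨ N = 24 ∨ N = 60 := by
  classical
  have hlow : Fintype.card Ω * N ≤ 2 * ∑ ω, (N - s ω) := by
    rw [Finset.mul_sum, ← Finset.card_univ, ← smul_eq_mul, ← Finset.sum_const]
    apply Finset.sum_le_sum
    intro ω _
    have := h2 ω
    omega
  have hhigh : ∑ ω, (N - s ω) ≤ Fintype.card Ω * (N - 3) := by
    rw [← Finset.card_univ, ← smul_eq_mul, ← Finset.sum_const]
    apply Finset.sum_le_sum
    intro ω _
    have := h3 ω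
    omega
  rw [hsum] at hlow hhigh
  have hr3 : Fintype.card Ω ≤ 3 := by
    by_contra hc
    have : 4 * N ≤ Fintype.card Ω * N := Nat.mul_le_mul_right N (by omega)
    omega
  have hr3' : 3 ≤ Fintype.card Ω := by
    by_contra hc
    have : Fintype.card Ω * (N - 3) ≤ 2 * (N - 3) := Nat.mul_le_mul_right _ (by omega)
    omega
  have hcard : Fintype.card Ω = 3 := le_antisymm hr3 hr3'
  let e : Ω ≃ Fin 3 := Fintype.equivFinOfCardEq hcard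
  have hsum' : ∑ i : Fin 3, (N - s (e.symm i)) = 2 * N - 2 := by
    rw [← hsum]
    exact Fintype.sum_equiv e.symm _ _ (fun i => rfl)
  rw [Fin.sum_univ_three] at hsum'
  obtain ⟨n₁, hn₁⟩ := hdiv (e.symm 0)
  obtain ⟨n₂, hn₂⟩ := hdiv (e.symm 1)
  obtain ⟨n₃, hn₃⟩ := hdiv (e.symm 2)
  have hb : ∀ (x n : ℕ), N = x * n → 2 * x ≤ N → 3 ≤ x → 2 ≤ n := by
    intro x n h1 h2 h3
    by_contra hc
    have : n = 0 ∨ n = 1 := by omega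
    rcases this with rfl | rfl
    · omega
    · omega
  refine arith_three N (s (e.symm 0)) (s (e.symm 1)) (s (e.symm 2)) n₁ n₂ n₃ hn₁.symm hn₂.symm hn₃.symm
    (h3 _) (h3 _) (h3 _) ?_ (hb _ _ hn₁ (h2 _) (h3 _)) (hb _ _ hn₂ (h2 _) (h3 _))
    (hb _ _ hn₃ (h2 _) (h3 _))
  have := h2 (e.symm 0)
  have := h2 (e.symm 1)
  have := h2 (e.symm 2)
  omega

end Cfsg.Agent.CharLib.Prim2
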