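import Mathlib
import Cfsg.Agent.Lib.Lead.Prim2A
import Cfsg.Agent.Lib.Lead.Prim2C

/-!
lead: a finite group of `2 × 2` complex matrices acts on the lines of `ℂ²`; counting poles (lines fixed by a
non-scalar element) gives the classical orbit equation.
-/

set_option autoImplicit false

namespace Cfsg.Agent.CharLib.Prim2

open Matrix Module MulAction

variable {G : Type*} [Group G]

/-- The submodules of `ℂ²`, with `G` acting through `M`. -/
def Lines (_M : G →* Matrix (Fin 2) (Fin 2) ℂ) := Submodule ℂ V2

variable (M : G →* Matrix (Fin 2) (Fin 2) ℂ)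

/-- the underlying submodule -/
def Lines.sub {M : G →* Matrix (Fin 2) (Fin 2) ℂ} (W : Lines M) : Submodule ℂ V2 := W

noncomputable instance : MulAction G (Lines M) where
  smul g W := Submodule.map (toLin' (M g)) W.sub
  one_smul W := by
    show Submodule.map (toLin' (M 1)) W.sub = W
    rw [map_one, Matrix.toLin'_one]
    exact Submodule.map_id _
  mul_smul g h W := by
    show Submodule.map (toLin' (M (g * h))) W.sub =
      Submodule.map (toLin' (M g)) (Submodule.map (toLin' (M h)) W.sub)
    rw [map_mul, Matrix.toLin'_mul, Submodule.map_comp]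

theorem smul_sub (g : G) (W : Lines M) : (g • W).sub = Submodule.map (toLin' (M g)) W.sub := rfl

theorem finrank_smul (g : G) (W : Lines M) : finrank ℂ (g • W).sub = finrank ℂ W.sub := by
  apply le_antisymm
  · rw [smul_sub]
    exact Submodule.finrank_map_le _ _
  · have h1 : finrank ℂ (g⁻¹ • (g • W)).sub ≤ finrank ℂ (g • W).sub := by
      rw [smul_sub M g⁻¹]
      exact Submodule.finrank_map_le _ _
    rwa [inv_smul_smul] at h1

theorem smul_eq_of_scalar (g : G) (c : ℂ) (hc : M g = c • 1) (W : Lines M) : g • W = W := by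
  have hc0 : c ≠ 0 := by
    rintro rfl
    rw [zero_smul] at hc
    have h1 : M g * M g⁻¹ = 1 := by rw [← map_mul, mul_inv_cancel, map_one]
    rw [hc, Matrix.zero_mul] at h1
    have := congrFun (congrFun h1 0) 0
    simp at this
  show Submodule.map (toLin' (M g)) W.sub = W.sub
  rw [hc]
  apply le_antisymm
  · rintro _ ⟨u, hu, rfl⟩
    rw [Matrix.toLin'_apply, Matrix.smul_mulVec, Matrix.one_mulVec]
    exact Submodule.smul_mem _ c hu
  · intro u hu
    refine ⟨c⁻¹ • u, Submodule.smul_mem _ _ hu, ?_⟩
    rw [Matrix.toLin'_apply, Matrix.smul_mulVec, Matrix.one_mulVec, smul_smul, mul_inv_cancel₀ hc0,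
      one_smul]

section poles

variable (Z : Subgroup G) (hZ : ∀ g, g ∈ Z ↔ ∃ c : ℂ, M g = c • 1)

include hZ in
theorem conj_mem_iff (h g : G) : h * g * h⁻¹ ∈ Z ↔ g ∈ Z := by
  have key : ∀ h g : G, g ∈ Z → h * g * h⁻¹ ∈ Z := by
    intro h g hg
    obtain ⟨c, hc⟩ := (hZ g).mp hg
    refine (hZ _).mpr ⟨c, ?_⟩
    rw [map_mul, map_mul, hc, Matrix.mul_smul, Matrix.smul_mul, Matrix.mul_one, ← map_mul,
      mul_inv_cancel, map_one]
  constructor
  · intro hg
    have := key h⁻¹ _ hg
    simpa [mul_assoc] using this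
  · exact key h g

/-- The poles: lines fixed by some non-scalar element. -/
def poles : SubMulAction G (Lines M) where
  carrier := {W | finrank ℂ W.sub = 1 ∧ ∃ g, g ∉ Z ∧ g • W = W}
  smul_mem' := by
    rintro h W ⟨hW, g, hg, hgW⟩
    refine ⟨by rw [finrank_smul]; exact hW, h * g * h⁻¹, ?_, ?_⟩
    · rwa [conj_mem_iff M Z hZ]
    · rw [mul_smul, mul_smul, inv_smul_smul, hgW]

theorem mem_poles (W : Lines M) :
    W ∈ poles M Z hZ ↔ finrank ℂ W.sub = 1 ∧ ∃ g, g ∉ Z ∧ g • W = W := Iff.rfl

variable [Finite G]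

include hZ in
/-- The two fixed lines of a non-scalar element. -/
theorem exists_fixed_pair (g : G) (hg : g ∉ Z) :
    ∃ E₁ E₂ : Lines M, E₁ ≠ E₂ ∧ finrank ℂ E₁.sub = 1 ∧ finrank ℂ E₂.sub = 1 ∧ g • E₁ = E₁ ∧
      g • E₂ = E₂ ∧ ∀ W : Lines M, finrank ℂ W.sub = 1 → g • W = W → W = E₁ ∨ W = E₂ := by
  have hk : 0 < orderOf g := orderOf_pos g
  have hA : M g ^ orderOf g = 1 := by rw [← map_pow, pow_orderOf_eq_one, map_one]
  have hns : ∀ c : ℂ, M g ≠ c • 1 := fun c hc => hg ((hZ g).mpr ⟨c, hc⟩)
  obtain ⟨E₁, E₂, h1, h2, h3, h4, h5, h6⟩ := exists_two_fixed_lines (M g) _ hk hA hns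
  exact ⟨E₁, E₂, h1, h2, h3, h4, h5, h6⟩

include hZ in
theorem finite_poles : Finite (poles M Z hZ) := by
  classical
  have h1 : (poles M Z hZ).carrier ⊆
      ⋃ g ∈ {g : G | g ∉ Z}, {W : Lines M | finrank ℂ W.sub = 1 ∧ g • W = W} := by
    rintro W ⟨hW, g, hg, hgW⟩
    simp only [Set.mem_iUnion, Set.mem_setOf_eq]
    exact ⟨g, hg, hW, hgW⟩
  have h2 : (⋃ g ∈ {g : G | g ∉ Z}, {W : Lines M | finrank ℂ W.sub = 1 ∧ g • W = W}).Finite := by
    apply Set.Finite.biUnion (Set.toFinite _)
    intro g hg
    obtain ⟨E₁, E₂, -, -, -, -, -, h6⟩ := exists_fixed_pair M Z hZ g hg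
    apply Set.Finite.subset (Set.toFinite {E₁, E₂})
    rintro W ⟨hW, hgW⟩
    rcases h6 W hW hgW with h | h
    · left; exact h
    · right; exact h
  exact (h2.subset h1).to_subtype

include hZ in
theorem le_stabilizer (W : Lines M) : Z ≤ stabilizer G W := by
  intro g hg
  obtain ⟨c, hc⟩ := (hZ g).mp hg
  exact smul_eq_of_scalar M g c hc W

include hZ in
/-- **The orbit equation** for the poles, in the form needed. -/
theorem exists_small_orbit_or :
    (∃ W : Lines M, finrank ℂ W.sub = 1 ∧ (stabilizer G W).index ≤ 2) ∨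
      Z.index = 12 ∨ Z.index = 24 ∨ Z.index = 60 := by
  classical
  by_cases hZtop : Z = ⊤
  · -- then there are no poles, but any line works
    left
    let W : Lines M := (Submodule.span ℂ {(fun _ => 1 : V2)} : Submodule ℂ V2)
    refine ⟨W, ?_, ?_⟩
    · exact finrank_span_singleton (by intro h; have := congrFun h 0; simp at this)
    · have : stabilizer G W = ⊤ := by
        rw [eq_top_iff, ← hZtop]
        exact le_stabilizer M Z hZ W
      rw [this, Subgroup.index_top]
      norm_num
  set X := poles M Z hZ with hX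
  haveI : Finite X := finite_poles M Z hZ
  haveI : Fintype G := Fintype.ofFinite G
  haveI : Fintype X := Fintype.ofFinite X
  haveI : Fintype (orbitRel.Quotient G X) := Fintype.ofFinite _
  haveI : ∀ g : G, Fintype (fixedBy X g) := fun g => Fintype.ofFinite _
  have hB := MulAction.sum_card_fixedBy_eq_card_orbits_mul_card_group G X
  obtain ⟨r, hr⟩ : ∃ r, r = Fintype.card (orbitRel.Quotient G X) := ⟨_, rfl⟩
  rw [← hr] at hB
  -- fixed points
  have hfix : ∀ g : G, Fintype.card (fixedBy X g) = if g ∈ Z then Fintype.card X else 2 := by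
    intro g
    split_ifs with hg
    · have : fixedBy X g = Set.univ := by
        rw [Set.eq_univ_iff_forall]
        intro x
        rw [mem_fixedBy]
        apply Subtype.ext
        rw [SubMulAction.val_smul]
        exact le_stabilizer M Z hZ (x : Lines M) hg
      rw [Fintype.card_congr (Equiv.setCongr this), Fintype.card_congr (Equiv.Set.univ X)]
    · obtain ⟨E₁, E₂, hne, h1, h2, h3, h4, h6⟩ := exists_fixed_pair M Z hZ g hg
      have hE₁ : E₁ ∈ X := ⟨h1, g, hg, h3⟩
      have hE₂ : E₂ ∈ X := ⟨h2, g, hg, h4⟩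
      have : fixedBy X g = {⟨E₁, hE₁⟩, ⟨E₂, hE₂⟩} := by
        ext x
        rw [mem_fixedBy, Set.mem_insert_iff, Set.mem_singleton_iff]
        constructor
        · intro hx
          have hx' : g • (x : Lines M) = x := by
            rw [← SubMulAction.val_smul, hx]
          rcases h6 x x.2.1 hx' with h | h
          · left; exact Subtype.ext h
          · right; exact Subtype.ext h
        · rintro (rfl | rfl)
          · exact Subtype.ext h3
          · exact Subtype.ext h4
      rw [Fintype.card_eq_nat_card, Nat.card_coe_set_eq, this, Set.ncard_pair]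
      intro h
      exact hne (congrArg Subtype.val h)
  simp_rw [hfix] at hB
  rw [Finset.sum_ite, Finset.sum_const, Finset.sum_const, smul_eq_mul, smul_eq_mul] at hB
  have hcz : (Finset.univ.filter (fun g : G => g ∈ Z)).card = Nat.card Z := by
    rw [Nat.card_eq_fintype_card, Fintype.card_subtype]
  have hcnz : (Finset.univ.filter (fun g : G => ¬ g ∈ Z)).card = Nat.card G - Nat.card Z := by
    rw [← hcz, Nat.card_eq_fintype_card, ← Finset.card_univ,
      ← Finset.card_filter_add_card_filter_not (s := (Finset.univ : Finset G)) (fun g : G => g ∈ Z)]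
    omega
  rw [hcz, hcnz] at hB
  -- orbit sizes
  let s : (orbitRel.Quotient G X) → ℕ := fun ω => (stabilizer G (Quotient.out ω : X)).index
  have hcardX : Fintype.card X = ∑ ω : (orbitRel.Quotient G X), s ω := by
    rw [Fintype.card_congr (selfEquivSigmaOrbitsQuotientStabilizer G X), Fintype.card_sigma]
    refine Finset.sum_congr rfl (fun ω _ => ?_)
    rw [Fintype.card_eq_nat_card]
    rfl
  set N := Z.index with hN
  have hzN : Nat.card Z * N = Nat.card G := Subgroup.card_mul_index Z
  have hz0 : 0 < Nat.card Z := Nat.card_pos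
  have hstab : ∀ x : X, stabilizer G x = stabilizer G (x : Lines M) := fun x =>
    SubMulAction.stabilizer_of_subMul x
  have hs : ∀ ω : (orbitRel.Quotient G X), s ω ∣ N ∧ 2 * s ω ≤ N := by
    intro ω
    set x : X := Quotient.out ω with hx
    have hle : Z ≤ stabilizer G x := by
      rw [hstab]
      exact le_stabilizer M Z hZ _
    have h1 : Z.relIndex (stabilizer G x) * (stabilizer G x).index = N :=
      Subgroup.relIndex_mul_index hle
    have h2 : Z.relIndex (stabilizer G x) ≠ 1 := by
      rw [Ne, Subgroup.relIndex_eq_one]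
      intro hle'
      obtain ⟨-, g, hg, hgx⟩ := x.2
      apply hg
      apply hle'
      rw [hstab]
      exact hgx
    have h3 : Z.relIndex (stabilizer G x) ≠ 0 := by
      unfold Subgroup.relIndex
      exact Subgroup.index_ne_zero_of_finite
    have h4 : 2 ≤ Z.relIndex (stabilizer G x) := by omega
    refine ⟨Dvd.intro_left _ h1, ?_⟩
    calc 2 * s ω ≤ Z.relIndex (stabilizer G x) * s ω := Nat.mul_le_mul_right _ h4
      _ = N := h1
  by_cases hsmall : ∃ ω : (orbitRel.Quotient G X), s ω ≤ 2
  · obtain ⟨ω, hω⟩ := hsmall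
    left
    refine ⟨((Quotient.out ω : X) : Lines M), (Quotient.out ω : X).2.1, ?_⟩
    rw [← hstab]
    exact hω
  · right
    push Not at hsmall
    have hN2 : 2 ≤ N := by
      have h0 : N ≠ 0 := Subgroup.index_ne_zero_of_finite
      have h1 : N ≠ 1 := by
        rw [hN, Ne, Subgroup.index_eq_one]
        exact hZtop
      omega
    apply arith_orbits N s (fun ω => (hs ω).1) (fun ω => by have := hsmall ω; omega)
      (fun ω => (hs ω).2) ?_ hN2
    -- the equation
    have hTS : ∑ ω : (orbitRel.Quotient G X), (N - s ω) + ∑ ω : (orbitRel.Quotient G X), s ω = r * N := by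
      rw [hr, ← Finset.sum_add_distrib, ← Finset.card_univ, ← smul_eq_mul, ← Finset.sum_const]
      refine Finset.sum_congr rfl (fun ω _ => ?_)
      have := (hs ω).2
      omega
    rw [hcardX, ← Nat.card_eq_fintype_card (α := G), ← hzN] at hB
    set S := ∑ ω : (orbitRel.Quotient G X), s ω with hS
    set T := ∑ ω : (orbitRel.Quotient G X), (N - s ω) with hT
    have h5 : Nat.card Z * T = Nat.card Z * (2 * N - 2) := by
      have h6 : Nat.card Z * N - Nat.card Z = Nat.card Z * (N - 1) := by
        rw [Nat.mul_sub, mul_one]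
      rw [h6] at hB
      have h7 : Nat.card Z * (T + S) = Nat.card Z * S + Nat.card Z * (N - 1) * 2 := by
        rw [hTS, hB]; ring
      have h8 : Nat.card Z * (2 * N - 2) = Nat.card Z * (N - 1) * 2 := by
        have : 2 * N - 2 = (N - 1) * 2 := by omega
        rw [this, mul_assoc]
      rw [h8]
      rw [mul_add] at h7
      omega
    exact Nat.eq_of_mul_eq_mul_left hz0 h5

end poles

end Cfsg.Agent.CharLib.Prim2
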