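import Mathlib
import Cfsg.Agent.Lib.Lead.Prim2B
import Cfsg.Agent.Lib.Lead.CharInd
import Cfsg.Agent.Lib.Lead.CharOrtho
import Cfsg.Agent.Lib.Helper6.LinChar
import Cfsg.Agent.Lib.Helper6.CharExtra

/-!
lead: a subgroup with an invariant line in a two-dimensional representation: the character restricted to it is
a sum of two linear characters; if the subgroup has index two, the character is induced.
-/

set_option autoImplicit false

namespace Cfsg.Agent.CharLib.Prim2

open Matrix Module Cfsg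
open scoped ComplexConjugate

theorem trace_eq_of_eigen (A : Matrix (Fin 2) (Fin 2) ℂ) (c : ℂ) (w : V2) (hw : w ≠ 0)
    (h : A *ᵥ w = c • w) : c * (A.trace - c) = A.det := by
  have hdet : (A - c • (1 : Matrix (Fin 2) (Fin 2) ℂ)).det = 0 := by
    rw [← Matrix.exists_mulVec_eq_zero_iff]
    refine ⟨w, hw, ?_⟩
    rw [Matrix.sub_mulVec, h, Matrix.smul_mulVec, Matrix.one_mulVec, sub_self]
  rw [Matrix.det_fin_two] at hdet
  simp only [Matrix.sub_apply, Matrix.smul_apply, Matrix.one_apply_eq, smul_eq_mul, mul_one,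
    Matrix.one_apply_ne (show (0 : Fin 2) ≠ 1 by decide),
    Matrix.one_apply_ne (show (1 : Fin 2) ≠ 0 by decide), mul_zero, sub_zero] at hdet
  rw [Matrix.trace_fin_two, Matrix.det_fin_two]
  linear_combination (-1 : ℂ) * hdet

variable {G : Type*} [Group G]

/-- A subgroup fixing a line acts on it through a linear character; the trace is the sum of two linear
characters. -/
theorem exists_linear_of_invariant_line (M : G →* Matrix (Fin 2) (Fin 2) ℂ) (H : Subgroup G)
    (W : Submodule ℂ V2) (hW : finrank ℂ W = 1)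
    (hinv : ∀ h ∈ H, W.map (toLin' (M h)) = W) :
    ∃ lam mu : ↥H →* ℂˣ, ∀ h : H, (M h).trace = ((lam h : ℂˣ) : ℂ) + ((mu h : ℂˣ) : ℂ) := by
  classical
  obtain ⟨u, hu0, hu⟩ := finrank_eq_one_iff'.mp hW
  have hu0' : (u : V2) ≠ 0 := fun h => hu0 (Subtype.ext h)
  have hex : ∀ h : H, ∃ c : ℂ, M h *ᵥ (u : V2) = c • (u : V2) := by
    intro h
    have h1 := forall_mem_of_map_eq (M h) W (hinv h h.2) u u.2
    obtain ⟨c, hc⟩ := hu ⟨_, h1⟩
    refine ⟨c, ?_⟩
    have := congrArg Subtype.val hc
    simpa using this.symm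
  choose f hf using hex
  have huniq : ∀ c c' : ℂ, c • (u : V2) = c' • (u : V2) → c = c' := by
    intro c c' h
    have h1 : (c - c') • (u : V2) = 0 := by rw [sub_smul, h, sub_self]
    exact sub_eq_zero.mp ((smul_eq_zero.mp h1).resolve_right hu0')
  have hf1 : f 1 = 1 := by
    apply huniq
    rw [← hf 1]
    simp
  have hfmul : ∀ h k : H, f (h * k) = f h * f k := by
    intro h k
    apply huniq
    rw [← hf (h * k)]
    have : ((h * k : H) : G) = (h : G) * (k : G) := rfl
    rw [this, map_mul, ← Matrix.mulVec_mulVec, hf k, Matrix.mulVec_smul, hf h, smul_smul, mul_comm]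
  let f' : ↥H →* ℂ := { toFun := f, map_one' := hf1, map_mul' := hfmul }
  let lam : ↥H →* ℂˣ := f'.toHomUnits
  let detH : ↥H →* ℂˣ := ((Matrix.detMonoidHom (n := Fin 2) (R := ℂ)).comp (M.comp H.subtype)).toHomUnits
  refine ⟨lam, detH / lam, ?_⟩
  intro h
  have hlam : ((lam h : ℂˣ) : ℂ) = f h := rfl
  have hdet : ((detH h : ℂˣ) : ℂ) = (M h).det := rfl
  have hne : f h ≠ 0 := by
    rw [← hlam]
    exact Units.ne_zero _
  have key := trace_eq_of_eigen (M h) (f h) u hu0' (hf h)
  rw [MonoidHom.div_apply, Units.val_div_eq_div_val, hlam, hdet, ← key]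
  field_simp
  ring

/-- An irreducible character of degree two whose restriction to a subgroup of index two is a sum of two
linear characters is induced from that subgroup. -/
theorem induced_of_index_two [Fintype G] (χ : G → ℂ) (hχ : IsIrrCharacter G χ) (hχ1 : χ 1 = 2)
    (H : Subgroup G) (hH : H.index = 2) (lam mu : ↥H →* ℂˣ)
    (hsum : ∀ h : H, χ h = ((lam h : ℂˣ) : ℂ) + ((mu h : ℂˣ) : ℂ)) :
    χ = indFun H (fun h => ((lam h : ℂˣ) : ℂ)) := by
  classical
  haveI : Fintype H := Fintype.ofFinite H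
  have hlam := Cfsg.Agent.Lib.Helper6.isCharacter_of_hom lam
  have hlami := Cfsg.Agent.Lib.Helper6.isIrrCharacter_of_hom lam
  have hmui := Cfsg.Agent.Lib.Helper6.isIrrCharacter_of_hom mu
  have hΦ : IsCharacter G (indFun H (fun h => ((lam h : ℂˣ) : ℂ))) := IsCharacter.indFun H hlam
  have hcl : IsClassFunction G χ := by
    obtain ⟨n, ρ, -, rfl⟩ := hχ
    exact IsCharacter.isClassFunction ⟨n, ρ, rfl⟩
  have hrec := frobenius_reciprocity H (fun h => ((lam h : ℂˣ) : ℂ)) hcl
  have hres : (fun h : H => χ h) = (fun h => ((lam h : ℂˣ) : ℂ)) + (fun h => ((mu h : ℂˣ) : ℂ)) := by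
    funext h
    exact hsum h
  have hne : classInner (indFun H (fun h => ((lam h : ℂˣ) : ℂ))) χ ≠ 0 := by
    rw [hrec, hres, classInner_add_right, classInner_irr hlami hlami, classInner_irr hlami hmui, if_pos rfl]
    split_ifs <;> norm_num
  have hdeg : indFun H (fun h => ((lam h : ℂˣ) : ℂ)) 1 = ((2 : ℕ) : ℂ) := by
    rw [Cfsg.Agent.Lib.Helper6.indFun_apply_one, map_one, Units.val_one, mul_one, ← hH,
      ← Subgroup.card_mul_index H]
    have : (Nat.card H : ℂ) ≠ 0 := by
      have := Nat.card_pos (α := H)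
      exact_mod_cast this.ne'
    push_cast
    field_simp
  have hχ1' : χ 1 = ((2 : ℕ) : ℂ) := by rw [hχ1]; norm_num
  exact (Cfsg.Agent.Lib.Helper6.IsCharacter.eq_of_constituent_of_degree_le hΦ hχ hne hdeg hχ1' le_rfl).symm

end Cfsg.Agent.CharLib.Prim2
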