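import Mathlib
import Cfsg.Prelude.Def_CaseTheorems
import Cfsg.Agent.Lib.Lead.PrincipalNorm1
import Cfsg.Agent.Lib.Helper23.Covering2
import Cfsg.Agent.Lib.Helper25.Inflate
import Cfsg.Agent.Lib.Helper12.Cores

/-!
lead: `λ(G, x) = ∑_{χ ∈ B₀} |χ(x)|²` and the quotient by `O_{p'}(G)` (S4735).
-/

set_option autoImplicit false

namespace Cfsg.Agent.CharLib

open Cfsg Cfsg.Agent.Lib.Helper24 Cfsg.Agent.Lib.Helper6
open scoped ComplexConjugate

universe u

section quot

variable {G : Type u} [Group G] [Finite G] {M : Ideal AlgInt}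

/-- Inflation is a bijection from the principal block of `G ⧸ N` onto that of `G`, for a normal
`p'`-subgroup `N`. -/
theorem bijOn_inflateIrr_principalBlock {p : ℕ} [hpp : Fact p.Prime] (hM : IsPModular p M)
    (N : Subgroup G) [N.Normal] (hNp : ¬ p ∣ Nat.card N) :
    Set.BijOn (Cfsg.Agent.Lib.Helper25.inflateIrr N) (principalBlock M (G ⧸ N))
      (principalBlock M G) := by
  have hprime : M.IsPrime := isPrime_of_isPModular hM
  refine ⟨?_, (Cfsg.Agent.Lib.Helper25.inflateIrr_injective N).injOn, ?_⟩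
  · intro ψ hψ
    have h : SameBlock M (fun _ : G ⧸ N => (1 : ℂ)) (ψ : G ⧸ N → ℂ) := hψ
    exact sameBlock_inflate N _ _ h
  · intro χ hχ
    have h1 : χ ∈ blockOf M (((trivIrr (G ⧸ N) : IrrCharacter (G ⧸ N)) : G ⧸ N → ℂ) ∘
        QuotientGroup.mk) := hχ
    obtain ⟨ψ', hψ', hsame⟩ := Cfsg.Agent.Lib.Helper23.block_of_inflation N p hM hNp
      (trivIrr (G ⧸ N)) χ h1
    refine ⟨ψ', hsame, ?_⟩
    apply Subtype.ext
    rw [hψ']
    rfl

end quot

section main

variable {G : Type u} [Group G] [Finite G]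

/-- S4735. -/
theorem principal_normSq_sums (p : ℕ) [hpp : Fact p.Prime] (M : Ideal AlgInt) (hM : IsPModular p M)
    (x : G) :
    (∃ n : ℕ, 0 < n ∧ ∑ᶠ χ ∈ principalBlock M G, Complex.normSq ((χ : G → ℂ) x) = n) ∧
    ∑ᶠ χ ∈ principalBlock M G, Complex.normSq ((χ : G → ℂ) x) =
      ∑ᶠ ψ ∈ principalBlock M (G ⧸ pPrimeCore p G),
        Complex.normSq ((ψ : G ⧸ pPrimeCore p G → ℂ) (QuotientGroup.mk x)) ∧
    ∑ᶠ χ ∈ principalBlock M G, Complex.normSq ((χ : G → ℂ) x) ≤
      (Nat.card ↥(Subgroup.centralizer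
        ({(QuotientGroup.mk x : G ⧸ pPrimeCore p G)} : Set (G ⧸ pPrimeCore p G))) : ℝ) ∧
    ((∑ᶠ χ ∈ principalBlock M G, charDegree (χ : G → ℂ) ^ 2) = (pPrimeCore p G).index ↔
      ∀ B : Set (IrrCharacter (G ⧸ pPrimeCore p G)), IsPBlock M B →
        B = principalBlock M (G ⧸ pPrimeCore p G)) := by
  classical
  have hprime : M.IsPrime := isPrime_of_isPModular hM
  set N := pPrimeCore p G with hN
  have hcop : (Nat.card N).Coprime p := Cfsg.Agent.Lib.Helper12.pPrimeCore_coprime p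
  have hNp : ¬ p ∣ Nat.card N := by
    intro h
    have := Nat.Coprime.eq_one_of_dvd hcop.symm h
    exact hpp.out.one_lt.ne' this
  let _ : Fintype (G ⧸ N) := Fintype.ofFinite _
  let _ : Fintype (IrrCharacter (G ⧸ N)) := Fintype.ofFinite _
  have hbij := bijOn_inflateIrr_principalBlock hM N hNp
  have hquot : ∑ᶠ χ ∈ principalBlock M G, Complex.normSq ((χ : G → ℂ) x) =
      ∑ᶠ ψ ∈ principalBlock M (G ⧸ N),
        Complex.normSq ((ψ : G ⧸ N → ℂ) (QuotientGroup.mk x)) := by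
    symm
    apply finsum_mem_eq_of_bijOn (Cfsg.Agent.Lib.Helper25.inflateIrr N) hbij
    intro ψ _
    rfl
  refine ⟨exists_nat_sum_principal_normSq hM x, hquot, ?_, ?_⟩
  · rw [hquot, finsum_mem_eq_sum_ite]
    have h1 := sum_irr_mul_conj (QuotientGroup.mk x : G ⧸ N) (QuotientGroup.mk x : G ⧸ N)
    have h2 : classIndicator (QuotientGroup.mk x : G ⧸ N) (QuotientGroup.mk x : G ⧸ N) = 1 := by
      unfold classIndicator
      rw [if_pos (IsConj.refl _)]
    rw [h2, one_mul] at h1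
    have h3 : ((∑ ψ : IrrCharacter (G ⧸ N),
        Complex.normSq ((ψ : G ⧸ N → ℂ) (QuotientGroup.mk x)) : ℝ) : ℂ) =
        ((Nat.card ↥(Subgroup.centralizer
          ({(QuotientGroup.mk x : G ⧸ N)} : Set (G ⧸ N))) : ℝ) : ℂ) := by
      push_cast
      rw [← h1]
      apply Finset.sum_congr rfl
      intro ψ _
      rw [Complex.mul_conj]
    have h4 : (∑ ψ : IrrCharacter (G ⧸ N),
        Complex.normSq ((ψ : G ⧸ N → ℂ) (QuotientGroup.mk x)) : ℝ) =
        (Nat.card ↥(Subgroup.centralizer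
          ({(QuotientGroup.mk x : G ⧸ N)} : Set (G ⧸ N))) : ℝ) := by exact_mod_cast h3
    rw [← h4]
    apply Finset.sum_le_sum
    intro ψ _
    split_ifs
    · exact le_refl _
    · exact Complex.normSq_nonneg _
  · -- degrees
    have hdeg : ∑ᶠ χ ∈ principalBlock M G, charDegree (χ : G → ℂ) ^ 2 =
        ∑ᶠ ψ ∈ principalBlock M (G ⧸ N), charDegree (ψ : G ⧸ N → ℂ) ^ 2 := by
      symm
      apply finsum_mem_eq_of_bijOn (Cfsg.Agent.Lib.Helper25.inflateIrr N) hbij
      intro ψ _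
      have : ((Cfsg.Agent.Lib.Helper25.inflateIrr N ψ : IrrCharacter G) : G → ℂ) 1 =
          (ψ : G ⧸ N → ℂ) 1 := by
        rw [Cfsg.Agent.Lib.Helper25.inflateIrr_apply, QuotientGroup.mk_one]
      unfold charDegree
      rw [this]
    rw [hdeg, finsum_mem_eq_sum_ite]
    have hdpos : ∀ ψ : IrrCharacter (G ⧸ N), 0 < charDegree (ψ : G ⧸ N → ℂ) ^ 2 := by
      intro ψ
      obtain ⟨d, hdpos, hd⟩ := IsIrrCharacter.apply_one_pos ψ.2
      rw [charDegree_eq_of_apply_one hd]
      positivity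
    have htotal : ∑ ψ : IrrCharacter (G ⧸ N), charDegree (ψ : G ⧸ N → ℂ) ^ 2 = N.index := by
      have h1 := finsum_irr_apply_one_sq (G := G ⧸ N)
      rw [finsum_eq_sum_of_fintype] at h1
      have h2 : ((∑ ψ : IrrCharacter (G ⧸ N), charDegree (ψ : G ⧸ N → ℂ) ^ 2 : ℕ) : ℂ) =
          ((N.index : ℕ) : ℂ) := by
        rw [Subgroup.index_eq_card, ← h1]
        push_cast
        apply Finset.sum_congr rfl
        intro ψ _
        obtain ⟨d, -, hd⟩ := IsIrrCharacter.apply_one_pos ψ.2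
        rw [charDegree_eq_of_apply_one hd, hd]
      exact_mod_cast h2
    rw [← htotal]
    constructor
    · intro heq B hB
      have hall : ∀ ψ : IrrCharacter (G ⧸ N), ψ ∈ principalBlock M (G ⧸ N) := by
        by_contra hne
        push Not at hne
        obtain ⟨ψ₀, hψ₀⟩ := hne
        have hlt : ∑ ψ : IrrCharacter (G ⧸ N),
            (if ψ ∈ principalBlock M (G ⧸ N) then charDegree (ψ : G ⧸ N → ℂ) ^ 2 else 0) <
            ∑ ψ : IrrCharacter (G ⧸ N), charDegree (ψ : G ⧸ N → ℂ) ^ 2 := by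
          apply Finset.sum_lt_sum
          · intro ψ _
            split_ifs
            · exact le_refl _
            · exact Nat.zero_le _
          · refine ⟨ψ₀, Finset.mem_univ _, ?_⟩
            rw [if_neg hψ₀]
            exact hdpos ψ₀
        omega
      obtain ⟨ψ, rfl⟩ := hB
      exact isPBlock_eq_of_mem ⟨ψ, rfl⟩ (isPBlock_principalBlock M (G ⧸ N)) (mem_blockOf_self ψ)
        (hall ψ)
    · intro hall
      apply Finset.sum_congr rfl
      intro ψ _
      have : ψ ∈ principalBlock M (G ⧸ N) := by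
        rw [← hall (blockOf M (ψ : G ⧸ N → ℂ)) ⟨ψ, rfl⟩]
        exact mem_blockOf_self ψ
      rw [if_pos this]

end main

end Cfsg.Agent.CharLib
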