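/-
lead: a nontrivial real element with centralizer of odd order forces an irreducible character of
even degree (column orthogonality modulo a maximal ideal over `2`).  Used for S4746.
-/
import Mathlib
import Cfsg.Agent.Lib.Lead.CharMain
import Cfsg.Agent.Lib.Lead.SmallFaithA
import Cfsg.Agent.Lib.Helper6.Knoerr

set_option autoImplicit false

namespace Cfsg.Agent.Lib.Lead.RealOdd

open Cfsg Cfsg.Agent.Lib.Helper24 Cfsg.Agent.CharLib Cfsg.Agent.Lib.Lead.SmallFaith
open scoped ComplexConjugate

universe u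

theorem memLocalIdeal_two {M : Ideal AlgInt} (hM : IsPModular 2 M) : MemLocalIdeal M (2 : ℂ) := by
  have h1 := Cfsg.Agent.CharLib.memLocalIdeal_natCast_of_dvd hM (dvd_refl 2)
  exact_mod_cast h1

/-- Modulo `2`, the square of a sum is the sum of the squares. -/
theorem memLocalIdeal_sq_sum_sub {M : Ideal AlgInt} (hM : IsPModular 2 M) {ι : Type*}
    (s : Finset ι) (a : ι → ℂ) (ha : ∀ i ∈ s, IsIntegral ℤ (a i)) :
    MemLocalIdeal M ((∑ i ∈ s, a i) ^ 2 - ∑ i ∈ s, a i ^ 2) := by
  classical
  have hp : M.IsPrime := isPrime_of_isPModular hM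
  induction s using Finset.induction_on with
  | empty =>
    simp only [Finset.sum_empty]
    rw [zero_pow two_ne_zero, sub_zero]
    exact memLocalIdeal_zero hp.one_notMem
  | insert i s hi ih =>
    rw [Finset.sum_insert hi, Finset.sum_insert hi]
    have h1 : (a i + ∑ j ∈ s, a j) ^ 2 - (a i ^ 2 + ∑ j ∈ s, a j ^ 2) =
        (2 : ℂ) * (a i * ∑ j ∈ s, a j) + ((∑ j ∈ s, a j) ^ 2 - ∑ j ∈ s, a j ^ 2) := by ring
    rw [h1]
    apply memLocalIdeal_add
    · apply memLocalIdeal_mul_right (memLocalIdeal_two hM)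
      apply memLocalRing_of_isIntegral
      apply IsIntegral.mul (ha i (Finset.mem_insert_self i s))
      apply IsIntegral.sum
      intro j hj
      exact ha j (Finset.mem_insert_of_mem hj)
    · exact ih (fun j hj => ha j (Finset.mem_insert_of_mem hj))

/-- A nontrivial real element whose centralizer has odd order forces an irreducible character of
even degree. -/
theorem exists_even_degree_of_real_odd_centralizer {G : Type u} [Group G] [Finite G] (z : G)
    (hz : z ≠ 1) (hreal : ∃ x : G, x * z * x⁻¹ = z⁻¹)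
    (hodd : Odd (Nat.card (Subgroup.centralizer ({z} : Set G)))) :
    ∃ χ : IrrCharacter G, Even (charDegree (χ : G → ℂ)) := by
  classical
  by_contra hno
  push Not at hno
  have : Fact (Nat.Prime 2) := ⟨Nat.prime_two⟩
  obtain ⟨M, hM⟩ := Cfsg.Agent.Lib.Helper6.exists_isPModular 2
  have hp : M.IsPrime := isPrime_of_isPModular hM
  letI := Fintype.ofFinite G
  letI := fintypeIrr G
  have hdeg : ∀ χ : IrrCharacter G, ∃ n : ℕ, (χ : G → ℂ) 1 = n ∧ Odd n := by
    intro χ
    obtain ⟨n, hn⟩ := IsCharacter.apply_one (IsIrrCharacter.isCharacter χ.2)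
    refine ⟨n, hn, ?_⟩
    have h := hno χ
    have h' : charDegree (χ : G → ℂ) = n := by
      unfold charDegree
      rw [hn]
      simp
    rw [h'] at h
    exact Nat.not_even_iff_odd.mp h
  have hint : ∀ χ : IrrCharacter G, IsIntegral ℤ ((χ : G → ℂ) z) := by
    intro χ
    obtain ⟨n, ρ, _, hρ⟩ := χ.2
    rw [← hρ]
    exact isIntegral_char ρ z
  obtain ⟨x, hx⟩ := hreal
  have hrealval : ∀ χ : IrrCharacter G, conj ((χ : G → ℂ) z) = (χ : G → ℂ) z := by
    intro χ
    rw [← IsCharacter.apply_inv (IsIrrCharacter.isCharacter χ.2), ← hx]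
    exact (IsCharacter.isClassFunction (IsIrrCharacter.isCharacter χ.2)) z x
  have h1 : ∑ χ : IrrCharacter G, (χ : G → ℂ) z * (χ : G → ℂ) 1 = 0 := by
    have h := sum_irr_mul_conj (G := G) z 1
    have hci : classIndicator (1 : G) z = 0 := by
      unfold classIndicator
      rw [if_neg]
      rw [isConj_one_left]
      exact hz
    rw [hci, zero_mul] at h
    rw [← h]
    apply Finset.sum_congr rfl
    intro χ _
    obtain ⟨n, hn, _⟩ := hdeg χ
    rw [hn]
    simp
  have h2 : ∑ χ : IrrCharacter G, (χ : G → ℂ) z ^ 2 =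
      (Nat.card (Subgroup.centralizer ({z} : Set G)) : ℂ) := by
    have h := sum_irr_mul_conj (G := G) z z
    have hci : classIndicator z z = 1 := by
      unfold classIndicator
      rw [if_pos (IsConj.refl z)]
    rw [hci, one_mul] at h
    rw [← h]
    apply Finset.sum_congr rfl
    intro χ _
    rw [hrealval χ, sq]
  set S := ∑ χ : IrrCharacter G, (χ : G → ℂ) z with hS
  have h3 : MemLocalIdeal M S := by
    have h4 : S = - ∑ χ : IrrCharacter G, (χ : G → ℂ) z * ((χ : G → ℂ) 1 - 1) := by
      simp only [mul_sub, mul_one, Finset.sum_sub_distrib]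
      rw [h1, ← hS]
      ring
    rw [h4]
    apply memLocalIdeal_neg
    apply sum_memLocalIdeal
    intro χ _
    obtain ⟨n, hn, hnodd⟩ := hdeg χ
    apply memLocalIdeal_mul_left (memLocalRing_of_isIntegral (hint χ))
    rw [hn]
    obtain ⟨k, hk⟩ := hnodd
    have h5 : ((n : ℂ) - 1) = (2 : ℂ) * (k : ℂ) := by
      rw [hk]
      push_cast
      ring
    rw [h5]
    apply memLocalIdeal_mul_right (memLocalIdeal_two hM)
    exact memLocalRing_of_isIntegral (isIntegral_algebraMap (R := ℤ) (x := (k : ℤ)) |> fun h => by simpa using h)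
  have h5 : MemLocalIdeal M (S ^ 2) := by
    rw [sq]
    exact memLocalIdeal_mul_right h3 (memLocalRing_of_memLocalIdeal h3)
  have h6 := memLocalIdeal_sq_sum_sub hM Finset.univ (fun χ : IrrCharacter G => (χ : G → ℂ) z)
    (fun χ _ => hint χ)
  have h7 : MemLocalIdeal M (Nat.card (Subgroup.centralizer ({z} : Set G)) : ℂ) := by
    have h := memLocalIdeal_sub h5 h6
    rw [sub_sub_cancel, h2] at h
    exact h
  have h8 := dvd_of_memLocalIdeal_natCast hM h7
  exact (Nat.not_even_iff_odd.mpr hodd) (even_iff_two_dvd.mpr h8)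

end Cfsg.Agent.Lib.Lead.RealOdd
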