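import Mathlib
import Cfsg.Agent.Lib.Helper10.Coherence3
import Cfsg.Agent.Lib.Helper10.GenChar
/-! Gluing two coherent sets (Sibley's argument), part 1: generalities on generalized characters
and the swap of a conjugate pair. -/
set_option autoImplicit false
open Cfsg Cfsg.Agent.CharLib Cfsg.Agent.Lib.Helper10
open scoped ComplexConjugate

namespace Cfsg.Agent.Lib.Lead.SibGlue

section gen
variable {G : Type*} [Group G] [Fintype G]

/-- A generalized character all of whose multiplicities are divisible by `a`. -/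
theorem exists_smul_of_dvd {Δ : G → ℂ} (hΔ : IsGeneralizedCharacter G Δ) (a : ℕ)
    (h : ∀ φ : G → ℂ, IsIrrCharacter G φ → ∃ k : ℤ, classInner Δ φ = (a : ℂ) * k) :
    ∃ Ξ : G → ℂ, IsGeneralizedCharacter G Ξ ∧ Δ = (a : ℂ) • Ξ := by
  classical
  letI := fintypeIrr G
  have h' : ∀ φ : IrrCharacter G, ∃ k : ℤ, classInner Δ (φ : G → ℂ) = (a : ℂ) * k :=
    fun φ => h φ.1 φ.2
  choose k hk using h'
  refine ⟨∑ φ : IrrCharacter G, k φ • (φ : G → ℂ), ?_, ?_⟩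
  · apply genChar_sum
    intro φ _
    exact genChar_zsmul (isGeneralizedCharacter_of_isCharacter (IsIrrCharacter.isCharacter φ.2)) _
  · have hexp := classFunction_eq_sum (genChar_isClassFunction hΔ)
    conv_lhs => rw [hexp]
    rw [Finset.smul_sum]
    apply Finset.sum_congr rfl
    intro φ _
    rw [hk φ]
    funext g
    simp only [Pi.smul_apply]
    simp only [smul_eq_mul, zsmul_eq_mul]
    ring

theorem genChar_norm_nat {Ξ : G → ℂ} (hΞ : IsGeneralizedCharacter G Ξ) :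
    ∃ m : ℕ, classInner Ξ Ξ = (m : ℂ) := by
  obtain ⟨n, hn⟩ := genChar_inner_int hΞ hΞ
  obtain ⟨r, hr0, hr⟩ := classInner_self_nonneg Ξ
  have h1 : (r : ℂ) = ((n : ℝ) : ℂ) := by rw [← hr, hn]; push_cast; rfl
  have h2 : r = (n : ℝ) := by exact_mod_cast h1
  have h3 : (0 : ℤ) ≤ n := by
    have : (0 : ℝ) ≤ (n : ℝ) := h2 ▸ hr0
    exact_mod_cast this
  refine ⟨n.toNat, ?_⟩
  rw [hn]
  have : ((n.toNat : ℕ) : ℤ) = n := Int.toNat_of_nonneg h3
  exact_mod_cast congrArg (fun z : ℤ => (z : ℂ)) this.symm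

theorem genChar_norm_pos {Ξ : G → ℂ} (hΞ : IsGeneralizedCharacter G Ξ) (h0 : Ξ ≠ 0) :
    ∃ m : ℕ, 0 < m ∧ classInner Ξ Ξ = (m : ℂ) := by
  obtain ⟨m, hm⟩ := genChar_norm_nat hΞ
  refine ⟨m, ?_, hm⟩
  rcases Nat.eq_zero_or_pos m with h | h
  · exfalso
    rw [h, Nat.cast_zero] at hm
    exact h0 (Helper10.classInner_self_eq_zero hm)
  · exact h

end gen

section swap
variable {L : Type*} [Group L] [Fintype L] {G : Type*} [Group G] [Fintype G]

open Classical in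
/-- swapping (with signs) the images of a conjugate pair -/
noncomputable def swapMap (ξ ξ' : L → ℂ) (ρ : (L → ℂ) → (G → ℂ)) : (L → ℂ) → (G → ℂ) :=
  coefMap ({ξ, ξ'} : Finset (L → ℂ)) (fun ζ => if ζ = ξ then -ρ ξ' else -ρ ξ)

open Classical in
theorem swapMap_spec {ξ ξ' : L → ℂ} (hξ : IsIrrCharacter L ξ) (hξ' : IsIrrCharacter L ξ')
    (hne : ξ ≠ ξ') (hdeg : ξ 1 = ξ' 1)
    (ρ α : (L → ℂ) → (G → ℂ))
    (hρ : IsLinearIsometryOn (zspan (↑({ξ, ξ'} : Finset (L → ℂ)) : Set (L → ℂ))) ρ)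
    (hρα : ∀ θ ∈ zspanOn (↑({ξ, ξ'} : Finset (L → ℂ)) : Set (L → ℂ)) {1}ᶜ, ρ θ = α θ) :
    IsLinearIsometryOn (zspan (↑({ξ, ξ'} : Finset (L → ℂ)) : Set (L → ℂ))) (swapMap ξ ξ' ρ) ∧
      (∀ θ ∈ zspanOn (↑({ξ, ξ'} : Finset (L → ℂ)) : Set (L → ℂ)) {1}ᶜ,
        swapMap ξ ξ' ρ θ = α θ) ∧
      swapMap ξ ξ' ρ ξ = -ρ ξ' ∧ swapMap ξ ξ' ρ ξ' = -ρ ξ := by
  set P : Finset (L → ℂ) := {ξ, ξ'} with hP
  have hmem : ∀ ζ ∈ P, ζ = ξ ∨ ζ = ξ' := by
    intro ζ hζ
    rw [hP, Finset.mem_insert, Finset.mem_singleton] at hζ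
    exact hζ
  have hξP : ξ ∈ P := by rw [hP]; exact Finset.mem_insert_self _ _
  have hξ'P : ξ' ∈ P := by rw [hP]; exact Finset.mem_insert_of_mem (Finset.mem_singleton_self _)
  have hirrP : ∀ ζ ∈ P, IsIrrCharacter L ζ := by
    intro ζ hζ
    rcases hmem ζ hζ with rfl | rfl
    · exact hξ
    · exact hξ'
  have hO : OrthoOn P := orthoOn_of_irr hirrP
  have hρo := isometry_ortho hO hρ
  set f : (L → ℂ) → (G → ℂ) := fun ζ => if ζ = ξ then -ρ ξ' else -ρ ξ with hf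
  have hfξ : f ξ = -ρ ξ' := by simp only [hf, if_pos rfl]
  have hfξ' : f ξ' = -ρ ξ := by simp only [hf, if_neg (Ne.symm hne)]
  have hfo : ∀ ζ ∈ P, ∀ η ∈ P, classInner (f ζ) (f η) = if ζ = η then 1 else 0 := by
    intro ζ hζ η hη
    rcases hmem ζ hζ with rfl | rfl <;> rcases hmem η hη with rfl | rfl
    · rw [hfξ, Helper10.classInner_neg_left, Helper10.classInner_neg_right, neg_neg,
        hρo _ hξ'P _ hξ'P, if_pos rfl, if_pos rfl]
    · rw [hfξ, hfξ', Helper10.classInner_neg_left, Helper10.classInner_neg_right, neg_neg,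
        hρo _ hξ'P _ hξP, if_neg (Ne.symm hne), if_neg hne]
    · rw [hfξ, hfξ', Helper10.classInner_neg_left, Helper10.classInner_neg_right, neg_neg,
        hρo _ hξP _ hξ'P, if_neg hne, if_neg (Ne.symm hne)]
    · rw [hfξ', Helper10.classInner_neg_left, Helper10.classInner_neg_right, neg_neg,
        hρo _ hξP _ hξP, if_pos rfl, if_pos rfl]
  have hfg : ∀ ζ ∈ P, IsGeneralizedCharacter G (f ζ) := by
    intro ζ hζ
    rcases hmem ζ hζ with rfl | rfl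
    · rw [hfξ]; exact genChar_neg (hρ.2.2.2 _ (subset_zspan hξ'P))
    · rw [hfξ']; exact genChar_neg (hρ.2.2.2 _ (subset_zspan hξP))
  have hiso : IsLinearIsometryOn (zspan (↑P : Set (L → ℂ))) (coefMap P f) :=
    coefMap_isLinearIsometryOn hO f hfo hfg
  have hsξ : coefMap P f ξ = -ρ ξ' := by rw [coefMap_apply_mem hO f hξP, hfξ]
  have hsξ' : coefMap P f ξ' = -ρ ξ := by rw [coefMap_apply_mem hO f hξ'P, hfξ']
  have hd0 : ξ 1 ≠ 0 := by
    obtain ⟨n, hn, hn1⟩ := IsIrrCharacter.apply_one_pos hξ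
    rw [hn1]
    exact_mod_cast hn.ne'
  have hsw : swapMap ξ ξ' ρ = coefMap P f := rfl
  refine ⟨hiso, ?_, hsξ, hsξ'⟩
  intro θ hθ
  rw [← hρα θ hθ, hsw]
  obtain ⟨c, hc⟩ := mem_zspan_finset.mp hθ.1
  rw [hP, Finset.sum_pair hne] at hc
  have h1 : θ 1 = 0 := hθ.2 1 (by simp)
  have hcc : c ξ' = -c ξ := by
    rw [hc] at h1
    simp only [Pi.add_apply, Pi.smul_apply] at h1
    simp only [zsmul_eq_mul] at h1
    rw [← hdeg, ← add_mul] at h1
    have h2 := (mul_eq_zero.mp h1).resolve_right hd0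
    have h3 : c ξ + c ξ' = 0 := by exact_mod_cast h2
    omega
  have hE : ∀ γ ∈ zspan (↑P : Set (L → ℂ)), ∀ n : ℤ, n • γ ∈ zspan (↑P : Set (L → ℂ)) :=
    fun γ hγ n => zspan_zsmul hγ n
  rw [hc, isometry_lin2 hiso hE (subset_zspan hξP) (subset_zspan hξ'P),
    isometry_lin2 hρ hE (subset_zspan hξP) (subset_zspan hξ'P), hsξ, hsξ', hcc]
  funext g
  simp only [Pi.add_apply, Pi.smul_apply, Pi.neg_apply]
  simp only [zsmul_eq_mul]
  push_cast
  ring

end swap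

end Cfsg.Agent.Lib.Lead.SibGlue
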