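import Mathlib
import Cfsg.Agent.Lib.Lead.SibGlue1
import Cfsg.Agent.Lib.Helper10.Coherence2
/-! Gluing two coherent sets (Sibley's argument), part 2: the basic relations for
`α (χ₁ - a ψ)`. -/
set_option autoImplicit false
open Cfsg Cfsg.Agent.CharLib Cfsg.Agent.Lib.Helper10
open scoped ComplexConjugate

namespace Cfsg.Agent.Lib.Lead.SibGlue

variable {G : Type*} [Group G] [Fintype G] {N : Type*} [Group N] [Fintype N]

/-- `χ₁ - a ψ` as a combination -/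
theorem beta_eq (χ₁ ψ : N → ℂ) (a : ℕ) :
    χ₁ - ((a : ℕ) : ℤ) • ψ = (1 : ℤ) • χ₁ + (-(a : ℤ)) • ψ := by
  rw [one_smul, neg_smul, sub_eq_add_neg]

theorem irr_ne_of_disjoint {X Y : Set (N → ℂ)} (hXY : Disjoint X Y) {χ η : N → ℂ} (hχ : χ ∈ X)
    (hη : η ∈ Y) : χ ≠ η := by
  intro h
  exact Set.disjoint_left.mp hXY hχ (h ▸ hη)

variable {S X Y : Set (N → ℂ)} (hirr : ∀ ξ ∈ S, IsIrrCharacter N ξ) (hXS : X ⊆ S) (hYS : Y ⊆ S)
  (hXY : Disjoint X Y) {α : (N → ℂ) → (G → ℂ)}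
  (hα : IsLinearIsometryOn (zspanOn S {1}ᶜ) α)
  {χ₁ ψ : N → ℂ} (hχ₁ : χ₁ ∈ X) (hψ : ψ ∈ Y) {a e : ℕ}
  (hχ₁deg : χ₁ 1 = ((a * e : ℕ) : ℂ)) (hψdeg : ψ 1 = (e : ℂ))

include hXS hYS hχ₁ hψ hχ₁deg hψdeg in
theorem beta_mem : χ₁ - ((a : ℕ) : ℤ) • ψ ∈ zspanOn S {1}ᶜ := by
  refine ⟨zspan_sub (subset_zspan (hXS hχ₁)) (zspan_zsmul (subset_zspan (hYS hψ)) _), ?_⟩
  intro x hx
  have hx1 : x = 1 := by simpa using hx
  rw [hx1]
  simp only [Pi.sub_apply, Pi.smul_apply]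
  simp only [zsmul_eq_mul]
  rw [hχ₁deg, hψdeg]
  push_cast
  ring

include hirr hXS hYS hXY hχ₁ hψ in
theorem beta_norm :
    classInner (χ₁ - ((a : ℕ) : ℤ) • ψ) (χ₁ - ((a : ℕ) : ℤ) • ψ) = 1 + (a : ℂ) ^ 2 := by
  classical
  rw [beta_eq, classInner_lin2, CharLib.classInner_irr (hirr _ (hXS hχ₁)) (hirr _ (hXS hχ₁)),
    CharLib.classInner_irr (hirr _ (hXS hχ₁)) (hirr _ (hYS hψ)),
    CharLib.classInner_irr (hirr _ (hYS hψ)) (hirr _ (hXS hχ₁)),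
    CharLib.classInner_irr (hirr _ (hYS hψ)) (hirr _ (hYS hψ)), if_pos rfl, if_pos rfl,
    if_neg (irr_ne_of_disjoint hXY hχ₁ hψ), if_neg (irr_ne_of_disjoint hXY hχ₁ hψ).symm]
  push_cast
  ring

include hirr hXS hYS hXY hα hχ₁ hψ hχ₁deg hψdeg in
/-- the relation along `X` -/
theorem rel_X {σ : (N → ℂ) → (G → ℂ)} (hσ : IsLinearIsometryOn (zspan X) σ)
    (hσα : ∀ θ ∈ zspanOn X {1}ᶜ, σ θ = α θ)
    {χ χ' : N → ℂ} (hχ : χ ∈ X) (hχ' : χ' ∈ X) (d d' : ℕ) (hd : χ 1 = (d : ℂ))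
    (hd' : χ' 1 = (d' : ℂ)) :
    (d' : ℂ) * classInner (α (χ₁ - ((a : ℕ) : ℤ) • ψ)) (σ χ) -
        (d : ℂ) * classInner (α (χ₁ - ((a : ℕ) : ℤ) • ψ)) (σ χ') =
      (d' : ℂ) * (if χ₁ = χ then 1 else 0) - (d : ℂ) * (if χ₁ = χ' then 1 else 0) := by
  classical
  have hβ := beta_mem hXS hYS hχ₁ hψ hχ₁deg hψdeg
  set γ : N → ℂ := ((d' : ℕ) : ℤ) • χ + (-((d : ℕ) : ℤ)) • χ' with hγ
  have hγX : γ ∈ zspanOn X {1}ᶜ := by
    refine ⟨zspan_add (zspan_zsmul (subset_zspan hχ) _) (zspan_zsmul (subset_zspan hχ') _), ?_⟩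
    intro x hx
    have hx1 : x = 1 := by simpa using hx
    rw [hx1, hγ]
    simp only [Pi.add_apply, Pi.smul_apply]
    simp only [zsmul_eq_mul]
    rw [hd, hd']
    push_cast
    ring
  have hγS : γ ∈ zspanOn S {1}ᶜ := zspanOn_mono hXS _ hγX
  have h1 := hα.2.2.1 _ hβ _ hγS
  rw [← hσα γ hγX, hγ, isometry_lin2 hσ (fun θ hθ n => zspan_zsmul hθ n) (subset_zspan hχ)
    (subset_zspan hχ'), Helper10.classInner_add_right, classInner_zsmul_right,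
    classInner_zsmul_right, beta_eq, classInner_lin2,
    CharLib.classInner_irr (hirr _ (hXS hχ₁)) (hirr _ (hXS hχ)),
    CharLib.classInner_irr (hirr _ (hXS hχ₁)) (hirr _ (hXS hχ')),
    CharLib.classInner_irr (hirr _ (hYS hψ)) (hirr _ (hXS hχ)),
    CharLib.classInner_irr (hirr _ (hYS hψ)) (hirr _ (hXS hχ')),
    if_neg (irr_ne_of_disjoint hXY hχ hψ).symm, if_neg (irr_ne_of_disjoint hXY hχ' hψ).symm] at h1
  rw [beta_eq]
  push_cast at h1 ⊢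
  linear_combination h1

include hirr hXS hYS hXY hα hχ₁ hψ hχ₁deg hψdeg in
/-- the relation along `Y` -/
theorem rel_Y {τ : (N → ℂ) → (G → ℂ)} (hτ : IsLinearIsometryOn (zspan Y) τ)
    (hτα : ∀ θ ∈ zspanOn Y {1}ᶜ, τ θ = α θ)
    {η η' : N → ℂ} (hη : η ∈ Y) (hη' : η' ∈ Y) (hd : η 1 = (e : ℂ)) (hd' : η' 1 = (e : ℂ)) :
    classInner (α (χ₁ - ((a : ℕ) : ℤ) • ψ)) (τ η) -
        classInner (α (χ₁ - ((a : ℕ) : ℤ) • ψ)) (τ η') =
      -(a : ℂ) * ((if ψ = η then 1 else 0) - (if ψ = η' then 1 else 0)) := by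
  classical
  have hβ := beta_mem hXS hYS hχ₁ hψ hχ₁deg hψdeg
  set γ : N → ℂ := (1 : ℤ) • η + (-1 : ℤ) • η' with hγ
  have hγY : γ ∈ zspanOn Y {1}ᶜ := by
    refine ⟨zspan_add (zspan_zsmul (subset_zspan hη) _) (zspan_zsmul (subset_zspan hη') _), ?_⟩
    intro x hx
    have hx1 : x = 1 := by simpa using hx
    rw [hx1, hγ]
    simp only [Pi.add_apply, Pi.smul_apply]
    simp only [zsmul_eq_mul]
    rw [hd, hd']
    push_cast
    ring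
  have hγS : γ ∈ zspanOn S {1}ᶜ := zspanOn_mono hYS _ hγY
  have h1 := hα.2.2.1 _ hβ _ hγS
  rw [← hτα γ hγY, hγ, isometry_lin2 hτ (fun θ hθ n => zspan_zsmul hθ n) (subset_zspan hη)
    (subset_zspan hη'), Helper10.classInner_add_right, classInner_zsmul_right,
    classInner_zsmul_right, beta_eq, classInner_lin2,
    CharLib.classInner_irr (hirr _ (hXS hχ₁)) (hirr _ (hYS hη)),
    CharLib.classInner_irr (hirr _ (hXS hχ₁)) (hirr _ (hYS hη')),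
    CharLib.classInner_irr (hirr _ (hYS hψ)) (hirr _ (hYS hη)),
    CharLib.classInner_irr (hirr _ (hYS hψ)) (hirr _ (hYS hη')),
    if_neg (irr_ne_of_disjoint hXY hχ₁ hη), if_neg (irr_ne_of_disjoint hXY hχ₁ hη')] at h1
  rw [beta_eq]
  push_cast at h1 ⊢
  linear_combination h1

end Cfsg.Agent.Lib.Lead.SibGlue
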