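import Mathlib
import Cfsg.Agent.Lib.Lead.SibGlue2
/-! Gluing two coherent sets (Sibley's argument), part 3: the norm argument along `X`. -/
set_option autoImplicit false
open Cfsg Cfsg.Agent.CharLib Cfsg.Agent.Lib.Helper10
open scoped ComplexConjugate

namespace Cfsg.Agent.Lib.Lead.SibGlue

theorem arith_core (x₁ x₂ r : ℤ) (a m : ℕ) (ha : 0 < a) (hm : 1 ≤ m) (hr : 0 ≤ r)
    (h2 : x₂ = x₁ - 1)
    (hsum : x₁ ^ 2 + x₂ ^ 2 + r + (a : ℤ) ^ 2 * (m : ℤ) = 1 + (a : ℤ) ^ 2) :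
    m = 1 ∧ r = 0 ∧ ((x₁ = 1 ∧ x₂ = 0) ∨ (x₁ = 0 ∧ x₂ = -1)) := by
  subst h2
  have hpair : 1 ≤ x₁ ^ 2 + (x₁ - 1) ^ 2 := by
    have : 0 ≤ x₁ * (x₁ - 1) := by
      rcases le_or_gt x₁ 0 with h | h
      · exact mul_nonneg_of_nonpos_of_nonpos h (by omega)
      · exact mul_nonneg (by omega) (by omega)
    nlinarith
  have ha2 : (0 : ℤ) < (a : ℤ) ^ 2 := by positivity
  have hm1 : (m : ℤ) ≤ 1 := by
    by_contra hcon
    push Not at hcon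
    have : (2 : ℤ) ≤ (m : ℤ) := by omega
    nlinarith
  have hm' : m = 1 := by omega
  subst hm'
  have h3 : x₁ ^ 2 + (x₁ - 1) ^ 2 + r = 1 := by
    push_cast at hsum
    linarith
  have hr0 : r = 0 := by linarith
  refine ⟨rfl, hr0, ?_⟩
  subst hr0
  have h4 : x₁ * (x₁ - 1) = 0 := by nlinarith
  rcases mul_eq_zero.mp h4 with h | h
  · right; constructor <;> omega
  · left; constructor <;> omega

variable {G : Type*} [Group G] [Fintype G] {N : Type*} [Group N] [Fintype N]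

variable {S X Y : Set (N → ℂ)} (hirr : ∀ ξ ∈ S, IsIrrCharacter N ξ) (hXS : X ⊆ S) (hYS : Y ⊆ S)
  (hXY : Disjoint X Y) {α : (N → ℂ) → (G → ℂ)}
  (hα : IsLinearIsometryOn (zspanOn S {1}ᶜ) α)
  {χ₁ ψ : N → ℂ} (hχ₁ : χ₁ ∈ X) (hψ : ψ ∈ Y) {a e : ℕ}
  (hχ₁deg : χ₁ 1 = ((a * e : ℕ) : ℂ)) (hψdeg : ψ 1 = (e : ℂ))

include hirr hXS in
theorem sigma_ortho {σ : (N → ℂ) → (G → ℂ)} (hσ : IsLinearIsometryOn (zspan X) σ)
    {χ χ' : N → ℂ} (hχ : χ ∈ X) (hχ' : χ' ∈ X) :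
    classInner (σ χ) (σ χ') = if χ = χ' then 1 else 0 := by
  classical
  rw [hσ.2.2.1 χ (subset_zspan hχ) χ' (subset_zspan hχ')]
  exact CharLib.classInner_irr (hirr _ (hXS hχ)) (hirr _ (hXS hχ'))

theorem conjFun_apply_one {χ : N → ℂ} (hχ : IsIrrCharacter N χ) : conjFun χ 1 = χ 1 := by
  obtain ⟨n, -, hn⟩ := IsIrrCharacter.apply_one_pos hχ
  simp only [conjFun, hn, Complex.conj_natCast]

include hirr hXS hYS hXY hα hχ₁ hψ hχ₁deg hψdeg in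
set_option maxHeartbeats 1600000 in
/-- the norm argument: after possibly swapping the extension on `X`, `α (χ₁ - a ψ)` is
`σ χ₁` plus `a` times a generalized character of norm one -/
theorem first_half (ha : 0 < a)
    (hXc : ∀ χ ∈ X, conjFun χ ∈ X) (hXr : ∀ χ ∈ X, conjFun χ ≠ χ)
    (hYc : ∀ η ∈ Y, conjFun η ∈ Y) (hYr : ∀ η ∈ Y, conjFun η ≠ η)
    (hYdeg : ∀ η ∈ Y, η 1 = (e : ℂ))
    {σ τ : (N → ℂ) → (G → ℂ)} (hσ : IsLinearIsometryOn (zspan X) σ)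
    (hσα : ∀ θ ∈ zspanOn X {1}ᶜ, σ θ = α θ)
    (hτ : IsLinearIsometryOn (zspan Y) τ) (hτα : ∀ θ ∈ zspanOn Y {1}ᶜ, τ θ = α θ)
    (horth : ∀ χ ∈ X, ∀ η ∈ Y, classInner (σ χ) (τ η) = 0)
    (hcong : ∀ φ : G → ℂ, IsIrrCharacter G φ → (∀ χ ∈ X, classInner φ (σ χ) = 0) →
      ∃ k : ℤ, classInner (α (χ₁ - ((a : ℕ) : ℤ) • ψ)) φ = (a : ℂ) * k) :
    ∃ (σ' : (N → ℂ) → (G → ℂ)) (Ξ : G → ℂ), IsLinearIsometryOn (zspan X) σ' ∧
      (∀ θ ∈ zspanOn X {1}ᶜ, σ' θ = α θ) ∧ IsGeneralizedCharacter G Ξ ∧ classInner Ξ Ξ = 1 ∧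
      α (χ₁ - ((a : ℕ) : ℤ) • ψ) = σ' χ₁ + (a : ℂ) • Ξ := by
  classical
  have hfin : X.Finite :=
    (finite_setOf_isIrrCharacter N).subset (fun ξ hξ => hirr ξ (hXS hξ))
  set Xf : Finset (N → ℂ) := hfin.toFinset with hXf
  have hmemX : ∀ ξ, ξ ∈ Xf ↔ ξ ∈ X := fun ξ => Set.Finite.mem_toFinset hfin
  have hσo : ∀ χ ∈ Xf, ∀ χ' ∈ Xf, classInner (σ χ) (σ χ') = if χ = χ' then 1 else 0 :=
    fun χ hχ χ' hχ' => sigma_ortho hirr hXS hσ ((hmemX χ).mp hχ) ((hmemX χ').mp hχ')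
  have hβ := beta_mem hXS hYS hχ₁ hψ hχ₁deg hψdeg
  set Θ : G → ℂ := α (χ₁ - ((a : ℕ) : ℤ) • ψ) with hΘ
  have hΘg : IsGeneralizedCharacter G Θ := hα.2.2.2 _ hβ
  have hσg : ∀ χ ∈ X, IsGeneralizedCharacter G (σ χ) := fun χ hχ => hσ.2.2.2 _ (subset_zspan hχ)
  -- integer coordinates
  have hxi : ∀ χ : N → ℂ, ∃ n : ℤ, χ ∈ X → classInner Θ (σ χ) = (n : ℂ) := by
    intro χ
    by_cases h : χ ∈ X
    · obtain ⟨n, hn⟩ := genChar_inner_int hΘg (hσg χ h)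
      exact ⟨n, fun _ => hn⟩
    · exact ⟨0, fun h' => absurd h' h⟩
  choose x hx using hxi
  -- the conjugate of χ₁
  set χc : N → ℂ := conjFun χ₁ with hχc
  have hχcX : χc ∈ X := hXc χ₁ hχ₁
  have hχcne : χc ≠ χ₁ := hXr χ₁ hχ₁
  have hχ₁f : χ₁ ∈ Xf := (hmemX _).mpr hχ₁
  have hχcf : χc ∈ Xf := (hmemX _).mpr hχcX
  have hχcdeg : χc 1 = ((a * e : ℕ) : ℂ) := by
    rw [hχc, conjFun_apply_one (hirr _ (hXS hχ₁)), hχ₁deg]
  have hae : 0 < a * e := by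
    obtain ⟨n, hn, hn1⟩ := IsIrrCharacter.apply_one_pos (hirr _ (hXS hχ₁))
    rw [hχ₁deg] at hn1
    have : a * e = n := by exact_mod_cast hn1
    omega
  -- x at the conjugate
  have hxc : x χc = x χ₁ - 1 := by
    have h := rel_X hirr hXS hYS hXY hα hχ₁ hψ hχ₁deg hψdeg hσ hσα hχcX hχ₁ (a * e) (a * e)
      hχcdeg hχ₁deg
    rw [← hΘ, hx χc hχcX, hx χ₁ hχ₁, if_neg (Ne.symm hχcne), if_pos rfl] at h
    have hne : ((a * e : ℕ) : ℂ) ≠ 0 := by exact_mod_cast hae.ne'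
    have h2 : ((a * e : ℕ) : ℂ) * ((x χc : ℂ) - (x χ₁ : ℂ) + 1) = 0 := by linear_combination h
    have h3 := (mul_eq_zero.mp h2).resolve_left hne
    have h4 : ((x χc - x χ₁ + 1 : ℤ) : ℂ) = 0 := by push_cast; exact h3
    have h5 : x χc - x χ₁ + 1 = 0 := by exact_mod_cast h4
    omega
  -- Pythagoras
  set Δ : G → ℂ := Θ - ∑ χ ∈ Xf, classInner Θ (σ χ) • σ χ with hΔ
  have hpyth := classInner_self_eq_sum_add Xf σ hσo Θ
  rw [← hΔ] at hpyth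
  have hΘΘ : classInner Θ Θ = 1 + (a : ℂ) ^ 2 := by
    rw [hΘ, hα.2.2.1 _ hβ _ hβ]
    exact beta_norm hirr hXS hYS hXY hχ₁ hψ
  have hPeq : ∑ χ ∈ Xf, classInner Θ (σ χ) • σ χ = ∑ χ ∈ Xf, (x χ) • σ χ := by
    apply Finset.sum_congr rfl
    intro χ hχ
    rw [hx χ ((hmemX χ).mp hχ), Int.cast_smul_eq_zsmul]
  have hΔg : IsGeneralizedCharacter G Δ := by
    rw [hΔ, hPeq]
    exact genChar_sub hΘg (genChar_sum _ (fun χ hχ => genChar_zsmul (hσg χ ((hmemX χ).mp hχ)) _))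
  have hΔσ : ∀ χ ∈ X, classInner Δ (σ χ) = 0 := by
    intro χ hχ
    rw [hΔ, Helper10.classInner_sub_left,
      classInner_sum_smul_left Xf σ hσo _ ((hmemX χ).mpr hχ), sub_self]
  have hΔτ : ∀ η ∈ Y, classInner Δ (τ η) = classInner Θ (τ η) := by
    intro η hη
    rw [hΔ, Helper10.classInner_sub_left, Helper10.classInner_sum_left, Finset.sum_eq_zero, sub_zero]
    intro χ hχ
    rw [Helper10.classInner_smul_left, horth χ ((hmemX χ).mp hχ) η hη, mul_zero]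
  -- divisibility
  have hdiv : ∀ φ : G → ℂ, IsIrrCharacter G φ → ∃ k : ℤ, classInner Δ φ = (a : ℂ) * k := by
    intro φ hφ
    by_cases h : ∀ χ ∈ X, classInner φ (σ χ) = 0
    · obtain ⟨k, hk⟩ := hcong φ hφ h
      refine ⟨k, ?_⟩
      rw [hΔ, Helper10.classInner_sub_left, Helper10.classInner_sum_left, Finset.sum_eq_zero,
        sub_zero, hk]
      intro χ hχ
      rw [Helper10.classInner_smul_left, Helper10.classInner_conj_symm (σ χ) φ,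
        h χ ((hmemX χ).mp hχ), map_zero, mul_zero]
    · push Not at h
      obtain ⟨χ₀, hχ₀, hne⟩ := h
      have hφg : IsGeneralizedCharacter G φ :=
        isGeneralizedCharacter_of_isCharacter (IsIrrCharacter.isCharacter hφ)
      have hφφ : classInner φ φ = 1 := by rw [CharLib.classInner_irr hφ hφ, if_pos rfl]
      have hss : classInner (σ χ₀) (σ χ₀) = 1 := by
        rw [sigma_ortho hirr hXS hσ hχ₀ hχ₀, if_pos rfl]
      obtain ⟨ε, hε, hεeq, -⟩ := eq_sign_smul_of_inner_ne_zero hφg (hσg χ₀ hχ₀) hφφ hss hne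
      refine ⟨0, ?_⟩
      have h0 := hΔσ χ₀ hχ₀
      rw [hεeq, Helper10.classInner_smul_right] at h0
      have hε0 : conj ε ≠ 0 := by rcases hε with rfl | rfl <;> simp
      rw [(mul_eq_zero.mp h0).resolve_left hε0]
      simp
  obtain ⟨Ξ, hΞg, hΞ⟩ := exists_smul_of_dvd hΔg a hdiv
  -- Δ ≠ 0
  have hψc : conjFun ψ ∈ Y := hYc ψ hψ
  have hψcne : conjFun ψ ≠ ψ := hYr ψ hψ
  have hrelY := rel_Y hirr hXS hYS hXY hα hχ₁ hψ hχ₁deg hψdeg hτ hτα hψ hψc hψdeg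
    (hYdeg _ hψc)
  rw [← hΘ, if_pos rfl, if_neg (Ne.symm hψcne), ← hΔτ ψ hψ, ← hΔτ _ hψc] at hrelY
  have ha0 : (a : ℂ) ≠ 0 := by exact_mod_cast ha.ne'
  have hΔ0 : Δ ≠ 0 := by
    intro h0
    rw [h0, Helper10.classInner_zero_left, Helper10.classInner_zero_left] at hrelY
    apply ha0
    linear_combination hrelY
  have hΞ0 : Ξ ≠ 0 := by
    intro h0
    apply hΔ0
    rw [hΞ, h0, smul_zero]
  obtain ⟨m, hm, hΞΞ⟩ := genChar_norm_pos hΞg hΞ0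
  have hΔΔ : classInner Δ Δ = (a : ℂ) ^ 2 * (m : ℂ) := by
    rw [hΞ, Helper10.classInner_smul_left, Helper10.classInner_smul_right, hΞΞ,
      Complex.conj_natCast]
    ring
  -- the integer identity
  have hsumC : ∑ χ ∈ Xf, classInner Θ (σ χ) * conj (classInner Θ (σ χ)) =
      ((∑ χ ∈ Xf, (x χ) ^ 2 : ℤ) : ℂ) := by
    rw [Int.cast_sum]
    apply Finset.sum_congr rfl
    intro χ hχ
    rw [hx χ ((hmemX χ).mp hχ), map_intCast]
    push_cast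
    ring
  rw [hΘΘ, hsumC, hΔΔ] at hpyth
  have hint : (∑ χ ∈ Xf, (x χ) ^ 2 : ℤ) + (a : ℤ) ^ 2 * (m : ℤ) = 1 + (a : ℤ) ^ 2 := by
    have : ((((∑ χ ∈ Xf, (x χ) ^ 2 : ℤ)) + (a : ℤ) ^ 2 * (m : ℤ) : ℤ) : ℂ) =
        ((1 + (a : ℤ) ^ 2 : ℤ) : ℂ) := by
      push_cast
      push_cast at hpyth
      linear_combination -hpyth
    exact_mod_cast this
  -- split off χ₁ and its conjugate
  have hχcf' : χc ∈ Xf.erase χ₁ := Finset.mem_erase.mpr ⟨hχcne, hχcf⟩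
  have hsplit : (∑ χ ∈ Xf, (x χ) ^ 2 : ℤ) =
      (x χ₁) ^ 2 + (x χc) ^ 2 + ∑ χ ∈ (Xf.erase χ₁).erase χc, (x χ) ^ 2 := by
    rw [← Finset.add_sum_erase Xf (fun χ => (x χ) ^ 2) hχ₁f,
      ← Finset.add_sum_erase (Xf.erase χ₁) (fun χ => (x χ) ^ 2) hχcf']
    ring
  have hr0 : (0 : ℤ) ≤ ∑ χ ∈ (Xf.erase χ₁).erase χc, (x χ) ^ 2 :=
    Finset.sum_nonneg (fun χ _ => sq_nonneg _)
  rw [hsplit] at hint
  obtain ⟨hm1, hrest, hcase⟩ := arith_core (x χ₁) (x χc)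
    (∑ χ ∈ (Xf.erase χ₁).erase χc, (x χ) ^ 2) a m ha hm hr0 hxc hint
  have hothers : ∀ χ ∈ Xf, χ ≠ χ₁ → χ ≠ χc → x χ = 0 := by
    intro χ hχ h1 h2
    have h3 : χ ∈ (Xf.erase χ₁).erase χc :=
      Finset.mem_erase.mpr ⟨h2, Finset.mem_erase.mpr ⟨h1, hχ⟩⟩
    have h4 := (Finset.sum_eq_zero_iff_of_nonneg (fun χ _ => sq_nonneg (x χ))).mp hrest χ h3
    exact pow_eq_zero_iff (two_ne_zero) |>.mp h4
  have hΞ1 : classInner Ξ Ξ = 1 := by rw [hΞΞ, hm1]; norm_num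
  -- the X-part
  have hpart : ∑ χ ∈ Xf, (x χ) • σ χ = (x χ₁) • σ χ₁ + (x χc) • σ χc := by
    rw [← Finset.add_sum_erase Xf (fun χ => (x χ) • σ χ) hχ₁f,
      ← Finset.add_sum_erase (Xf.erase χ₁) (fun χ => (x χ) • σ χ) hχcf']
    rw [Finset.sum_eq_zero, add_zero]
    intro χ hχ
    have h1 := Finset.mem_erase.mp hχ
    have h2 := Finset.mem_erase.mp h1.2
    rw [hothers χ h2.2 h2.1 h1.1, zero_smul]
  have hΘeq : Θ = (x χ₁) • σ χ₁ + (x χc) • σ χc + (a : ℂ) • Ξ := by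
    rw [← hΞ, ← hpart, ← hPeq, hΔ]
    abel
  rcases hcase with ⟨h1, h2⟩ | ⟨h1, h2⟩
  · refine ⟨σ, Ξ, hσ, hσα, hΞg, hΞ1, ?_⟩
    rw [hΘeq, h1, h2, one_smul, zero_smul, add_zero]
  · -- no other members
    have hXeq : ∀ χ ∈ X, χ = χ₁ ∨ χ = χc := by
      intro χ hχ
      by_contra hcon
      push Not at hcon
      have hx0 := hothers χ ((hmemX χ).mpr hχ) hcon.1 hcon.2
      obtain ⟨d, hd, hd1⟩ := IsIrrCharacter.apply_one_pos (hirr _ (hXS hχ))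
      have h := rel_X hirr hXS hYS hXY hα hχ₁ hψ hχ₁deg hψdeg hσ hσα hχ hχ₁ d (a * e) hd1 hχ₁deg
      rw [← hΘ, hx χ hχ, hx χ₁ hχ₁, hx0, h1, if_neg (Ne.symm hcon.1), if_pos rfl] at h
      have h3 : (d : ℂ) = 0 := by
        push_cast at h
        linear_combination h
      have : d = 0 := by exact_mod_cast h3
      omega
    have hXset : X = (↑({χ₁, χc} : Finset (N → ℂ)) : Set (N → ℂ)) := by
      ext χ
      rw [Finset.coe_insert, Finset.coe_singleton]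
      constructor
      · intro hχ
        rcases hXeq χ hχ with h | h
        · left; exact h
        · right; exact h
      · rintro (h | h)
        · rw [h]; exact hχ₁
        · rw [Set.mem_singleton_iff.mp h]; exact hχcX
    have hdeg : χ₁ 1 = χc 1 := by rw [hχ₁deg, hχcdeg]
    have hσ' : IsLinearIsometryOn
        (zspan (↑({χ₁, χc} : Finset (N → ℂ)) : Set (N → ℂ))) σ := by rw [← hXset]; exact hσ
    have hσα' : ∀ θ ∈ zspanOn (↑({χ₁, χc} : Finset (N → ℂ)) : Set (N → ℂ)) {1}ᶜ,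
        σ θ = α θ := by rw [← hXset]; exact hσα
    obtain ⟨hs1, hs2, hs3, -⟩ := swapMap_spec (hirr _ (hXS hχ₁)) (hirr _ (hXS hχcX))
      (Ne.symm hχcne) hdeg σ α hσ' hσα'
    rw [← hXset] at hs1 hs2
    refine ⟨swapMap χ₁ χc σ, Ξ, hs1, hs2, hΞg, hΞ1, ?_⟩
    rw [hΘeq, h1, h2, hs3, zero_smul, zero_add, neg_smul, one_smul]

end Cfsg.Agent.Lib.Lead.SibGlue
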