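import Mathlib
import Cfsg.Agent.Lib.Lead.SibGlue3
/-! Gluing two coherent sets (Sibley's argument), part 4: identifying the remaining
constituent along `Y`. -/
set_option autoImplicit false
open Cfsg Cfsg.Agent.CharLib Cfsg.Agent.Lib.Helper10
open scoped ComplexConjugate

namespace Cfsg.Agent.Lib.Lead.SibGlue

variable {G : Type*} [Group G] [Fintype G] {N : Type*} [Group N] [Fintype N]

variable {S X Y : Set (N → ℂ)} (hirr : ∀ ξ ∈ S, IsIrrCharacter N ξ) (hXS : X ⊆ S) (hYS : Y ⊆ S)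
  (hXY : Disjoint X Y) {α : (N → ℂ) → (G → ℂ)}
  (hα : IsLinearIsometryOn (zspanOn S {1}ᶜ) α)
  {χ₁ ψ : N → ℂ} (hχ₁ : χ₁ ∈ X) (hψ : ψ ∈ Y) {a e : ℕ}
  (hχ₁deg : χ₁ 1 = ((a * e : ℕ) : ℂ)) (hψdeg : ψ 1 = (e : ℂ))

include hirr hXS hYS hXY hα hχ₁ hψ hχ₁deg hψdeg in
set_option maxHeartbeats 1600000 in
theorem second_half (ha : 0 < a)
    (hYc : ∀ η ∈ Y, conjFun η ∈ Y) (hYr : ∀ η ∈ Y, conjFun η ≠ η)
    (hYdeg : ∀ η ∈ Y, η 1 = (e : ℂ))
    {τ : (N → ℂ) → (G → ℂ)}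
    (hτ : IsLinearIsometryOn (zspan Y) τ) (hτα : ∀ θ ∈ zspanOn Y {1}ᶜ, τ θ = α θ)
    (P Ξ : G → ℂ) (hP : ∀ η ∈ Y, classInner P (τ η) = 0)
    (hΞg : IsGeneralizedCharacter G Ξ) (hΞ1 : classInner Ξ Ξ = 1)
    (hΘ : α (χ₁ - ((a : ℕ) : ℤ) • ψ) = P + (a : ℂ) • Ξ) :
    ∃ τ' : (N → ℂ) → (G → ℂ), IsLinearIsometryOn (zspan Y) τ' ∧
      (∀ θ ∈ zspanOn Y {1}ᶜ, τ' θ = α θ) ∧ Ξ = -τ' ψ := by
  classical
  have ha0 : (a : ℂ) ≠ 0 := by exact_mod_cast ha.ne'
  have hτo : ∀ η ∈ Y, ∀ η' ∈ Y, classInner (τ η) (τ η') = if η = η' then 1 else 0 := by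
    intro η hη η' hη'
    rw [hτ.2.2.1 η (subset_zspan hη) η' (subset_zspan hη')]
    exact CharLib.classInner_irr (hirr _ (hYS hη)) (hirr _ (hYS hη'))
  have hτg : ∀ η ∈ Y, IsGeneralizedCharacter G (τ η) := fun η hη => hτ.2.2.2 _ (subset_zspan hη)
  -- the relation for z η = ⟨Ξ, τ η⟩
  have hR : ∀ η ∈ Y, ∀ η' ∈ Y, classInner Ξ (τ η) - classInner Ξ (τ η') =
      -((if ψ = η then (1 : ℂ) else 0) - (if ψ = η' then 1 else 0)) := by
    intro η hη η' hη'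
    have h := rel_Y hirr hXS hYS hXY hα hχ₁ hψ hχ₁deg hψdeg hτ hτα hη hη' (hYdeg η hη)
      (hYdeg η' hη')
    rw [hΘ, Helper10.classInner_add_left, Helper10.classInner_add_left,
      Helper10.classInner_smul_left, Helper10.classInner_smul_left, hP η hη, hP η' hη'] at h
    have h2 : (a : ℂ) * (classInner Ξ (τ η) - classInner Ξ (τ η') +
        ((if ψ = η then (1 : ℂ) else 0) - (if ψ = η' then 1 else 0))) = 0 := by
      linear_combination h
    have h3 := (mul_eq_zero.mp h2).resolve_left ha0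
    linear_combination h3
  -- at most one nonzero
  have huniq : ∀ η ∈ Y, ∀ η' ∈ Y, classInner Ξ (τ η) ≠ 0 → classInner Ξ (τ η') ≠ 0 → η = η' := by
    intro η hη η' hη' h1 h2
    obtain ⟨ε, hε, hεeq, -⟩ := eq_sign_smul_of_inner_ne_zero hΞg (hτg η hη) hΞ1
      (by rw [hτo η hη η hη, if_pos rfl]) h1
    obtain ⟨ε', hε', hεeq', -⟩ := eq_sign_smul_of_inner_ne_zero hΞg (hτg η' hη') hΞ1
      (by rw [hτo η' hη' η' hη', if_pos rfl]) h2
    by_contra hne
    have h3 := hτo η hη η' hη'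
    rw [if_neg hne, hεeq, hεeq', Helper10.classInner_smul_left, Helper10.classInner_smul_right,
      hΞ1] at h3
    rcases hε with rfl | rfl <;> rcases hε' with rfl | rfl <;> simp at h3
  have hψc : conjFun ψ ∈ Y := hYc ψ hψ
  have hψcne : conjFun ψ ≠ ψ := hYr ψ hψ
  have hR1 := hR ψ hψ _ hψc
  rw [if_pos rfl, if_neg (Ne.symm hψcne)] at hR1
  by_cases hz : classInner Ξ (τ ψ) = 0
  · -- case B
    have hzc : classInner Ξ (τ (conjFun ψ)) = 1 := by
      rw [hz] at hR1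
      linear_combination -hR1
    have hzc0 : classInner Ξ (τ (conjFun ψ)) ≠ 0 := by rw [hzc]; exact one_ne_zero
    obtain ⟨ε, hε, hεeq, hεv⟩ := eq_sign_smul_of_inner_ne_zero hΞg (hτg _ hψc) hΞ1
      (by rw [hτo _ hψc _ hψc, if_pos rfl]) hzc0
    have hε1 : ε = 1 := by rw [← hεv, hzc]
    rw [hε1, one_smul] at hεeq
    have hYeq : ∀ η ∈ Y, η = ψ ∨ η = conjFun ψ := by
      intro η hη
      by_contra hcon
      push Not at hcon
      have h := hR ψ hψ η hη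
      rw [if_pos rfl, if_neg (Ne.symm hcon.1), hz] at h
      have hzη : classInner Ξ (τ η) ≠ 0 := by
        have : classInner Ξ (τ η) = 1 := by linear_combination -h
        rw [this]; exact one_ne_zero
      exact hcon.2 (huniq η hη _ hψc hzη hzc0)
    have hYset : Y = (↑({ψ, conjFun ψ} : Finset (N → ℂ)) : Set (N → ℂ)) := by
      ext η
      rw [Finset.coe_insert, Finset.coe_singleton]
      constructor
      · intro hη
        rcases hYeq η hη with h | h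
        · left; exact h
        · right; exact h
      · rintro (h | h)
        · rw [h]; exact hψ
        · rw [Set.mem_singleton_iff.mp h]; exact hψc
    have hdeg : ψ 1 = conjFun ψ 1 := by rw [hψdeg, hYdeg _ hψc]
    have hτ' : IsLinearIsometryOn
        (zspan (↑({ψ, conjFun ψ} : Finset (N → ℂ)) : Set (N → ℂ))) τ := by rw [← hYset]; exact hτ
    have hτα' : ∀ θ ∈ zspanOn (↑({ψ, conjFun ψ} : Finset (N → ℂ)) : Set (N → ℂ)) {1}ᶜ,
        τ θ = α θ := by rw [← hYset]; exact hτα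
    obtain ⟨hs1, hs2, hs3, -⟩ := swapMap_spec (hirr _ (hYS hψ)) (hirr _ (hYS hψc))
      (Ne.symm hψcne) hdeg τ α hτ' hτα'
    rw [← hYset] at hs1 hs2
    refine ⟨swapMap ψ (conjFun ψ) τ, hs1, hs2, ?_⟩
    rw [hs3, neg_neg, hεeq]
  · -- case A
    have hzc : classInner Ξ (τ (conjFun ψ)) = 0 := by
      by_contra h
      exact hψcne (huniq _ hψc ψ hψ h hz)
    have hzv : classInner Ξ (τ ψ) = -1 := by
      rw [hzc] at hR1
      linear_combination hR1
    obtain ⟨ε, hε, hεeq, hεv⟩ := eq_sign_smul_of_inner_ne_zero hΞg (hτg _ hψ) hΞ1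
      (by rw [hτo _ hψ _ hψ, if_pos rfl]) hz
    have hε1 : ε = -1 := by rw [← hεv, hzv]
    refine ⟨τ, hτ, hτα, ?_⟩
    rw [hεeq, hε1, neg_smul, one_smul, neg_neg]

end Cfsg.Agent.Lib.Lead.SibGlue
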