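import Mathlib
import Cfsg.Agent.Lib.Lead.SibGlue4
import Cfsg.Agent.S1531
/-! Gluing two coherent sets (Sibley's argument), part 5: the gluing theorem. -/
set_option autoImplicit false
open Cfsg Cfsg.Agent.CharLib Cfsg.Agent.Lib.Helper10
open scoped ComplexConjugate

namespace Cfsg.Agent.Lib.Lead.SibGlue

variable {G : Type*} [Group G] [Fintype G] (N : Subgroup G) [Fintype N]

set_option maxHeartbeats 1600000 in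
/-- **Sibley's gluing argument.**  `X`, `Y` disjoint coherent sets of irreducible characters of
`N`, closed under complex conjugation, without real members, all members of `Y` of degree `e`,
`χ₁ ∈ X` of degree `a e`, and every irreducible character of `G` orthogonal to the image of `X`
(under any coherent extension) has multiplicity divisible by `a` in `α (χ₁ - a ψ)`.  Then
`X ∪ Y` is coherent. -/
theorem sibley_glue (S X Y : Set (N → ℂ)) (hirr : ∀ ξ ∈ S, IsIrrCharacter N ξ) (hXS : X ⊆ S)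
    (hYS : Y ⊆ S) (hXY : Disjoint X Y)
    (hXc : ∀ χ ∈ X, conjFun χ ∈ X) (hXr : ∀ χ ∈ X, conjFun χ ≠ χ)
    (hYc : ∀ η ∈ Y, conjFun η ∈ Y) (hYr : ∀ η ∈ Y, conjFun η ≠ η)
    (α : (N → ℂ) → (G → ℂ)) (hα : IsLinearIsometryOn (zspanOn S {1}ᶜ) α)
    (hα1 : ∀ θ ∈ zspanOn S {1}ᶜ, α θ 1 = 0)
    (hcohX : IsCoherent X {1}ᶜ α) (hcohY : IsCoherent Y {1}ᶜ α)
    (e a : ℕ) (ha : 0 < a) (hYdeg : ∀ η ∈ Y, η 1 = (e : ℂ))
    (χ₁ : N → ℂ) (hχ₁ : χ₁ ∈ X) (hχ₁deg : χ₁ 1 = ((a * e : ℕ) : ℂ))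
    (ψ : N → ℂ) (hψ : ψ ∈ Y)
    (hcong : ∀ σ : (N → ℂ) → (G → ℂ), IsLinearIsometryOn (zspan X) σ →
      (∀ θ ∈ zspanOn X {1}ᶜ, σ θ = α θ) → ∀ φ : G → ℂ, IsIrrCharacter G φ →
      (∀ χ ∈ X, classInner φ (σ χ) = 0) →
      ∃ k : ℤ, classInner (α (χ₁ - ((a : ℕ) : ℤ) • ψ)) φ = (a : ℂ) * k) :
    IsCoherent (X ∪ Y) {1}ᶜ α := by
  classical
  obtain ⟨-, σ, hσ, hσα⟩ := hcohX
  obtain ⟨-, τ, hτ, hτα⟩ := hcohY
  have hψdeg := hYdeg ψ hψ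
  have hX2 : ∃ a ∈ X, ∃ b ∈ X, a ≠ b := ⟨χ₁, hχ₁, conjFun χ₁, hXc _ hχ₁, (hXr _ hχ₁).symm⟩
  have hY2 : ∃ a ∈ Y, ∃ b ∈ Y, a ≠ b := ⟨ψ, hψ, conjFun ψ, hYc _ hψ, (hYr _ hψ).symm⟩
  have horth := (Cfsg.Agent.S1531.result N S X Y hirr hXS hYS hXY hX2 hY2 α hα hα1 σ τ hσ hσα
    hτ hτα).1
  obtain ⟨σ', Ξ, hσ', hσα', hΞg, hΞ1, hΘ⟩ := first_half hirr hXS hYS hXY hα hχ₁ hψ hχ₁deg hψdeg ha
    hXc hXr hYc hYr hYdeg hσ hσα hτ hτα horth (hcong σ hσ hσα)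
  have horth' := (Cfsg.Agent.S1531.result N S X Y hirr hXS hYS hXY hX2 hY2 α hα hα1 σ' τ hσ'
    hσα' hτ hτα).1
  obtain ⟨τ', hτ', hτα', hΞeq⟩ := second_half hirr hXS hYS hXY hα hχ₁ hψ hχ₁deg hψdeg ha
    hYc hYr hYdeg hτ hτα (σ' χ₁) Ξ (fun η hη => horth' χ₁ hχ₁ η hη) hΞg hΞ1 hΘ
  refine (Cfsg.Agent.S1531.result N S X Y hirr hXS hYS hXY hX2 hY2 α hα hα1 σ' τ' hσ' hσα' hτ'
    hτα').2 ⟨χ₁, hχ₁, ψ, hψ, ?_⟩
  have hβ := beta_mem hXS hYS hχ₁ hψ hχ₁deg hψdeg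
  have h1 : χ₁ 1 • ψ - ψ 1 • χ₁ = (-(e : ℤ)) • (χ₁ - ((a : ℕ) : ℤ) • ψ) := by
    rw [hχ₁deg, hψdeg]
    funext g
    simp only [Pi.sub_apply, Pi.smul_apply]
    simp only [smul_eq_mul, zsmul_eq_mul]
    push_cast
    ring
  rw [h1, hα.2.1 _ hβ, hΘ, hΞeq, hχ₁deg, hψdeg]
  funext g
  simp only [Pi.sub_apply, Pi.add_apply, Pi.smul_apply, Pi.neg_apply]
  simp only [smul_eq_mul, zsmul_eq_mul]
  push_cast
  ring

end Cfsg.Agent.Lib.Lead.SibGlue
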