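import Mathlib

set_option autoImplicit false
set_option linter.unusedVariables false
set_option maxHeartbeats 1000000

/-!
# Graph automorphism of `Sp₄` in characteristic 2, part A: polynomial identities

`r/c ij` are the entries of `A J Aᵀ - J` and `Aᵀ J A - J`.  The three families of identities say that the matrix of
`2 × 2` minors (rows/columns `e₁e₂, e₁f₂, f₁f₂, e₂f₁`) of a symplectic matrix is symplectic (`I1`), multiplicative (`I2`)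
and squares to the entrywise Frobenius (`I3`), all in characteristic 2.  Certificates were found by linear algebra over `𝔽₂`.
-/

namespace Cfsg.Agent.Lib.Lead.Sp4Graph

section core

variable {R : Type*} [CommRing R]

theorem core_I3_00 (a00 a01 a02 a03 a10 a11 a12 a13 a20 a21 a22 a23 a30 a31 a32 a33 : R) (h2 : (2 : R) = 0) (r01 : (-a00*a12) + (-a01*a13) + a02*a10 + a03*a11 = 0) (r02 : 1 + (-a00*a22) + (-a01*a23) + a02*a20 + a03*a21 = 0) (r03 : (-a00*a32) + (-a01*a33) + a02*a30 + a03*a31 = 0) (r12 : (-a10*a22) + (-a11*a23) + a12*a20 + a13*a21 = 0) (r13 : 1 + (-a10*a32) + (-a11*a33) + a12*a30 + a13*a31 = 0) (r23 : (-a20*a32) + (-a21*a33) + a22*a30 + a23*a31 = 0) (c01 : (-a00*a21) + a01*a20 + (-a10*a31) + a11*a30 = 0) (c02 : 1 + (-a00*a22) + a02*a20 + (-a10*a32) + a12*a30 = 0) (c03 : (-a00*a23) + a03*a20 + (-a10*a33) + a13*a30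 = 0) (c12 : (-a01*a22) + a02*a21 + (-a11*a32) + a12*a31 = 0) (c13 : 1 + (-a01*a23) + a03*a21 + (-a11*a33) + a13*a31 = 0) (c23 : (-a02*a23) + a03*a22 + (-a12*a33) + a13*a32 = 0) :
    (-a00*a01*a10*a33) + a00*a01*a13*a30 + a00*a03*a10*a31 + (-a00*a03*a11*a30) + a00^2*a11*a33 + (-a00^2*a13*a31) = a00^2 := by
  linear_combination (a00*a30) * r01 + (a00*a10) * r03 + (a00^2) * r13 + (a00*a01*a13*a30 + (-a00*a02*a10*a30) + (-a00*a03*a11*a30) + (-a00^2) + a00^2*a10*a32 + a00^2*a11*a33 + (-a00^2*a13*a31)) * h2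

theorem core_I3_01 (a00 a01 a02 a03 a10 a11 a12 a13 a20 a21 a22 a23 a30 a31 a32 a33 : R) (h2 : (2 : R) = 0) (r01 : (-a00*a12) + (-a01*a13) + a02*a10 + a03*a11 = 0) (r02 : 1 + (-a00*a22) + (-a01*a23) + a02*a20 + a03*a21 = 0) (r03 : (-a00*a32) + (-a01*a33) + a02*a30 + a03*a31 = 0) (r12 : (-a10*a22) + (-a11*a23) + a12*a20 + a13*a21 = 0) (r13 : 1 + (-a10*a32) + (-a11*a33) + a12*a30 + a13*a31 = 0) (r23 : (-a20*a32) + (-a21*a33) + a22*a30 + a23*a31 = 0) (c01 : (-a00*a21) + a01*a20 + (-a10*a31) + a11*a30 = 0) (c02 : 1 + (-a00*a22) + a02*a20 + (-a10*a32) + a12*a30 = 0) (c03 : (-a00*a23) + a03*a20 + (-a10*a33) + a13*a30 = 0) (c12 : (-a01*a22) + a02*a21 + (-a11*a32) + a12*a31 = 0) (c13 : 1 + (-a01*a23) + a03*a21 + (-a11*a33) + a13*a31 = 0) (c23 : (-a02*a23) + a03*a22 + (-a12*a33) + a13*a32 = 0) :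
    a00*a01*a11*a32 + (-a00*a01*a12*a31) + a01*a02*a10*a31 + (-a01*a02*a11*a30) + (-a01^2*a10*a32) + a01^2*a12*a30 = a01^2 := by
  linear_combination (a01*a31) * r01 + (a01*a11) * r03 + (a01^2) * r13 + (a00*a01*a11*a32 + (-a01*a02*a11*a30) + (-a01*a03*a11*a31) + (-a01^2) + a01^2*a11*a33) * h2

theorem core_I3_02 (a00 a01 a02 a03 a10 a11 a12 a13 a20 a21 a22 a23 a30 a31 a32 a33 : R) (h2 : (2 : R) = 0) (r01 : (-a00*a12) + (-a01*a13) + a02*a10 + a03*a11 = 0) (r02 : 1 + (-a00*a22) + (-a01*a23) + a02*a20 + a03*a21 = 0) (r03 : (-a00*a32) + (-a01*a33) + a02*a30 + a03*a31 = 0) (r12 : (-a10*a22) + (-a11*a23) + a12*a20 + a13*a21 = 0) (r13 : 1 + (-a10*a32) + (-a11*a33) + a12*a30 + a13*a31 = 0) (r23 : (-a20*a32) + (-a21*a33) + a22*a30 + a23*a31 = 0) (c01 : (-a00*a21) + a01*a20 + (-a10*a31) + a11*a30 = 0) (c02 : 1 + (-a00*a22) + a02*a20 + (-a10*a32)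 + a12*a30 = 0) (c03 : (-a00*a23) + a03*a20 + (-a10*a33) + a13*a30 = 0) (c12 : (-a01*a22) + a02*a21 + (-a11*a32) + a12*a31 = 0) (c13 : 1 + (-a01*a23) + a03*a21 + (-a11*a33) + a13*a31 = 0) (c23 : (-a02*a23) + a03*a22 + (-a12*a33) + a13*a32 = 0) :
    (-a01*a02*a12*a33) + a01*a02*a13*a32 + (-a02*a03*a11*a32) + a02*a03*a12*a31 + a02^2*a11*a33 + (-a02^2*a13*a31) = a02^2 := by
  linear_combination (a02*a32) * r01 + (a02*a12) * r03 + (a02^2) * r13 + (a00*a02*a12*a32 + a01*a02*a13*a32 + (-a02*a03*a11*a32) + (-a02^2) + a02^2*a11*a33 + (-a02^2*a12*a30) + (-a02^2*a13*a31)) * h2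

theorem core_I3_03 (a00 a01 a02 a03 a10 a11 a12 a13 a20 a21 a22 a23 a30 a31 a32 a33 : R) (h2 : (2 : R) = 0) (r01 : (-a00*a12) + (-a01*a13) + a02*a10 + a03*a11 = 0) (r02 : 1 + (-a00*a22) + (-a01*a23) + a02*a20 + a03*a21 = 0) (r03 : (-a00*a32) + (-a01*a33) + a02*a30 + a03*a31 = 0) (r12 : (-a10*a22) + (-a11*a23) + a12*a20 + a13*a21 = 0) (r13 : 1 + (-a10*a32) + (-a11*a33) + a12*a30 + a13*a31 = 0) (r23 : (-a20*a32) + (-a21*a33) + a22*a30 + a23*a31 = 0) (c01 : (-a00*a21) + a01*a20 + (-a10*a31) + a11*a30 = 0) (c02 : 1 + (-a00*a22) + a02*a20 + (-a10*a32) + a12*a30 = 0) (c03 : (-a00*a23) + a03*a20 + (-a10*a33) + a13*a30 = 0) (c12 : (-a01*a22) + a02*a21 + (-a11*a32) + a12*a31 = 0) (c13 : 1 + (-a01*a23) + a03*a21 + (-a11*a33) + a13*a31 = 0) (c23 : (-a02*a23) + a03*a22 + (-a12*a33) + a13*a32 = 0) :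
    a00*a03*a12*a33 + (-a00*a03*a13*a32) + (-a02*a03*a10*a33) + a02*a03*a13*a30 + a03^2*a10*a32 + (-a03^2*a12*a30) = a03^2 := by
  linear_combination (a03*a33) * r01 + (a03*a13) * r03 + (a03^2) * r13 + (a00*a03*a12*a33 + a01*a03*a13*a33 + (-a02*a03*a10*a33) + (-a03^2) + a03^2*a10*a32 + (-a03^2*a12*a30) + (-a03^2*a13*a31)) * h2

theorem core_I3_10 (a00 a01 a02 a03 a10 a11 a12 a13 a20 a21 a22 a23 a30 a31 a32 a33 : R) (h2 : (2 : R) = 0) (r01 : (-a00*a12) + (-a01*a13) + a02*a10 + a03*a11 = 0) (r02 : 1 + (-a00*a22) + (-a01*a23) + a02*a20 + a03*a21 = 0) (r03 : (-a00*a32) + (-a01*a33) + a02*a30 + a03*a31 = 0) (r12 : (-a10*a22) + (-a11*a23) + a12*a20 + a13*a21 = 0) (r13 : 1 + (-a10*a32) + (-a11*a33) + a12*a30 + a13*a31 = 0) (r23 : (-a20*a32) + (-a21*a33) + a22*a30 + a23*a31 = 0) (c01 : (-a00*a21) + a01*a20 + (-a10*a31) + a11*a30 = 0)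 (c02 : 1 + (-a00*a22) + a02*a20 + (-a10*a32) + a12*a30 = 0) (c03 : (-a00*a23) + a03*a20 + (-a10*a33) + a13*a30 = 0) (c12 : (-a01*a22) + a02*a21 + (-a11*a32) + a12*a31 = 0) (c13 : 1 + (-a01*a23) + a03*a21 + (-a11*a33) + a13*a31 = 0) (c23 : (-a02*a23) + a03*a22 + (-a12*a33) + a13*a32 = 0) :
    a00*a10*a11*a23 + (-a00*a10*a13*a21) + a01*a10*a13*a20 + (-a01*a10^2*a23) + (-a03*a10*a11*a20) + a03*a10^2*a21 = a10^2 := by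
  linear_combination (a10*a20) * r01 + (a10^2) * r02 + (a00*a10) * r12 + (a00*a10*a11*a23 + (-a00*a10*a13*a21) + a00*a10^2*a22 + a01*a10*a13*a20 + (-a02*a10^2*a20) + (-a03*a10*a11*a20) + (-a10^2)) * h2

theorem core_I3_11 (a00 a01 a02 a03 a10 a11 a12 a13 a20 a21 a22 a23 a30 a31 a32 a33 : R) (h2 : (2 : R) = 0) (r01 : (-a00*a12) + (-a01*a13) + a02*a10 + a03*a11 = 0) (r02 : 1 + (-a00*a22) + (-a01*a23) + a02*a20 + a03*a21 = 0) (r03 : (-a00*a32) + (-a01*a33) + a02*a30 + a03*a31 = 0) (r12 : (-a10*a22) + (-a11*a23) + a12*a20 + a13*a21 = 0) (r13 : 1 + (-a10*a32) + (-a11*a33) + a12*a30 + a13*a31 = 0) (r23 : (-a20*a32) + (-a21*a33) + a22*a30 + a23*a31 = 0) (c01 : (-a00*a21) + a01*a20 + (-a10*a31) + a11*a30 = 0) (c02 : 1 + (-a00*a22) + a02*a20 + (-a10*a32) + a12*a30 = 0) (c03 : (-a00*a23) + a03*a20 + (-a10*a33) + a13*a30 = 0) (c12 : (-a01*a22)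 + a02*a21 + (-a11*a32) + a12*a31 = 0) (c13 : 1 + (-a01*a23) + a03*a21 + (-a11*a33) + a13*a31 = 0) (c23 : (-a02*a23) + a03*a22 + (-a12*a33) + a13*a32 = 0) :
    (-a00*a11*a12*a21) + a00*a11^2*a22 + (-a01*a10*a11*a22) + a01*a11*a12*a20 + a02*a10*a11*a21 + (-a02*a11^2*a20) = a11^2 := by
  linear_combination (a11*a21) * r01 + (a11^2) * r02 + (a01*a11) * r12 + (a00*a11^2*a22 + a01*a11^2*a23 + (-a02*a11^2*a20) + (-a03*a11^2*a21) + (-a11^2)) * h2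

theorem core_I3_12 (a00 a01 a02 a03 a10 a11 a12 a13 a20 a21 a22 a23 a30 a31 a32 a33 : R) (h2 : (2 : R) = 0) (r01 : (-a00*a12) + (-a01*a13) + a02*a10 + a03*a11 = 0) (r02 : 1 + (-a00*a22) + (-a01*a23) + a02*a20 + a03*a21 = 0) (r03 : (-a00*a32) + (-a01*a33) + a02*a30 + a03*a31 = 0) (r12 : (-a10*a22) + (-a11*a23) + a12*a20 + a13*a21 = 0) (r13 : 1 + (-a10*a32) + (-a11*a33) + a12*a30 + a13*a31 = 0) (r23 : (-a20*a32) + (-a21*a33) + a22*a30 + a23*a31 = 0) (c01 : (-a00*a21) + a01*a20 + (-a10*a31) + a11*a30 = 0) (c02 : 1 + (-a00*a22) + a02*a20 + (-a10*a32) + a12*a30 = 0) (c03 : (-a00*a23) + a03*a20 + (-a10*a33) + a13*a30 = 0) (c12 : (-a01*a22) + a02*a21 + (-a11*a32) + a12*a31 = 0) (c13 : 1 + (-a01*a23) + a03*a21 + (-a11*a33) + a13*a31 = 0) (c23 : (-a02*a23) + a03*a22 + (-a12*a33) + a13*a32 = 0) :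
    a01*a12*a13*a22 + (-a01*a12^2*a23) + a02*a11*a12*a23 + (-a02*a12*a13*a21) + (-a03*a11*a12*a22) + a03*a12^2*a21 = a12^2 := by
  linear_combination (a12*a22) * r01 + (a12^2) * r02 + (a02*a12) * r12 + (a00*a12^2*a22 + a01*a12*a13*a22 + a02*a11*a12*a23 + (-a02*a12*a13*a21) + (-a02*a12^2*a20) + (-a03*a11*a12*a22) + (-a12^2)) * h2

theorem core_I3_13 (a00 a01 a02 a03 a10 a11 a12 a13 a20 a21 a22 a23 a30 a31 a32 a33 : R) (h2 : (2 : R) = 0) (r01 : (-a00*a12) + (-a01*a13) + a02*a10 + a03*a11 = 0) (r02 : 1 + (-a00*a22) + (-a01*a23) + a02*a20 + a03*a21 = 0) (r03 : (-a00*a32) + (-a01*a33) + a02*a30 + a03*a31 = 0) (r12 : (-a10*a22) + (-a11*a23) + a12*a20 + a13*a21 = 0) (r13 : 1 + (-a10*a32) + (-a11*a33) + a12*a30 + a13*a31 = 0) (r23 : (-a20*a32) + (-a21*a33) + a22*a30 + a23*a31 = 0) (c01 : (-a00*a21) + a01*a20 + (-a10*a31) + a11*a30 = 0)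 (c02 : 1 + (-a00*a22) + a02*a20 + (-a10*a32) + a12*a30 = 0) (c03 : (-a00*a23) + a03*a20 + (-a10*a33) + a13*a30 = 0) (c12 : (-a01*a22) + a02*a21 + (-a11*a32) + a12*a31 = 0) (c13 : 1 + (-a01*a23) + a03*a21 + (-a11*a33) + a13*a31 = 0) (c23 : (-a02*a23) + a03*a22 + (-a12*a33) + a13*a32 = 0) :
    a00*a12*a13*a23 + (-a00*a13^2*a22) + (-a02*a10*a13*a23) + a02*a13^2*a20 + a03*a10*a13*a22 + (-a03*a12*a13*a20) = a13^2 := by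
  linear_combination (a13*a23) * r01 + (a13^2) * r02 + (a03*a13) * r12 + (a00*a12*a13*a23 + a01*a13^2*a23 + (-a02*a10*a13*a23) + a03*a10*a13*a22 + (-a03*a12*a13*a20) + (-a03*a13^2*a21) + (-a13^2)) * h2

theorem core_I3_20 (a00 a01 a02 a03 a10 a11 a12 a13 a20 a21 a22 a23 a30 a31 a32 a33 : R) (h2 : (2 : R) = 0) (r01 : (-a00*a12) + (-a01*a13) + a02*a10 + a03*a11 = 0) (r02 : 1 + (-a00*a22) + (-a01*a23) + a02*a20 + a03*a21 = 0) (r03 : (-a00*a32) + (-a01*a33) + a02*a30 + a03*a31 = 0) (r12 : (-a10*a22) + (-a11*a23) + a12*a20 + a13*a21 = 0) (r13 : 1 + (-a10*a32) + (-a11*a33) + a12*a30 + a13*a31 = 0) (r23 : (-a20*a32) + (-a21*a33) + a22*a30 + a23*a31 = 0) (c01 : (-a00*a21) + a01*a20 + (-a10*a31) + a11*a30 = 0) (c02 : 1 + (-a00*a22) + a02*a20 + (-a10*a32) + a12*a30 = 0) (c03 : (-a00*a23) + a03*a20 + (-a10*a33) + a13*a30 = 0) (c12 : (-a01*a22)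 + a02*a21 + (-a11*a32) + a12*a31 = 0) (c13 : 1 + (-a01*a23) + a03*a21 + (-a11*a33) + a13*a31 = 0) (c23 : (-a02*a23) + a03*a22 + (-a12*a33) + a13*a32 = 0) :
    (-a10*a20*a21*a33) + a10*a20*a23*a31 + (-a11*a20*a23*a30) + a11*a20^2*a33 + a13*a20*a21*a30 + (-a13*a20^2*a31) = a20^2 := by
  linear_combination (a20*a30) * r12 + (a20^2) * r13 + (a10*a20) * r23 + (a10*a20^2*a32 + a11*a20^2*a33 + (-a12*a20^2*a30) + (-a13*a20^2*a31) + (-a20^2)) * h2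

theorem core_I3_21 (a00 a01 a02 a03 a10 a11 a12 a13 a20 a21 a22 a23 a30 a31 a32 a33 : R) (h2 : (2 : R) = 0) (r01 : (-a00*a12) + (-a01*a13) + a02*a10 + a03*a11 = 0) (r02 : 1 + (-a00*a22) + (-a01*a23) + a02*a20 + a03*a21 = 0) (r03 : (-a00*a32) + (-a01*a33) + a02*a30 + a03*a31 = 0) (r12 : (-a10*a22) + (-a11*a23) + a12*a20 + a13*a21 = 0) (r13 : 1 + (-a10*a32) + (-a11*a33) + a12*a30 + a13*a31 = 0) (r23 : (-a20*a32) + (-a21*a33) + a22*a30 + a23*a31 = 0) (c01 : (-a00*a21) + a01*a20 + (-a10*a31) + a11*a30 = 0) (c02 : 1 + (-a00*a22) + a02*a20 + (-a10*a32) + a12*a30 = 0) (c03 : (-a00*a23) + a03*a20 + (-a10*a33) + a13*a30 = 0) (c12 : (-a01*a22) + a02*a21 + (-a11*a32) + a12*a31 = 0) (c13 : 1 + (-a01*a23) + a03*a21 + (-a11*a33) + a13*a31 = 0) (c23 : (-a02*a23) + a03*a22 + (-a12*a33) + a13*a32 = 0) :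
    a10*a21*a22*a31 + (-a10*a21^2*a32) + a11*a20*a21*a32 + (-a11*a21*a22*a30) + (-a12*a20*a21*a31) + a12*a21^2*a30 = a21^2 := by
  linear_combination (a21*a31) * r12 + (a21^2) * r13 + (a11*a21) * r23 + (a10*a21*a22*a31 + a11*a20*a21*a32 + (-a11*a21*a22*a30) + a11*a21^2*a33 + (-a12*a20*a21*a31) + (-a13*a21^2*a31) + (-a21^2)) * h2

theorem core_I3_22 (a00 a01 a02 a03 a10 a11 a12 a13 a20 a21 a22 a23 a30 a31 a32 a33 : R) (h2 : (2 : R) = 0) (r01 : (-a00*a12) + (-a01*a13) + a02*a10 + a03*a11 = 0) (r02 : 1 + (-a00*a22) + (-a01*a23) + a02*a20 + a03*a21 = 0) (r03 : (-a00*a32) + (-a01*a33) + a02*a30 + a03*a31 = 0) (r12 : (-a10*a22) + (-a11*a23) + a12*a20 + a13*a21 = 0) (r13 : 1 + (-a10*a32) + (-a11*a33) + a12*a30 + a13*a31 = 0) (r23 : (-a20*a32) + (-a21*a33) + a22*a30 + a23*a31 = 0) (c01 : (-a00*a21) + a01*a20 + (-a10*a31) + a11*a30 = 0)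 (c02 : 1 + (-a00*a22) + a02*a20 + (-a10*a32) + a12*a30 = 0) (c03 : (-a00*a23) + a03*a20 + (-a10*a33) + a13*a30 = 0) (c12 : (-a01*a22) + a02*a21 + (-a11*a32) + a12*a31 = 0) (c13 : 1 + (-a01*a23) + a03*a21 + (-a11*a33) + a13*a31 = 0) (c23 : (-a02*a23) + a03*a22 + (-a12*a33) + a13*a32 = 0) :
    (-a11*a22*a23*a32) + a11*a22^2*a33 + (-a12*a21*a22*a33) + a12*a22*a23*a31 + a13*a21*a22*a32 + (-a13*a22^2*a31) = a22^2 := by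
  linear_combination (a22*a32) * r12 + (a22^2) * r13 + (a12*a22) * r23 + (a10*a22^2*a32 + a11*a22^2*a33 + (-a12*a22^2*a30) + (-a13*a22^2*a31) + (-a22^2)) * h2

theorem core_I3_23 (a00 a01 a02 a03 a10 a11 a12 a13 a20 a21 a22 a23 a30 a31 a32 a33 : R) (h2 : (2 : R) = 0) (r01 : (-a00*a12) + (-a01*a13) + a02*a10 + a03*a11 = 0) (r02 : 1 + (-a00*a22) + (-a01*a23) + a02*a20 + a03*a21 = 0) (r03 : (-a00*a32) + (-a01*a33) + a02*a30 + a03*a31 = 0) (r12 : (-a10*a22) + (-a11*a23) + a12*a20 + a13*a21 = 0) (r13 : 1 + (-a10*a32) + (-a11*a33) + a12*a30 + a13*a31 = 0) (r23 : (-a20*a32) + (-a21*a33) + a22*a30 + a23*a31 = 0) (c01 : (-a00*a21) + a01*a20 + (-a10*a31) + a11*a30 = 0) (c02 : 1 + (-a00*a22) + a02*a20 + (-a10*a32) + a12*a30 = 0) (c03 : (-a00*a23) + a03*a20 + (-a10*a33) + a13*a30 = 0) (c12 : (-a01*a22) + a02*a21 + (-a11*a32) + a12*a31 = 0)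 (c13 : 1 + (-a01*a23) + a03*a21 + (-a11*a33) + a13*a31 = 0) (c23 : (-a02*a23) + a03*a22 + (-a12*a33) + a13*a32 = 0) :
    (-a10*a22*a23*a33) + a10*a23^2*a32 + a12*a20*a23*a33 + (-a12*a23^2*a30) + (-a13*a20*a23*a32) + a13*a22*a23*a30 = a23^2 := by
  linear_combination (a23*a33) * r12 + (a23^2) * r13 + (a13*a23) * r23 + (a10*a23^2*a32 + a11*a23^2*a33 + (-a12*a23^2*a30) + (-a13*a23^2*a31) + (-a23^2)) * h2

theorem core_I3_30 (a00 a01 a02 a03 a10 a11 a12 a13 a20 a21 a22 a23 a30 a31 a32 a33 : R) (h2 : (2 : R) = 0) (r01 : (-a00*a12) + (-a01*a13) + a02*a10 + a03*a11 = 0) (r02 : 1 + (-a00*a22) + (-a01*a23) + a02*a20 + a03*a21 = 0) (r03 : (-a00*a32) + (-a01*a33) + a02*a30 + a03*a31 = 0) (r12 : (-a10*a22) + (-a11*a23) + a12*a20 + a13*a21 = 0) (r13 : 1 + (-a10*a32) + (-a11*a33) + a12*a30 + a13*a31 = 0) (r23 : (-a20*a32) + (-a21*a33) + a22*a30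 + a23*a31 = 0) (c01 : (-a00*a21) + a01*a20 + (-a10*a31) + a11*a30 = 0) (c02 : 1 + (-a00*a22) + a02*a20 + (-a10*a32) + a12*a30 = 0) (c03 : (-a00*a23) + a03*a20 + (-a10*a33) + a13*a30 = 0) (c12 : (-a01*a22) + a02*a21 + (-a11*a32) + a12*a31 = 0) (c13 : 1 + (-a01*a23) + a03*a21 + (-a11*a33) + a13*a31 = 0) (c23 : (-a02*a23) + a03*a22 + (-a12*a33) + a13*a32 = 0) :
    a00*a21*a30*a33 + (-a00*a23*a30*a31) + (-a01*a20*a30*a33) + a01*a23*a30^2 + a03*a20*a30*a31 + (-a03*a21*a30^2) = a30^2 := by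
  linear_combination (a30^2) * r02 + (a20*a30) * r03 + (a00*a30) * r23 + (a00*a20*a30*a32 + a00*a21*a30*a33 + (-a00*a23*a30*a31) + a01*a23*a30^2 + (-a02*a20*a30^2) + (-a03*a21*a30^2) + (-a30^2)) * h2

theorem core_I3_31 (a00 a01 a02 a03 a10 a11 a12 a13 a20 a21 a22 a23 a30 a31 a32 a33 : R) (h2 : (2 : R) = 0) (r01 : (-a00*a12) + (-a01*a13) + a02*a10 + a03*a11 = 0) (r02 : 1 + (-a00*a22) + (-a01*a23) + a02*a20 + a03*a21 = 0) (r03 : (-a00*a32) + (-a01*a33) + a02*a30 + a03*a31 = 0) (r12 : (-a10*a22) + (-a11*a23) + a12*a20 + a13*a21 = 0) (r13 : 1 + (-a10*a32) + (-a11*a33) + a12*a30 + a13*a31 = 0) (r23 : (-a20*a32) + (-a21*a33) + a22*a30 + a23*a31 = 0) (c01 : (-a00*a21) + a01*a20 + (-a10*a31) + a11*a30 = 0) (c02 : 1 + (-a00*a22) + a02*a20 + (-a10*a32) + a12*a30 = 0) (c03 : (-a00*a23) + a03*a20 + (-a10*a33) + a13*a30 = 0) (c12 : (-a01*a22)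 + a02*a21 + (-a11*a32) + a12*a31 = 0) (c13 : 1 + (-a01*a23) + a03*a21 + (-a11*a33) + a13*a31 = 0) (c23 : (-a02*a23) + a03*a22 + (-a12*a33) + a13*a32 = 0) :
    a00*a21*a31*a32 + (-a00*a22*a31^2) + (-a01*a20*a31*a32) + a01*a22*a30*a31 + a02*a20*a31^2 + (-a02*a21*a30*a31) = a31^2 := by
  linear_combination (a31^2) * r02 + (a21*a31) * r03 + (a01*a31) * r23 + (a00*a21*a31*a32 + a01*a21*a31*a33 + (-a02*a21*a30*a31) + (-a03*a21*a31^2) + (-a31^2)) * h2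

theorem core_I3_32 (a00 a01 a02 a03 a10 a11 a12 a13 a20 a21 a22 a23 a30 a31 a32 a33 : R) (h2 : (2 : R) = 0) (r01 : (-a00*a12) + (-a01*a13) + a02*a10 + a03*a11 = 0) (r02 : 1 + (-a00*a22) + (-a01*a23) + a02*a20 + a03*a21 = 0) (r03 : (-a00*a32) + (-a01*a33) + a02*a30 + a03*a31 = 0) (r12 : (-a10*a22) + (-a11*a23) + a12*a20 + a13*a21 = 0) (r13 : 1 + (-a10*a32) + (-a11*a33) + a12*a30 + a13*a31 = 0) (r23 : (-a20*a32) + (-a21*a33) + a22*a30 + a23*a31 = 0) (c01 : (-a00*a21) + a01*a20 + (-a10*a31) + a11*a30 = 0) (c02 : 1 + (-a00*a22) + a02*a20 + (-a10*a32) + a12*a30 = 0) (c03 : (-a00*a23) + a03*a20 + (-a10*a33) + a13*a30 = 0) (c12 : (-a01*a22) + a02*a21 + (-a11*a32) + a12*a31 = 0) (c13 : 1 + (-a01*a23) + a03*a21 + (-a11*a33) + a13*a31 = 0) (c23 : (-a02*a23) + a03*a22 + (-a12*a33) + a13*a32 = 0) :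
    (-a01*a22*a32*a33) + a01*a23*a32^2 + a02*a21*a32*a33 + (-a02*a23*a31*a32) + (-a03*a21*a32^2) + a03*a22*a31*a32 = a32^2 := by
  linear_combination (a32^2) * r02 + (a22*a32) * r03 + (a02*a32) * r23 + (a00*a22*a32^2 + a01*a23*a32^2 + a02*a21*a32*a33 + (-a02*a22*a30*a32) + (-a02*a23*a31*a32) + (-a03*a21*a32^2) + (-a32^2)) * h2

theorem core_I3_33 (a00 a01 a02 a03 a10 a11 a12 a13 a20 a21 a22 a23 a30 a31 a32 a33 : R) (h2 : (2 : R) = 0) (r01 : (-a00*a12) + (-a01*a13) + a02*a10 + a03*a11 = 0) (r02 : 1 + (-a00*a22) + (-a01*a23) + a02*a20 + a03*a21 = 0) (r03 : (-a00*a32) + (-a01*a33) + a02*a30 + a03*a31 = 0) (r12 : (-a10*a22) + (-a11*a23) + a12*a20 + a13*a21 = 0) (r13 : 1 + (-a10*a32) + (-a11*a33) + a12*a30 + a13*a31 = 0) (r23 : (-a20*a32) + (-a21*a33) + a22*a30 + a23*a31 = 0) (c01 : (-a00*a21) + a01*a20 + (-a10*a31) + a11*a30 = 0)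 (c02 : 1 + (-a00*a22) + a02*a20 + (-a10*a32) + a12*a30 = 0) (c03 : (-a00*a23) + a03*a20 + (-a10*a33) + a13*a30 = 0) (c12 : (-a01*a22) + a02*a21 + (-a11*a32) + a12*a31 = 0) (c13 : 1 + (-a01*a23) + a03*a21 + (-a11*a33) + a13*a31 = 0) (c23 : (-a02*a23) + a03*a22 + (-a12*a33) + a13*a32 = 0) :
    a00*a22*a33^2 + (-a00*a23*a32*a33) + (-a02*a20*a33^2) + a02*a23*a30*a33 + a03*a20*a32*a33 + (-a03*a22*a30*a33) = a33^2 := by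
  linear_combination (a33^2) * r02 + (a23*a33) * r03 + (a03*a33) * r23 + (a00*a22*a33^2 + a01*a23*a33^2 + (-a02*a20*a33^2) + a03*a20*a32*a33 + (-a03*a22*a30*a33) + (-a03*a23*a31*a33) + (-a33^2)) * h2

theorem core_I1_01 (a00 a01 a02 a03 a10 a11 a12 a13 a20 a21 a22 a23 a30 a31 a32 a33 : R) (h2 : (2 : R) = 0) (r01 : (-a00*a12) + (-a01*a13) + a02*a10 + a03*a11 = 0) (r02 : 1 + (-a00*a22) + (-a01*a23) + a02*a20 + a03*a21 = 0) (r03 : (-a00*a32) + (-a01*a33) + a02*a30 + a03*a31 = 0) (r12 : (-a10*a22) + (-a11*a23) + a12*a20 + a13*a21 = 0) (r13 : 1 + (-a10*a32) + (-a11*a33) + a12*a30 + a13*a31 = 0) (r23 : (-a20*a32) + (-a21*a33) + a22*a30 + a23*a31 = 0) (c01 : (-a00*a21) + a01*a20 + (-a10*a31) + a11*a30 = 0) (c02 : 1 + (-a00*a22) + a02*a20 + (-a10*a32) + a12*a30 = 0) (c03 : (-a00*a23) + a03*a20 + (-a10*a33) + a13*a30 = 0) (c12 : (-a01*a22)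 + a02*a21 + (-a11*a32) + a12*a31 = 0) (c13 : 1 + (-a01*a23) + a03*a21 + (-a11*a33) + a13*a31 = 0) (c23 : (-a02*a23) + a03*a22 + (-a12*a33) + a13*a32 = 0) :
    a00*a01*a12*a33 + (-a00*a01*a13*a32) + (-2)*a00*a02*a11*a33 + 2*a00*a02*a13*a31 + a00*a03*a11*a32 + (-a00*a03*a12*a31) + a01*a02*a10*a33 + (-a01*a02*a13*a30) + (-a02*a03*a10*a31) + a02*a03*a11*a30 = 0 := by
  linear_combination (a00*a32 + a02*a30) * r01 + (a00*a12 + a02*a10) * r03 + (a00*a01*a12*a33 + (-a00*a02*a11*a33) + a00*a02*a13*a31 + (-a00*a03*a12*a31) + a00^2*a12*a32 + a01*a02*a10*a33 + (-a02*a03*a10*a31) + (-a02^2*a10*a30)) * h2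

theorem core_I1_02 (a00 a01 a02 a03 a10 a11 a12 a13 a20 a21 a22 a23 a30 a31 a32 a33 : R) (h2 : (2 : R) = 0) (r01 : (-a00*a12) + (-a01*a13) + a02*a10 + a03*a11 = 0) (r02 : 1 + (-a00*a22) + (-a01*a23) + a02*a20 + a03*a21 = 0) (r03 : (-a00*a32) + (-a01*a33) + a02*a30 + a03*a31 = 0) (r12 : (-a10*a22) + (-a11*a23) + a12*a20 + a13*a21 = 0) (r13 : 1 + (-a10*a32) + (-a11*a33) + a12*a30 + a13*a31 = 0) (r23 : (-a20*a32) + (-a21*a33) + a22*a30 + a23*a31 = 0) (c01 : (-a00*a21) + a01*a20 + (-a10*a31) + a11*a30 = 0) (c02 : 1 + (-a00*a22) + a02*a20 + (-a10*a32) + a12*a30 = 0) (c03 : (-a00*a23) + a03*a20 + (-a10*a33) + a13*a30 = 0) (c12 : (-a01*a22) + a02*a21 + (-a11*a32) + a12*a31 = 0) (c13 : 1 + (-a01*a23) + a03*a21 + (-a11*a33) + a13*a31 = 0) (c23 : (-a02*a23) + a03*a22 + (-a12*a33) + a13*a32 = 0) :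
    (-a00*a11*a22*a33) + a00*a11*a23*a32 + (-a00*a13*a21*a32) + a00*a13*a22*a31 + a01*a10*a22*a33 + (-a01*a10*a23*a32) + a01*a12*a20*a33 + (-a01*a12*a23*a30) + (-a02*a11*a20*a33) + a02*a11*a23*a30 + a02*a13*a20*a31 + (-a02*a13*a21*a30) + a03*a10*a21*a32 + (-a03*a10*a22*a31) + (-a03*a12*a20*a31) + a03*a12*a21*a30 = -1 := by
  linear_combination (a21*a33 + a23*a31) * r01 + (a10*a32 + a11*a33 + a12*a30 + a13*a31) * r02 + (a10*a22 + a11*a23 + a12*a20 + a13*a21) * r03 + (1) * r13 + (a00*a12 + a02*a10) * r23 + (a00*a10*a22*a32 + a00*a11*a23*a32 + a00*a12*a20*a32 + a00*a12*a21*a33 + a00*a13*a22*a31 + a01*a10*a22*a33 + a01*a11*a23*a33 + a01*a12*a20*a33 + a01*a13*a21*a33 + a01*a13*a23*a31 + (-a02*a10*a22*a30) + (-a02*a10*a23*a31) + (-a02*a11*a20*a33) + (-a02*a12*a20*a30) + (-a02*a13*a21*a30) + (-a03*a10*a22*a31) + (-a03*a11*a21*a33) +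 (-a03*a11*a23*a31) + (-a03*a12*a20*a31) + (-a03*a13*a21*a31) + (-a12*a30) + (-a13*a31)) * h2

theorem core_I1_03 (a00 a01 a02 a03 a10 a11 a12 a13 a20 a21 a22 a23 a30 a31 a32 a33 : R) (h2 : (2 : R) = 0) (r01 : (-a00*a12) + (-a01*a13) + a02*a10 + a03*a11 = 0) (r02 : 1 + (-a00*a22) + (-a01*a23) + a02*a20 + a03*a21 = 0) (r03 : (-a00*a32) + (-a01*a33) + a02*a30 + a03*a31 = 0) (r12 : (-a10*a22) + (-a11*a23) + a12*a20 + a13*a21 = 0) (r13 : 1 + (-a10*a32) + (-a11*a33) + a12*a30 + a13*a31 = 0) (r23 : (-a20*a32) + (-a21*a33) + a22*a30 + a23*a31 = 0) (c01 : (-a00*a21) + a01*a20 + (-a10*a31) + a11*a30 = 0) (c02 : 1 + (-a00*a22) + a02*a20 + (-a10*a32) + a12*a30 = 0) (c03 : (-a00*a23) + a03*a20 + (-a10*a33) + a13*a30 = 0) (c12 : (-a01*a22) + a02*a21 + (-a11*a32) + a12*a31 = 0) (c13 : 1 + (-a01*a23) + a03*a21 + (-a11*a33) + a13*a31 = 0) (c23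 : (-a02*a23) + a03*a22 + (-a12*a33) + a13*a32 = 0) :
    (-a00*a11*a12*a23) + a00*a12*a13*a21 + 2*a01*a10*a12*a23 + (-a01*a10*a13*a22) + (-a01*a12*a13*a20) + (-a02*a10*a11*a23) + a02*a10*a13*a21 + a03*a10*a11*a22 + (-2)*a03*a10*a12*a21 + a03*a11*a12*a20 = 0 := by
  linear_combination (a10*a22 + a12*a20) * r01 + (a00*a12 + a02*a10) * r12 + (a00*a10*a12*a22 + a01*a10*a12*a23 + (-a02*a10*a12*a20) + (-a03*a10*a12*a21)) * h2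

theorem core_I1_10 (a00 a01 a02 a03 a10 a11 a12 a13 a20 a21 a22 a23 a30 a31 a32 a33 : R) (h2 : (2 : R) = 0) (r01 : (-a00*a12) + (-a01*a13) + a02*a10 + a03*a11 = 0) (r02 : 1 + (-a00*a22) + (-a01*a23) + a02*a20 + a03*a21 = 0) (r03 : (-a00*a32) + (-a01*a33) + a02*a30 + a03*a31 = 0) (r12 : (-a10*a22) + (-a11*a23) + a12*a20 + a13*a21 = 0) (r13 : 1 + (-a10*a32) + (-a11*a33) + a12*a30 + a13*a31 = 0) (r23 : (-a20*a32) + (-a21*a33) + a22*a30 + a23*a31 = 0) (c01 : (-a00*a21) + a01*a20 + (-a10*a31) + a11*a30 = 0) (c02 : 1 + (-a00*a22) + a02*a20 + (-a10*a32) + a12*a30 = 0) (c03 : (-a00*a23) + a03*a20 + (-a10*a33) + a13*a30 = 0) (c12 : (-a01*a22) + a02*a21 + (-a11*a32) + a12*a31 = 0) (c13 : 1 + (-a01*a23) + a03*a21 + (-a11*a33) + a13*a31 = 0) (c23 : (-a02*a23) + a03*a22 + (-a12*a33) + a13*a32 = 0) :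
    (-a00*a01*a12*a33) + a00*a01*a13*a32 + 2*a00*a02*a11*a33 + (-2)*a00*a02*a13*a31 + (-a00*a03*a11*a32) + a00*a03*a12*a31 + (-a01*a02*a10*a33) + a01*a02*a13*a30 + a02*a03*a10*a31 + (-a02*a03*a11*a30) = 0 := by
  linear_combination (a00*a32 + a02*a30) * r01 + (a00*a12 + a02*a10) * r03 + (a00*a01*a13*a32 + a00*a02*a11*a33 + (-a00*a02*a13*a31) + (-a00*a03*a11*a32) + a00^2*a12*a32 + a01*a02*a13*a30 + (-a02*a03*a11*a30) + (-a02^2*a10*a30)) * h2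

theorem core_I1_12 (a00 a01 a02 a03 a10 a11 a12 a13 a20 a21 a22 a23 a30 a31 a32 a33 : R) (h2 : (2 : R) = 0) (r01 : (-a00*a12) + (-a01*a13) + a02*a10 + a03*a11 = 0) (r02 : 1 + (-a00*a22) + (-a01*a23) + a02*a20 + a03*a21 = 0) (r03 : (-a00*a32) + (-a01*a33) + a02*a30 + a03*a31 = 0) (r12 : (-a10*a22) + (-a11*a23) + a12*a20 + a13*a21 = 0) (r13 : 1 + (-a10*a32) + (-a11*a33) + a12*a30 + a13*a31 = 0) (r23 : (-a20*a32) + (-a21*a33) + a22*a30 + a23*a31 = 0) (c01 : (-a00*a21) + a01*a20 + (-a10*a31) + a11*a30 = 0) (c02 : 1 + (-a00*a22) + a02*a20 + (-a10*a32) + a12*a30 = 0) (c03 : (-a00*a23) + a03*a20 + (-a10*a33) + a13*a30 = 0) (c12 : (-a01*a22) + a02*a21 + (-a11*a32) + a12*a31 = 0) (c13 : 1 + (-a01*a23) + a03*a21 + (-a11*a33) + a13*a31 = 0) (c23 : (-a02*a23) + a03*a22 + (-a12*a33) + a13*a32 = 0) :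
    (-a00*a21*a32*a33) + a00*a23*a31*a32 + a01*a20*a32*a33 + a01*a22*a30*a33 + (-2)*a01*a23*a30*a32 + (-a02*a21*a30*a33) + a02*a23*a30*a31 + (-a03*a20*a31*a32) + 2*a03*a21*a30*a32 + (-a03*a22*a30*a31) = 0 := by
  linear_combination (a20*a32 + a22*a30) * r03 + (a00*a32 + a02*a30) * r23 + (a00*a20*a32^2 + a01*a20*a32*a33 + a01*a22*a30*a33 + (-a01*a23*a30*a32) + (-a02*a22*a30^2) + (-a03*a20*a31*a32) + a03*a21*a30*a32 + (-a03*a22*a30*a31)) * h2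

theorem core_I1_13 (a00 a01 a02 a03 a10 a11 a12 a13 a20 a21 a22 a23 a30 a31 a32 a33 : R) (h2 : (2 : R) = 0) (r01 : (-a00*a12) + (-a01*a13) + a02*a10 + a03*a11 = 0) (r02 : 1 + (-a00*a22) + (-a01*a23) + a02*a20 + a03*a21 = 0) (r03 : (-a00*a32) + (-a01*a33) + a02*a30 + a03*a31 = 0) (r12 : (-a10*a22) + (-a11*a23) + a12*a20 + a13*a21 = 0) (r13 : 1 + (-a10*a32) + (-a11*a33) + a12*a30 + a13*a31 = 0) (r23 : (-a20*a32) + (-a21*a33) + a22*a30 + a23*a31 = 0) (c01 : (-a00*a21) + a01*a20 + (-a10*a31) + a11*a30 = 0) (c02 : 1 + (-a00*a22) + a02*a20 + (-a10*a32) + a12*a30 = 0) (c03 : (-a00*a23) + a03*a20 + (-a10*a33) + a13*a30 = 0) (c12 : (-a01*a22) + a02*a21 + (-a11*a32) + a12*a31 = 0) (c13 : 1 + (-a01*a23) + a03*a21 + (-a11*a33) + a13*a31 = 0) (c23 : (-a02*a23) + a03*a22 + (-a12*a33) + a13*a32 = 0) :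
    (-a00*a11*a22*a33) + a00*a12*a21*a33 + (-a00*a12*a23*a31) + a00*a13*a22*a31 + a01*a10*a23*a32 + a01*a12*a23*a30 + (-a01*a13*a20*a32) + (-a01*a13*a22*a30) + a02*a10*a21*a33 + (-a02*a10*a23*a31) + (-a02*a11*a20*a33) + a02*a13*a20*a31 + (-a03*a10*a21*a32) + a03*a11*a20*a32 + a03*a11*a22*a30 + (-a03*a12*a21*a30) = -1 := by
  linear_combination (a20*a32 + a21*a33 + a22*a30 + a23*a31) * r01 + (a10*a32 + a11*a33 + a12*a30 + a13*a31) * r02 + (a11*a23 + a13*a21) * r03 + (a00*a32 + a02*a30) * r12 + (1) * r13 + (a00*a10*a22*a32 + a00*a11*a23*a32 + a00*a12*a21*a33 + a00*a12*a22*a30 + a00*a13*a22*a31 + a01*a10*a23*a32 + a01*a11*a23*a33 + a01*a12*a23*a30 + a01*a13*a21*a33 + a01*a13*a23*a31 + (-a02*a10*a20*a32) + (-a02*a10*a23*a31) + (-a02*a11*a20*a33) + (-a02*a12*a20*a30) + (-a02*a13*a21*a30) + (-a03*a10*a21*a32) + (-a03*a11*a21*a33) +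 (-a03*a11*a23*a31) + (-a03*a12*a21*a30) + (-a03*a13*a21*a31) + (-a12*a30) + (-a13*a31)) * h2

theorem core_I1_20 (a00 a01 a02 a03 a10 a11 a12 a13 a20 a21 a22 a23 a30 a31 a32 a33 : R) (h2 : (2 : R) = 0) (r01 : (-a00*a12) + (-a01*a13) + a02*a10 + a03*a11 = 0) (r02 : 1 + (-a00*a22) + (-a01*a23) + a02*a20 + a03*a21 = 0) (r03 : (-a00*a32) + (-a01*a33) + a02*a30 + a03*a31 = 0) (r12 : (-a10*a22) + (-a11*a23) + a12*a20 + a13*a21 = 0) (r13 : 1 + (-a10*a32) + (-a11*a33) + a12*a30 + a13*a31 = 0) (r23 : (-a20*a32) + (-a21*a33) + a22*a30 + a23*a31 = 0) (c01 : (-a00*a21) + a01*a20 + (-a10*a31) + a11*a30 = 0) (c02 : 1 + (-a00*a22) + a02*a20 + (-a10*a32) + a12*a30 = 0) (c03 : (-a00*a23) + a03*a20 + (-a10*a33) + a13*a30 = 0) (c12 : (-a01*a22) + a02*a21 + (-a11*a32) + a12*a31 = 0) (c13 : 1 + (-a01*a23) + a03*a21 + (-a11*a33) + a13*a31 = 0) (c23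 : (-a02*a23) + a03*a22 + (-a12*a33) + a13*a32 = 0) :
    a00*a11*a22*a33 + (-a00*a11*a23*a32) + a00*a13*a21*a32 + (-a00*a13*a22*a31) + (-a01*a10*a22*a33) + a01*a10*a23*a32 + (-a01*a12*a20*a33) + a01*a12*a23*a30 + a02*a11*a20*a33 + (-a02*a11*a23*a30) + (-a02*a13*a20*a31) + a02*a13*a21*a30 + (-a03*a10*a21*a32) + a03*a10*a22*a31 + a03*a12*a20*a31 + (-a03*a12*a21*a30) = 1 := by
  linear_combination (a21*a33 + a23*a31) * r01 + (a10*a32 + a11*a33 + a12*a30 + a13*a31) * r02 + (a10*a22 + a11*a23 + a12*a20 + a13*a21) * r03 + (1) * r13 + (a00*a12 + a02*a10) * r23 + ((-1) + a00*a10*a22*a32 + a00*a11*a22*a33 + a00*a12*a20*a32 + a00*a12*a21*a33 + a00*a13*a21*a32 + a01*a10*a23*a32 + a01*a11*a23*a33 + a01*a12*a23*a30 + a01*a13*a21*a33 + a01*a13*a23*a31 + (-a02*a10*a22*a30) + (-a02*a10*a23*a31) + (-a02*a11*a23*a30) + (-a02*a12*a20*a30) + (-a02*a13*a20*a31)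 + (-a03*a10*a21*a32) + (-a03*a11*a21*a33) + (-a03*a11*a23*a31) + (-a03*a12*a21*a30) + (-a03*a13*a21*a31) + (-a12*a30) + (-a13*a31)) * h2

theorem core_I1_21 (a00 a01 a02 a03 a10 a11 a12 a13 a20 a21 a22 a23 a30 a31 a32 a33 : R) (h2 : (2 : R) = 0) (r01 : (-a00*a12) + (-a01*a13) + a02*a10 + a03*a11 = 0) (r02 : 1 + (-a00*a22) + (-a01*a23) + a02*a20 + a03*a21 = 0) (r03 : (-a00*a32) + (-a01*a33) + a02*a30 + a03*a31 = 0) (r12 : (-a10*a22) + (-a11*a23) + a12*a20 + a13*a21 = 0) (r13 : 1 + (-a10*a32) + (-a11*a33) + a12*a30 + a13*a31 = 0) (r23 : (-a20*a32) + (-a21*a33) + a22*a30 + a23*a31 = 0) (c01 : (-a00*a21) + a01*a20 + (-a10*a31) + a11*a30 = 0) (c02 : 1 + (-a00*a22) + a02*a20 + (-a10*a32) + a12*a30 = 0) (c03 : (-a00*a23) + a03*a20 + (-a10*a33) + a13*a30 = 0) (c12 : (-a01*a22) + a02*a21 + (-a11*a32) + a12*a31 = 0) (c13 : 1 + (-a01*a23)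 + a03*a21 + (-a11*a33) + a13*a31 = 0) (c23 : (-a02*a23) + a03*a22 + (-a12*a33) + a13*a32 = 0) :
    a00*a21*a32*a33 + (-a00*a23*a31*a32) + (-a01*a20*a32*a33) + (-a01*a22*a30*a33) + 2*a01*a23*a30*a32 + a02*a21*a30*a33 + (-a02*a23*a30*a31) + a03*a20*a31*a32 + (-2)*a03*a21*a30*a32 + a03*a22*a30*a31 = 0 := by
  linear_combination (a20*a32 + a22*a30) * r03 + (a00*a32 + a02*a30) * r23 + (a00*a20*a32^2 + a00*a21*a32*a33 + (-a00*a23*a31*a32) + a01*a23*a30*a32 + a02*a21*a30*a33 + (-a02*a22*a30^2) + (-a02*a23*a30*a31) + (-a03*a21*a30*a32)) * h2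

theorem core_I1_23 (a00 a01 a02 a03 a10 a11 a12 a13 a20 a21 a22 a23 a30 a31 a32 a33 : R) (h2 : (2 : R) = 0) (r01 : (-a00*a12) + (-a01*a13) + a02*a10 + a03*a11 = 0) (r02 : 1 + (-a00*a22) + (-a01*a23) + a02*a20 + a03*a21 = 0) (r03 : (-a00*a32) + (-a01*a33) + a02*a30 + a03*a31 = 0) (r12 : (-a10*a22) + (-a11*a23) + a12*a20 + a13*a21 = 0) (r13 : 1 + (-a10*a32) + (-a11*a33) + a12*a30 + a13*a31 = 0) (r23 : (-a20*a32) + (-a21*a33) + a22*a30 + a23*a31 = 0) (c01 : (-a00*a21) + a01*a20 + (-a10*a31) + a11*a30 = 0) (c02 : 1 + (-a00*a22) + a02*a20 + (-a10*a32) + a12*a30 = 0) (c03 : (-a00*a23) + a03*a20 + (-a10*a33) + a13*a30 = 0) (c12 : (-a01*a22) + a02*a21 + (-a11*a32) + a12*a31 = 0) (c13 : 1 + (-a01*a23) + a03*a21 + (-a11*a33) + a13*a31 = 0) (c23 : (-a02*a23) + a03*a22 + (-a12*a33) + a13*a32 = 0) :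
    a10*a21*a22*a33 + (-a10*a22*a23*a31) + (-2)*a11*a20*a22*a33 + a11*a20*a23*a32 + a11*a22*a23*a30 + a12*a20*a21*a33 + (-a12*a20*a23*a31) + (-a13*a20*a21*a32) + 2*a13*a20*a22*a31 + (-a13*a21*a22*a30) = 0 := by
  linear_combination (a20*a32 + a22*a30) * r12 + (a10*a22 + a12*a20) * r23 + (a10*a20*a22*a32 + a10*a21*a22*a33 + (-a10*a22*a23*a31) + (-a11*a20*a22*a33) + a11*a20*a23*a32 + a11*a22*a23*a30 + a12*a20*a21*a33 + (-a12*a20*a22*a30) + (-a12*a20*a23*a31) + (-a13*a20*a21*a32) + a13*a20*a22*a31 + (-a13*a21*a22*a30)) * h2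

theorem core_I1_30 (a00 a01 a02 a03 a10 a11 a12 a13 a20 a21 a22 a23 a30 a31 a32 a33 : R) (h2 : (2 : R) = 0) (r01 : (-a00*a12) + (-a01*a13) + a02*a10 + a03*a11 = 0) (r02 : 1 + (-a00*a22) + (-a01*a23) + a02*a20 + a03*a21 = 0) (r03 : (-a00*a32) + (-a01*a33) + a02*a30 + a03*a31 = 0) (r12 : (-a10*a22) + (-a11*a23) + a12*a20 + a13*a21 = 0) (r13 : 1 + (-a10*a32) + (-a11*a33) + a12*a30 + a13*a31 = 0) (r23 : (-a20*a32) + (-a21*a33) + a22*a30 + a23*a31 = 0) (c01 : (-a00*a21) + a01*a20 + (-a10*a31) + a11*a30 = 0) (c02 : 1 + (-a00*a22) + a02*a20 + (-a10*a32) + a12*a30 = 0) (c03 : (-a00*a23) + a03*a20 + (-a10*a33) + a13*a30 = 0) (c12 : (-a01*a22) + a02*a21 + (-a11*a32) + a12*a31 = 0) (c13 : 1 + (-a01*a23) + a03*a21 + (-a11*a33) + a13*a31 = 0) (c23 : (-a02*a23) + a03*a22 + (-a12*a33) + a13*a32 = 0) :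
    a00*a11*a12*a23 + (-a00*a12*a13*a21) + (-2)*a01*a10*a12*a23 + a01*a10*a13*a22 + a01*a12*a13*a20 + a02*a10*a11*a23 + (-a02*a10*a13*a21) + (-a03*a10*a11*a22) + 2*a03*a10*a12*a21 + (-a03*a11*a12*a20) = 0 := by
  linear_combination (a10*a22 + a12*a20) * r01 + (a00*a12 + a02*a10) * r12 + (a00*a10*a12*a22 + a00*a11*a12*a23 + (-a00*a12*a13*a21) + (-a01*a10*a12*a23) + a01*a10*a13*a22 + a01*a12*a13*a20 + a02*a10*a11*a23 + (-a02*a10*a12*a20) + (-a02*a10*a13*a21) + (-a03*a10*a11*a22) + a03*a10*a12*a21 + (-a03*a11*a12*a20)) * h2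

theorem core_I1_31 (a00 a01 a02 a03 a10 a11 a12 a13 a20 a21 a22 a23 a30 a31 a32 a33 : R) (h2 : (2 : R) = 0) (r01 : (-a00*a12) + (-a01*a13) + a02*a10 + a03*a11 = 0) (r02 : 1 + (-a00*a22) + (-a01*a23) + a02*a20 + a03*a21 = 0) (r03 : (-a00*a32) + (-a01*a33) + a02*a30 + a03*a31 = 0) (r12 : (-a10*a22) + (-a11*a23) + a12*a20 + a13*a21 = 0) (r13 : 1 + (-a10*a32) + (-a11*a33) + a12*a30 + a13*a31 = 0) (r23 : (-a20*a32) + (-a21*a33) + a22*a30 + a23*a31 = 0) (c01 : (-a00*a21) + a01*a20 + (-a10*a31) + a11*a30 = 0) (c02 : 1 + (-a00*a22) + a02*a20 + (-a10*a32) + a12*a30 = 0) (c03 : (-a00*a23) + a03*a20 + (-a10*a33) + a13*a30 = 0) (c12 : (-a01*a22) + a02*a21 + (-a11*a32) + a12*a31 = 0) (c13 : 1 + (-a01*a23) + a03*a21 + (-a11*a33) + a13*a31 = 0) (c23 : (-a02*a23) + a03*a22 + (-a12*a33) + a13*a32 = 0) :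
    a00*a11*a22*a33 + (-a00*a12*a21*a33) + a00*a12*a23*a31 + (-a00*a13*a22*a31) + (-a01*a10*a23*a32) + (-a01*a12*a23*a30) + a01*a13*a20*a32 + a01*a13*a22*a30 + (-a02*a10*a21*a33) + a02*a10*a23*a31 + a02*a11*a20*a33 + (-a02*a13*a20*a31) + a03*a10*a21*a32 + (-a03*a11*a20*a32) + (-a03*a11*a22*a30) + a03*a12*a21*a30 = 1 := by
  linear_combination (a20*a32 + a21*a33 + a22*a30 + a23*a31) * r01 + (a10*a32 + a11*a33 + a12*a30 + a13*a31) * r02 + (a11*a23 + a13*a21) * r03 + (a00*a32 + a02*a30) * r12 + (1) * r13 + ((-1) + a00*a10*a22*a32 + a00*a11*a22*a33 + a00*a11*a23*a32 + a00*a12*a22*a30 + a00*a12*a23*a31 + a01*a11*a23*a33 + a01*a13*a20*a32 + a01*a13*a21*a33 + a01*a13*a22*a30 + a01*a13*a23*a31 + (-a02*a10*a20*a32) + (-a02*a10*a21*a33) + (-a02*a12*a20*a30) + (-a02*a13*a20*a31) + (-a02*a13*a21*a30) + (-a03*a11*a20*a32) + (-a03*a11*a21*a33)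 + (-a03*a11*a22*a30) + (-a03*a11*a23*a31) + (-a03*a13*a21*a31) + (-a12*a30) + (-a13*a31)) * h2

theorem core_I1_32 (a00 a01 a02 a03 a10 a11 a12 a13 a20 a21 a22 a23 a30 a31 a32 a33 : R) (h2 : (2 : R) = 0) (r01 : (-a00*a12) + (-a01*a13) + a02*a10 + a03*a11 = 0) (r02 : 1 + (-a00*a22) + (-a01*a23) + a02*a20 + a03*a21 = 0) (r03 : (-a00*a32) + (-a01*a33) + a02*a30 + a03*a31 = 0) (r12 : (-a10*a22) + (-a11*a23) + a12*a20 + a13*a21 = 0) (r13 : 1 + (-a10*a32) + (-a11*a33) + a12*a30 + a13*a31 = 0) (r23 : (-a20*a32) + (-a21*a33) + a22*a30 + a23*a31 = 0) (c01 : (-a00*a21) + a01*a20 + (-a10*a31) + a11*a30 = 0) (c02 : 1 + (-a00*a22) + a02*a20 + (-a10*a32) + a12*a30 = 0) (c03 : (-a00*a23) + a03*a20 + (-a10*a33) + a13*a30 = 0) (c12 : (-a01*a22) + a02*a21 + (-a11*a32) + a12*a31 = 0) (c13 : 1 + (-a01*a23) + a03*a21 + (-a11*a33) + a13*a31 = 0) (c23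 : (-a02*a23) + a03*a22 + (-a12*a33) + a13*a32 = 0) :
    (-a10*a21*a22*a33) + a10*a22*a23*a31 + 2*a11*a20*a22*a33 + (-a11*a20*a23*a32) + (-a11*a22*a23*a30) + (-a12*a20*a21*a33) + a12*a20*a23*a31 + a13*a20*a21*a32 + (-2)*a13*a20*a22*a31 + a13*a21*a22*a30 = 0 := by
  linear_combination (a20*a32 + a22*a30) * r12 + (a10*a22 + a12*a20) * r23 + (a10*a20*a22*a32 + a11*a20*a22*a33 + (-a12*a20*a22*a30) + (-a13*a20*a22*a31)) * h2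

theorem core_I2_00 (a00 a01 a02 a03 a10 a11 a12 a13 a20 a21 a22 a23 a30 a31 a32 a33 b00 b01 b02 b03 b10 b11 b12 b13 b20 b21 b22 b23 b30 b31 b32 b33 : R) (h2 : (2 : R) = 0) (Ar01 : (-a00*a12) + (-a01*a13) + a02*a10 + a03*a11 = 0) (Ar02 : 1 + (-a00*a22) + (-a01*a23) + a02*a20 + a03*a21 = 0) (Ar03 : (-a00*a32) + (-a01*a33) + a02*a30 + a03*a31 = 0) (Ar12 : (-a10*a22) + (-a11*a23) + a12*a20 + a13*a21 = 0) (Ar13 : 1 + (-a10*a32) + (-a11*a33) + a12*a30 + a13*a31 = 0) (Ar23 : (-a20*a32) + (-a21*a33) + a22*a30 + a23*a31 = 0) (Ac01 : (-a00*a21) + a01*a20 + (-a10*a31) + a11*a30 = 0) (Ac02 : 1 + (-a00*a22) + a02*a20 + (-a10*a32) + a12*a30 = 0) (Ac03 : (-a00*a23) + a03*a20 + (-a10*a33) + a13*a30 = 0) (Ac12 : (-a01*a22) + a02*a21 + (-a11*a32) + a12*a31 = 0) (Ac13 : 1 + (-a01*a23) + a03*a21 + (-a11*a33) + a13*a31 = 0) (Ac23 : (-a02*a23) + a03*a22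 + (-a12*a33) + a13*a32 = 0) (Br01 : (-b00*b12) + (-b01*b13) + b02*b10 + b03*b11 = 0) (Br02 : 1 + (-b00*b22) + (-b01*b23) + b02*b20 + b03*b21 = 0) (Br03 : (-b00*b32) + (-b01*b33) + b02*b30 + b03*b31 = 0) (Br12 : (-b10*b22) + (-b11*b23) + b12*b20 + b13*b21 = 0) (Br13 : 1 + (-b10*b32) + (-b11*b33) + b12*b30 + b13*b31 = 0) (Br23 : (-b20*b32) + (-b21*b33) + b22*b30 + b23*b31 = 0) (Bc01 : (-b00*b21) + b01*b20 + (-b10*b31) + b11*b30 = 0) (Bc02 : 1 + (-b00*b22) + b02*b20 + (-b10*b32) + b12*b30 = 0) (Bc03 : (-b00*b23) + b03*b20 + (-b10*b33) + b13*b30 = 0) (Bc12 : (-b01*b22) + b02*b21 + (-b11*b32) + b12*b31 = 0) (Bc13 : 1 + (-b01*b23) + b03*b21 + (-b11*b33) + b13*b31 = 0) (Bc23 : (-b02*b23) + b03*b22 + (-b12*b33) + b13*b32 = 0) :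
    a00*a11*b00*b11 + (-a00*a11*b01*b10) + a00*a12*b00*b21 + (-a00*a12*b01*b20) + a00*a13*b00*b31 + (-a00*a13*b01*b30) + (-a01*a10*b00*b11) + a01*a10*b01*b10 + a01*a12*b10*b21 + (-a01*a12*b11*b20) + a01*a13*b10*b31 + (-a01*a13*b11*b30) + (-a02*a10*b00*b21) + a02*a10*b01*b20 + (-a02*a11*b10*b21) + a02*a11*b11*b20 + a02*a13*b20*b31 + (-a02*a13*b21*b30) + (-a03*a10*b00*b31) + a03*a10*b01*b30 + (-a03*a11*b10*b31) + a03*a11*b11*b30 + (-a03*a12*b20*b31) + a03*a12*b21*b30 = a00*a11*b00*b11 + (-a00*a11*b01*b10) + a00*a13*b00*b31 + (-a00*a13*b01*b30) + (-a01*a10*b00*b11) + a01*a10*b01*b10 + a01*a12*b10*b21 + (-a01*a12*b11*b20) + (-a02*a11*b10*b21) + a02*a11*b11*b20 + a02*a13*b20*b31 + (-a02*a13*b21*b30) + (-a03*a10*b00*b31) + a03*a10*b01*b30 + (-a03*a12*b20*b31) + a03*a12*b21*b30 := by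
  linear_combination (b10*b31 + b11*b30) * Ar01 + (a00*a12 + a02*a10) * Bc01 + (a00*a12*b00*b21 + (-a00*a12*b01*b20) + a00*a12*b10*b31 + a01*a13*b10*b31 + (-a02*a10*b11*b30) + (-a03*a11*b10*b31)) * h2

theorem core_I2_01 (a00 a01 a02 a03 a10 a11 a12 a13 a20 a21 a22 a23 a30 a31 a32 a33 b00 b01 b02 b03 b10 b11 b12 b13 b20 b21 b22 b23 b30 b31 b32 b33 : R) (h2 : (2 : R) = 0) (Ar01 : (-a00*a12) + (-a01*a13) + a02*a10 + a03*a11 = 0) (Ar02 : 1 + (-a00*a22) + (-a01*a23) + a02*a20 + a03*a21 = 0) (Ar03 : (-a00*a32) + (-a01*a33) + a02*a30 + a03*a31 = 0) (Ar12 : (-a10*a22) + (-a11*a23) + a12*a20 + a13*a21 = 0) (Ar13 : 1 + (-a10*a32) + (-a11*a33) + a12*a30 + a13*a31 = 0) (Ar23 : (-a20*a32) + (-a21*a33) + a22*a30 + a23*a31 = 0) (Ac01 : (-a00*a21) + a01*a20 + (-a10*a31) + a11*a30 = 0) (Ac02 : 1 + (-a00*a22) + a02*a20 + (-a10*a32) + a12*a30 =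 0) (Ac03 : (-a00*a23) + a03*a20 + (-a10*a33) + a13*a30 = 0) (Ac12 : (-a01*a22) + a02*a21 + (-a11*a32) + a12*a31 = 0) (Ac13 : 1 + (-a01*a23) + a03*a21 + (-a11*a33) + a13*a31 = 0) (Ac23 : (-a02*a23) + a03*a22 + (-a12*a33) + a13*a32 = 0) (Br01 : (-b00*b12) + (-b01*b13) + b02*b10 + b03*b11 = 0) (Br02 : 1 + (-b00*b22) + (-b01*b23) + b02*b20 + b03*b21 = 0) (Br03 : (-b00*b32) + (-b01*b33) + b02*b30 + b03*b31 = 0) (Br12 : (-b10*b22) + (-b11*b23) + b12*b20 + b13*b21 = 0) (Br13 : 1 + (-b10*b32) + (-b11*b33) + b12*b30 + b13*b31 = 0) (Br23 : (-b20*b32) + (-b21*b33) + b22*b30 + b23*b31 = 0) (Bc01 : (-b00*b21) + b01*b20 + (-b10*b31) + b11*b30 = 0) (Bc02 : 1 + (-b00*b22) + b02*b20 + (-b10*b32) + b12*b30 = 0) (Bc03 : (-b00*b23) + b03*b20 + (-b10*b33) + b13*b30 = 0) (Bc12 : (-b01*b22) + b02*b21 + (-b11*b32) + b12*b31 = 0) (Bc13 : 1 + (-b01*b23)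 + b03*b21 + (-b11*b33) + b13*b31 = 0) (Bc23 : (-b02*b23) + b03*b22 + (-b12*b33) + b13*b32 = 0) :
    a00*a11*b00*b13 + (-a00*a11*b03*b10) + a00*a12*b00*b23 + (-a00*a12*b03*b20) + a00*a13*b00*b33 + (-a00*a13*b03*b30) + (-a01*a10*b00*b13) + a01*a10*b03*b10 + a01*a12*b10*b23 + (-a01*a12*b13*b20) + a01*a13*b10*b33 + (-a01*a13*b13*b30) + (-a02*a10*b00*b23) + a02*a10*b03*b20 + (-a02*a11*b10*b23) + a02*a11*b13*b20 + a02*a13*b20*b33 + (-a02*a13*b23*b30) + (-a03*a10*b00*b33) + a03*a10*b03*b30 + (-a03*a11*b10*b33) + a03*a11*b13*b30 + (-a03*a12*b20*b33) + a03*a12*b23*b30 = a00*a11*b00*b13 + (-a00*a11*b03*b10) + a00*a13*b00*b33 + (-a00*a13*b03*b30) + (-a01*a10*b00*b13) + a01*a10*b03*b10 + a01*a12*b10*b23 + (-a01*a12*b13*b20) + (-a02*a11*b10*b23) + a02*a11*b13*b20 + a02*a13*b20*b33 + (-a02*a13*b23*b30) + (-a03*a10*b00*b33) + a03*a10*b03*b30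 + (-a03*a12*b20*b33) + a03*a12*b23*b30 := by
  linear_combination (b10*b33 + b13*b30) * Ar01 + (a00*a12 + a02*a10) * Bc03 + (a00*a12*b00*b23 + (-a00*a12*b03*b20) + a00*a12*b10*b33 + a01*a13*b10*b33 + (-a02*a10*b13*b30) + (-a03*a11*b10*b33)) * h2

theorem core_I2_02 (a00 a01 a02 a03 a10 a11 a12 a13 a20 a21 a22 a23 a30 a31 a32 a33 b00 b01 b02 b03 b10 b11 b12 b13 b20 b21 b22 b23 b30 b31 b32 b33 : R) (h2 : (2 : R) = 0) (Ar01 : (-a00*a12) + (-a01*a13) + a02*a10 + a03*a11 = 0) (Ar02 : 1 + (-a00*a22) + (-a01*a23) + a02*a20 + a03*a21 = 0) (Ar03 : (-a00*a32) + (-a01*a33) + a02*a30 + a03*a31 = 0) (Ar12 : (-a10*a22) + (-a11*a23) + a12*a20 + a13*a21 = 0) (Ar13 : 1 + (-a10*a32) + (-a11*a33) + a12*a30 + a13*a31 = 0) (Ar23 : (-a20*a32) + (-a21*a33) + a22*a30 + a23*a31 = 0) (Ac01 : (-a00*a21) + a01*a20 + (-a10*a31) + a11*a30 = 0) (Ac02 : 1 +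 (-a00*a22) + a02*a20 + (-a10*a32) + a12*a30 = 0) (Ac03 : (-a00*a23) + a03*a20 + (-a10*a33) + a13*a30 = 0) (Ac12 : (-a01*a22) + a02*a21 + (-a11*a32) + a12*a31 = 0) (Ac13 : 1 + (-a01*a23) + a03*a21 + (-a11*a33) + a13*a31 = 0) (Ac23 : (-a02*a23) + a03*a22 + (-a12*a33) + a13*a32 = 0) (Br01 : (-b00*b12) + (-b01*b13) + b02*b10 + b03*b11 = 0) (Br02 : 1 + (-b00*b22) + (-b01*b23) + b02*b20 + b03*b21 = 0) (Br03 : (-b00*b32) + (-b01*b33) + b02*b30 + b03*b31 = 0) (Br12 : (-b10*b22) + (-b11*b23) + b12*b20 + b13*b21 = 0) (Br13 : 1 + (-b10*b32) + (-b11*b33) + b12*b30 + b13*b31 = 0) (Br23 : (-b20*b32) + (-b21*b33) + b22*b30 + b23*b31 = 0) (Bc01 : (-b00*b21) + b01*b20 + (-b10*b31) + b11*b30 = 0) (Bc02 : 1 + (-b00*b22) + b02*b20 + (-b10*b32) + b12*b30 = 0) (Bc03 : (-b00*b23) + b03*b20 + (-b10*b33) + b13*b30 = 0) (Bc12 : (-b01*b22) + b02*b21 + (-b11*b32)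 + b12*b31 = 0) (Bc13 : 1 + (-b01*b23) + b03*b21 + (-b11*b33) + b13*b31 = 0) (Bc23 : (-b02*b23) + b03*b22 + (-b12*b33) + b13*b32 = 0) :
    a00*a11*b02*b13 + (-a00*a11*b03*b12) + a00*a12*b02*b23 + (-a00*a12*b03*b22) + a00*a13*b02*b33 + (-a00*a13*b03*b32) + (-a01*a10*b02*b13) + a01*a10*b03*b12 + a01*a12*b12*b23 + (-a01*a12*b13*b22) + a01*a13*b12*b33 + (-a01*a13*b13*b32) + (-a02*a10*b02*b23) + a02*a10*b03*b22 + (-a02*a11*b12*b23) + a02*a11*b13*b22 + a02*a13*b22*b33 + (-a02*a13*b23*b32) + (-a03*a10*b02*b33) + a03*a10*b03*b32 + (-a03*a11*b12*b33) + a03*a11*b13*b32 + (-a03*a12*b22*b33) + a03*a12*b23*b32 = a00*a11*b02*b13 + (-a00*a11*b03*b12) + a00*a13*b02*b33 + (-a00*a13*b03*b32) + (-a01*a10*b02*b13) + a01*a10*b03*b12 + a01*a12*b12*b23 + (-a01*a12*b13*b22) + (-a02*a11*b12*b23) + a02*a11*b13*b22 + a02*a13*b22*b33 + (-a02*a13*b23*b32)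 + (-a03*a10*b02*b33) + a03*a10*b03*b32 + (-a03*a12*b22*b33) + a03*a12*b23*b32 := by
  linear_combination (b12*b33 + b13*b32) * Ar01 + (a00*a12 + a02*a10) * Bc23 + (a00*a12*b02*b23 + (-a00*a12*b03*b22) + a00*a12*b12*b33 + a01*a13*b12*b33 + (-a02*a10*b13*b32) + (-a03*a11*b12*b33)) * h2

theorem core_I2_03 (a00 a01 a02 a03 a10 a11 a12 a13 a20 a21 a22 a23 a30 a31 a32 a33 b00 b01 b02 b03 b10 b11 b12 b13 b20 b21 b22 b23 b30 b31 b32 b33 : R) (h2 : (2 : R) = 0) (Ar01 : (-a00*a12) + (-a01*a13) + a02*a10 + a03*a11 = 0) (Ar02 : 1 + (-a00*a22) + (-a01*a23) + a02*a20 + a03*a21 = 0) (Ar03 : (-a00*a32) + (-a01*a33) + a02*a30 + a03*a31 = 0) (Ar12 : (-a10*a22) + (-a11*a23) + a12*a20 + a13*a21 = 0) (Ar13 : 1 + (-a10*a32) + (-a11*a33) + a12*a30 + a13*a31 = 0) (Ar23 : (-a20*a32) + (-a21*a33) + a22*a30 + a23*a31 = 0) (Ac01 : (-a00*a21) + a01*a20 +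 (-a10*a31) + a11*a30 = 0) (Ac02 : 1 + (-a00*a22) + a02*a20 + (-a10*a32) + a12*a30 = 0) (Ac03 : (-a00*a23) + a03*a20 + (-a10*a33) + a13*a30 = 0) (Ac12 : (-a01*a22) + a02*a21 + (-a11*a32) + a12*a31 = 0) (Ac13 : 1 + (-a01*a23) + a03*a21 + (-a11*a33) + a13*a31 = 0) (Ac23 : (-a02*a23) + a03*a22 + (-a12*a33) + a13*a32 = 0) (Br01 : (-b00*b12) + (-b01*b13) + b02*b10 + b03*b11 = 0) (Br02 : 1 + (-b00*b22) + (-b01*b23) + b02*b20 + b03*b21 = 0) (Br03 : (-b00*b32) + (-b01*b33) + b02*b30 + b03*b31 = 0) (Br12 : (-b10*b22) + (-b11*b23) + b12*b20 + b13*b21 = 0) (Br13 : 1 + (-b10*b32) + (-b11*b33) + b12*b30 + b13*b31 = 0) (Br23 : (-b20*b32) + (-b21*b33) + b22*b30 + b23*b31 = 0) (Bc01 : (-b00*b21) + b01*b20 + (-b10*b31) + b11*b30 = 0) (Bc02 : 1 + (-b00*b22) + b02*b20 + (-b10*b32) + b12*b30 = 0) (Bc03 : (-b00*b23) + b03*b20 + (-b10*b33) + b13*b30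 = 0) (Bc12 : (-b01*b22) + b02*b21 + (-b11*b32) + b12*b31 = 0) (Bc13 : 1 + (-b01*b23) + b03*b21 + (-b11*b33) + b13*b31 = 0) (Bc23 : (-b02*b23) + b03*b22 + (-b12*b33) + b13*b32 = 0) :
    a00*a11*b01*b12 + (-a00*a11*b02*b11) + a00*a12*b01*b22 + (-a00*a12*b02*b21) + a00*a13*b01*b32 + (-a00*a13*b02*b31) + (-a01*a10*b01*b12) + a01*a10*b02*b11 + a01*a12*b11*b22 + (-a01*a12*b12*b21) + a01*a13*b11*b32 + (-a01*a13*b12*b31) + (-a02*a10*b01*b22) + a02*a10*b02*b21 + (-a02*a11*b11*b22) + a02*a11*b12*b21 + a02*a13*b21*b32 + (-a02*a13*b22*b31) + (-a03*a10*b01*b32) + a03*a10*b02*b31 + (-a03*a11*b11*b32) + a03*a11*b12*b31 + (-a03*a12*b21*b32) + a03*a12*b22*b31 = a00*a11*b01*b12 + (-a00*a11*b02*b11) + a00*a13*b01*b32 + (-a00*a13*b02*b31) + (-a01*a10*b01*b12) + a01*a10*b02*b11 + a01*a12*b11*b22 + (-a01*a12*b12*b21) + (-a02*a11*b11*b22) + a02*a11*b12*b21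 + a02*a13*b21*b32 + (-a02*a13*b22*b31) + (-a03*a10*b01*b32) + a03*a10*b02*b31 + (-a03*a12*b21*b32) + a03*a12*b22*b31 := by
  linear_combination (b11*b32 + b12*b31) * Ar01 + (a00*a12 + a02*a10) * Bc12 + (a00*a12*b01*b22 + (-a00*a12*b02*b21) + a00*a12*b11*b32 + a01*a13*b11*b32 + (-a02*a10*b12*b31) + (-a03*a11*b11*b32)) * h2

theorem core_I2_10 (a00 a01 a02 a03 a10 a11 a12 a13 a20 a21 a22 a23 a30 a31 a32 a33 b00 b01 b02 b03 b10 b11 b12 b13 b20 b21 b22 b23 b30 b31 b32 b33 : R) (h2 : (2 : R) = 0) (Ar01 : (-a00*a12) + (-a01*a13) + a02*a10 + a03*a11 = 0) (Ar02 : 1 + (-a00*a22) + (-a01*a23) + a02*a20 + a03*a21 = 0) (Ar03 : (-a00*a32) + (-a01*a33) + a02*a30 + a03*a31 = 0) (Ar12 : (-a10*a22) + (-a11*a23) + a12*a20 + a13*a21 = 0) (Ar13 : 1 + (-a10*a32) + (-a11*a33) + a12*a30 + a13*a31 = 0) (Ar23 : (-a20*a32) + (-a21*a33) + a22*a30 + a23*a31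 = 0) (Ac01 : (-a00*a21) + a01*a20 + (-a10*a31) + a11*a30 = 0) (Ac02 : 1 + (-a00*a22) + a02*a20 + (-a10*a32) + a12*a30 = 0) (Ac03 : (-a00*a23) + a03*a20 + (-a10*a33) + a13*a30 = 0) (Ac12 : (-a01*a22) + a02*a21 + (-a11*a32) + a12*a31 = 0) (Ac13 : 1 + (-a01*a23) + a03*a21 + (-a11*a33) + a13*a31 = 0) (Ac23 : (-a02*a23) + a03*a22 + (-a12*a33) + a13*a32 = 0) (Br01 : (-b00*b12) + (-b01*b13) + b02*b10 + b03*b11 = 0) (Br02 : 1 + (-b00*b22) + (-b01*b23) + b02*b20 + b03*b21 = 0) (Br03 : (-b00*b32) + (-b01*b33) + b02*b30 + b03*b31 = 0) (Br12 : (-b10*b22) + (-b11*b23) + b12*b20 + b13*b21 = 0) (Br13 : 1 + (-b10*b32) + (-b11*b33) + b12*b30 + b13*b31 = 0) (Br23 : (-b20*b32) + (-b21*b33) + b22*b30 + b23*b31 = 0) (Bc01 : (-b00*b21) + b01*b20 + (-b10*b31) + b11*b30 = 0) (Bc02 : 1 + (-b00*b22) + b02*b20 + (-b10*b32) + b12*b30 = 0) (Bc03 : (-b00*b23)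 + b03*b20 + (-b10*b33) + b13*b30 = 0) (Bc12 : (-b01*b22) + b02*b21 + (-b11*b32) + b12*b31 = 0) (Bc13 : 1 + (-b01*b23) + b03*b21 + (-b11*b33) + b13*b31 = 0) (Bc23 : (-b02*b23) + b03*b22 + (-b12*b33) + b13*b32 = 0) :
    a00*a31*b00*b11 + (-a00*a31*b01*b10) + a00*a32*b00*b21 + (-a00*a32*b01*b20) + a00*a33*b00*b31 + (-a00*a33*b01*b30) + (-a01*a30*b00*b11) + a01*a30*b01*b10 + a01*a32*b10*b21 + (-a01*a32*b11*b20) + a01*a33*b10*b31 + (-a01*a33*b11*b30) + (-a02*a30*b00*b21) + a02*a30*b01*b20 + (-a02*a31*b10*b21) + a02*a31*b11*b20 + a02*a33*b20*b31 + (-a02*a33*b21*b30) + (-a03*a30*b00*b31) + a03*a30*b01*b30 + (-a03*a31*b10*b31) + a03*a31*b11*b30 + (-a03*a32*b20*b31) + a03*a32*b21*b30 = a00*a31*b00*b11 + (-a00*a31*b01*b10) + a00*a33*b00*b31 + (-a00*a33*b01*b30) + (-a01*a30*b00*b11) + a01*a30*b01*b10 + a01*a32*b10*b21 + (-a01*a32*b11*b20)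 + (-a02*a31*b10*b21) + a02*a31*b11*b20 + a02*a33*b20*b31 + (-a02*a33*b21*b30) + (-a03*a30*b00*b31) + a03*a30*b01*b30 + (-a03*a32*b20*b31) + a03*a32*b21*b30 := by
  linear_combination (b10*b31 + b11*b30) * Ar03 + (a00*a32 + a02*a30) * Bc01 + (a00*a32*b00*b21 + (-a00*a32*b01*b20) + a00*a32*b10*b31 + a01*a33*b10*b31 + (-a02*a30*b11*b30) + (-a03*a31*b10*b31)) * h2

theorem core_I2_11 (a00 a01 a02 a03 a10 a11 a12 a13 a20 a21 a22 a23 a30 a31 a32 a33 b00 b01 b02 b03 b10 b11 b12 b13 b20 b21 b22 b23 b30 b31 b32 b33 : R) (h2 : (2 : R) = 0) (Ar01 : (-a00*a12) + (-a01*a13) + a02*a10 + a03*a11 = 0) (Ar02 : 1 + (-a00*a22) + (-a01*a23) + a02*a20 + a03*a21 = 0) (Ar03 : (-a00*a32) + (-a01*a33) + a02*a30 + a03*a31 = 0) (Ar12 : (-a10*a22) + (-a11*a23) + a12*a20 + a13*a21 = 0) (Ar13 : 1 + (-a10*a32) + (-a11*a33) + a12*a30 + a13*a31 = 0) (Ar23 : (-a20*a32)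 + (-a21*a33) + a22*a30 + a23*a31 = 0) (Ac01 : (-a00*a21) + a01*a20 + (-a10*a31) + a11*a30 = 0) (Ac02 : 1 + (-a00*a22) + a02*a20 + (-a10*a32) + a12*a30 = 0) (Ac03 : (-a00*a23) + a03*a20 + (-a10*a33) + a13*a30 = 0) (Ac12 : (-a01*a22) + a02*a21 + (-a11*a32) + a12*a31 = 0) (Ac13 : 1 + (-a01*a23) + a03*a21 + (-a11*a33) + a13*a31 = 0) (Ac23 : (-a02*a23) + a03*a22 + (-a12*a33) + a13*a32 = 0) (Br01 : (-b00*b12) + (-b01*b13) + b02*b10 + b03*b11 = 0) (Br02 : 1 + (-b00*b22) + (-b01*b23) + b02*b20 + b03*b21 = 0) (Br03 : (-b00*b32) + (-b01*b33) + b02*b30 + b03*b31 = 0) (Br12 : (-b10*b22) + (-b11*b23) + b12*b20 + b13*b21 = 0) (Br13 : 1 + (-b10*b32) + (-b11*b33) + b12*b30 + b13*b31 = 0) (Br23 : (-b20*b32) + (-b21*b33) + b22*b30 + b23*b31 = 0) (Bc01 : (-b00*b21) + b01*b20 + (-b10*b31) + b11*b30 = 0) (Bc02 : 1 + (-b00*b22) + b02*b20 + (-b10*b32)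 + b12*b30 = 0) (Bc03 : (-b00*b23) + b03*b20 + (-b10*b33) + b13*b30 = 0) (Bc12 : (-b01*b22) + b02*b21 + (-b11*b32) + b12*b31 = 0) (Bc13 : 1 + (-b01*b23) + b03*b21 + (-b11*b33) + b13*b31 = 0) (Bc23 : (-b02*b23) + b03*b22 + (-b12*b33) + b13*b32 = 0) :
    a00*a31*b00*b13 + (-a00*a31*b03*b10) + a00*a32*b00*b23 + (-a00*a32*b03*b20) + a00*a33*b00*b33 + (-a00*a33*b03*b30) + (-a01*a30*b00*b13) + a01*a30*b03*b10 + a01*a32*b10*b23 + (-a01*a32*b13*b20) + a01*a33*b10*b33 + (-a01*a33*b13*b30) + (-a02*a30*b00*b23) + a02*a30*b03*b20 + (-a02*a31*b10*b23) + a02*a31*b13*b20 + a02*a33*b20*b33 + (-a02*a33*b23*b30) + (-a03*a30*b00*b33) + a03*a30*b03*b30 + (-a03*a31*b10*b33) + a03*a31*b13*b30 + (-a03*a32*b20*b33) + a03*a32*b23*b30 = a00*a31*b00*b13 + (-a00*a31*b03*b10) + a00*a33*b00*b33 + (-a00*a33*b03*b30) + (-a01*a30*b00*b13) + a01*a30*b03*b10 +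 a01*a32*b10*b23 + (-a01*a32*b13*b20) + (-a02*a31*b10*b23) + a02*a31*b13*b20 + a02*a33*b20*b33 + (-a02*a33*b23*b30) + (-a03*a30*b00*b33) + a03*a30*b03*b30 + (-a03*a32*b20*b33) + a03*a32*b23*b30 := by
  linear_combination (b10*b33 + b13*b30) * Ar03 + (a00*a32 + a02*a30) * Bc03 + (a00*a32*b00*b23 + (-a00*a32*b03*b20) + a00*a32*b10*b33 + a01*a33*b10*b33 + (-a02*a30*b13*b30) + (-a03*a31*b10*b33)) * h2

theorem core_I2_12 (a00 a01 a02 a03 a10 a11 a12 a13 a20 a21 a22 a23 a30 a31 a32 a33 b00 b01 b02 b03 b10 b11 b12 b13 b20 b21 b22 b23 b30 b31 b32 b33 : R) (h2 : (2 : R) = 0) (Ar01 : (-a00*a12) + (-a01*a13) + a02*a10 + a03*a11 = 0) (Ar02 : 1 + (-a00*a22) + (-a01*a23) + a02*a20 + a03*a21 = 0) (Ar03 : (-a00*a32) + (-a01*a33) + a02*a30 + a03*a31 = 0) (Ar12 : (-a10*a22) + (-a11*a23) + a12*a20 + a13*a21 = 0) (Ar13 : 1 + (-a10*a32) + (-a11*a33)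 + a12*a30 + a13*a31 = 0) (Ar23 : (-a20*a32) + (-a21*a33) + a22*a30 + a23*a31 = 0) (Ac01 : (-a00*a21) + a01*a20 + (-a10*a31) + a11*a30 = 0) (Ac02 : 1 + (-a00*a22) + a02*a20 + (-a10*a32) + a12*a30 = 0) (Ac03 : (-a00*a23) + a03*a20 + (-a10*a33) + a13*a30 = 0) (Ac12 : (-a01*a22) + a02*a21 + (-a11*a32) + a12*a31 = 0) (Ac13 : 1 + (-a01*a23) + a03*a21 + (-a11*a33) + a13*a31 = 0) (Ac23 : (-a02*a23) + a03*a22 + (-a12*a33) + a13*a32 = 0) (Br01 : (-b00*b12) + (-b01*b13) + b02*b10 + b03*b11 = 0) (Br02 : 1 + (-b00*b22) + (-b01*b23) + b02*b20 + b03*b21 = 0) (Br03 : (-b00*b32) + (-b01*b33) + b02*b30 + b03*b31 = 0) (Br12 : (-b10*b22) + (-b11*b23) + b12*b20 + b13*b21 = 0) (Br13 : 1 + (-b10*b32) + (-b11*b33) + b12*b30 + b13*b31 = 0) (Br23 : (-b20*b32) + (-b21*b33) + b22*b30 + b23*b31 = 0) (Bc01 : (-b00*b21) + b01*b20 + (-b10*b31) + b11*b30 = 0)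 (Bc02 : 1 + (-b00*b22) + b02*b20 + (-b10*b32) + b12*b30 = 0) (Bc03 : (-b00*b23) + b03*b20 + (-b10*b33) + b13*b30 = 0) (Bc12 : (-b01*b22) + b02*b21 + (-b11*b32) + b12*b31 = 0) (Bc13 : 1 + (-b01*b23) + b03*b21 + (-b11*b33) + b13*b31 = 0) (Bc23 : (-b02*b23) + b03*b22 + (-b12*b33) + b13*b32 = 0) :
    a00*a31*b02*b13 + (-a00*a31*b03*b12) + a00*a32*b02*b23 + (-a00*a32*b03*b22) + a00*a33*b02*b33 + (-a00*a33*b03*b32) + (-a01*a30*b02*b13) + a01*a30*b03*b12 + a01*a32*b12*b23 + (-a01*a32*b13*b22) + a01*a33*b12*b33 + (-a01*a33*b13*b32) + (-a02*a30*b02*b23) + a02*a30*b03*b22 + (-a02*a31*b12*b23) + a02*a31*b13*b22 + a02*a33*b22*b33 + (-a02*a33*b23*b32) + (-a03*a30*b02*b33) + a03*a30*b03*b32 + (-a03*a31*b12*b33) + a03*a31*b13*b32 + (-a03*a32*b22*b33) + a03*a32*b23*b32 = a00*a31*b02*b13 + (-a00*a31*b03*b12) + a00*a33*b02*b33 + (-a00*a33*b03*b32)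 + (-a01*a30*b02*b13) + a01*a30*b03*b12 + a01*a32*b12*b23 + (-a01*a32*b13*b22) + (-a02*a31*b12*b23) + a02*a31*b13*b22 + a02*a33*b22*b33 + (-a02*a33*b23*b32) + (-a03*a30*b02*b33) + a03*a30*b03*b32 + (-a03*a32*b22*b33) + a03*a32*b23*b32 := by
  linear_combination (b12*b33 + b13*b32) * Ar03 + (a00*a32 + a02*a30) * Bc23 + (a00*a32*b02*b23 + (-a00*a32*b03*b22) + a00*a32*b12*b33 + a01*a33*b12*b33 + (-a02*a30*b13*b32) + (-a03*a31*b12*b33)) * h2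

theorem core_I2_13 (a00 a01 a02 a03 a10 a11 a12 a13 a20 a21 a22 a23 a30 a31 a32 a33 b00 b01 b02 b03 b10 b11 b12 b13 b20 b21 b22 b23 b30 b31 b32 b33 : R) (h2 : (2 : R) = 0) (Ar01 : (-a00*a12) + (-a01*a13) + a02*a10 + a03*a11 = 0) (Ar02 : 1 + (-a00*a22) + (-a01*a23) + a02*a20 + a03*a21 = 0) (Ar03 : (-a00*a32) + (-a01*a33) + a02*a30 + a03*a31 = 0) (Ar12 : (-a10*a22) + (-a11*a23) + a12*a20 + a13*a21 = 0) (Ar13 : 1 + (-a10*a32) + (-a11*a33) + a12*a30 + a13*a31 = 0) (Ar23 : (-a20*a32) + (-a21*a33) + a22*a30 + a23*a31 = 0) (Ac01 : (-a00*a21) + a01*a20 + (-a10*a31) + a11*a30 = 0) (Ac02 : 1 + (-a00*a22) + a02*a20 + (-a10*a32) + a12*a30 = 0) (Ac03 : (-a00*a23) + a03*a20 + (-a10*a33) + a13*a30 = 0) (Ac12 : (-a01*a22) + a02*a21 + (-a11*a32) + a12*a31 = 0) (Ac13 : 1 + (-a01*a23) + a03*a21 + (-a11*a33) + a13*a31 = 0) (Ac23 : (-a02*a23) + a03*a22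 + (-a12*a33) + a13*a32 = 0) (Br01 : (-b00*b12) + (-b01*b13) + b02*b10 + b03*b11 = 0) (Br02 : 1 + (-b00*b22) + (-b01*b23) + b02*b20 + b03*b21 = 0) (Br03 : (-b00*b32) + (-b01*b33) + b02*b30 + b03*b31 = 0) (Br12 : (-b10*b22) + (-b11*b23) + b12*b20 + b13*b21 = 0) (Br13 : 1 + (-b10*b32) + (-b11*b33) + b12*b30 + b13*b31 = 0) (Br23 : (-b20*b32) + (-b21*b33) + b22*b30 + b23*b31 = 0) (Bc01 : (-b00*b21) + b01*b20 + (-b10*b31) + b11*b30 = 0) (Bc02 : 1 + (-b00*b22) + b02*b20 + (-b10*b32) + b12*b30 = 0) (Bc03 : (-b00*b23) + b03*b20 + (-b10*b33) + b13*b30 = 0) (Bc12 : (-b01*b22) + b02*b21 + (-b11*b32) + b12*b31 = 0) (Bc13 : 1 + (-b01*b23) + b03*b21 + (-b11*b33) + b13*b31 = 0) (Bc23 : (-b02*b23) + b03*b22 + (-b12*b33) + b13*b32 = 0) :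
    a00*a31*b01*b12 + (-a00*a31*b02*b11) + a00*a32*b01*b22 + (-a00*a32*b02*b21) + a00*a33*b01*b32 + (-a00*a33*b02*b31) + (-a01*a30*b01*b12) + a01*a30*b02*b11 + a01*a32*b11*b22 + (-a01*a32*b12*b21) + a01*a33*b11*b32 + (-a01*a33*b12*b31) + (-a02*a30*b01*b22) + a02*a30*b02*b21 + (-a02*a31*b11*b22) + a02*a31*b12*b21 + a02*a33*b21*b32 + (-a02*a33*b22*b31) + (-a03*a30*b01*b32) + a03*a30*b02*b31 + (-a03*a31*b11*b32) + a03*a31*b12*b31 + (-a03*a32*b21*b32) + a03*a32*b22*b31 = a00*a31*b01*b12 + (-a00*a31*b02*b11) + a00*a33*b01*b32 + (-a00*a33*b02*b31) + (-a01*a30*b01*b12) + a01*a30*b02*b11 + a01*a32*b11*b22 + (-a01*a32*b12*b21) + (-a02*a31*b11*b22) + a02*a31*b12*b21 + a02*a33*b21*b32 + (-a02*a33*b22*b31) + (-a03*a30*b01*b32) + a03*a30*b02*b31 + (-a03*a32*b21*b32) + a03*a32*b22*b31 := by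
  linear_combination (b11*b32 + b12*b31) * Ar03 + (a00*a32 + a02*a30) * Bc12 + (a00*a32*b01*b22 + (-a00*a32*b02*b21) + a00*a32*b11*b32 + a01*a33*b11*b32 + (-a02*a30*b12*b31) + (-a03*a31*b11*b32)) * h2

theorem core_I2_20 (a00 a01 a02 a03 a10 a11 a12 a13 a20 a21 a22 a23 a30 a31 a32 a33 b00 b01 b02 b03 b10 b11 b12 b13 b20 b21 b22 b23 b30 b31 b32 b33 : R) (h2 : (2 : R) = 0) (Ar01 : (-a00*a12) + (-a01*a13) + a02*a10 + a03*a11 = 0) (Ar02 : 1 + (-a00*a22) + (-a01*a23) + a02*a20 + a03*a21 = 0) (Ar03 : (-a00*a32) + (-a01*a33) + a02*a30 + a03*a31 = 0) (Ar12 : (-a10*a22) + (-a11*a23) + a12*a20 + a13*a21 = 0) (Ar13 : 1 + (-a10*a32) + (-a11*a33) + a12*a30 + a13*a31 = 0) (Ar23 : (-a20*a32) + (-a21*a33) + a22*a30 + a23*a31 = 0) (Ac01 : (-a00*a21) + a01*a20 + (-a10*a31) + a11*a30 = 0) (Ac02 : 1 + (-a00*a22) + a02*a20 + (-a10*a32) + a12*a30 =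 0) (Ac03 : (-a00*a23) + a03*a20 + (-a10*a33) + a13*a30 = 0) (Ac12 : (-a01*a22) + a02*a21 + (-a11*a32) + a12*a31 = 0) (Ac13 : 1 + (-a01*a23) + a03*a21 + (-a11*a33) + a13*a31 = 0) (Ac23 : (-a02*a23) + a03*a22 + (-a12*a33) + a13*a32 = 0) (Br01 : (-b00*b12) + (-b01*b13) + b02*b10 + b03*b11 = 0) (Br02 : 1 + (-b00*b22) + (-b01*b23) + b02*b20 + b03*b21 = 0) (Br03 : (-b00*b32) + (-b01*b33) + b02*b30 + b03*b31 = 0) (Br12 : (-b10*b22) + (-b11*b23) + b12*b20 + b13*b21 = 0) (Br13 : 1 + (-b10*b32) + (-b11*b33) + b12*b30 + b13*b31 = 0) (Br23 : (-b20*b32) + (-b21*b33) + b22*b30 + b23*b31 = 0) (Bc01 : (-b00*b21) + b01*b20 + (-b10*b31) + b11*b30 = 0) (Bc02 : 1 + (-b00*b22) + b02*b20 + (-b10*b32) + b12*b30 = 0) (Bc03 : (-b00*b23) + b03*b20 + (-b10*b33) + b13*b30 = 0) (Bc12 : (-b01*b22) + b02*b21 + (-b11*b32) + b12*b31 = 0) (Bc13 : 1 + (-b01*b23)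 + b03*b21 + (-b11*b33) + b13*b31 = 0) (Bc23 : (-b02*b23) + b03*b22 + (-b12*b33) + b13*b32 = 0) :
    a20*a31*b00*b11 + (-a20*a31*b01*b10) + a20*a32*b00*b21 + (-a20*a32*b01*b20) + a20*a33*b00*b31 + (-a20*a33*b01*b30) + (-a21*a30*b00*b11) + a21*a30*b01*b10 + a21*a32*b10*b21 + (-a21*a32*b11*b20) + a21*a33*b10*b31 + (-a21*a33*b11*b30) + (-a22*a30*b00*b21) + a22*a30*b01*b20 + (-a22*a31*b10*b21) + a22*a31*b11*b20 + a22*a33*b20*b31 + (-a22*a33*b21*b30) + (-a23*a30*b00*b31) + a23*a30*b01*b30 + (-a23*a31*b10*b31) + a23*a31*b11*b30 + (-a23*a32*b20*b31) + a23*a32*b21*b30 = a20*a31*b00*b11 + (-a20*a31*b01*b10) + a20*a33*b00*b31 + (-a20*a33*b01*b30) + (-a21*a30*b00*b11) + a21*a30*b01*b10 + a21*a32*b10*b21 + (-a21*a32*b11*b20) + (-a22*a31*b10*b21) + a22*a31*b11*b20 + a22*a33*b20*b31 + (-a22*a33*b21*b30) + (-a23*a30*b00*b31) + a23*a30*b01*b30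 + (-a23*a32*b20*b31) + a23*a32*b21*b30 := by
  linear_combination (b10*b31 + b11*b30) * Ar23 + (a20*a32 + a22*a30) * Bc01 + (a20*a32*b00*b21 + (-a20*a32*b01*b20) + a20*a32*b10*b31 + a21*a33*b10*b31 + (-a22*a30*b11*b30) + (-a23*a31*b10*b31)) * h2

theorem core_I2_21 (a00 a01 a02 a03 a10 a11 a12 a13 a20 a21 a22 a23 a30 a31 a32 a33 b00 b01 b02 b03 b10 b11 b12 b13 b20 b21 b22 b23 b30 b31 b32 b33 : R) (h2 : (2 : R) = 0) (Ar01 : (-a00*a12) + (-a01*a13) + a02*a10 + a03*a11 = 0) (Ar02 : 1 + (-a00*a22) + (-a01*a23) + a02*a20 + a03*a21 = 0) (Ar03 : (-a00*a32) + (-a01*a33) + a02*a30 + a03*a31 = 0) (Ar12 : (-a10*a22) + (-a11*a23) + a12*a20 + a13*a21 = 0) (Ar13 : 1 + (-a10*a32) + (-a11*a33) + a12*a30 + a13*a31 = 0) (Ar23 : (-a20*a32) + (-a21*a33) + a22*a30 + a23*a31 = 0) (Ac01 : (-a00*a21) + a01*a20 + (-a10*a31) + a11*a30 = 0) (Ac02 : 1 +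 (-a00*a22) + a02*a20 + (-a10*a32) + a12*a30 = 0) (Ac03 : (-a00*a23) + a03*a20 + (-a10*a33) + a13*a30 = 0) (Ac12 : (-a01*a22) + a02*a21 + (-a11*a32) + a12*a31 = 0) (Ac13 : 1 + (-a01*a23) + a03*a21 + (-a11*a33) + a13*a31 = 0) (Ac23 : (-a02*a23) + a03*a22 + (-a12*a33) + a13*a32 = 0) (Br01 : (-b00*b12) + (-b01*b13) + b02*b10 + b03*b11 = 0) (Br02 : 1 + (-b00*b22) + (-b01*b23) + b02*b20 + b03*b21 = 0) (Br03 : (-b00*b32) + (-b01*b33) + b02*b30 + b03*b31 = 0) (Br12 : (-b10*b22) + (-b11*b23) + b12*b20 + b13*b21 = 0) (Br13 : 1 + (-b10*b32) + (-b11*b33) + b12*b30 + b13*b31 = 0) (Br23 : (-b20*b32) + (-b21*b33) + b22*b30 + b23*b31 = 0) (Bc01 : (-b00*b21) + b01*b20 + (-b10*b31) + b11*b30 = 0) (Bc02 : 1 + (-b00*b22) + b02*b20 + (-b10*b32) + b12*b30 = 0) (Bc03 : (-b00*b23) + b03*b20 + (-b10*b33) + b13*b30 = 0) (Bc12 : (-b01*b22) + b02*b21 + (-b11*b32)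 + b12*b31 = 0) (Bc13 : 1 + (-b01*b23) + b03*b21 + (-b11*b33) + b13*b31 = 0) (Bc23 : (-b02*b23) + b03*b22 + (-b12*b33) + b13*b32 = 0) :
    a20*a31*b00*b13 + (-a20*a31*b03*b10) + a20*a32*b00*b23 + (-a20*a32*b03*b20) + a20*a33*b00*b33 + (-a20*a33*b03*b30) + (-a21*a30*b00*b13) + a21*a30*b03*b10 + a21*a32*b10*b23 + (-a21*a32*b13*b20) + a21*a33*b10*b33 + (-a21*a33*b13*b30) + (-a22*a30*b00*b23) + a22*a30*b03*b20 + (-a22*a31*b10*b23) + a22*a31*b13*b20 + a22*a33*b20*b33 + (-a22*a33*b23*b30) + (-a23*a30*b00*b33) + a23*a30*b03*b30 + (-a23*a31*b10*b33) + a23*a31*b13*b30 + (-a23*a32*b20*b33) + a23*a32*b23*b30 = a20*a31*b00*b13 + (-a20*a31*b03*b10) + a20*a33*b00*b33 + (-a20*a33*b03*b30) + (-a21*a30*b00*b13) + a21*a30*b03*b10 + a21*a32*b10*b23 + (-a21*a32*b13*b20) + (-a22*a31*b10*b23) + a22*a31*b13*b20 + a22*a33*b20*b33 + (-a22*a33*b23*b30)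 + (-a23*a30*b00*b33) + a23*a30*b03*b30 + (-a23*a32*b20*b33) + a23*a32*b23*b30 := by
  linear_combination (b10*b33 + b13*b30) * Ar23 + (a20*a32 + a22*a30) * Bc03 + (a20*a32*b00*b23 + (-a20*a32*b03*b20) + a20*a32*b10*b33 + a21*a33*b10*b33 + (-a22*a30*b13*b30) + (-a23*a31*b10*b33)) * h2

theorem core_I2_22 (a00 a01 a02 a03 a10 a11 a12 a13 a20 a21 a22 a23 a30 a31 a32 a33 b00 b01 b02 b03 b10 b11 b12 b13 b20 b21 b22 b23 b30 b31 b32 b33 : R) (h2 : (2 : R) = 0) (Ar01 : (-a00*a12) + (-a01*a13) + a02*a10 + a03*a11 = 0) (Ar02 : 1 + (-a00*a22) + (-a01*a23) + a02*a20 + a03*a21 = 0) (Ar03 : (-a00*a32) + (-a01*a33) + a02*a30 + a03*a31 = 0) (Ar12 : (-a10*a22) + (-a11*a23) + a12*a20 + a13*a21 = 0) (Ar13 : 1 + (-a10*a32) + (-a11*a33) + a12*a30 + a13*a31 = 0) (Ar23 : (-a20*a32) + (-a21*a33) + a22*a30 + a23*a31 = 0) (Ac01 : (-a00*a21) + a01*a20 +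 (-a10*a31) + a11*a30 = 0) (Ac02 : 1 + (-a00*a22) + a02*a20 + (-a10*a32) + a12*a30 = 0) (Ac03 : (-a00*a23) + a03*a20 + (-a10*a33) + a13*a30 = 0) (Ac12 : (-a01*a22) + a02*a21 + (-a11*a32) + a12*a31 = 0) (Ac13 : 1 + (-a01*a23) + a03*a21 + (-a11*a33) + a13*a31 = 0) (Ac23 : (-a02*a23) + a03*a22 + (-a12*a33) + a13*a32 = 0) (Br01 : (-b00*b12) + (-b01*b13) + b02*b10 + b03*b11 = 0) (Br02 : 1 + (-b00*b22) + (-b01*b23) + b02*b20 + b03*b21 = 0) (Br03 : (-b00*b32) + (-b01*b33) + b02*b30 + b03*b31 = 0) (Br12 : (-b10*b22) + (-b11*b23) + b12*b20 + b13*b21 = 0) (Br13 : 1 + (-b10*b32) + (-b11*b33) + b12*b30 + b13*b31 = 0) (Br23 : (-b20*b32) + (-b21*b33) + b22*b30 + b23*b31 = 0) (Bc01 : (-b00*b21) + b01*b20 + (-b10*b31) + b11*b30 = 0) (Bc02 : 1 + (-b00*b22) + b02*b20 + (-b10*b32) + b12*b30 = 0) (Bc03 : (-b00*b23) + b03*b20 + (-b10*b33) + b13*b30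 = 0) (Bc12 : (-b01*b22) + b02*b21 + (-b11*b32) + b12*b31 = 0) (Bc13 : 1 + (-b01*b23) + b03*b21 + (-b11*b33) + b13*b31 = 0) (Bc23 : (-b02*b23) + b03*b22 + (-b12*b33) + b13*b32 = 0) :
    a20*a31*b02*b13 + (-a20*a31*b03*b12) + a20*a32*b02*b23 + (-a20*a32*b03*b22) + a20*a33*b02*b33 + (-a20*a33*b03*b32) + (-a21*a30*b02*b13) + a21*a30*b03*b12 + a21*a32*b12*b23 + (-a21*a32*b13*b22) + a21*a33*b12*b33 + (-a21*a33*b13*b32) + (-a22*a30*b02*b23) + a22*a30*b03*b22 + (-a22*a31*b12*b23) + a22*a31*b13*b22 + a22*a33*b22*b33 + (-a22*a33*b23*b32) + (-a23*a30*b02*b33) + a23*a30*b03*b32 + (-a23*a31*b12*b33) + a23*a31*b13*b32 + (-a23*a32*b22*b33) + a23*a32*b23*b32 = a20*a31*b02*b13 + (-a20*a31*b03*b12) + a20*a33*b02*b33 + (-a20*a33*b03*b32) + (-a21*a30*b02*b13) + a21*a30*b03*b12 + a21*a32*b12*b23 + (-a21*a32*b13*b22) + (-a22*a31*b12*b23) + a22*a31*b13*b22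 + a22*a33*b22*b33 + (-a22*a33*b23*b32) + (-a23*a30*b02*b33) + a23*a30*b03*b32 + (-a23*a32*b22*b33) + a23*a32*b23*b32 := by
  linear_combination (b12*b33 + b13*b32) * Ar23 + (a20*a32 + a22*a30) * Bc23 + (a20*a32*b02*b23 + (-a20*a32*b03*b22) + a20*a32*b12*b33 + a21*a33*b12*b33 + (-a22*a30*b13*b32) + (-a23*a31*b12*b33)) * h2

theorem core_I2_23 (a00 a01 a02 a03 a10 a11 a12 a13 a20 a21 a22 a23 a30 a31 a32 a33 b00 b01 b02 b03 b10 b11 b12 b13 b20 b21 b22 b23 b30 b31 b32 b33 : R) (h2 : (2 : R) = 0) (Ar01 : (-a00*a12) + (-a01*a13) + a02*a10 + a03*a11 = 0) (Ar02 : 1 + (-a00*a22) + (-a01*a23) + a02*a20 + a03*a21 = 0) (Ar03 : (-a00*a32) + (-a01*a33) + a02*a30 + a03*a31 = 0) (Ar12 : (-a10*a22) + (-a11*a23) + a12*a20 + a13*a21 = 0) (Ar13 : 1 + (-a10*a32) + (-a11*a33) + a12*a30 + a13*a31 = 0) (Ar23 : (-a20*a32) + (-a21*a33) + a22*a30 + a23*a31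 = 0) (Ac01 : (-a00*a21) + a01*a20 + (-a10*a31) + a11*a30 = 0) (Ac02 : 1 + (-a00*a22) + a02*a20 + (-a10*a32) + a12*a30 = 0) (Ac03 : (-a00*a23) + a03*a20 + (-a10*a33) + a13*a30 = 0) (Ac12 : (-a01*a22) + a02*a21 + (-a11*a32) + a12*a31 = 0) (Ac13 : 1 + (-a01*a23) + a03*a21 + (-a11*a33) + a13*a31 = 0) (Ac23 : (-a02*a23) + a03*a22 + (-a12*a33) + a13*a32 = 0) (Br01 : (-b00*b12) + (-b01*b13) + b02*b10 + b03*b11 = 0) (Br02 : 1 + (-b00*b22) + (-b01*b23) + b02*b20 + b03*b21 = 0) (Br03 : (-b00*b32) + (-b01*b33) + b02*b30 + b03*b31 = 0) (Br12 : (-b10*b22) + (-b11*b23) + b12*b20 + b13*b21 = 0) (Br13 : 1 + (-b10*b32) + (-b11*b33) + b12*b30 + b13*b31 = 0) (Br23 : (-b20*b32) + (-b21*b33) + b22*b30 + b23*b31 = 0) (Bc01 : (-b00*b21) + b01*b20 + (-b10*b31) + b11*b30 = 0) (Bc02 : 1 + (-b00*b22) + b02*b20 + (-b10*b32) + b12*b30 = 0) (Bc03 : (-b00*b23)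 + b03*b20 + (-b10*b33) + b13*b30 = 0) (Bc12 : (-b01*b22) + b02*b21 + (-b11*b32) + b12*b31 = 0) (Bc13 : 1 + (-b01*b23) + b03*b21 + (-b11*b33) + b13*b31 = 0) (Bc23 : (-b02*b23) + b03*b22 + (-b12*b33) + b13*b32 = 0) :
    a20*a31*b01*b12 + (-a20*a31*b02*b11) + a20*a32*b01*b22 + (-a20*a32*b02*b21) + a20*a33*b01*b32 + (-a20*a33*b02*b31) + (-a21*a30*b01*b12) + a21*a30*b02*b11 + a21*a32*b11*b22 + (-a21*a32*b12*b21) + a21*a33*b11*b32 + (-a21*a33*b12*b31) + (-a22*a30*b01*b22) + a22*a30*b02*b21 + (-a22*a31*b11*b22) + a22*a31*b12*b21 + a22*a33*b21*b32 + (-a22*a33*b22*b31) + (-a23*a30*b01*b32) + a23*a30*b02*b31 + (-a23*a31*b11*b32) + a23*a31*b12*b31 + (-a23*a32*b21*b32) + a23*a32*b22*b31 = a20*a31*b01*b12 + (-a20*a31*b02*b11) + a20*a33*b01*b32 + (-a20*a33*b02*b31) + (-a21*a30*b01*b12) + a21*a30*b02*b11 + a21*a32*b11*b22 + (-a21*a32*b12*b21)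 + (-a22*a31*b11*b22) + a22*a31*b12*b21 + a22*a33*b21*b32 + (-a22*a33*b22*b31) + (-a23*a30*b01*b32) + a23*a30*b02*b31 + (-a23*a32*b21*b32) + a23*a32*b22*b31 := by
  linear_combination (b11*b32 + b12*b31) * Ar23 + (a20*a32 + a22*a30) * Bc12 + (a20*a32*b01*b22 + (-a20*a32*b02*b21) + a20*a32*b11*b32 + a21*a33*b11*b32 + (-a22*a30*b12*b31) + (-a23*a31*b11*b32)) * h2

theorem core_I2_30 (a00 a01 a02 a03 a10 a11 a12 a13 a20 a21 a22 a23 a30 a31 a32 a33 b00 b01 b02 b03 b10 b11 b12 b13 b20 b21 b22 b23 b30 b31 b32 b33 : R) (h2 : (2 : R) = 0) (Ar01 : (-a00*a12) + (-a01*a13) + a02*a10 + a03*a11 = 0) (Ar02 : 1 + (-a00*a22) + (-a01*a23) + a02*a20 + a03*a21 = 0) (Ar03 : (-a00*a32) + (-a01*a33) + a02*a30 + a03*a31 = 0) (Ar12 : (-a10*a22) + (-a11*a23) + a12*a20 + a13*a21 = 0) (Ar13 : 1 + (-a10*a32) + (-a11*a33) + a12*a30 + a13*a31 = 0) (Ar23 : (-a20*a32)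 + (-a21*a33) + a22*a30 + a23*a31 = 0) (Ac01 : (-a00*a21) + a01*a20 + (-a10*a31) + a11*a30 = 0) (Ac02 : 1 + (-a00*a22) + a02*a20 + (-a10*a32) + a12*a30 = 0) (Ac03 : (-a00*a23) + a03*a20 + (-a10*a33) + a13*a30 = 0) (Ac12 : (-a01*a22) + a02*a21 + (-a11*a32) + a12*a31 = 0) (Ac13 : 1 + (-a01*a23) + a03*a21 + (-a11*a33) + a13*a31 = 0) (Ac23 : (-a02*a23) + a03*a22 + (-a12*a33) + a13*a32 = 0) (Br01 : (-b00*b12) + (-b01*b13) + b02*b10 + b03*b11 = 0) (Br02 : 1 + (-b00*b22) + (-b01*b23) + b02*b20 + b03*b21 = 0) (Br03 : (-b00*b32) + (-b01*b33) + b02*b30 + b03*b31 = 0) (Br12 : (-b10*b22) + (-b11*b23) + b12*b20 + b13*b21 = 0) (Br13 : 1 + (-b10*b32) + (-b11*b33) + b12*b30 + b13*b31 = 0) (Br23 : (-b20*b32) + (-b21*b33) + b22*b30 + b23*b31 = 0) (Bc01 : (-b00*b21) + b01*b20 + (-b10*b31) + b11*b30 = 0) (Bc02 : 1 + (-b00*b22) + b02*b20 + (-b10*b32)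 + b12*b30 = 0) (Bc03 : (-b00*b23) + b03*b20 + (-b10*b33) + b13*b30 = 0) (Bc12 : (-b01*b22) + b02*b21 + (-b11*b32) + b12*b31 = 0) (Bc13 : 1 + (-b01*b23) + b03*b21 + (-b11*b33) + b13*b31 = 0) (Bc23 : (-b02*b23) + b03*b22 + (-b12*b33) + b13*b32 = 0) :
    a10*a21*b00*b11 + (-a10*a21*b01*b10) + a10*a22*b00*b21 + (-a10*a22*b01*b20) + a10*a23*b00*b31 + (-a10*a23*b01*b30) + (-a11*a20*b00*b11) + a11*a20*b01*b10 + a11*a22*b10*b21 + (-a11*a22*b11*b20) + a11*a23*b10*b31 + (-a11*a23*b11*b30) + (-a12*a20*b00*b21) + a12*a20*b01*b20 + (-a12*a21*b10*b21) + a12*a21*b11*b20 + a12*a23*b20*b31 + (-a12*a23*b21*b30) + (-a13*a20*b00*b31) + a13*a20*b01*b30 + (-a13*a21*b10*b31) + a13*a21*b11*b30 + (-a13*a22*b20*b31) + a13*a22*b21*b30 = a10*a21*b00*b11 + (-a10*a21*b01*b10) + a10*a23*b00*b31 + (-a10*a23*b01*b30) + (-a11*a20*b00*b11) + a11*a20*b01*b10 +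 a11*a22*b10*b21 + (-a11*a22*b11*b20) + (-a12*a21*b10*b21) + a12*a21*b11*b20 + a12*a23*b20*b31 + (-a12*a23*b21*b30) + (-a13*a20*b00*b31) + a13*a20*b01*b30 + (-a13*a22*b20*b31) + a13*a22*b21*b30 := by
  linear_combination (b10*b31 + b11*b30) * Ar12 + (a10*a22 + a12*a20) * Bc01 + (a10*a22*b00*b21 + (-a10*a22*b01*b20) + a10*a22*b10*b31 + a11*a23*b10*b31 + (-a12*a20*b11*b30) + (-a13*a21*b10*b31)) * h2

theorem core_I2_31 (a00 a01 a02 a03 a10 a11 a12 a13 a20 a21 a22 a23 a30 a31 a32 a33 b00 b01 b02 b03 b10 b11 b12 b13 b20 b21 b22 b23 b30 b31 b32 b33 : R) (h2 : (2 : R) = 0) (Ar01 : (-a00*a12) + (-a01*a13) + a02*a10 + a03*a11 = 0) (Ar02 : 1 + (-a00*a22) + (-a01*a23) + a02*a20 + a03*a21 = 0) (Ar03 : (-a00*a32) + (-a01*a33) + a02*a30 + a03*a31 = 0) (Ar12 : (-a10*a22) + (-a11*a23) + a12*a20 + a13*a21 = 0) (Ar13 : 1 + (-a10*a32) + (-a11*a33)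 + a12*a30 + a13*a31 = 0) (Ar23 : (-a20*a32) + (-a21*a33) + a22*a30 + a23*a31 = 0) (Ac01 : (-a00*a21) + a01*a20 + (-a10*a31) + a11*a30 = 0) (Ac02 : 1 + (-a00*a22) + a02*a20 + (-a10*a32) + a12*a30 = 0) (Ac03 : (-a00*a23) + a03*a20 + (-a10*a33) + a13*a30 = 0) (Ac12 : (-a01*a22) + a02*a21 + (-a11*a32) + a12*a31 = 0) (Ac13 : 1 + (-a01*a23) + a03*a21 + (-a11*a33) + a13*a31 = 0) (Ac23 : (-a02*a23) + a03*a22 + (-a12*a33) + a13*a32 = 0) (Br01 : (-b00*b12) + (-b01*b13) + b02*b10 + b03*b11 = 0) (Br02 : 1 + (-b00*b22) + (-b01*b23) + b02*b20 + b03*b21 = 0) (Br03 : (-b00*b32) + (-b01*b33) + b02*b30 + b03*b31 = 0) (Br12 : (-b10*b22) + (-b11*b23) + b12*b20 + b13*b21 = 0) (Br13 : 1 + (-b10*b32) + (-b11*b33) + b12*b30 + b13*b31 = 0) (Br23 : (-b20*b32) + (-b21*b33) + b22*b30 + b23*b31 = 0) (Bc01 : (-b00*b21) + b01*b20 + (-b10*b31) + b11*b30 = 0)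 (Bc02 : 1 + (-b00*b22) + b02*b20 + (-b10*b32) + b12*b30 = 0) (Bc03 : (-b00*b23) + b03*b20 + (-b10*b33) + b13*b30 = 0) (Bc12 : (-b01*b22) + b02*b21 + (-b11*b32) + b12*b31 = 0) (Bc13 : 1 + (-b01*b23) + b03*b21 + (-b11*b33) + b13*b31 = 0) (Bc23 : (-b02*b23) + b03*b22 + (-b12*b33) + b13*b32 = 0) :
    a10*a21*b00*b13 + (-a10*a21*b03*b10) + a10*a22*b00*b23 + (-a10*a22*b03*b20) + a10*a23*b00*b33 + (-a10*a23*b03*b30) + (-a11*a20*b00*b13) + a11*a20*b03*b10 + a11*a22*b10*b23 + (-a11*a22*b13*b20) + a11*a23*b10*b33 + (-a11*a23*b13*b30) + (-a12*a20*b00*b23) + a12*a20*b03*b20 + (-a12*a21*b10*b23) + a12*a21*b13*b20 + a12*a23*b20*b33 + (-a12*a23*b23*b30) + (-a13*a20*b00*b33) + a13*a20*b03*b30 + (-a13*a21*b10*b33) + a13*a21*b13*b30 + (-a13*a22*b20*b33) + a13*a22*b23*b30 = a10*a21*b00*b13 + (-a10*a21*b03*b10) + a10*a23*b00*b33 + (-a10*a23*b03*b30)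 + (-a11*a20*b00*b13) + a11*a20*b03*b10 + a11*a22*b10*b23 + (-a11*a22*b13*b20) + (-a12*a21*b10*b23) + a12*a21*b13*b20 + a12*a23*b20*b33 + (-a12*a23*b23*b30) + (-a13*a20*b00*b33) + a13*a20*b03*b30 + (-a13*a22*b20*b33) + a13*a22*b23*b30 := by
  linear_combination (b10*b33 + b13*b30) * Ar12 + (a10*a22 + a12*a20) * Bc03 + (a10*a22*b00*b23 + (-a10*a22*b03*b20) + a10*a22*b10*b33 + a11*a23*b10*b33 + (-a12*a20*b13*b30) + (-a13*a21*b10*b33)) * h2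

theorem core_I2_32 (a00 a01 a02 a03 a10 a11 a12 a13 a20 a21 a22 a23 a30 a31 a32 a33 b00 b01 b02 b03 b10 b11 b12 b13 b20 b21 b22 b23 b30 b31 b32 b33 : R) (h2 : (2 : R) = 0) (Ar01 : (-a00*a12) + (-a01*a13) + a02*a10 + a03*a11 = 0) (Ar02 : 1 + (-a00*a22) + (-a01*a23) + a02*a20 + a03*a21 = 0) (Ar03 : (-a00*a32) + (-a01*a33) + a02*a30 + a03*a31 = 0) (Ar12 : (-a10*a22) + (-a11*a23) + a12*a20 + a13*a21 = 0) (Ar13 : 1 + (-a10*a32) + (-a11*a33) + a12*a30 + a13*a31 = 0) (Ar23 : (-a20*a32) + (-a21*a33) + a22*a30 + a23*a31 = 0) (Ac01 : (-a00*a21) + a01*a20 + (-a10*a31) + a11*a30 = 0) (Ac02 : 1 + (-a00*a22) + a02*a20 + (-a10*a32) + a12*a30 = 0) (Ac03 : (-a00*a23) + a03*a20 + (-a10*a33) + a13*a30 = 0) (Ac12 : (-a01*a22) + a02*a21 + (-a11*a32) + a12*a31 = 0) (Ac13 : 1 + (-a01*a23) + a03*a21 + (-a11*a33) + a13*a31 = 0) (Ac23 : (-a02*a23) + a03*a22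 + (-a12*a33) + a13*a32 = 0) (Br01 : (-b00*b12) + (-b01*b13) + b02*b10 + b03*b11 = 0) (Br02 : 1 + (-b00*b22) + (-b01*b23) + b02*b20 + b03*b21 = 0) (Br03 : (-b00*b32) + (-b01*b33) + b02*b30 + b03*b31 = 0) (Br12 : (-b10*b22) + (-b11*b23) + b12*b20 + b13*b21 = 0) (Br13 : 1 + (-b10*b32) + (-b11*b33) + b12*b30 + b13*b31 = 0) (Br23 : (-b20*b32) + (-b21*b33) + b22*b30 + b23*b31 = 0) (Bc01 : (-b00*b21) + b01*b20 + (-b10*b31) + b11*b30 = 0) (Bc02 : 1 + (-b00*b22) + b02*b20 + (-b10*b32) + b12*b30 = 0) (Bc03 : (-b00*b23) + b03*b20 + (-b10*b33) + b13*b30 = 0) (Bc12 : (-b01*b22) + b02*b21 + (-b11*b32) + b12*b31 = 0) (Bc13 : 1 + (-b01*b23) + b03*b21 + (-b11*b33) + b13*b31 = 0) (Bc23 : (-b02*b23) + b03*b22 + (-b12*b33) + b13*b32 = 0) :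
    a10*a21*b02*b13 + (-a10*a21*b03*b12) + a10*a22*b02*b23 + (-a10*a22*b03*b22) + a10*a23*b02*b33 + (-a10*a23*b03*b32) + (-a11*a20*b02*b13) + a11*a20*b03*b12 + a11*a22*b12*b23 + (-a11*a22*b13*b22) + a11*a23*b12*b33 + (-a11*a23*b13*b32) + (-a12*a20*b02*b23) + a12*a20*b03*b22 + (-a12*a21*b12*b23) + a12*a21*b13*b22 + a12*a23*b22*b33 + (-a12*a23*b23*b32) + (-a13*a20*b02*b33) + a13*a20*b03*b32 + (-a13*a21*b12*b33) + a13*a21*b13*b32 + (-a13*a22*b22*b33) + a13*a22*b23*b32 = a10*a21*b02*b13 + (-a10*a21*b03*b12) + a10*a23*b02*b33 + (-a10*a23*b03*b32) + (-a11*a20*b02*b13) + a11*a20*b03*b12 + a11*a22*b12*b23 + (-a11*a22*b13*b22) + (-a12*a21*b12*b23) + a12*a21*b13*b22 + a12*a23*b22*b33 + (-a12*a23*b23*b32) + (-a13*a20*b02*b33) + a13*a20*b03*b32 + (-a13*a22*b22*b33) + a13*a22*b23*b32 := by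
  linear_combination (b12*b33 + b13*b32) * Ar12 + (a10*a22 + a12*a20) * Bc23 + (a10*a22*b02*b23 + (-a10*a22*b03*b22) + a10*a22*b12*b33 + a11*a23*b12*b33 + (-a12*a20*b13*b32) + (-a13*a21*b12*b33)) * h2

theorem core_I2_33 (a00 a01 a02 a03 a10 a11 a12 a13 a20 a21 a22 a23 a30 a31 a32 a33 b00 b01 b02 b03 b10 b11 b12 b13 b20 b21 b22 b23 b30 b31 b32 b33 : R) (h2 : (2 : R) = 0) (Ar01 : (-a00*a12) + (-a01*a13) + a02*a10 + a03*a11 = 0) (Ar02 : 1 + (-a00*a22) + (-a01*a23) + a02*a20 + a03*a21 = 0) (Ar03 : (-a00*a32) + (-a01*a33) + a02*a30 + a03*a31 = 0) (Ar12 : (-a10*a22) + (-a11*a23) + a12*a20 + a13*a21 = 0) (Ar13 : 1 + (-a10*a32) + (-a11*a33) + a12*a30 + a13*a31 = 0) (Ar23 : (-a20*a32) + (-a21*a33) + a22*a30 + a23*a31 = 0) (Ac01 : (-a00*a21) + a01*a20 + (-a10*a31) + a11*a30 = 0) (Ac02 : 1 + (-a00*a22) + a02*a20 + (-a10*a32) + a12*a30 =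 0) (Ac03 : (-a00*a23) + a03*a20 + (-a10*a33) + a13*a30 = 0) (Ac12 : (-a01*a22) + a02*a21 + (-a11*a32) + a12*a31 = 0) (Ac13 : 1 + (-a01*a23) + a03*a21 + (-a11*a33) + a13*a31 = 0) (Ac23 : (-a02*a23) + a03*a22 + (-a12*a33) + a13*a32 = 0) (Br01 : (-b00*b12) + (-b01*b13) + b02*b10 + b03*b11 = 0) (Br02 : 1 + (-b00*b22) + (-b01*b23) + b02*b20 + b03*b21 = 0) (Br03 : (-b00*b32) + (-b01*b33) + b02*b30 + b03*b31 = 0) (Br12 : (-b10*b22) + (-b11*b23) + b12*b20 + b13*b21 = 0) (Br13 : 1 + (-b10*b32) + (-b11*b33) + b12*b30 + b13*b31 = 0) (Br23 : (-b20*b32) + (-b21*b33) + b22*b30 + b23*b31 = 0) (Bc01 : (-b00*b21) + b01*b20 + (-b10*b31) + b11*b30 = 0) (Bc02 : 1 + (-b00*b22) + b02*b20 + (-b10*b32) + b12*b30 = 0) (Bc03 : (-b00*b23) + b03*b20 + (-b10*b33) + b13*b30 = 0) (Bc12 : (-b01*b22) + b02*b21 + (-b11*b32) + b12*b31 = 0) (Bc13 : 1 + (-b01*b23)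 + b03*b21 + (-b11*b33) + b13*b31 = 0) (Bc23 : (-b02*b23) + b03*b22 + (-b12*b33) + b13*b32 = 0) :
    a10*a21*b01*b12 + (-a10*a21*b02*b11) + a10*a22*b01*b22 + (-a10*a22*b02*b21) + a10*a23*b01*b32 + (-a10*a23*b02*b31) + (-a11*a20*b01*b12) + a11*a20*b02*b11 + a11*a22*b11*b22 + (-a11*a22*b12*b21) + a11*a23*b11*b32 + (-a11*a23*b12*b31) + (-a12*a20*b01*b22) + a12*a20*b02*b21 + (-a12*a21*b11*b22) + a12*a21*b12*b21 + a12*a23*b21*b32 + (-a12*a23*b22*b31) + (-a13*a20*b01*b32) + a13*a20*b02*b31 + (-a13*a21*b11*b32) + a13*a21*b12*b31 + (-a13*a22*b21*b32) + a13*a22*b22*b31 = a10*a21*b01*b12 + (-a10*a21*b02*b11) + a10*a23*b01*b32 + (-a10*a23*b02*b31) + (-a11*a20*b01*b12) + a11*a20*b02*b11 + a11*a22*b11*b22 + (-a11*a22*b12*b21) + (-a12*a21*b11*b22) + a12*a21*b12*b21 + a12*a23*b21*b32 + (-a12*a23*b22*b31) + (-a13*a20*b01*b32) + a13*a20*b02*b31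 + (-a13*a22*b21*b32) + a13*a22*b22*b31 := by
  linear_combination (b11*b32 + b12*b31) * Ar12 + (a10*a22 + a12*a20) * Bc12 + (a10*a22*b01*b22 + (-a10*a22*b02*b21) + a10*a22*b11*b32 + a11*a23*b11*b32 + (-a12*a20*b12*b31) + (-a13*a21*b11*b32)) * h2

end core

end Cfsg.Agent.Lib.Lead.Sp4Graph
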