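import Cfsg.Agent.Lib.Lead.Sp4GraphA

set_option autoImplicit false
set_option linter.unusedVariables false
set_option linter.unusedSimpArgs false
set_option maxHeartbeats 1000000

/-!
# Graph automorphism of `Sp₄` in characteristic 2, part B: the matrix of minors `gam`
-/

namespace Cfsg.Agent.Lib.Lead.Sp4Graph

open Matrix

variable {F : Type*} [CommRing F]

/-- index type of `4 × 4` symplectic matrices in Mathlib's convention -/
abbrev I4 := Fin 2 ⊕ Fin 2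

/-- first members of the pairs `e₁e₂, e₁f₂, f₁f₂, e₂f₁` -/
def p1 : I4 → I4 := Sum.elim ![Sum.inl 0, Sum.inl 0] ![Sum.inr 0, Sum.inl 1]

/-- second members of the pairs `e₁e₂, e₁f₂, f₁f₂, e₂f₁` -/
def p2 : I4 → I4 := Sum.elim ![Sum.inl 1, Sum.inr 1] ![Sum.inr 1, Sum.inr 0]

/-- the matrix of `2 × 2` minors on the pairs `e₁e₂, e₁f₂, f₁f₂, e₂f₁` -/
def gam (A : Matrix I4 I4 F) : Matrix I4 I4 F :=
  Matrix.of fun i j => A (p1 i) (p1 j) * A (p2 i) (p2 j) - A (p1 i) (p2 j) * A (p2 i) (p1 j)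

theorem gam_apply (A : Matrix I4 I4 F) (i j : I4) :
    gam A i j = A (p1 i) (p1 j) * A (p2 i) (p2 j) - A (p1 i) (p2 j) * A (p2 i) (p1 j) := rfl

theorem mul_J_mul_transpose_apply (A : Matrix I4 I4 F) (i j : I4) :
    (A * J (Fin 2) F * Aᵀ) i j = -(A i (.inl 0) * A j (.inr 0)) - A i (.inl 1) * A j (.inr 1)
      + A i (.inr 0) * A j (.inl 0) + A i (.inr 1) * A j (.inl 1) := by
  simp [Matrix.mul_apply, Fintype.sum_sum_type, Fin.sum_univ_two, J, Matrix.fromBlocks_apply₁₁,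
    Matrix.fromBlocks_apply₁₂, Matrix.fromBlocks_apply₂₁, Matrix.fromBlocks_apply₂₂, Matrix.one_apply]
  ring

theorem transpose_mul_J_mul_apply (A : Matrix I4 I4 F) (i j : I4) :
    (Aᵀ * J (Fin 2) F * A) i j = -(A (.inl 0) i * A (.inr 0) j) - A (.inl 1) i * A (.inr 1) j
      + A (.inr 0) i * A (.inl 0) j + A (.inr 1) i * A (.inl 1) j := by
  simp [Matrix.mul_apply, Fintype.sum_sum_type, Fin.sum_univ_two, J, Matrix.fromBlocks_apply₁₁,
    Matrix.fromBlocks_apply₁₂, Matrix.fromBlocks_apply₂₁, Matrix.fromBlocks_apply₂₂, Matrix.one_apply]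
  ring

theorem J_apply_inl_inl (i j : Fin 2) : J (Fin 2) F (Sum.inl i) (Sum.inl j) = 0 := by simp [J]
theorem J_apply_inr_inr (i j : Fin 2) : J (Fin 2) F (Sum.inr i) (Sum.inr j) = 0 := by simp [J]
theorem J_apply_inl_inr (i j : Fin 2) : J (Fin 2) F (Sum.inl i) (Sum.inr j) = if i = j then -1 else 0 := by
  simp [J, Matrix.one_apply]
  split_ifs <;> simp
theorem J_apply_inr_inl (i j : Fin 2) : J (Fin 2) F (Sum.inr i) (Sum.inl j) = if i = j then 1 else 0 := by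
  simp [J, Matrix.one_apply]

/-- the twelve polynomial relations satisfied by the entries of a symplectic matrix -/
structure Rels (A : Matrix I4 I4 F) : Prop where
  r01 : (-A (Sum.inl 0) (Sum.inl 0)*A (Sum.inl 1) (Sum.inr 0)) + (-A (Sum.inl 0) (Sum.inl 1)*A (Sum.inl 1) (Sum.inr 1)) + A (Sum.inl 0) (Sum.inr 0)*A (Sum.inl 1) (Sum.inl 0) + A (Sum.inl 0) (Sum.inr 1)*A (Sum.inl 1) (Sum.inl 1) = 0
  r02 : 1 + (-A (Sum.inl 0) (Sum.inl 0)*A (Sum.inr 0) (Sum.inr 0)) + (-A (Sum.inl 0) (Sum.inl 1)*A (Sum.inr 0) (Sum.inr 1)) + A (Sum.inl 0) (Sum.inr 0)*A (Sum.inr 0) (Sum.inl 0) + A (Sum.inl 0) (Sum.inr 1)*A (Sum.inr 0) (Sum.inl 1) = 0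
  r03 : (-A (Sum.inl 0) (Sum.inl 0)*A (Sum.inr 1) (Sum.inr 0)) + (-A (Sum.inl 0) (Sum.inl 1)*A (Sum.inr 1) (Sum.inr 1)) + A (Sum.inl 0) (Sum.inr 0)*A (Sum.inr 1) (Sum.inl 0) + A (Sum.inl 0) (Sum.inr 1)*A (Sum.inr 1) (Sum.inl 1) = 0
  r12 : (-A (Sum.inl 1) (Sum.inl 0)*A (Sum.inr 0) (Sum.inr 0)) + (-A (Sum.inl 1) (Sum.inl 1)*A (Sum.inr 0) (Sum.inr 1)) + A (Sum.inl 1) (Sum.inr 0)*A (Sum.inr 0) (Sum.inl 0) + A (Sum.inl 1) (Sum.inr 1)*A (Sum.inr 0) (Sum.inl 1) = 0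
  r13 : 1 + (-A (Sum.inl 1) (Sum.inl 0)*A (Sum.inr 1) (Sum.inr 0)) + (-A (Sum.inl 1) (Sum.inl 1)*A (Sum.inr 1) (Sum.inr 1)) + A (Sum.inl 1) (Sum.inr 0)*A (Sum.inr 1) (Sum.inl 0) + A (Sum.inl 1) (Sum.inr 1)*A (Sum.inr 1) (Sum.inl 1) = 0
  r23 : (-A (Sum.inr 0) (Sum.inl 0)*A (Sum.inr 1) (Sum.inr 0)) + (-A (Sum.inr 0) (Sum.inl 1)*A (Sum.inr 1) (Sum.inr 1)) + A (Sum.inr 0) (Sum.inr 0)*A (Sum.inr 1) (Sum.inl 0) + A (Sum.inr 0) (Sum.inr 1)*A (Sum.inr 1) (Sum.inl 1) = 0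
  c01 : (-A (Sum.inl 0) (Sum.inl 0)*A (Sum.inr 0) (Sum.inl 1)) + A (Sum.inl 0) (Sum.inl 1)*A (Sum.inr 0) (Sum.inl 0) + (-A (Sum.inl 1) (Sum.inl 0)*A (Sum.inr 1) (Sum.inl 1)) + A (Sum.inl 1) (Sum.inl 1)*A (Sum.inr 1) (Sum.inl 0) = 0
  c02 : 1 + (-A (Sum.inl 0) (Sum.inl 0)*A (Sum.inr 0) (Sum.inr 0)) + A (Sum.inl 0) (Sum.inr 0)*A (Sum.inr 0) (Sum.inl 0) + (-A (Sum.inl 1) (Sum.inl 0)*A (Sum.inr 1) (Sum.inr 0)) + A (Sum.inl 1) (Sum.inr 0)*A (Sum.inr 1) (Sum.inl 0) = 0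
  c03 : (-A (Sum.inl 0) (Sum.inl 0)*A (Sum.inr 0) (Sum.inr 1)) + A (Sum.inl 0) (Sum.inr 1)*A (Sum.inr 0) (Sum.inl 0) + (-A (Sum.inl 1) (Sum.inl 0)*A (Sum.inr 1) (Sum.inr 1)) + A (Sum.inl 1) (Sum.inr 1)*A (Sum.inr 1) (Sum.inl 0) = 0
  c12 : (-A (Sum.inl 0) (Sum.inl 1)*A (Sum.inr 0) (Sum.inr 0)) + A (Sum.inl 0) (Sum.inr 0)*A (Sum.inr 0) (Sum.inl 1) + (-A (Sum.inl 1) (Sum.inl 1)*A (Sum.inr 1) (Sum.inr 0)) + A (Sum.inl 1) (Sum.inr 0)*A (Sum.inr 1) (Sum.inl 1) = 0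
  c13 : 1 + (-A (Sum.inl 0) (Sum.inl 1)*A (Sum.inr 0) (Sum.inr 1)) + A (Sum.inl 0) (Sum.inr 1)*A (Sum.inr 0) (Sum.inl 1) + (-A (Sum.inl 1) (Sum.inl 1)*A (Sum.inr 1) (Sum.inr 1)) + A (Sum.inl 1) (Sum.inr 1)*A (Sum.inr 1) (Sum.inl 1) = 0
  c23 : (-A (Sum.inl 0) (Sum.inr 0)*A (Sum.inr 0) (Sum.inr 1)) + A (Sum.inl 0) (Sum.inr 1)*A (Sum.inr 0) (Sum.inr 0) + (-A (Sum.inl 1) (Sum.inr 0)*A (Sum.inr 1) (Sum.inr 1)) + A (Sum.inl 1) (Sum.inr 1)*A (Sum.inr 1) (Sum.inr 0) = 0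

theorem rels_of_mem {A : Matrix I4 I4 F} (hA : A ∈ symplecticGroup (Fin 2) F) : Rels A := by
  have h1 := (SymplecticGroup.mem_iff (l := Fin 2) (R := F)).1 hA
  have h2 := (SymplecticGroup.mem_iff' (l := Fin 2) (R := F)).1 hA
  have hr : ∀ i j : I4, -(A i (.inl 0) * A j (.inr 0)) - A i (.inl 1) * A j (.inr 1)
      + A i (.inr 0) * A j (.inl 0) + A i (.inr 1) * A j (.inl 1) = J (Fin 2) F i j := by
    intro i j
    rw [← mul_J_mul_transpose_apply, h1]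
  have hc : ∀ i j : I4, -(A (.inl 0) i * A (.inr 0) j) - A (.inl 1) i * A (.inr 1) j
      + A (.inr 0) i * A (.inl 0) j + A (.inr 1) i * A (.inl 1) j = J (Fin 2) F i j := by
    intro i j
    rw [← transpose_mul_J_mul_apply, h2]
  constructor
  · have := hr (Sum.inl 0) (Sum.inl 1)
    simp only [J_apply_inl_inl, J_apply_inr_inr, J_apply_inl_inr, J_apply_inr_inl] at this
    norm_num at this
    linear_combination this
  · have := hr (Sum.inl 0) (Sum.inr 0)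
    simp only [J_apply_inl_inl, J_apply_inr_inr, J_apply_inl_inr, J_apply_inr_inl] at this
    norm_num at this
    linear_combination this
  · have := hr (Sum.inl 0) (Sum.inr 1)
    simp only [J_apply_inl_inl, J_apply_inr_inr, J_apply_inl_inr, J_apply_inr_inl] at this
    norm_num at this
    linear_combination this
  · have := hr (Sum.inl 1) (Sum.inr 0)
    simp only [J_apply_inl_inl, J_apply_inr_inr, J_apply_inl_inr, J_apply_inr_inl] at this
    norm_num at this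
    linear_combination this
  · have := hr (Sum.inl 1) (Sum.inr 1)
    simp only [J_apply_inl_inl, J_apply_inr_inr, J_apply_inl_inr, J_apply_inr_inl] at this
    norm_num at this
    linear_combination this
  · have := hr (Sum.inr 0) (Sum.inr 1)
    simp only [J_apply_inl_inl, J_apply_inr_inr, J_apply_inl_inr, J_apply_inr_inl] at this
    norm_num at this
    linear_combination this
  · have := hc (Sum.inl 0) (Sum.inl 1)
    simp only [J_apply_inl_inl, J_apply_inr_inr, J_apply_inl_inr, J_apply_inr_inl] at this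
    norm_num at this
    linear_combination this
  · have := hc (Sum.inl 0) (Sum.inr 0)
    simp only [J_apply_inl_inl, J_apply_inr_inr, J_apply_inl_inr, J_apply_inr_inl] at this
    norm_num at this
    linear_combination this
  · have := hc (Sum.inl 0) (Sum.inr 1)
    simp only [J_apply_inl_inl, J_apply_inr_inr, J_apply_inl_inr, J_apply_inr_inl] at this
    norm_num at this
    linear_combination this
  · have := hc (Sum.inl 1) (Sum.inr 0)
    simp only [J_apply_inl_inl, J_apply_inr_inr, J_apply_inl_inr, J_apply_inr_inl] at this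
    norm_num at this
    linear_combination this
  · have := hc (Sum.inl 1) (Sum.inr 1)
    simp only [J_apply_inl_inl, J_apply_inr_inr, J_apply_inl_inr, J_apply_inr_inl] at this
    norm_num at this
    linear_combination this
  · have := hc (Sum.inr 0) (Sum.inr 1)
    simp only [J_apply_inl_inl, J_apply_inr_inr, J_apply_inl_inr, J_apply_inr_inl] at this
    norm_num at this
    linear_combination this

end Cfsg.Agent.Lib.Lead.Sp4Graph
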