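import Cfsg.Agent.Lib.Lead.Sp4GraphB

set_option autoImplicit false
set_option linter.unusedVariables false
set_option linter.unusedSimpArgs false
set_option linter.unusedTactic false
set_option linter.unreachableTactic false
set_option maxHeartbeats 2000000

/-!
# Graph automorphism of `Sp₄` in characteristic 2, part C: `gam` is an endomorphism of `Sp₄(F)` squaring to Frobenius
-/

namespace Cfsg.Agent.Lib.Lead.Sp4Graph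

open Matrix

variable {F : Type*} [CommRing F]

theorem gam_one : gam (1 : Matrix I4 I4 F) = 1 := by
  ext i j
  rcases i with i | i <;> rcases j with j | j <;> fin_cases i <;> fin_cases j <;>
    simp [gam_apply, p1, p2, Matrix.one_apply]

/-- `gam (gam A)` is the entrywise square of `A` -/
theorem gam_gam (h2 : (2 : F) = 0) {A : Matrix I4 I4 F} (hA : A ∈ symplecticGroup (Fin 2) F) :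
    gam (gam A) = A.map (fun x => x ^ 2) := by
  have R := rels_of_mem hA
  ext i j
  rcases i with i | i <;> rcases j with j | j <;> fin_cases i <;> fin_cases j
  · simp [gam_apply, p1, p2]
    linear_combination core_I3_00 (A (Sum.inl 0) (Sum.inl 0)) (A (Sum.inl 0) (Sum.inl 1)) (A (Sum.inl 0) (Sum.inr 0)) (A (Sum.inl 0) (Sum.inr 1)) (A (Sum.inl 1) (Sum.inl 0)) (A (Sum.inl 1) (Sum.inl 1)) (A (Sum.inl 1) (Sum.inr 0)) (A (Sum.inl 1) (Sum.inr 1)) (A (Sum.inr 0) (Sum.inl 0)) (A (Sum.inr 0) (Sum.inl 1)) (A (Sum.inr 0) (Sum.inr 0)) (A (Sum.inr 0) (Sum.inr 1)) (A (Sum.inr 1) (Sum.inl 0)) (A (Sum.inr 1) (Sum.inl 1)) (A (Sum.inr 1) (Sum.inr 0)) (A (Sum.inr 1) (Sum.inr 1)) h2 R.r01 R.r02 R.r03 R.r12 R.r13 R.r23 R.c01 R.c02 R.c03 R.c12 R.c13 R.c23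
  · simp [gam_apply, p1, p2]
    linear_combination core_I3_01 (A (Sum.inl 0) (Sum.inl 0)) (A (Sum.inl 0) (Sum.inl 1)) (A (Sum.inl 0) (Sum.inr 0)) (A (Sum.inl 0) (Sum.inr 1)) (A (Sum.inl 1) (Sum.inl 0)) (A (Sum.inl 1) (Sum.inl 1)) (A (Sum.inl 1) (Sum.inr 0)) (A (Sum.inl 1) (Sum.inr 1)) (A (Sum.inr 0) (Sum.inl 0)) (A (Sum.inr 0) (Sum.inl 1)) (A (Sum.inr 0) (Sum.inr 0)) (A (Sum.inr 0) (Sum.inr 1)) (A (Sum.inr 1) (Sum.inl 0)) (A (Sum.inr 1) (Sum.inl 1)) (A (Sum.inr 1) (Sum.inr 0)) (A (Sum.inr 1) (Sum.inr 1)) h2 R.r01 R.r02 R.r03 R.r12 R.r13 R.r23 R.c01 R.c02 R.c03 R.c12 R.c13 R.c23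
  · simp [gam_apply, p1, p2]
    linear_combination core_I3_10 (A (Sum.inl 0) (Sum.inl 0)) (A (Sum.inl 0) (Sum.inl 1)) (A (Sum.inl 0) (Sum.inr 0)) (A (Sum.inl 0) (Sum.inr 1)) (A (Sum.inl 1) (Sum.inl 0)) (A (Sum.inl 1) (Sum.inl 1)) (A (Sum.inl 1) (Sum.inr 0)) (A (Sum.inl 1) (Sum.inr 1)) (A (Sum.inr 0) (Sum.inl 0)) (A (Sum.inr 0) (Sum.inl 1)) (A (Sum.inr 0) (Sum.inr 0)) (A (Sum.inr 0) (Sum.inr 1)) (A (Sum.inr 1) (Sum.inl 0)) (A (Sum.inr 1) (Sum.inl 1)) (A (Sum.inr 1) (Sum.inr 0)) (A (Sum.inr 1) (Sum.inr 1)) h2 R.r01 R.r02 R.r03 R.r12 R.r13 R.r23 R.c01 R.c02 R.c03 R.c12 R.c13 R.c23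
  · simp [gam_apply, p1, p2]
    linear_combination core_I3_11 (A (Sum.inl 0) (Sum.inl 0)) (A (Sum.inl 0) (Sum.inl 1)) (A (Sum.inl 0) (Sum.inr 0)) (A (Sum.inl 0) (Sum.inr 1)) (A (Sum.inl 1) (Sum.inl 0)) (A (Sum.inl 1) (Sum.inl 1)) (A (Sum.inl 1) (Sum.inr 0)) (A (Sum.inl 1) (Sum.inr 1)) (A (Sum.inr 0) (Sum.inl 0)) (A (Sum.inr 0) (Sum.inl 1)) (A (Sum.inr 0) (Sum.inr 0)) (A (Sum.inr 0) (Sum.inr 1)) (A (Sum.inr 1) (Sum.inl 0)) (A (Sum.inr 1) (Sum.inl 1)) (A (Sum.inr 1) (Sum.inr 0)) (A (Sum.inr 1) (Sum.inr 1)) h2 R.r01 R.r02 R.r03 R.r12 R.r13 R.r23 R.c01 R.c02 R.c03 R.c12 R.c13 R.c23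
  · simp [gam_apply, p1, p2]
    linear_combination core_I3_02 (A (Sum.inl 0) (Sum.inl 0)) (A (Sum.inl 0) (Sum.inl 1)) (A (Sum.inl 0) (Sum.inr 0)) (A (Sum.inl 0) (Sum.inr 1)) (A (Sum.inl 1) (Sum.inl 0)) (A (Sum.inl 1) (Sum.inl 1)) (A (Sum.inl 1) (Sum.inr 0)) (A (Sum.inl 1) (Sum.inr 1)) (A (Sum.inr 0) (Sum.inl 0)) (A (Sum.inr 0) (Sum.inl 1)) (A (Sum.inr 0) (Sum.inr 0)) (A (Sum.inr 0) (Sum.inr 1)) (A (Sum.inr 1) (Sum.inl 0)) (A (Sum.inr 1) (Sum.inl 1)) (A (Sum.inr 1) (Sum.inr 0)) (A (Sum.inr 1) (Sum.inr 1)) h2 R.r01 R.r02 R.r03 R.r12 R.r13 R.r23 R.c01 R.c02 R.c03 R.c12 R.c13 R.c23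
  · simp [gam_apply, p1, p2]
    linear_combination core_I3_03 (A (Sum.inl 0) (Sum.inl 0)) (A (Sum.inl 0) (Sum.inl 1)) (A (Sum.inl 0) (Sum.inr 0)) (A (Sum.inl 0) (Sum.inr 1)) (A (Sum.inl 1) (Sum.inl 0)) (A (Sum.inl 1) (Sum.inl 1)) (A (Sum.inl 1) (Sum.inr 0)) (A (Sum.inl 1) (Sum.inr 1)) (A (Sum.inr 0) (Sum.inl 0)) (A (Sum.inr 0) (Sum.inl 1)) (A (Sum.inr 0) (Sum.inr 0)) (A (Sum.inr 0) (Sum.inr 1)) (A (Sum.inr 1) (Sum.inl 0)) (A (Sum.inr 1) (Sum.inl 1)) (A (Sum.inr 1) (Sum.inr 0)) (A (Sum.inr 1) (Sum.inr 1)) h2 R.r01 R.r02 R.r03 R.r12 R.r13 R.r23 R.c01 R.c02 R.c03 R.c12 R.c13 R.c23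
  · simp [gam_apply, p1, p2]
    linear_combination core_I3_12 (A (Sum.inl 0) (Sum.inl 0)) (A (Sum.inl 0) (Sum.inl 1)) (A (Sum.inl 0) (Sum.inr 0)) (A (Sum.inl 0) (Sum.inr 1)) (A (Sum.inl 1) (Sum.inl 0)) (A (Sum.inl 1) (Sum.inl 1)) (A (Sum.inl 1) (Sum.inr 0)) (A (Sum.inl 1) (Sum.inr 1)) (A (Sum.inr 0) (Sum.inl 0)) (A (Sum.inr 0) (Sum.inl 1)) (A (Sum.inr 0) (Sum.inr 0)) (A (Sum.inr 0) (Sum.inr 1)) (A (Sum.inr 1) (Sum.inl 0)) (A (Sum.inr 1) (Sum.inl 1)) (A (Sum.inr 1) (Sum.inr 0)) (A (Sum.inr 1) (Sum.inr 1)) h2 R.r01 R.r02 R.r03 R.r12 R.r13 R.r23 R.c01 R.c02 R.c03 R.c12 R.c13 R.c23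
  · simp [gam_apply, p1, p2]
    linear_combination core_I3_13 (A (Sum.inl 0) (Sum.inl 0)) (A (Sum.inl 0) (Sum.inl 1)) (A (Sum.inl 0) (Sum.inr 0)) (A (Sum.inl 0) (Sum.inr 1)) (A (Sum.inl 1) (Sum.inl 0)) (A (Sum.inl 1) (Sum.inl 1)) (A (Sum.inl 1) (Sum.inr 0)) (A (Sum.inl 1) (Sum.inr 1)) (A (Sum.inr 0) (Sum.inl 0)) (A (Sum.inr 0) (Sum.inl 1)) (A (Sum.inr 0) (Sum.inr 0)) (A (Sum.inr 0) (Sum.inr 1)) (A (Sum.inr 1) (Sum.inl 0)) (A (Sum.inr 1) (Sum.inl 1)) (A (Sum.inr 1) (Sum.inr 0)) (A (Sum.inr 1) (Sum.inr 1)) h2 R.r01 R.r02 R.r03 R.r12 R.r13 R.r23 R.c01 R.c02 R.c03 R.c12 R.c13 R.c23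
  · simp [gam_apply, p1, p2]
    linear_combination core_I3_20 (A (Sum.inl 0) (Sum.inl 0)) (A (Sum.inl 0) (Sum.inl 1)) (A (Sum.inl 0) (Sum.inr 0)) (A (Sum.inl 0) (Sum.inr 1)) (A (Sum.inl 1) (Sum.inl 0)) (A (Sum.inl 1) (Sum.inl 1)) (A (Sum.inl 1) (Sum.inr 0)) (A (Sum.inl 1) (Sum.inr 1)) (A (Sum.inr 0) (Sum.inl 0)) (A (Sum.inr 0) (Sum.inl 1)) (A (Sum.inr 0) (Sum.inr 0)) (A (Sum.inr 0) (Sum.inr 1)) (A (Sum.inr 1) (Sum.inl 0)) (A (Sum.inr 1) (Sum.inl 1)) (A (Sum.inr 1) (Sum.inr 0)) (A (Sum.inr 1) (Sum.inr 1)) h2 R.r01 R.r02 R.r03 R.r12 R.r13 R.r23 R.c01 R.c02 R.c03 R.c12 R.c13 R.c23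
  · simp [gam_apply, p1, p2]
    linear_combination core_I3_21 (A (Sum.inl 0) (Sum.inl 0)) (A (Sum.inl 0) (Sum.inl 1)) (A (Sum.inl 0) (Sum.inr 0)) (A (Sum.inl 0) (Sum.inr 1)) (A (Sum.inl 1) (Sum.inl 0)) (A (Sum.inl 1) (Sum.inl 1)) (A (Sum.inl 1) (Sum.inr 0)) (A (Sum.inl 1) (Sum.inr 1)) (A (Sum.inr 0) (Sum.inl 0)) (A (Sum.inr 0) (Sum.inl 1)) (A (Sum.inr 0) (Sum.inr 0)) (A (Sum.inr 0) (Sum.inr 1)) (A (Sum.inr 1) (Sum.inl 0)) (A (Sum.inr 1) (Sum.inl 1)) (A (Sum.inr 1) (Sum.inr 0)) (A (Sum.inr 1) (Sum.inr 1)) h2 R.r01 R.r02 R.r03 R.r12 R.r13 R.r23 R.c01 R.c02 R.c03 R.c12 R.c13 R.c23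
  · simp [gam_apply, p1, p2]
    linear_combination core_I3_30 (A (Sum.inl 0) (Sum.inl 0)) (A (Sum.inl 0) (Sum.inl 1)) (A (Sum.inl 0) (Sum.inr 0)) (A (Sum.inl 0) (Sum.inr 1)) (A (Sum.inl 1) (Sum.inl 0)) (A (Sum.inl 1) (Sum.inl 1)) (A (Sum.inl 1) (Sum.inr 0)) (A (Sum.inl 1) (Sum.inr 1)) (A (Sum.inr 0) (Sum.inl 0)) (A (Sum.inr 0) (Sum.inl 1)) (A (Sum.inr 0) (Sum.inr 0)) (A (Sum.inr 0) (Sum.inr 1)) (A (Sum.inr 1) (Sum.inl 0)) (A (Sum.inr 1) (Sum.inl 1)) (A (Sum.inr 1) (Sum.inr 0)) (A (Sum.inr 1) (Sum.inr 1)) h2 R.r01 R.r02 R.r03 R.r12 R.r13 R.r23 R.c01 R.c02 R.c03 R.c12 R.c13 R.c23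
  · simp [gam_apply, p1, p2]
    linear_combination core_I3_31 (A (Sum.inl 0) (Sum.inl 0)) (A (Sum.inl 0) (Sum.inl 1)) (A (Sum.inl 0) (Sum.inr 0)) (A (Sum.inl 0) (Sum.inr 1)) (A (Sum.inl 1) (Sum.inl 0)) (A (Sum.inl 1) (Sum.inl 1)) (A (Sum.inl 1) (Sum.inr 0)) (A (Sum.inl 1) (Sum.inr 1)) (A (Sum.inr 0) (Sum.inl 0)) (A (Sum.inr 0) (Sum.inl 1)) (A (Sum.inr 0) (Sum.inr 0)) (A (Sum.inr 0) (Sum.inr 1)) (A (Sum.inr 1) (Sum.inl 0)) (A (Sum.inr 1) (Sum.inl 1)) (A (Sum.inr 1) (Sum.inr 0)) (A (Sum.inr 1) (Sum.inr 1)) h2 R.r01 R.r02 R.r03 R.r12 R.r13 R.r23 R.c01 R.c02 R.c03 R.c12 R.c13 R.c23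
  · simp [gam_apply, p1, p2]
    linear_combination core_I3_22 (A (Sum.inl 0) (Sum.inl 0)) (A (Sum.inl 0) (Sum.inl 1)) (A (Sum.inl 0) (Sum.inr 0)) (A (Sum.inl 0) (Sum.inr 1)) (A (Sum.inl 1) (Sum.inl 0)) (A (Sum.inl 1) (Sum.inl 1)) (A (Sum.inl 1) (Sum.inr 0)) (A (Sum.inl 1) (Sum.inr 1)) (A (Sum.inr 0) (Sum.inl 0)) (A (Sum.inr 0) (Sum.inl 1)) (A (Sum.inr 0) (Sum.inr 0)) (A (Sum.inr 0) (Sum.inr 1)) (A (Sum.inr 1) (Sum.inl 0)) (A (Sum.inr 1) (Sum.inl 1)) (A (Sum.inr 1) (Sum.inr 0)) (A (Sum.inr 1) (Sum.inr 1)) h2 R.r01 R.r02 R.r03 R.r12 R.r13 R.r23 R.c01 R.c02 R.c03 R.c12 R.c13 R.c23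
  · simp [gam_apply, p1, p2]
    linear_combination core_I3_23 (A (Sum.inl 0) (Sum.inl 0)) (A (Sum.inl 0) (Sum.inl 1)) (A (Sum.inl 0) (Sum.inr 0)) (A (Sum.inl 0) (Sum.inr 1)) (A (Sum.inl 1) (Sum.inl 0)) (A (Sum.inl 1) (Sum.inl 1)) (A (Sum.inl 1) (Sum.inr 0)) (A (Sum.inl 1) (Sum.inr 1)) (A (Sum.inr 0) (Sum.inl 0)) (A (Sum.inr 0) (Sum.inl 1)) (A (Sum.inr 0) (Sum.inr 0)) (A (Sum.inr 0) (Sum.inr 1)) (A (Sum.inr 1) (Sum.inl 0)) (A (Sum.inr 1) (Sum.inl 1)) (A (Sum.inr 1) (Sum.inr 0)) (A (Sum.inr 1) (Sum.inr 1)) h2 R.r01 R.r02 R.r03 R.r12 R.r13 R.r23 R.c01 R.c02 R.c03 R.c12 R.c13 R.c23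
  · simp [gam_apply, p1, p2]
    linear_combination core_I3_32 (A (Sum.inl 0) (Sum.inl 0)) (A (Sum.inl 0) (Sum.inl 1)) (A (Sum.inl 0) (Sum.inr 0)) (A (Sum.inl 0) (Sum.inr 1)) (A (Sum.inl 1) (Sum.inl 0)) (A (Sum.inl 1) (Sum.inl 1)) (A (Sum.inl 1) (Sum.inr 0)) (A (Sum.inl 1) (Sum.inr 1)) (A (Sum.inr 0) (Sum.inl 0)) (A (Sum.inr 0) (Sum.inl 1)) (A (Sum.inr 0) (Sum.inr 0)) (A (Sum.inr 0) (Sum.inr 1)) (A (Sum.inr 1) (Sum.inl 0)) (A (Sum.inr 1) (Sum.inl 1)) (A (Sum.inr 1) (Sum.inr 0)) (A (Sum.inr 1) (Sum.inr 1)) h2 R.r01 R.r02 R.r03 R.r12 R.r13 R.r23 R.c01 R.c02 R.c03 R.c12 R.c13 R.c23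
  · simp [gam_apply, p1, p2]
    linear_combination core_I3_33 (A (Sum.inl 0) (Sum.inl 0)) (A (Sum.inl 0) (Sum.inl 1)) (A (Sum.inl 0) (Sum.inr 0)) (A (Sum.inl 0) (Sum.inr 1)) (A (Sum.inl 1) (Sum.inl 0)) (A (Sum.inl 1) (Sum.inl 1)) (A (Sum.inl 1) (Sum.inr 0)) (A (Sum.inl 1) (Sum.inr 1)) (A (Sum.inr 0) (Sum.inl 0)) (A (Sum.inr 0) (Sum.inl 1)) (A (Sum.inr 0) (Sum.inr 0)) (A (Sum.inr 0) (Sum.inr 1)) (A (Sum.inr 1) (Sum.inl 0)) (A (Sum.inr 1) (Sum.inl 1)) (A (Sum.inr 1) (Sum.inr 0)) (A (Sum.inr 1) (Sum.inr 1)) h2 R.r01 R.r02 R.r03 R.r12 R.r13 R.r23 R.c01 R.c02 R.c03 R.c12 R.c13 R.c23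

/-- `gam A` is symplectic -/
theorem gam_mem (h2 : (2 : F) = 0) {A : Matrix I4 I4 F} (hA : A ∈ symplecticGroup (Fin 2) F) :
    gam A ∈ symplecticGroup (Fin 2) F := by
  have R := rels_of_mem hA
  rw [SymplecticGroup.mem_iff]
  ext i j
  rw [mul_J_mul_transpose_apply]
  rcases i with i | i <;> rcases j with j | j <;> fin_cases i <;> fin_cases j
  · simp [gam_apply, p1, p2, J_apply_inl_inl, J_apply_inr_inr, J_apply_inl_inr, J_apply_inr_inl]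
    ring
  · simp [gam_apply, p1, p2, J_apply_inl_inl, J_apply_inr_inr, J_apply_inl_inr, J_apply_inr_inl]
    linear_combination core_I1_01 (A (Sum.inl 0) (Sum.inl 0)) (A (Sum.inl 0) (Sum.inl 1)) (A (Sum.inl 0) (Sum.inr 0)) (A (Sum.inl 0) (Sum.inr 1)) (A (Sum.inl 1) (Sum.inl 0)) (A (Sum.inl 1) (Sum.inl 1)) (A (Sum.inl 1) (Sum.inr 0)) (A (Sum.inl 1) (Sum.inr 1)) (A (Sum.inr 0) (Sum.inl 0)) (A (Sum.inr 0) (Sum.inl 1)) (A (Sum.inr 0) (Sum.inr 0)) (A (Sum.inr 0) (Sum.inr 1)) (A (Sum.inr 1) (Sum.inl 0)) (A (Sum.inr 1) (Sum.inl 1)) (A (Sum.inr 1) (Sum.inr 0)) (A (Sum.inr 1) (Sum.inr 1)) h2 R.r01 R.r02 R.r03 R.r12 R.r13 R.r23 R.c01 R.c02 R.c03 R.c12 R.c13 R.c23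
  · simp [gam_apply, p1, p2, J_apply_inl_inl, J_apply_inr_inr, J_apply_inl_inr, J_apply_inr_inl]
    linear_combination core_I1_10 (A (Sum.inl 0) (Sum.inl 0)) (A (Sum.inl 0) (Sum.inl 1)) (A (Sum.inl 0) (Sum.inr 0)) (A (Sum.inl 0) (Sum.inr 1)) (A (Sum.inl 1) (Sum.inl 0)) (A (Sum.inl 1) (Sum.inl 1)) (A (Sum.inl 1) (Sum.inr 0)) (A (Sum.inl 1) (Sum.inr 1)) (A (Sum.inr 0) (Sum.inl 0)) (A (Sum.inr 0) (Sum.inl 1)) (A (Sum.inr 0) (Sum.inr 0)) (A (Sum.inr 0) (Sum.inr 1)) (A (Sum.inr 1) (Sum.inl 0)) (A (Sum.inr 1) (Sum.inl 1)) (A (Sum.inr 1) (Sum.inr 0)) (A (Sum.inr 1) (Sum.inr 1)) h2 R.r01 R.r02 R.r03 R.r12 R.r13 R.r23 R.c01 R.c02 R.c03 R.c12 R.c13 R.c23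
  · simp [gam_apply, p1, p2, J_apply_inl_inl, J_apply_inr_inr, J_apply_inl_inr, J_apply_inr_inl]
    ring
  · simp [gam_apply, p1, p2, J_apply_inl_inl, J_apply_inr_inr, J_apply_inl_inr, J_apply_inr_inl]
    linear_combination core_I1_02 (A (Sum.inl 0) (Sum.inl 0)) (A (Sum.inl 0) (Sum.inl 1)) (A (Sum.inl 0) (Sum.inr 0)) (A (Sum.inl 0) (Sum.inr 1)) (A (Sum.inl 1) (Sum.inl 0)) (A (Sum.inl 1) (Sum.inl 1)) (A (Sum.inl 1) (Sum.inr 0)) (A (Sum.inl 1) (Sum.inr 1)) (A (Sum.inr 0) (Sum.inl 0)) (A (Sum.inr 0) (Sum.inl 1)) (A (Sum.inr 0) (Sum.inr 0)) (A (Sum.inr 0) (Sum.inr 1)) (A (Sum.inr 1) (Sum.inl 0)) (A (Sum.inr 1) (Sum.inl 1)) (A (Sum.inr 1) (Sum.inr 0)) (A (Sum.inr 1) (Sum.inr 1)) h2 R.r01 R.r02 R.r03 R.r12 R.r13 R.r23 R.c01 R.c02 R.c03 R.c12 R.c13 R.c23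
  · simp [gam_apply, p1, p2, J_apply_inl_inl, J_apply_inr_inr, J_apply_inl_inr, J_apply_inr_inl]
    linear_combination core_I1_03 (A (Sum.inl 0) (Sum.inl 0)) (A (Sum.inl 0) (Sum.inl 1)) (A (Sum.inl 0) (Sum.inr 0)) (A (Sum.inl 0) (Sum.inr 1)) (A (Sum.inl 1) (Sum.inl 0)) (A (Sum.inl 1) (Sum.inl 1)) (A (Sum.inl 1) (Sum.inr 0)) (A (Sum.inl 1) (Sum.inr 1)) (A (Sum.inr 0) (Sum.inl 0)) (A (Sum.inr 0) (Sum.inl 1)) (A (Sum.inr 0) (Sum.inr 0)) (A (Sum.inr 0) (Sum.inr 1)) (A (Sum.inr 1) (Sum.inl 0)) (A (Sum.inr 1) (Sum.inl 1)) (A (Sum.inr 1) (Sum.inr 0)) (A (Sum.inr 1) (Sum.inr 1)) h2 R.r01 R.r02 R.r03 R.r12 R.r13 R.r23 R.c01 R.c02 R.c03 R.c12 R.c13 R.c23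
  · simp [gam_apply, p1, p2, J_apply_inl_inl, J_apply_inr_inr, J_apply_inl_inr, J_apply_inr_inl]
    linear_combination core_I1_12 (A (Sum.inl 0) (Sum.inl 0)) (A (Sum.inl 0) (Sum.inl 1)) (A (Sum.inl 0) (Sum.inr 0)) (A (Sum.inl 0) (Sum.inr 1)) (A (Sum.inl 1) (Sum.inl 0)) (A (Sum.inl 1) (Sum.inl 1)) (A (Sum.inl 1) (Sum.inr 0)) (A (Sum.inl 1) (Sum.inr 1)) (A (Sum.inr 0) (Sum.inl 0)) (A (Sum.inr 0) (Sum.inl 1)) (A (Sum.inr 0) (Sum.inr 0)) (A (Sum.inr 0) (Sum.inr 1)) (A (Sum.inr 1) (Sum.inl 0)) (A (Sum.inr 1) (Sum.inl 1)) (A (Sum.inr 1) (Sum.inr 0)) (A (Sum.inr 1) (Sum.inr 1)) h2 R.r01 R.r02 R.r03 R.r12 R.r13 R.r23 R.c01 R.c02 R.c03 R.c12 R.c13 R.c23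
  · simp [gam_apply, p1, p2, J_apply_inl_inl, J_apply_inr_inr, J_apply_inl_inr, J_apply_inr_inl]
    linear_combination core_I1_13 (A (Sum.inl 0) (Sum.inl 0)) (A (Sum.inl 0) (Sum.inl 1)) (A (Sum.inl 0) (Sum.inr 0)) (A (Sum.inl 0) (Sum.inr 1)) (A (Sum.inl 1) (Sum.inl 0)) (A (Sum.inl 1) (Sum.inl 1)) (A (Sum.inl 1) (Sum.inr 0)) (A (Sum.inl 1) (Sum.inr 1)) (A (Sum.inr 0) (Sum.inl 0)) (A (Sum.inr 0) (Sum.inl 1)) (A (Sum.inr 0) (Sum.inr 0)) (A (Sum.inr 0) (Sum.inr 1)) (A (Sum.inr 1) (Sum.inl 0)) (A (Sum.inr 1) (Sum.inl 1)) (A (Sum.inr 1) (Sum.inr 0)) (A (Sum.inr 1) (Sum.inr 1)) h2 R.r01 R.r02 R.r03 R.r12 R.r13 R.r23 R.c01 R.c02 R.c03 R.c12 R.c13 R.c23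
  · simp [gam_apply, p1, p2, J_apply_inl_inl, J_apply_inr_inr, J_apply_inl_inr, J_apply_inr_inl]
    linear_combination core_I1_20 (A (Sum.inl 0) (Sum.inl 0)) (A (Sum.inl 0) (Sum.inl 1)) (A (Sum.inl 0) (Sum.inr 0)) (A (Sum.inl 0) (Sum.inr 1)) (A (Sum.inl 1) (Sum.inl 0)) (A (Sum.inl 1) (Sum.inl 1)) (A (Sum.inl 1) (Sum.inr 0)) (A (Sum.inl 1) (Sum.inr 1)) (A (Sum.inr 0) (Sum.inl 0)) (A (Sum.inr 0) (Sum.inl 1)) (A (Sum.inr 0) (Sum.inr 0)) (A (Sum.inr 0) (Sum.inr 1)) (A (Sum.inr 1) (Sum.inl 0)) (A (Sum.inr 1) (Sum.inl 1)) (A (Sum.inr 1) (Sum.inr 0)) (A (Sum.inr 1) (Sum.inr 1)) h2 R.r01 R.r02 R.r03 R.r12 R.r13 R.r23 R.c01 R.c02 R.c03 R.c12 R.c13 R.c23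
  · simp [gam_apply, p1, p2, J_apply_inl_inl, J_apply_inr_inr, J_apply_inl_inr, J_apply_inr_inl]
    linear_combination core_I1_21 (A (Sum.inl 0) (Sum.inl 0)) (A (Sum.inl 0) (Sum.inl 1)) (A (Sum.inl 0) (Sum.inr 0)) (A (Sum.inl 0) (Sum.inr 1)) (A (Sum.inl 1) (Sum.inl 0)) (A (Sum.inl 1) (Sum.inl 1)) (A (Sum.inl 1) (Sum.inr 0)) (A (Sum.inl 1) (Sum.inr 1)) (A (Sum.inr 0) (Sum.inl 0)) (A (Sum.inr 0) (Sum.inl 1)) (A (Sum.inr 0) (Sum.inr 0)) (A (Sum.inr 0) (Sum.inr 1)) (A (Sum.inr 1) (Sum.inl 0)) (A (Sum.inr 1) (Sum.inl 1)) (A (Sum.inr 1) (Sum.inr 0)) (A (Sum.inr 1) (Sum.inr 1)) h2 R.r01 R.r02 R.r03 R.r12 R.r13 R.r23 R.c01 R.c02 R.c03 R.c12 R.c13 R.c23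
  · simp [gam_apply, p1, p2, J_apply_inl_inl, J_apply_inr_inr, J_apply_inl_inr, J_apply_inr_inl]
    linear_combination core_I1_30 (A (Sum.inl 0) (Sum.inl 0)) (A (Sum.inl 0) (Sum.inl 1)) (A (Sum.inl 0) (Sum.inr 0)) (A (Sum.inl 0) (Sum.inr 1)) (A (Sum.inl 1) (Sum.inl 0)) (A (Sum.inl 1) (Sum.inl 1)) (A (Sum.inl 1) (Sum.inr 0)) (A (Sum.inl 1) (Sum.inr 1)) (A (Sum.inr 0) (Sum.inl 0)) (A (Sum.inr 0) (Sum.inl 1)) (A (Sum.inr 0) (Sum.inr 0)) (A (Sum.inr 0) (Sum.inr 1)) (A (Sum.inr 1) (Sum.inl 0)) (A (Sum.inr 1) (Sum.inl 1)) (A (Sum.inr 1) (Sum.inr 0)) (A (Sum.inr 1) (Sum.inr 1)) h2 R.r01 R.r02 R.r03 R.r12 R.r13 R.r23 R.c01 R.c02 R.c03 R.c12 R.c13 R.c23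
  · simp [gam_apply, p1, p2, J_apply_inl_inl, J_apply_inr_inr, J_apply_inl_inr, J_apply_inr_inl]
    linear_combination core_I1_31 (A (Sum.inl 0) (Sum.inl 0)) (A (Sum.inl 0) (Sum.inl 1)) (A (Sum.inl 0) (Sum.inr 0)) (A (Sum.inl 0) (Sum.inr 1)) (A (Sum.inl 1) (Sum.inl 0)) (A (Sum.inl 1) (Sum.inl 1)) (A (Sum.inl 1) (Sum.inr 0)) (A (Sum.inl 1) (Sum.inr 1)) (A (Sum.inr 0) (Sum.inl 0)) (A (Sum.inr 0) (Sum.inl 1)) (A (Sum.inr 0) (Sum.inr 0)) (A (Sum.inr 0) (Sum.inr 1)) (A (Sum.inr 1) (Sum.inl 0)) (A (Sum.inr 1) (Sum.inl 1)) (A (Sum.inr 1) (Sum.inr 0)) (A (Sum.inr 1) (Sum.inr 1)) h2 R.r01 R.r02 R.r03 R.r12 R.r13 R.r23 R.c01 R.c02 R.c03 R.c12 R.c13 R.c23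
  · simp [gam_apply, p1, p2, J_apply_inl_inl, J_apply_inr_inr, J_apply_inl_inr, J_apply_inr_inl]
    ring
  · simp [gam_apply, p1, p2, J_apply_inl_inl, J_apply_inr_inr, J_apply_inl_inr, J_apply_inr_inl]
    linear_combination core_I1_23 (A (Sum.inl 0) (Sum.inl 0)) (A (Sum.inl 0) (Sum.inl 1)) (A (Sum.inl 0) (Sum.inr 0)) (A (Sum.inl 0) (Sum.inr 1)) (A (Sum.inl 1) (Sum.inl 0)) (A (Sum.inl 1) (Sum.inl 1)) (A (Sum.inl 1) (Sum.inr 0)) (A (Sum.inl 1) (Sum.inr 1)) (A (Sum.inr 0) (Sum.inl 0)) (A (Sum.inr 0) (Sum.inl 1)) (A (Sum.inr 0) (Sum.inr 0)) (A (Sum.inr 0) (Sum.inr 1)) (A (Sum.inr 1) (Sum.inl 0)) (A (Sum.inr 1) (Sum.inl 1)) (A (Sum.inr 1) (Sum.inr 0)) (A (Sum.inr 1) (Sum.inr 1)) h2 R.r01 R.r02 R.r03 R.r12 R.r13 R.r23 R.c01 R.c02 R.c03 R.c12 R.c13 R.c23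
  · simp [gam_apply, p1, p2, J_apply_inl_inl, J_apply_inr_inr, J_apply_inl_inr, J_apply_inr_inl]
    linear_combination core_I1_32 (A (Sum.inl 0) (Sum.inl 0)) (A (Sum.inl 0) (Sum.inl 1)) (A (Sum.inl 0) (Sum.inr 0)) (A (Sum.inl 0) (Sum.inr 1)) (A (Sum.inl 1) (Sum.inl 0)) (A (Sum.inl 1) (Sum.inl 1)) (A (Sum.inl 1) (Sum.inr 0)) (A (Sum.inl 1) (Sum.inr 1)) (A (Sum.inr 0) (Sum.inl 0)) (A (Sum.inr 0) (Sum.inl 1)) (A (Sum.inr 0) (Sum.inr 0)) (A (Sum.inr 0) (Sum.inr 1)) (A (Sum.inr 1) (Sum.inl 0)) (A (Sum.inr 1) (Sum.inl 1)) (A (Sum.inr 1) (Sum.inr 0)) (A (Sum.inr 1) (Sum.inr 1)) h2 R.r01 R.r02 R.r03 R.r12 R.r13 R.r23 R.c01 R.c02 R.c03 R.c12 R.c13 R.c23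
  · simp [gam_apply, p1, p2, J_apply_inl_inl, J_apply_inr_inr, J_apply_inl_inr, J_apply_inr_inl]
    ring

/-- `gam` is multiplicative on symplectic matrices -/
theorem gam_mul (h2 : (2 : F) = 0) {A B : Matrix I4 I4 F} (hA : A ∈ symplecticGroup (Fin 2) F)
    (hB : B ∈ symplecticGroup (Fin 2) F) : gam (A * B) = gam A * gam B := by
  have RA := rels_of_mem hA
  have RB := rels_of_mem hB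
  ext i j
  rcases i with i | i <;> rcases j with j | j <;> fin_cases i <;> fin_cases j
  · simp [gam_apply, p1, p2, Matrix.mul_apply, Fintype.sum_sum_type, Fin.sum_univ_two]
    linear_combination core_I2_00 (A (Sum.inl 0) (Sum.inl 0)) (A (Sum.inl 0) (Sum.inl 1)) (A (Sum.inl 0) (Sum.inr 0)) (A (Sum.inl 0) (Sum.inr 1)) (A (Sum.inl 1) (Sum.inl 0)) (A (Sum.inl 1) (Sum.inl 1)) (A (Sum.inl 1) (Sum.inr 0)) (A (Sum.inl 1) (Sum.inr 1)) (A (Sum.inr 0) (Sum.inl 0)) (A (Sum.inr 0) (Sum.inl 1)) (A (Sum.inr 0) (Sum.inr 0)) (A (Sum.inr 0) (Sum.inr 1)) (A (Sum.inr 1) (Sum.inl 0)) (A (Sum.inr 1) (Sum.inl 1)) (A (Sum.inr 1) (Sum.inr 0)) (A (Sum.inr 1) (Sum.inr 1)) (B (Sum.inl 0) (Sum.inl 0)) (B (Sum.inl 0) (Sum.inl 1)) (B (Sum.inl 0) (Sum.inr 0)) (B (Sum.inl 0) (Sum.inr 1)) (B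 (Sum.inl 1) (Sum.inl 0)) (B (Sum.inl 1) (Sum.inl 1)) (B (Sum.inl 1) (Sum.inr 0)) (B (Sum.inl 1) (Sum.inr 1)) (B (Sum.inr 0) (Sum.inl 0)) (B (Sum.inr 0) (Sum.inl 1)) (B (Sum.inr 0) (Sum.inr 0)) (B (Sum.inr 0) (Sum.inr 1)) (B (Sum.inr 1) (Sum.inl 0)) (B (Sum.inr 1) (Sum.inl 1)) (B (Sum.inr 1) (Sum.inr 0)) (B (Sum.inr 1) (Sum.inr 1)) h2 RA.r01 RA.r02 RA.r03 RA.r12 RA.r13 RA.r23 RA.c01 RA.c02 RA.c03 RA.c12 RA.c13 RA.c23 RB.r01 RB.r02 RB.r03 RB.r12 RB.r13 RB.r23 RB.c01 RB.c02 RB.c03 RB.c12 RB.c13 RB.c23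
  · simp [gam_apply, p1, p2, Matrix.mul_apply, Fintype.sum_sum_type, Fin.sum_univ_two]
    linear_combination core_I2_01 (A (Sum.inl 0) (Sum.inl 0)) (A (Sum.inl 0) (Sum.inl 1)) (A (Sum.inl 0) (Sum.inr 0)) (A (Sum.inl 0) (Sum.inr 1)) (A (Sum.inl 1) (Sum.inl 0)) (A (Sum.inl 1) (Sum.inl 1)) (A (Sum.inl 1) (Sum.inr 0)) (A (Sum.inl 1) (Sum.inr 1)) (A (Sum.inr 0) (Sum.inl 0)) (A (Sum.inr 0) (Sum.inl 1)) (A (Sum.inr 0) (Sum.inr 0)) (A (Sum.inr 0) (Sum.inr 1)) (A (Sum.inr 1) (Sum.inl 0)) (A (Sum.inr 1) (Sum.inl 1)) (A (Sum.inr 1) (Sum.inr 0)) (A (Sum.inr 1) (Sum.inr 1)) (B (Sum.inl 0) (Sum.inl 0)) (B (Sum.inl 0) (Sum.inl 1)) (B (Sum.inl 0) (Sum.inr 0)) (B (Sum.inl 0) (Sum.inr 1)) (B (Sum.inl 1) (Sum.inl 0)) (B (Sum.inl 1) (Sum.inl 1)) (B (Sum.inl 1) (Sum.inr 0)) (B (Sum.inl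 1) (Sum.inr 1)) (B (Sum.inr 0) (Sum.inl 0)) (B (Sum.inr 0) (Sum.inl 1)) (B (Sum.inr 0) (Sum.inr 0)) (B (Sum.inr 0) (Sum.inr 1)) (B (Sum.inr 1) (Sum.inl 0)) (B (Sum.inr 1) (Sum.inl 1)) (B (Sum.inr 1) (Sum.inr 0)) (B (Sum.inr 1) (Sum.inr 1)) h2 RA.r01 RA.r02 RA.r03 RA.r12 RA.r13 RA.r23 RA.c01 RA.c02 RA.c03 RA.c12 RA.c13 RA.c23 RB.r01 RB.r02 RB.r03 RB.r12 RB.r13 RB.r23 RB.c01 RB.c02 RB.c03 RB.c12 RB.c13 RB.c23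
  · simp [gam_apply, p1, p2, Matrix.mul_apply, Fintype.sum_sum_type, Fin.sum_univ_two]
    linear_combination core_I2_10 (A (Sum.inl 0) (Sum.inl 0)) (A (Sum.inl 0) (Sum.inl 1)) (A (Sum.inl 0) (Sum.inr 0)) (A (Sum.inl 0) (Sum.inr 1)) (A (Sum.inl 1) (Sum.inl 0)) (A (Sum.inl 1) (Sum.inl 1)) (A (Sum.inl 1) (Sum.inr 0)) (A (Sum.inl 1) (Sum.inr 1)) (A (Sum.inr 0) (Sum.inl 0)) (A (Sum.inr 0) (Sum.inl 1)) (A (Sum.inr 0) (Sum.inr 0)) (A (Sum.inr 0) (Sum.inr 1)) (A (Sum.inr 1) (Sum.inl 0)) (A (Sum.inr 1) (Sum.inl 1)) (A (Sum.inr 1) (Sum.inr 0)) (A (Sum.inr 1) (Sum.inr 1)) (B (Sum.inl 0) (Sum.inl 0)) (B (Sum.inl 0) (Sum.inl 1)) (B (Sum.inl 0) (Sum.inr 0)) (B (Sum.inl 0) (Sum.inr 1)) (B (Sum.inl 1) (Sum.inl 0)) (B (Sum.inl 1) (Sum.inl 1)) (B (Sum.inl 1) (Sum.inr 0)) (B (Sum.inl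 1) (Sum.inr 1)) (B (Sum.inr 0) (Sum.inl 0)) (B (Sum.inr 0) (Sum.inl 1)) (B (Sum.inr 0) (Sum.inr 0)) (B (Sum.inr 0) (Sum.inr 1)) (B (Sum.inr 1) (Sum.inl 0)) (B (Sum.inr 1) (Sum.inl 1)) (B (Sum.inr 1) (Sum.inr 0)) (B (Sum.inr 1) (Sum.inr 1)) h2 RA.r01 RA.r02 RA.r03 RA.r12 RA.r13 RA.r23 RA.c01 RA.c02 RA.c03 RA.c12 RA.c13 RA.c23 RB.r01 RB.r02 RB.r03 RB.r12 RB.r13 RB.r23 RB.c01 RB.c02 RB.c03 RB.c12 RB.c13 RB.c23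
  · simp [gam_apply, p1, p2, Matrix.mul_apply, Fintype.sum_sum_type, Fin.sum_univ_two]
    linear_combination core_I2_11 (A (Sum.inl 0) (Sum.inl 0)) (A (Sum.inl 0) (Sum.inl 1)) (A (Sum.inl 0) (Sum.inr 0)) (A (Sum.inl 0) (Sum.inr 1)) (A (Sum.inl 1) (Sum.inl 0)) (A (Sum.inl 1) (Sum.inl 1)) (A (Sum.inl 1) (Sum.inr 0)) (A (Sum.inl 1) (Sum.inr 1)) (A (Sum.inr 0) (Sum.inl 0)) (A (Sum.inr 0) (Sum.inl 1)) (A (Sum.inr 0) (Sum.inr 0)) (A (Sum.inr 0) (Sum.inr 1)) (A (Sum.inr 1) (Sum.inl 0)) (A (Sum.inr 1) (Sum.inl 1)) (A (Sum.inr 1) (Sum.inr 0)) (A (Sum.inr 1) (Sum.inr 1)) (B (Sum.inl 0) (Sum.inl 0)) (B (Sum.inl 0) (Sum.inl 1)) (B (Sum.inl 0) (Sum.inr 0)) (B (Sum.inl 0) (Sum.inr 1)) (B (Sum.inl 1) (Sum.inl 0)) (B (Sum.inl 1) (Sum.inl 1)) (B (Sum.inl 1) (Sum.inr 0)) (B (Sum.inl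 1) (Sum.inr 1)) (B (Sum.inr 0) (Sum.inl 0)) (B (Sum.inr 0) (Sum.inl 1)) (B (Sum.inr 0) (Sum.inr 0)) (B (Sum.inr 0) (Sum.inr 1)) (B (Sum.inr 1) (Sum.inl 0)) (B (Sum.inr 1) (Sum.inl 1)) (B (Sum.inr 1) (Sum.inr 0)) (B (Sum.inr 1) (Sum.inr 1)) h2 RA.r01 RA.r02 RA.r03 RA.r12 RA.r13 RA.r23 RA.c01 RA.c02 RA.c03 RA.c12 RA.c13 RA.c23 RB.r01 RB.r02 RB.r03 RB.r12 RB.r13 RB.r23 RB.c01 RB.c02 RB.c03 RB.c12 RB.c13 RB.c23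
  · simp [gam_apply, p1, p2, Matrix.mul_apply, Fintype.sum_sum_type, Fin.sum_univ_two]
    linear_combination core_I2_02 (A (Sum.inl 0) (Sum.inl 0)) (A (Sum.inl 0) (Sum.inl 1)) (A (Sum.inl 0) (Sum.inr 0)) (A (Sum.inl 0) (Sum.inr 1)) (A (Sum.inl 1) (Sum.inl 0)) (A (Sum.inl 1) (Sum.inl 1)) (A (Sum.inl 1) (Sum.inr 0)) (A (Sum.inl 1) (Sum.inr 1)) (A (Sum.inr 0) (Sum.inl 0)) (A (Sum.inr 0) (Sum.inl 1)) (A (Sum.inr 0) (Sum.inr 0)) (A (Sum.inr 0) (Sum.inr 1)) (A (Sum.inr 1) (Sum.inl 0)) (A (Sum.inr 1) (Sum.inl 1)) (A (Sum.inr 1) (Sum.inr 0)) (A (Sum.inr 1) (Sum.inr 1)) (B (Sum.inl 0) (Sum.inl 0)) (B (Sum.inl 0) (Sum.inl 1)) (B (Sum.inl 0) (Sum.inr 0)) (B (Sum.inl 0) (Sum.inr 1)) (B (Sum.inl 1) (Sum.inl 0)) (B (Sum.inl 1) (Sum.inl 1)) (B (Sum.inl 1) (Sum.inr 0)) (B (Sum.inl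 1) (Sum.inr 1)) (B (Sum.inr 0) (Sum.inl 0)) (B (Sum.inr 0) (Sum.inl 1)) (B (Sum.inr 0) (Sum.inr 0)) (B (Sum.inr 0) (Sum.inr 1)) (B (Sum.inr 1) (Sum.inl 0)) (B (Sum.inr 1) (Sum.inl 1)) (B (Sum.inr 1) (Sum.inr 0)) (B (Sum.inr 1) (Sum.inr 1)) h2 RA.r01 RA.r02 RA.r03 RA.r12 RA.r13 RA.r23 RA.c01 RA.c02 RA.c03 RA.c12 RA.c13 RA.c23 RB.r01 RB.r02 RB.r03 RB.r12 RB.r13 RB.r23 RB.c01 RB.c02 RB.c03 RB.c12 RB.c13 RB.c23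
  · simp [gam_apply, p1, p2, Matrix.mul_apply, Fintype.sum_sum_type, Fin.sum_univ_two]
    linear_combination core_I2_03 (A (Sum.inl 0) (Sum.inl 0)) (A (Sum.inl 0) (Sum.inl 1)) (A (Sum.inl 0) (Sum.inr 0)) (A (Sum.inl 0) (Sum.inr 1)) (A (Sum.inl 1) (Sum.inl 0)) (A (Sum.inl 1) (Sum.inl 1)) (A (Sum.inl 1) (Sum.inr 0)) (A (Sum.inl 1) (Sum.inr 1)) (A (Sum.inr 0) (Sum.inl 0)) (A (Sum.inr 0) (Sum.inl 1)) (A (Sum.inr 0) (Sum.inr 0)) (A (Sum.inr 0) (Sum.inr 1)) (A (Sum.inr 1) (Sum.inl 0)) (A (Sum.inr 1) (Sum.inl 1)) (A (Sum.inr 1) (Sum.inr 0)) (A (Sum.inr 1) (Sum.inr 1)) (B (Sum.inl 0) (Sum.inl 0)) (B (Sum.inl 0) (Sum.inl 1)) (B (Sum.inl 0) (Sum.inr 0)) (B (Sum.inl 0) (Sum.inr 1)) (B (Sum.inl 1) (Sum.inl 0)) (B (Sum.inl 1) (Sum.inl 1)) (B (Sum.inl 1) (Sum.inr 0)) (B (Sum.inl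 1) (Sum.inr 1)) (B (Sum.inr 0) (Sum.inl 0)) (B (Sum.inr 0) (Sum.inl 1)) (B (Sum.inr 0) (Sum.inr 0)) (B (Sum.inr 0) (Sum.inr 1)) (B (Sum.inr 1) (Sum.inl 0)) (B (Sum.inr 1) (Sum.inl 1)) (B (Sum.inr 1) (Sum.inr 0)) (B (Sum.inr 1) (Sum.inr 1)) h2 RA.r01 RA.r02 RA.r03 RA.r12 RA.r13 RA.r23 RA.c01 RA.c02 RA.c03 RA.c12 RA.c13 RA.c23 RB.r01 RB.r02 RB.r03 RB.r12 RB.r13 RB.r23 RB.c01 RB.c02 RB.c03 RB.c12 RB.c13 RB.c23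
  · simp [gam_apply, p1, p2, Matrix.mul_apply, Fintype.sum_sum_type, Fin.sum_univ_two]
    linear_combination core_I2_12 (A (Sum.inl 0) (Sum.inl 0)) (A (Sum.inl 0) (Sum.inl 1)) (A (Sum.inl 0) (Sum.inr 0)) (A (Sum.inl 0) (Sum.inr 1)) (A (Sum.inl 1) (Sum.inl 0)) (A (Sum.inl 1) (Sum.inl 1)) (A (Sum.inl 1) (Sum.inr 0)) (A (Sum.inl 1) (Sum.inr 1)) (A (Sum.inr 0) (Sum.inl 0)) (A (Sum.inr 0) (Sum.inl 1)) (A (Sum.inr 0) (Sum.inr 0)) (A (Sum.inr 0) (Sum.inr 1)) (A (Sum.inr 1) (Sum.inl 0)) (A (Sum.inr 1) (Sum.inl 1)) (A (Sum.inr 1) (Sum.inr 0)) (A (Sum.inr 1) (Sum.inr 1)) (B (Sum.inl 0) (Sum.inl 0)) (B (Sum.inl 0) (Sum.inl 1)) (B (Sum.inl 0) (Sum.inr 0)) (B (Sum.inl 0) (Sum.inr 1)) (B (Sum.inl 1) (Sum.inl 0)) (B (Sum.inl 1) (Sum.inl 1)) (B (Sum.inl 1) (Sum.inr 0)) (B (Sum.inl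 1) (Sum.inr 1)) (B (Sum.inr 0) (Sum.inl 0)) (B (Sum.inr 0) (Sum.inl 1)) (B (Sum.inr 0) (Sum.inr 0)) (B (Sum.inr 0) (Sum.inr 1)) (B (Sum.inr 1) (Sum.inl 0)) (B (Sum.inr 1) (Sum.inl 1)) (B (Sum.inr 1) (Sum.inr 0)) (B (Sum.inr 1) (Sum.inr 1)) h2 RA.r01 RA.r02 RA.r03 RA.r12 RA.r13 RA.r23 RA.c01 RA.c02 RA.c03 RA.c12 RA.c13 RA.c23 RB.r01 RB.r02 RB.r03 RB.r12 RB.r13 RB.r23 RB.c01 RB.c02 RB.c03 RB.c12 RB.c13 RB.c23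
  · simp [gam_apply, p1, p2, Matrix.mul_apply, Fintype.sum_sum_type, Fin.sum_univ_two]
    linear_combination core_I2_13 (A (Sum.inl 0) (Sum.inl 0)) (A (Sum.inl 0) (Sum.inl 1)) (A (Sum.inl 0) (Sum.inr 0)) (A (Sum.inl 0) (Sum.inr 1)) (A (Sum.inl 1) (Sum.inl 0)) (A (Sum.inl 1) (Sum.inl 1)) (A (Sum.inl 1) (Sum.inr 0)) (A (Sum.inl 1) (Sum.inr 1)) (A (Sum.inr 0) (Sum.inl 0)) (A (Sum.inr 0) (Sum.inl 1)) (A (Sum.inr 0) (Sum.inr 0)) (A (Sum.inr 0) (Sum.inr 1)) (A (Sum.inr 1) (Sum.inl 0)) (A (Sum.inr 1) (Sum.inl 1)) (A (Sum.inr 1) (Sum.inr 0)) (A (Sum.inr 1) (Sum.inr 1)) (B (Sum.inl 0) (Sum.inl 0)) (B (Sum.inl 0) (Sum.inl 1)) (B (Sum.inl 0) (Sum.inr 0)) (B (Sum.inl 0) (Sum.inr 1)) (B (Sum.inl 1) (Sum.inl 0)) (B (Sum.inl 1) (Sum.inl 1)) (B (Sum.inl 1) (Sum.inr 0)) (B (Sum.inl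 1) (Sum.inr 1)) (B (Sum.inr 0) (Sum.inl 0)) (B (Sum.inr 0) (Sum.inl 1)) (B (Sum.inr 0) (Sum.inr 0)) (B (Sum.inr 0) (Sum.inr 1)) (B (Sum.inr 1) (Sum.inl 0)) (B (Sum.inr 1) (Sum.inl 1)) (B (Sum.inr 1) (Sum.inr 0)) (B (Sum.inr 1) (Sum.inr 1)) h2 RA.r01 RA.r02 RA.r03 RA.r12 RA.r13 RA.r23 RA.c01 RA.c02 RA.c03 RA.c12 RA.c13 RA.c23 RB.r01 RB.r02 RB.r03 RB.r12 RB.r13 RB.r23 RB.c01 RB.c02 RB.c03 RB.c12 RB.c13 RB.c23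
  · simp [gam_apply, p1, p2, Matrix.mul_apply, Fintype.sum_sum_type, Fin.sum_univ_two]
    linear_combination core_I2_20 (A (Sum.inl 0) (Sum.inl 0)) (A (Sum.inl 0) (Sum.inl 1)) (A (Sum.inl 0) (Sum.inr 0)) (A (Sum.inl 0) (Sum.inr 1)) (A (Sum.inl 1) (Sum.inl 0)) (A (Sum.inl 1) (Sum.inl 1)) (A (Sum.inl 1) (Sum.inr 0)) (A (Sum.inl 1) (Sum.inr 1)) (A (Sum.inr 0) (Sum.inl 0)) (A (Sum.inr 0) (Sum.inl 1)) (A (Sum.inr 0) (Sum.inr 0)) (A (Sum.inr 0) (Sum.inr 1)) (A (Sum.inr 1) (Sum.inl 0)) (A (Sum.inr 1) (Sum.inl 1)) (A (Sum.inr 1) (Sum.inr 0)) (A (Sum.inr 1) (Sum.inr 1)) (B (Sum.inl 0) (Sum.inl 0)) (B (Sum.inl 0) (Sum.inl 1)) (B (Sum.inl 0) (Sum.inr 0)) (B (Sum.inl 0) (Sum.inr 1)) (B (Sum.inl 1) (Sum.inl 0)) (B (Sum.inl 1) (Sum.inl 1)) (B (Sum.inl 1) (Sum.inr 0)) (B (Sum.inl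 1) (Sum.inr 1)) (B (Sum.inr 0) (Sum.inl 0)) (B (Sum.inr 0) (Sum.inl 1)) (B (Sum.inr 0) (Sum.inr 0)) (B (Sum.inr 0) (Sum.inr 1)) (B (Sum.inr 1) (Sum.inl 0)) (B (Sum.inr 1) (Sum.inl 1)) (B (Sum.inr 1) (Sum.inr 0)) (B (Sum.inr 1) (Sum.inr 1)) h2 RA.r01 RA.r02 RA.r03 RA.r12 RA.r13 RA.r23 RA.c01 RA.c02 RA.c03 RA.c12 RA.c13 RA.c23 RB.r01 RB.r02 RB.r03 RB.r12 RB.r13 RB.r23 RB.c01 RB.c02 RB.c03 RB.c12 RB.c13 RB.c23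
  · simp [gam_apply, p1, p2, Matrix.mul_apply, Fintype.sum_sum_type, Fin.sum_univ_two]
    linear_combination core_I2_21 (A (Sum.inl 0) (Sum.inl 0)) (A (Sum.inl 0) (Sum.inl 1)) (A (Sum.inl 0) (Sum.inr 0)) (A (Sum.inl 0) (Sum.inr 1)) (A (Sum.inl 1) (Sum.inl 0)) (A (Sum.inl 1) (Sum.inl 1)) (A (Sum.inl 1) (Sum.inr 0)) (A (Sum.inl 1) (Sum.inr 1)) (A (Sum.inr 0) (Sum.inl 0)) (A (Sum.inr 0) (Sum.inl 1)) (A (Sum.inr 0) (Sum.inr 0)) (A (Sum.inr 0) (Sum.inr 1)) (A (Sum.inr 1) (Sum.inl 0)) (A (Sum.inr 1) (Sum.inl 1)) (A (Sum.inr 1) (Sum.inr 0)) (A (Sum.inr 1) (Sum.inr 1)) (B (Sum.inl 0) (Sum.inl 0)) (B (Sum.inl 0) (Sum.inl 1)) (B (Sum.inl 0) (Sum.inr 0)) (B (Sum.inl 0) (Sum.inr 1)) (B (Sum.inl 1) (Sum.inl 0)) (B (Sum.inl 1) (Sum.inl 1)) (B (Sum.inl 1) (Sum.inr 0)) (B (Sum.inl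 1) (Sum.inr 1)) (B (Sum.inr 0) (Sum.inl 0)) (B (Sum.inr 0) (Sum.inl 1)) (B (Sum.inr 0) (Sum.inr 0)) (B (Sum.inr 0) (Sum.inr 1)) (B (Sum.inr 1) (Sum.inl 0)) (B (Sum.inr 1) (Sum.inl 1)) (B (Sum.inr 1) (Sum.inr 0)) (B (Sum.inr 1) (Sum.inr 1)) h2 RA.r01 RA.r02 RA.r03 RA.r12 RA.r13 RA.r23 RA.c01 RA.c02 RA.c03 RA.c12 RA.c13 RA.c23 RB.r01 RB.r02 RB.r03 RB.r12 RB.r13 RB.r23 RB.c01 RB.c02 RB.c03 RB.c12 RB.c13 RB.c23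
  · simp [gam_apply, p1, p2, Matrix.mul_apply, Fintype.sum_sum_type, Fin.sum_univ_two]
    linear_combination core_I2_30 (A (Sum.inl 0) (Sum.inl 0)) (A (Sum.inl 0) (Sum.inl 1)) (A (Sum.inl 0) (Sum.inr 0)) (A (Sum.inl 0) (Sum.inr 1)) (A (Sum.inl 1) (Sum.inl 0)) (A (Sum.inl 1) (Sum.inl 1)) (A (Sum.inl 1) (Sum.inr 0)) (A (Sum.inl 1) (Sum.inr 1)) (A (Sum.inr 0) (Sum.inl 0)) (A (Sum.inr 0) (Sum.inl 1)) (A (Sum.inr 0) (Sum.inr 0)) (A (Sum.inr 0) (Sum.inr 1)) (A (Sum.inr 1) (Sum.inl 0)) (A (Sum.inr 1) (Sum.inl 1)) (A (Sum.inr 1) (Sum.inr 0)) (A (Sum.inr 1) (Sum.inr 1)) (B (Sum.inl 0) (Sum.inl 0)) (B (Sum.inl 0) (Sum.inl 1)) (B (Sum.inl 0) (Sum.inr 0)) (B (Sum.inl 0) (Sum.inr 1)) (B (Sum.inl 1) (Sum.inl 0)) (B (Sum.inl 1) (Sum.inl 1)) (B (Sum.inl 1) (Sum.inr 0)) (B (Sum.inl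 1) (Sum.inr 1)) (B (Sum.inr 0) (Sum.inl 0)) (B (Sum.inr 0) (Sum.inl 1)) (B (Sum.inr 0) (Sum.inr 0)) (B (Sum.inr 0) (Sum.inr 1)) (B (Sum.inr 1) (Sum.inl 0)) (B (Sum.inr 1) (Sum.inl 1)) (B (Sum.inr 1) (Sum.inr 0)) (B (Sum.inr 1) (Sum.inr 1)) h2 RA.r01 RA.r02 RA.r03 RA.r12 RA.r13 RA.r23 RA.c01 RA.c02 RA.c03 RA.c12 RA.c13 RA.c23 RB.r01 RB.r02 RB.r03 RB.r12 RB.r13 RB.r23 RB.c01 RB.c02 RB.c03 RB.c12 RB.c13 RB.c23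
  · simp [gam_apply, p1, p2, Matrix.mul_apply, Fintype.sum_sum_type, Fin.sum_univ_two]
    linear_combination core_I2_31 (A (Sum.inl 0) (Sum.inl 0)) (A (Sum.inl 0) (Sum.inl 1)) (A (Sum.inl 0) (Sum.inr 0)) (A (Sum.inl 0) (Sum.inr 1)) (A (Sum.inl 1) (Sum.inl 0)) (A (Sum.inl 1) (Sum.inl 1)) (A (Sum.inl 1) (Sum.inr 0)) (A (Sum.inl 1) (Sum.inr 1)) (A (Sum.inr 0) (Sum.inl 0)) (A (Sum.inr 0) (Sum.inl 1)) (A (Sum.inr 0) (Sum.inr 0)) (A (Sum.inr 0) (Sum.inr 1)) (A (Sum.inr 1) (Sum.inl 0)) (A (Sum.inr 1) (Sum.inl 1)) (A (Sum.inr 1) (Sum.inr 0)) (A (Sum.inr 1) (Sum.inr 1)) (B (Sum.inl 0) (Sum.inl 0)) (B (Sum.inl 0) (Sum.inl 1)) (B (Sum.inl 0) (Sum.inr 0)) (B (Sum.inl 0) (Sum.inr 1)) (B (Sum.inl 1) (Sum.inl 0)) (B (Sum.inl 1) (Sum.inl 1)) (B (Sum.inl 1) (Sum.inr 0)) (B (Sum.inl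 1) (Sum.inr 1)) (B (Sum.inr 0) (Sum.inl 0)) (B (Sum.inr 0) (Sum.inl 1)) (B (Sum.inr 0) (Sum.inr 0)) (B (Sum.inr 0) (Sum.inr 1)) (B (Sum.inr 1) (Sum.inl 0)) (B (Sum.inr 1) (Sum.inl 1)) (B (Sum.inr 1) (Sum.inr 0)) (B (Sum.inr 1) (Sum.inr 1)) h2 RA.r01 RA.r02 RA.r03 RA.r12 RA.r13 RA.r23 RA.c01 RA.c02 RA.c03 RA.c12 RA.c13 RA.c23 RB.r01 RB.r02 RB.r03 RB.r12 RB.r13 RB.r23 RB.c01 RB.c02 RB.c03 RB.c12 RB.c13 RB.c23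
  · simp [gam_apply, p1, p2, Matrix.mul_apply, Fintype.sum_sum_type, Fin.sum_univ_two]
    linear_combination core_I2_22 (A (Sum.inl 0) (Sum.inl 0)) (A (Sum.inl 0) (Sum.inl 1)) (A (Sum.inl 0) (Sum.inr 0)) (A (Sum.inl 0) (Sum.inr 1)) (A (Sum.inl 1) (Sum.inl 0)) (A (Sum.inl 1) (Sum.inl 1)) (A (Sum.inl 1) (Sum.inr 0)) (A (Sum.inl 1) (Sum.inr 1)) (A (Sum.inr 0) (Sum.inl 0)) (A (Sum.inr 0) (Sum.inl 1)) (A (Sum.inr 0) (Sum.inr 0)) (A (Sum.inr 0) (Sum.inr 1)) (A (Sum.inr 1) (Sum.inl 0)) (A (Sum.inr 1) (Sum.inl 1)) (A (Sum.inr 1) (Sum.inr 0)) (A (Sum.inr 1) (Sum.inr 1)) (B (Sum.inl 0) (Sum.inl 0)) (B (Sum.inl 0) (Sum.inl 1)) (B (Sum.inl 0) (Sum.inr 0)) (B (Sum.inl 0) (Sum.inr 1)) (B (Sum.inl 1) (Sum.inl 0)) (B (Sum.inl 1) (Sum.inl 1)) (B (Sum.inl 1) (Sum.inr 0)) (B (Sum.inl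 1) (Sum.inr 1)) (B (Sum.inr 0) (Sum.inl 0)) (B (Sum.inr 0) (Sum.inl 1)) (B (Sum.inr 0) (Sum.inr 0)) (B (Sum.inr 0) (Sum.inr 1)) (B (Sum.inr 1) (Sum.inl 0)) (B (Sum.inr 1) (Sum.inl 1)) (B (Sum.inr 1) (Sum.inr 0)) (B (Sum.inr 1) (Sum.inr 1)) h2 RA.r01 RA.r02 RA.r03 RA.r12 RA.r13 RA.r23 RA.c01 RA.c02 RA.c03 RA.c12 RA.c13 RA.c23 RB.r01 RB.r02 RB.r03 RB.r12 RB.r13 RB.r23 RB.c01 RB.c02 RB.c03 RB.c12 RB.c13 RB.c23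
  · simp [gam_apply, p1, p2, Matrix.mul_apply, Fintype.sum_sum_type, Fin.sum_univ_two]
    linear_combination core_I2_23 (A (Sum.inl 0) (Sum.inl 0)) (A (Sum.inl 0) (Sum.inl 1)) (A (Sum.inl 0) (Sum.inr 0)) (A (Sum.inl 0) (Sum.inr 1)) (A (Sum.inl 1) (Sum.inl 0)) (A (Sum.inl 1) (Sum.inl 1)) (A (Sum.inl 1) (Sum.inr 0)) (A (Sum.inl 1) (Sum.inr 1)) (A (Sum.inr 0) (Sum.inl 0)) (A (Sum.inr 0) (Sum.inl 1)) (A (Sum.inr 0) (Sum.inr 0)) (A (Sum.inr 0) (Sum.inr 1)) (A (Sum.inr 1) (Sum.inl 0)) (A (Sum.inr 1) (Sum.inl 1)) (A (Sum.inr 1) (Sum.inr 0)) (A (Sum.inr 1) (Sum.inr 1)) (B (Sum.inl 0) (Sum.inl 0)) (B (Sum.inl 0) (Sum.inl 1)) (B (Sum.inl 0) (Sum.inr 0)) (B (Sum.inl 0) (Sum.inr 1)) (B (Sum.inl 1) (Sum.inl 0)) (B (Sum.inl 1) (Sum.inl 1)) (B (Sum.inl 1) (Sum.inr 0)) (B (Sum.inl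 1) (Sum.inr 1)) (B (Sum.inr 0) (Sum.inl 0)) (B (Sum.inr 0) (Sum.inl 1)) (B (Sum.inr 0) (Sum.inr 0)) (B (Sum.inr 0) (Sum.inr 1)) (B (Sum.inr 1) (Sum.inl 0)) (B (Sum.inr 1) (Sum.inl 1)) (B (Sum.inr 1) (Sum.inr 0)) (B (Sum.inr 1) (Sum.inr 1)) h2 RA.r01 RA.r02 RA.r03 RA.r12 RA.r13 RA.r23 RA.c01 RA.c02 RA.c03 RA.c12 RA.c13 RA.c23 RB.r01 RB.r02 RB.r03 RB.r12 RB.r13 RB.r23 RB.c01 RB.c02 RB.c03 RB.c12 RB.c13 RB.c23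
  · simp [gam_apply, p1, p2, Matrix.mul_apply, Fintype.sum_sum_type, Fin.sum_univ_two]
    linear_combination core_I2_32 (A (Sum.inl 0) (Sum.inl 0)) (A (Sum.inl 0) (Sum.inl 1)) (A (Sum.inl 0) (Sum.inr 0)) (A (Sum.inl 0) (Sum.inr 1)) (A (Sum.inl 1) (Sum.inl 0)) (A (Sum.inl 1) (Sum.inl 1)) (A (Sum.inl 1) (Sum.inr 0)) (A (Sum.inl 1) (Sum.inr 1)) (A (Sum.inr 0) (Sum.inl 0)) (A (Sum.inr 0) (Sum.inl 1)) (A (Sum.inr 0) (Sum.inr 0)) (A (Sum.inr 0) (Sum.inr 1)) (A (Sum.inr 1) (Sum.inl 0)) (A (Sum.inr 1) (Sum.inl 1)) (A (Sum.inr 1) (Sum.inr 0)) (A (Sum.inr 1) (Sum.inr 1)) (B (Sum.inl 0) (Sum.inl 0)) (B (Sum.inl 0) (Sum.inl 1)) (B (Sum.inl 0) (Sum.inr 0)) (B (Sum.inl 0) (Sum.inr 1)) (B (Sum.inl 1) (Sum.inl 0)) (B (Sum.inl 1) (Sum.inl 1)) (B (Sum.inl 1) (Sum.inr 0)) (B (Sum.inl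 1) (Sum.inr 1)) (B (Sum.inr 0) (Sum.inl 0)) (B (Sum.inr 0) (Sum.inl 1)) (B (Sum.inr 0) (Sum.inr 0)) (B (Sum.inr 0) (Sum.inr 1)) (B (Sum.inr 1) (Sum.inl 0)) (B (Sum.inr 1) (Sum.inl 1)) (B (Sum.inr 1) (Sum.inr 0)) (B (Sum.inr 1) (Sum.inr 1)) h2 RA.r01 RA.r02 RA.r03 RA.r12 RA.r13 RA.r23 RA.c01 RA.c02 RA.c03 RA.c12 RA.c13 RA.c23 RB.r01 RB.r02 RB.r03 RB.r12 RB.r13 RB.r23 RB.c01 RB.c02 RB.c03 RB.c12 RB.c13 RB.c23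
  · simp [gam_apply, p1, p2, Matrix.mul_apply, Fintype.sum_sum_type, Fin.sum_univ_two]
    linear_combination core_I2_33 (A (Sum.inl 0) (Sum.inl 0)) (A (Sum.inl 0) (Sum.inl 1)) (A (Sum.inl 0) (Sum.inr 0)) (A (Sum.inl 0) (Sum.inr 1)) (A (Sum.inl 1) (Sum.inl 0)) (A (Sum.inl 1) (Sum.inl 1)) (A (Sum.inl 1) (Sum.inr 0)) (A (Sum.inl 1) (Sum.inr 1)) (A (Sum.inr 0) (Sum.inl 0)) (A (Sum.inr 0) (Sum.inl 1)) (A (Sum.inr 0) (Sum.inr 0)) (A (Sum.inr 0) (Sum.inr 1)) (A (Sum.inr 1) (Sum.inl 0)) (A (Sum.inr 1) (Sum.inl 1)) (A (Sum.inr 1) (Sum.inr 0)) (A (Sum.inr 1) (Sum.inr 1)) (B (Sum.inl 0) (Sum.inl 0)) (B (Sum.inl 0) (Sum.inl 1)) (B (Sum.inl 0) (Sum.inr 0)) (B (Sum.inl 0) (Sum.inr 1)) (B (Sum.inl 1) (Sum.inl 0)) (B (Sum.inl 1) (Sum.inl 1)) (B (Sum.inl 1) (Sum.inr 0)) (B (Sum.inl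 1) (Sum.inr 1)) (B (Sum.inr 0) (Sum.inl 0)) (B (Sum.inr 0) (Sum.inl 1)) (B (Sum.inr 0) (Sum.inr 0)) (B (Sum.inr 0) (Sum.inr 1)) (B (Sum.inr 1) (Sum.inl 0)) (B (Sum.inr 1) (Sum.inl 1)) (B (Sum.inr 1) (Sum.inr 0)) (B (Sum.inr 1) (Sum.inr 1)) h2 RA.r01 RA.r02 RA.r03 RA.r12 RA.r13 RA.r23 RA.c01 RA.c02 RA.c03 RA.c12 RA.c13 RA.c23 RB.r01 RB.r02 RB.r03 RB.r12 RB.r13 RB.r23 RB.c01 RB.c02 RB.c03 RB.c12 RB.c13 RB.c23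

end Cfsg.Agent.Lib.Lead.Sp4Graph
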