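import Cfsg.Agent.Lib.Lead.Sp4GraphC
import Cfsg.Agent.Lib.Helper18.PSpAutE

set_option autoImplicit false
set_option linter.unusedVariables false
set_option linter.unusedSectionVars false

/-!
# Graph automorphism of `Sp₄` in characteristic 2, part D: the automorphism `gamA` of `PSp₄(F)`

`gamS` is the endomorphism of `Sp₄(F)` given by the matrix of minors, `gamE` the corresponding automorphism for a finite
field of characteristic 2 and `gamA` the induced automorphism of `PSp 2 F`; `gamA ∘ gamA` is the Frobenius field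
automorphism.
-/

namespace Cfsg.Agent.Lib.Lead.Sp4Graph

open Matrix Cfsg.Agent.Lib.Helper18.PSpAut

variable {F : Type*} [Field F]

/-- the endomorphism of `Sp₄(F)`, `char F = 2`, given by the matrix of `2 × 2` minors -/
def gamS (h2 : (2 : F) = 0) : symplecticGroup (Fin 2) F →* symplecticGroup (Fin 2) F where
  toFun A := ⟨gam (A : Matrix I4 I4 F), gam_mem h2 A.2⟩
  map_one' := Subtype.ext gam_one
  map_mul' A B := Subtype.ext (gam_mul h2 A.2 B.2)

theorem gamS_coe (h2 : (2 : F) = 0) (A : symplecticGroup (Fin 2) F) :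
    ((gamS h2 A : symplecticGroup (Fin 2) F) : Matrix I4 I4 F) = gam (A : Matrix I4 I4 F) := rfl

section finite

variable [Fintype F] [CharP F 2]

/-- `2 = 0` in characteristic 2 -/
theorem two_eq_zero' : (2 : F) = 0 := by
  have := CharP.cast_eq_zero F 2
  exact_mod_cast this

/-- the Frobenius automorphism of a finite field of characteristic 2 -/
noncomputable def frob2 : F ≃+* F := frobeniusEquiv F 2

theorem frob2_apply (x : F) : frob2 x = x ^ 2 := by
  unfold frob2
  rw [frobeniusEquiv_apply]
  rfl

theorem gamS_gamS (A : symplecticGroup (Fin 2) F) :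
    gamS two_eq_zero' (gamS two_eq_zero' A) = fieldS (frob2 (F := F)) A := by
  apply Subtype.ext
  rw [gamS_coe, gamS_coe, fieldS_coe, gam_gam two_eq_zero' A.2]
  ext i j
  rw [Matrix.map_apply, Matrix.map_apply, frob2_apply]

theorem gamS_injective : Function.Injective (gamS (F := F) two_eq_zero') := by
  intro A B h
  have h1 := congrArg (gamS (F := F) two_eq_zero') h
  rw [gamS_gamS, gamS_gamS] at h1
  exact (fieldS (frob2 (F := F))).injective h1

theorem gamS_surjective : Function.Surjective (gamS (F := F) two_eq_zero') := by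
  intro B
  refine ⟨gamS two_eq_zero' ((fieldS (frob2 (F := F))).symm B), ?_⟩
  rw [gamS_gamS, MulEquiv.apply_symm_apply]

/-- the graph automorphism of `Sp₄(F)` -/
noncomputable def gamE : symplecticGroup (Fin 2) F ≃* symplecticGroup (Fin 2) F :=
  MulEquiv.ofBijective (gamS (F := F) two_eq_zero') ⟨gamS_injective, gamS_surjective⟩

theorem gamE_apply (A : symplecticGroup (Fin 2) F) : gamE A = gamS two_eq_zero' A := rfl

theorem gamE_gamE (A : symplecticGroup (Fin 2) F) : gamE (gamE A) = fieldS (frob2 (F := F)) A :=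
  gamS_gamS A

/-- the graph automorphism of `PSp₄(F)` -/
noncomputable def gamA : Cfsg.PSp 2 F ≃* Cfsg.PSp 2 F := liftAut (gamE (F := F))

theorem gamA_pi (A : symplecticGroup (Fin 2) F) : gamA (pi A) = pi (gamE A) := rfl

theorem gamA_gamA (x : Cfsg.PSp 2 F) : gamA (gamA x) = fieldA (frob2 (F := F)) x := by
  obtain ⟨A, rfl⟩ := pi_surjective x
  rw [gamA_pi, gamA_pi, gamE_gamE, fieldA_pi]

end finite

end Cfsg.Agent.Lib.Lead.Sp4Graph
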