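import Cfsg.Agent.Lib.Lead.Sp4GraphD

set_option autoImplicit false
set_option linter.unusedVariables false
set_option linter.unusedSectionVars false

/-!
# Graph automorphism of `Sp₄` in characteristic 2, part E: the centre of the Sylow 2-subgroup

The central elements `zc a b` of the standard Sylow 2-subgroup `spU`, the action of `gam` on them, and the
characterisation of the union of the long and the short central root subgroup in group-theoretic terms.
-/

namespace Cfsg.Agent.Lib.Lead.Sp4Graph

open Matrix Cfsg.Agent.Lib.Helper18.PSpAut Cfsg.Agent.Lib.Helper18.PSLnAut Cfsg.Agent.Lib.Helper14.SpPerfect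

variable {F : Type*} [Field F]

theorem gam_isSpU (h2 : (2 : F) = 0) {A : Matrix I4 I4 F} (hA : A ∈ symplecticGroup (Fin 2) F)
    (hU : IsSpU A) : IsSpU (gam A) := by
  have R := rels_of_mem hA
  obtain ⟨hz, hu1, hu2⟩ := hU
  have h20 : A (Sum.inr 0) (Sum.inl 0) = 0 := by
    have := congrFun (congrFun hz 0) 0
    simpa [toBlocks₂₁] using this
  have h21 : A (Sum.inr 0) (Sum.inl 1) = 0 := by
    have := congrFun (congrFun hz 0) 1
    simpa [toBlocks₂₁] using this
  have h30 : A (Sum.inr 1) (Sum.inl 0) = 0 := by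
    have := congrFun (congrFun hz 1) 0
    simpa [toBlocks₂₁] using this
  have h31 : A (Sum.inr 1) (Sum.inl 1) = 0 := by
    have := congrFun (congrFun hz 1) 1
    simpa [toBlocks₂₁] using this
  have h10 : A (Sum.inl 1) (Sum.inl 0) = 0 := by
    have := hu1 1 0 (by decide)
    simpa [toBlocks₁₁] using this
  have h00 : A (Sum.inl 0) (Sum.inl 0) = 1 := by
    have := hu2 0
    simpa [toBlocks₁₁] using this
  have h11 : A (Sum.inl 1) (Sum.inl 1) = 1 := by
    have := hu2 1
    simpa [toBlocks₁₁] using this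
  have h23 : A (Sum.inr 0) (Sum.inr 1) = 0 := by
    have := R.c03
    rw [h00, h20, h10, h30] at this
    linear_combination -this
  have h33 : A (Sum.inr 1) (Sum.inr 1) = 1 := by
    have := R.c13
    rw [h23, h21, h11, h31] at this
    linear_combination -this
  refine ⟨?_, ?_, ?_⟩
  · ext i j
    fin_cases i <;> fin_cases j <;>
      simp [toBlocks₂₁, gam_apply, p1, p2, h20, h21, h30, h31, h10]
  · intro i j hji
    fin_cases i <;> fin_cases j <;> simp at hji
    simp [toBlocks₁₁, gam_apply, p1, p2, h30, h31, h00]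
  · intro i
    fin_cases i <;> simp [toBlocks₁₁, gam_apply, p1, p2, h00, h11, h10, h30, h33]

theorem zc_symm (a b : F) : (Matrix.single (0 : Fin 2) 0 a + (Matrix.single 0 1 b + Matrix.single 1 0 b))ᵀ =
    Matrix.single (0 : Fin 2) 0 a + (Matrix.single 0 1 b + Matrix.single 1 0 b) := by
  rw [Matrix.transpose_add, Matrix.transpose_add, Matrix.transpose_single, Matrix.transpose_single,
    Matrix.transpose_single, add_comm (Matrix.single (1 : Fin 2) 0 b)]

/-- the central elements `z(a,b)` of `spU` -/
def zc (a b : F) : symplecticGroup (Fin 2) F :=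
  symU (Matrix.single (0 : Fin 2) 0 a + (Matrix.single 0 1 b + Matrix.single 1 0 b)) (zc_symm a b)

theorem zc_coe (a b : F) : ((zc a b : symplecticGroup (Fin 2) F) : Matrix I4 I4 F) =
    fromBlocks 1 (Matrix.single (0 : Fin 2) 0 a + (Matrix.single 0 1 b + Matrix.single 1 0 b)) 0 1 := rfl

theorem gam_zc (h2 : (2 : F) = 0) (a b : F) :
    gam ((zc a b : symplecticGroup (Fin 2) F) : Matrix I4 I4 F) =
      ((zc (b ^ 2) a : symplecticGroup (Fin 2) F) : Matrix I4 I4 F) := by
  rw [zc_coe, zc_coe]
  ext i j
  rcases i with i | i <;> rcases j with j | j <;> fin_cases i <;> fin_cases j <;>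
    simp [gam_apply, p1, p2, Matrix.single_apply, Matrix.one_apply] <;>
    first
    | done
    | ring1
    | linear_combination (-a) * h2
    | linear_combination (-b ^ 2) * h2

theorem gamS_zc (h2 : (2 : F) = 0) (a b : F) : gamS h2 (zc a b) = zc (b ^ 2) a :=
  Subtype.ext (gam_zc h2 a b)

theorem zc_zero_right (a : F) : zc a 0 = Tr (eL 2 F 0) a := by
  apply Subtype.ext
  rw [zc_coe, Tr_eL_coe, Matrix.single_zero, Matrix.single_zero, add_zero, add_zero]

/-- the mixed central elements are squares -/
theorem zc_sq_of_ne (h2 : (2 : F) = 0) (a b : F) (ha : a ≠ 0) (hb : b ≠ 0) :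
    ∃ y : symplecticGroup (Fin 2) F, y * y = zc a b := by
  set s : F := a / b with hs
  set t : F := b ^ 2 / a with ht
  have h01 : (0 : Fin 2) ≠ 1 := by decide
  have hst : s * t = b := by
    rw [hs, ht]
    field_simp
  have hbs : b * s = a := by
    rw [hs]
    field_simp
  have hA : (Matrix.transvection (0 : Fin 2) 1 s) * Matrix.transvection 0 1 s = 1 := by
    rw [Matrix.transvection_mul_transvection_same _ _ h01, ← two_mul, h2, zero_mul,
      Matrix.transvection_zero]
  have hS : (Matrix.single (1 : Fin 2) 1 t : Matrix (Fin 2) (Fin 2) F)ᵀ = Matrix.single 1 1 t :=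
    Matrix.transpose_single _ _ _
  refine ⟨sqY _ _ hA hS, ?_⟩
  apply Subtype.ext
  rw [sqY_sq, zc_coe]
  congr 1
  have hT : (Matrix.transvection (0 : Fin 2) 1 s)ᵀ = Matrix.transvection 1 0 s := by
    unfold Matrix.transvection
    rw [Matrix.transpose_add, Matrix.transpose_one, Matrix.transpose_single]
  rw [hT]
  unfold Matrix.transvection
  simp only [Matrix.add_mul, Matrix.mul_add, Matrix.one_mul, Matrix.mul_one,
    Matrix.single_mul_single_same, hst, hbs, mul_one, one_mul]
  have e1 := single_eq_zero_of_two h2 (1 : Fin 2) 1 t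
  have hts : t * s = b := by rw [mul_comm, hst]
  rw [hts]
  have hab : ∀ x y z w : Matrix (Fin 2) (Fin 2) F, x + (x + y + (z + w)) = (x + x) + (w + (y + z)) :=
    fun x y z w => by abel
  rw [hab, e1, zero_add]

/-- the short central elements are not transvections -/
theorem zc_ne_Tr (b : F) (hb : b ≠ 0) (w : Fin 2 ⊕ Fin 2 → F) (c : F) : zc 0 b ≠ Tr w c := by
  intro h
  have h1 : ((zc 0 b : symplecticGroup (Fin 2) F) : Matrix I4 I4 F) = Cfsg.sympTransvection 2 w c :=
    congrArg Subtype.val h
  rw [zc_coe] at h1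
  unfold Cfsg.sympTransvection at h1
  have e01 := congrFun (congrFun h1 (Sum.inl 0)) (Sum.inr 1)
  have e10 := congrFun (congrFun h1 (Sum.inl 1)) (Sum.inr 0)
  have e00 := congrFun (congrFun h1 (Sum.inl 0)) (Sum.inr 0)
  have e11 := congrFun (congrFun h1 (Sum.inl 1)) (Sum.inr 1)
  simp [Matrix.vecMulVec_apply] at e01 e10 e00
  apply hb
  rcases e00 with h0 | h0 | h0
  · rw [e01, h0, zero_mul]
  · rw [e01, h0, zero_mul, mul_zero]
  · rw [e10, h0, mul_zero, mul_zero]

end Cfsg.Agent.Lib.Lead.Sp4Graph
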