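import Cfsg.Agent.Lib.Helper18.PSpAutE

set_option autoImplicit false
set_option linter.unusedVariables false
set_option linter.unusedSectionVars false

/-!
# Automorphisms of `PSp_{2m}(F)` permuting the transvection subgroups are semilinear: the version for a single
automorphism

This is helper18's `Cfsg.Agent.Lib.Helper18.PSpAut.exists_semilinear` with the hypothesis on all automorphisms replaced by
the hypothesis on one automorphism and its inverse (needed for `PSp₄` in characteristic 2, where the graph automorphism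
does not permute the transvection subgroups).
-/

namespace Cfsg.Agent.Lib.Lead.Sp4Graph

open Matrix Cfsg.Agent.Lib.Helper5 Cfsg.Agent.Lib.Helper14.SpPerfect
  Cfsg.Agent.Lib.Helper14.PSpSimple Cfsg.Agent.Lib.Helper18.FTPG Cfsg.Agent.Lib.Helper18.PSpAut

variable {m : ℕ} {F : Type*} [Field F]

/-- an automorphism permutes the transvection subgroups -/
def PermAt (β : Cfsg.PSp m F ≃* Cfsg.PSp m F) : Prop :=
  ∀ v : Fin m ⊕ Fin m → F, v ≠ 0 → ∃ w : Fin m ⊕ Fin m → F, w ≠ 0 ∧ (TS v).map β.toMonoidHom = TS w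


/-- if an automorphism permutes the transvection subgroups, so does its inverse (finite case) -/
theorem PermAt.symm [Finite F] {β : Cfsg.PSp m F ≃* Cfsg.PSp m F} (hβ : PermAt β) : PermAt β.symm := by
  let T := {H : Subgroup (Cfsg.PSp m F) // ∃ v : Fin m ⊕ Fin m → F, v ≠ 0 ∧ H = TS v}
  let f : T → T := fun H => ⟨H.1.map β.toMonoidHom, by
    obtain ⟨v, hv, hH⟩ := H.2
    obtain ⟨w, hw, h⟩ := hβ v hv
    exact ⟨w, hw, by rw [hH, h]⟩⟩
  have hf : Function.Injective f := by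
    intro H K h
    apply Subtype.ext
    have := congrArg Subtype.val h
    exact Subgroup.map_injective β.injective this
  have hs : Function.Surjective f := Finite.injective_iff_surjective.1 hf
  intro v hv
  obtain ⟨⟨H, w, hw, hH⟩, h⟩ := hs ⟨TS v, v, hv, rfl⟩
  have h1 : (TS w).map β.toMonoidHom = TS v := by
    have := congrArg Subtype.val h
    rw [← hH]
    exact this
  refine ⟨w, hw, ?_⟩
  rw [← h1, Subgroup.map_map]
  ext x
  constructor
  · rintro ⟨y, hy, rfl⟩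
    show β.symm (β y) ∈ TS w
    rw [β.symm_apply_apply]
    exact hy
  · intro hx
    exact ⟨x, hx, β.symm_apply_apply x⟩

section main

variable {β : Cfsg.PSp m F ≃* Cfsg.PSp m F} (hA : PermAt β) (hA' : PermAt β.symm)

open Classical in
/-- the induced map on points (on representatives) -/
noncomputable def ptMapAt (v : Fin m ⊕ Fin m → F) : Fin m ⊕ Fin m → F :=
  if h : v = 0 then 0 else Classical.choose (hA v h)

theorem ptMapAt_ne {v : Fin m ⊕ Fin m → F} (hv : v ≠ 0) : ptMapAt hA v ≠ 0 := by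
  unfold ptMapAt
  rw [dif_neg hv]
  exact (Classical.choose_spec (hA v hv)).1

theorem ptMapAt_spec {v : Fin m ⊕ Fin m → F} (hv : v ≠ 0) :
    (TS v).map β.toMonoidHom = TS (ptMapAt hA v) := by
  unfold ptMapAt
  rw [dif_neg hv]
  exact (Classical.choose_spec (hA v hv)).2

theorem perp_iff_at (hm : 2 ≤ m) {u v : Fin m ⊕ Fin m → F} (hu : u ≠ 0) (hv : v ≠ 0) :
    Cfsg.sympForm m F (ptMapAt hA u) (ptMapAt hA v) = 0 ↔ Cfsg.sympForm m F u v = 0 := by
  rw [← TS_commute_iff hm, ← TS_commute_iff hm, ← ptMapAt_spec hA hu, ← ptMapAt_spec hA hv]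
  constructor
  · intro h x hx y hy
    apply β.injective
    rw [map_mul, map_mul]
    exact h _ ⟨x, hx, rfl⟩ _ ⟨y, hy, rfl⟩
  · rintro h _ ⟨x, hx, rfl⟩ _ ⟨y, hy, rfl⟩
    show β x * β y = β y * β x
    rw [← map_mul, ← map_mul, h x hx y hy]

include hA' in
theorem ptMapAt_surj (hm : 2 ≤ m) {y : Fin m ⊕ Fin m → F} (hy : y ≠ 0) :
    ∃ v, v ≠ 0 ∧ Par (ptMapAt hA v) y := by
  obtain ⟨w, hw, hwy⟩ := hA' y hy
  refine ⟨w, hw, ?_⟩
  rw [← TS_eq_iff hm (ptMapAt_ne hA hw), ← ptMapAt_spec hA hw, ← hwy]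
  ext x
  constructor
  · rintro ⟨_, ⟨z, hz, rfl⟩, rfl⟩
    show β (β.symm z) ∈ TS y
    rw [MulEquiv.apply_symm_apply]
    exact hz
  · intro hx
    exact ⟨β.symm x, ⟨x, hx, rfl⟩, MulEquiv.apply_symm_apply β x⟩

include hA' in
theorem coll_ptMapAt (hm : 2 ≤ m) : Coll (ptMapAt hA) := by
  refine ⟨fun v hv => ptMapAt_ne hA hv, fun u v hu hv h => ?_, fun y hy => ptMapAt_surj hA hA' hm hy,
    fun u v hu hv a b hab => ?_⟩
  · rw [← TS_eq_iff hm hu]
    have h1 := TS_par h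
    rw [← ptMapAt_spec hA hu, ← ptMapAt_spec hA hv] at h1
    exact Subgroup.map_injective β.injective h1
  · apply mem_span_pair_of_perp
    intro y hyu hyv
    by_cases hy : y = 0
    · rw [hy, sympForm_zero_left]
    obtain ⟨x, hx, c, hc, hxy⟩ := ptMapAt_surj hA hA' hm hy
    have hy' : y = c⁻¹ • ptMapAt hA x := by
      rw [hxy, smul_smul, inv_mul_cancel₀ hc, one_smul]
    rw [hy', sympForm_smul_left] at hyu hyv ⊢
    have hci : c⁻¹ ≠ 0 := inv_ne_zero hc
    have h1 := (perp_iff_at hA hm hx hu).1 ((mul_eq_zero.1 hyu).resolve_left hci)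
    have h2 := (perp_iff_at hA hm hx hv).1 ((mul_eq_zero.1 hyv).resolve_left hci)
    have h3 : Cfsg.sympForm m F x (a • u + b • v) = 0 := by
      rw [sympForm_add_right, sympForm_smul_right, sympForm_smul_right, h1, h2, mul_zero, mul_zero,
        add_zero]
    rw [(perp_iff_at hA hm hx hab).2 h3, mul_zero]

end main

/-- **automorphisms permuting the transvection subgroups are semilinear** -/
theorem exists_semilinear_at [Finite F] (hm : 2 ≤ m) {β : Cfsg.PSp m F ≃* Cfsg.PSp m F}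
    (hA : PermAt β) (hA' : PermAt β.symm) :
    ∃ (g : Cfsg.GSp m F) (σ : F ≃+* F), ∀ x, β x = conjA g (fieldA σ x) := by
  have hcard : 3 ≤ Fintype.card (Fin m ⊕ Fin m) := by
    simp
    omega
  obtain ⟨g, σ, hg⟩ := ftpg hcard (coll_ptMapAt hA hA' hm)
  -- the inverse of the semilinear map
  have hginv : ∀ y : Fin m ⊕ Fin m → F, (g : Matrix (Fin m ⊕ Fin m) (Fin m ⊕ Fin m) F) *ᵥ
      (((g⁻¹ : GL (Fin m ⊕ Fin m) F) : Matrix (Fin m ⊕ Fin m) (Fin m ⊕ Fin m) F) *ᵥ y) = y := by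
    intro y
    rw [Matrix.mulVec_mulVec, gl_mul_inv, Matrix.one_mulVec]
  have hrep : ∀ y : Fin m ⊕ Fin m → F, y ≠ 0 → ∃ v : Fin m ⊕ Fin m → F, v ≠ 0 ∧
      y = (g : Matrix (Fin m ⊕ Fin m) (Fin m ⊕ Fin m) F) *ᵥ fun i => σ (v i) := by
    intro y hy
    refine ⟨fun i => σ.symm ((((g⁻¹ : GL (Fin m ⊕ Fin m) F) :
      Matrix (Fin m ⊕ Fin m) (Fin m ⊕ Fin m) F) *ᵥ y) i), ?_, ?_⟩
    · intro h0
      apply hy
      rw [← hginv y]
      have : ((g⁻¹ : GL (Fin m ⊕ Fin m) F) : Matrix (Fin m ⊕ Fin m) (Fin m ⊕ Fin m) F) *ᵥ y = 0 := by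
        funext i
        have := congrFun h0 i
        simpa using this
      rw [this, Matrix.mulVec_zero]
    · simp only [RingEquiv.apply_symm_apply]
      exact (hginv y).symm
  -- orthogonality is preserved by `g`
  have hperp : ∀ x y : Fin m ⊕ Fin m → F,
      Cfsg.sympForm m F ((g : Matrix (Fin m ⊕ Fin m) (Fin m ⊕ Fin m) F) *ᵥ x)
        ((g : Matrix (Fin m ⊕ Fin m) (Fin m ⊕ Fin m) F) *ᵥ y) = 0 ↔ Cfsg.sympForm m F x y = 0 := by
    intro x y
    by_cases hx : x = 0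
    · rw [hx, Matrix.mulVec_zero, sympForm_zero_left, sympForm_zero_left]
    by_cases hy : y = 0
    · rw [hy, Matrix.mulVec_zero, sympForm_swap, sympForm_zero_left, sympForm_swap,
        sympForm_zero_left]
    -- write `x = σ u`, `y = σ v`
    have hxu : x = fun i => σ (σ.symm (x i)) := by
      funext i
      rw [RingEquiv.apply_symm_apply]
    have hyv : y = fun i => σ (σ.symm (y i)) := by
      funext i
      rw [RingEquiv.apply_symm_apply]
    have hu : (fun i => σ.symm (x i)) ≠ 0 := by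
      intro h0
      apply hx
      funext i
      have := congrFun h0 i
      simpa using this
    have hv : (fun i => σ.symm (y i)) ≠ 0 := by
      intro h0
      apply hy
      funext i
      have := congrFun h0 i
      simpa using this
    obtain ⟨c1, hc1, h1⟩ := hg _ hu
    obtain ⟨c2, hc2, h2⟩ := hg _ hv
    rw [← hxu] at h1
    rw [← hyv] at h2
    have h3 := perp_iff_at hA hm hu hv
    rw [h1, h2, sympForm_smul_left, sympForm_smul_right] at h3
    have h4 : Cfsg.sympForm m F x y = σ (Cfsg.sympForm m F (fun i => σ.symm (x i))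
        (fun i => σ.symm (y i))) := by
      rw [← sympForm_map, ← hxu, ← hyv]
    rw [h4, map_eq_zero_iff σ σ.injective, ← h3]
    constructor
    · intro h
      rw [h, mul_zero, mul_zero]
    · intro h
      rcases mul_eq_zero.1 h with h | h
      · exact absurd h hc1
      · rcases mul_eq_zero.1 h with h | h
        · exact absurd h hc2
        · exact h
  obtain ⟨c, hc⟩ := exists_multiplier (by omega) _ hperp
  have hc0 : c ≠ 0 := by
    intro h0
    let v0 : Fin m ⊕ Fin m → F := Pi.single (Sum.inl ⟨0, by omega⟩) 1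
    have hv0 : v0 ≠ 0 := by
      intro h1
      have := congrFun h1 (Sum.inl ⟨0, by omega⟩)
      simp [v0] at this
    obtain ⟨a, ha⟩ := sympForm_nondeg v0 hv0
    apply ha
    rw [← hperp, hc, h0, zero_mul]
  have hgG : g ∈ Cfsg.GSp m F := ⟨Units.mk0 c hc0, hc⟩
  refine ⟨⟨g, hgG⟩, σ, fun x => ?_⟩
  obtain ⟨s, rfl⟩ := pi_surjective x
  obtain ⟨t, ht⟩ := pi_surjective (β (pi s))
  rw [fieldA_pi, conjA_pi, ← ht]
  -- `t` and the conjugate act in the same way on points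
  have key : ∀ v : Fin m ⊕ Fin m → F, v ≠ 0 →
      Par ((t : Matrix (Fin m ⊕ Fin m) (Fin m ⊕ Fin m) F) *ᵥ ptMapAt hA v)
        (ptMapAt hA ((s : Matrix (Fin m ⊕ Fin m) (Fin m ⊕ Fin m) F) *ᵥ v)) := by
    intro v hv
    have hsv := mulVec_ne_zero s hv
    apply par_of_TS_le hm (mulVec_ne_zero t (ptMapAt_ne hA hv))
    rw [← TS_map_conj, ← ptMapAt_spec hA hsv, ← ptMapAt_spec hA hv, ← TS_map_conj]
    rintro _ ⟨_, ⟨w, hw, rfl⟩, rfl⟩
    refine ⟨pi s * w * (pi s)⁻¹, ⟨w, hw, rfl⟩, ?_⟩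
    show β (pi s * w * (pi s)⁻¹) = pi t * β w * (pi t)⁻¹
    rw [map_mul, map_mul, map_inv, ht]
  have key2 : ∀ y : Fin m ⊕ Fin m → F, y ≠ 0 →
      Par ((t : Matrix (Fin m ⊕ Fin m) (Fin m ⊕ Fin m) F) *ᵥ y)
        ((conjMat ⟨g, hgG⟩ (fieldS σ s) : Matrix (Fin m ⊕ Fin m) (Fin m ⊕ Fin m) F) *ᵥ y) := by
    intro y hy
    obtain ⟨v, hv, rfl⟩ := hrep y hy
    have hsv := mulVec_ne_zero s hv
    obtain ⟨c1, hc1, h1⟩ := hg v hv
    obtain ⟨c2, hc2, h2⟩ := hg _ hsv
    obtain ⟨c3, hc3, h3⟩ := key v hv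
    rw [h1, h2, Matrix.mulVec_smul] at h3
    have h4 : (conjMat ⟨g, hgG⟩ (fieldS σ s) : Matrix (Fin m ⊕ Fin m) (Fin m ⊕ Fin m) F) *ᵥ
        ((g : Matrix (Fin m ⊕ Fin m) (Fin m ⊕ Fin m) F) *ᵥ fun i => σ (v i)) =
        (g : Matrix (Fin m ⊕ Fin m) (Fin m ⊕ Fin m) F) *ᵥ fun i =>
          σ (((s : Matrix (Fin m ⊕ Fin m) (Fin m ⊕ Fin m) F) *ᵥ v) i) := by
      rw [conjMat_coe, fieldS_coe, map_mulVec']
      show ((g : Matrix (Fin m ⊕ Fin m) (Fin m ⊕ Fin m) F) *
        (s : Matrix (Fin m ⊕ Fin m) (Fin m ⊕ Fin m) F).map σ *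
        ((g⁻¹ : GL (Fin m ⊕ Fin m) F) : Matrix (Fin m ⊕ Fin m) (Fin m ⊕ Fin m) F)) *ᵥ _ = _
      rw [Matrix.mulVec_mulVec, Matrix.mul_assoc, Matrix.mul_assoc, gl_inv_mul, Matrix.mul_one,
        ← Matrix.mulVec_mulVec]
    rw [h4]
    refine ⟨c1⁻¹ * (c3 * c2), mul_ne_zero (inv_ne_zero hc1) (mul_ne_zero hc3 hc2), ?_⟩
    have h5 : (t : Matrix (Fin m ⊕ Fin m) (Fin m ⊕ Fin m) F) *ᵥ
        ((g : Matrix (Fin m ⊕ Fin m) (Fin m ⊕ Fin m) F) *ᵥ fun i => σ (v i)) =
        c1⁻¹ • (c1 • ((t : Matrix (Fin m ⊕ Fin m) (Fin m ⊕ Fin m) F) *ᵥ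
          ((g : Matrix (Fin m ⊕ Fin m) (Fin m ⊕ Fin m) F) *ᵥ fun i => σ (v i)))) := by
      rw [smul_smul, inv_mul_cancel₀ hc1, one_smul]
    rw [h5, h3, smul_smul, smul_smul, mul_assoc]
  -- hence they differ by a central element
  have hcen : (conjMat ⟨g, hgG⟩ (fieldS σ s))⁻¹ * t ∈
      Subgroup.center (symplecticGroup (Fin m) F) := by
    apply mem_center_of_par (by omega)
    intro y hy
    obtain ⟨c1, hc1, h1⟩ := key2 y hy
    refine ⟨c1, hc1, ?_⟩
    rw [coe_mul_mulVec, h1, Matrix.mulVec_smul, coe_inv_mulVec_cancel']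
  have := (pi_eq_one_iff _).2 hcen
  rw [map_mul, map_inv, inv_mul_eq_one] at this
  exact this.symm


end Cfsg.Agent.Lib.Lead.Sp4Graph
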