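import Cfsg.Agent.Lib.Lead.Sp4GraphE
import Cfsg.Agent.Lib.Lead.Sp4GraphS

set_option autoImplicit false
set_option linter.unusedVariables false
set_option linter.unusedSectionVars false

/-!
# Graph automorphism of `Sp₄` in characteristic 2, part F: long and short root subgroups

Over a finite field of characteristic 2 the graph automorphism `gamA` normalises the standard Sylow 2-subgroup `Ubar`;
the union of the central long root subgroup `TS e₀` and its image under `gamA` is characterised group-theoretically;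
hence every automorphism of `PSp₄(F)`, or its composition with `gamA⁻¹`, permutes the transvection subgroups.
-/

namespace Cfsg.Agent.Lib.Lead.Sp4Graph

open Matrix Cfsg.Agent.Lib.Helper18.PSpAut Cfsg.Agent.Lib.Helper18.PSLnAut Cfsg.Agent.Lib.Helper14.SpPerfect

variable {F : Type*} [Field F] [Fintype F] [CharP F 2]

theorem gamS_mem_spU {A : symplecticGroup (Fin 2) F} (hA : A ∈ spU 2 F) :
    gamS two_eq_zero' A ∈ spU 2 F := by
  rw [mem_spU] at hA ⊢
  rw [gamS_coe]
  exact gam_isSpU two_eq_zero' A.2 hA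

theorem map_gamA_Ubar : (Ubar 2 F).map (gamA (F := F)).toMonoidHom = Ubar 2 F := by
  apply Subgroup.eq_of_le_of_card_ge
  · rintro _ ⟨g, hg, rfl⟩
    obtain ⟨u, hu, rfl⟩ := hg
    exact ⟨gamS two_eq_zero' u, gamS_mem_spU hu, rfl⟩
  · exact le_of_eq (Subgroup.card_map_of_injective (f := (gamA (F := F)).toMonoidHom)
      (gamA (F := F)).injective).symm

theorem gamA_mem_Ubar_iff (g : Cfsg.PSp 2 F) : g ∈ Ubar 2 F ↔ gamA g ∈ Ubar 2 F := by
  constructor
  · intro hg
    rw [← map_gamA_Ubar]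
    exact ⟨g, hg, rfl⟩
  · intro hg
    rw [← map_gamA_Ubar] at hg
    obtain ⟨g', hg', h⟩ := hg
    have : g' = g := (gamA (F := F)).injective h
    rwa [← this]

/-- the group-theoretic property characterising the central root elements -/
def Charac (x : Cfsg.PSp 2 F) : Prop :=
  (x ∈ Ubar 2 F ∧ ∀ u ∈ Ubar 2 F, x * u = u * x) ∧ (x = 1 ∨ ¬ ∃ y, y * y = x)

theorem eL_zero_ne : eL 2 F 0 ≠ 0 := by
  intro h
  have := congrFun h (Sum.inl 0)
  rw [eL_apply_self] at this
  exact one_ne_zero this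

theorem charac_of_mem_long {x : Cfsg.PSp 2 F} (hx : x ∈ TS (eL 2 F 0)) : Charac x := by
  have hinj := pi_injective_of_two (m := 2) (F := F) (by norm_num) two_eq_zero'
  obtain ⟨c, rfl⟩ := (mem_TS _ _).1 hx
  obtain ⟨h3, h4⟩ := Tr_eL_central (m := 2) (F := F) (i0 := 0) (fun k => Fin.zero_le k) c
  refine ⟨⟨⟨_, h3, rfl⟩, ?_⟩, ?_⟩
  · rintro _ ⟨u, hu, rfl⟩
    rw [← map_mul, ← map_mul, h4 u hu]
  · by_cases hc : c = 0
    · left
      rw [hc, Tr_zero, map_one]
    · right
      rintro ⟨y, hy⟩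
      obtain ⟨y', rfl⟩ := pi_surjective y
      rw [← map_mul] at hy
      exact Tr_not_sq two_eq_zero' eL_zero_ne hc y' (hinj hy)

theorem charac_gamA (x : Cfsg.PSp 2 F) : Charac x ↔ Charac (gamA x) :=
  charac_invariant (gamA (F := F)) (Ubar 2 F) gamA_mem_Ubar_iff x

theorem charac_of_mem_short {x : Cfsg.PSp 2 F}
    (hx : x ∈ (TS (eL 2 F 0)).map (gamA (F := F)).toMonoidHom) : Charac x := by
  obtain ⟨l, hl, rfl⟩ := hx
  exact (charac_gamA l).1 (charac_of_mem_long hl)

theorem zc_apply_01 (a b : F) :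
    ((zc a b : symplecticGroup (Fin 2) F) : Matrix I4 I4 F) (Sum.inl 0) (Sum.inr 1) = b := by
  rw [zc_coe]
  simp

theorem mem_long_or_short_of_charac {x : Cfsg.PSp 2 F} (hx : Charac x) :
    x ∈ TS (eL 2 F 0) ∨ x ∈ (TS (eL 2 F 0)).map (gamA (F := F)).toMonoidHom := by
  have hinj := pi_injective_of_two (m := 2) (F := F) (by norm_num) two_eq_zero'
  obtain ⟨⟨⟨z, hz, rfl⟩, hc⟩, hsq⟩ := hx
  have hc' : ∀ u ∈ spU 2 F, z * u = u * z := by
    intro u hu
    have := hc _ ⟨u, hu, rfl⟩
    rw [← map_mul, ← map_mul] at this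
    exact hinj this
  have h1 : ∀ k : Fin 2, k ≠ 0 → (1 : Fin 2) ≤ k := by
    intro k hk
    fin_cases k
    · exact absurd rfl hk
    · exact le_refl _
  obtain ⟨a, b, hzb⟩ := central_three (m := 2) (F := F) (i0 := 0) (i1 := 1) (fun k => Fin.zero_le k)
    (by decide) h1 hz hc'
  have hz' : z = zc a b := Subtype.ext hzb
  by_cases hb : b = 0
  · left
    rw [hz', hb, zc_zero_right]
    exact pi_Tr_mem _ _
  by_cases ha : a = 0
  · right
    refine ⟨pi (Tr (eL 2 F 0) b), pi_Tr_mem _ _, ?_⟩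
    show gamA (pi (Tr (eL 2 F 0) b)) = pi z
    rw [gamA_pi, gamE_apply, ← zc_zero_right, gamS_zc, hz', ha, zero_pow (by norm_num)]
  · exfalso
    obtain ⟨y, hy⟩ := zc_sq_of_ne two_eq_zero' a b ha hb
    rcases hsq with h | h
    · have hz1 : z = 1 := hinj (by rw [h, map_one])
      have := zc_apply_01 a b
      rw [← hz', hz1] at this
      apply hb
      rw [← this]
      exact Matrix.one_apply_ne (by simp)
    · exact h ⟨pi y, by rw [← map_mul, hy, hz']⟩

theorem charac_iff (x : Cfsg.PSp 2 F) :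
    Charac x ↔ x ∈ TS (eL 2 F 0) ∨ x ∈ (TS (eL 2 F 0)).map (gamA (F := F)).toMonoidHom :=
  ⟨mem_long_or_short_of_charac, fun h => h.elim charac_of_mem_long charac_of_mem_short⟩

/-- a subgroup contained in the union of two subgroups is contained in one of them -/
theorem le_or_le_of_forall_mem {G : Type*} [Group G] (H A B : Subgroup G)
    (h : ∀ x ∈ H, x ∈ A ∨ x ∈ B) : H ≤ A ∨ H ≤ B := by
  by_contra hcon
  rw [not_or] at hcon
  obtain ⟨hA, hB⟩ := hcon
  rw [SetLike.not_le_iff_exists] at hA hB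
  obtain ⟨a, haH, haA⟩ := hA
  obtain ⟨b, hbH, hbB⟩ := hB
  have haB : a ∈ B := (h a haH).resolve_left haA
  have hbA : b ∈ A := (h b hbH).resolve_right hbB
  rcases h (a * b) (H.mul_mem haH hbH) with h1 | h1
  · apply haA
    have := A.mul_mem h1 (A.inv_mem hbA)
    rwa [mul_inv_cancel_right] at this
  · apply hbB
    have := B.mul_mem (B.inv_mem haB) h1
    rwa [inv_mul_cancel_left] at this

/-- every automorphism of `PSp₄(F)` permutes the transvection subgroups, possibly after composition with the inverse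
of the graph automorphism -/
theorem permAt_or (β : Cfsg.PSp 2 F ≃* Cfsg.PSp 2 F) :
    PermAt β ∨ PermAt (β.trans (gamA (F := F)).symm) := by
  obtain ⟨y, hy⟩ := exists_conj_Ubar 2 β
  let γ : Cfsg.PSp 2 F ≃* Cfsg.PSp 2 F := β.trans (MulAut.conj y)
  have hγa : ∀ x, γ x = y * β x * y⁻¹ := fun x => rfl
  have hγ : ∀ x, Charac x ↔ Charac (γ x) := fun x => charac_invariant γ (Ubar 2 F) hy x
  have hcardL : Nat.card ((TS (eL 2 F 0)).map γ.toMonoidHom) = Nat.card (TS (eL 2 F 0)) :=
    Subgroup.card_map_of_injective γ.injective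
  have hcardS : Nat.card ((TS (eL 2 F 0)).map (gamA (F := F)).toMonoidHom) = Nat.card (TS (eL 2 F 0)) :=
    Subgroup.card_map_of_injective (gamA (F := F)).injective
  have hsub : ∀ x ∈ (TS (eL 2 F 0)).map γ.toMonoidHom,
      x ∈ TS (eL 2 F 0) ∨ x ∈ (TS (eL 2 F 0)).map (gamA (F := F)).toMonoidHom := by
    rintro _ ⟨l, hl, rfl⟩
    exact (charac_iff _).1 ((hγ l).1 (charac_of_mem_long hl))
  rcases le_or_le_of_forall_mem _ _ _ hsub with hle | hle
  · left
    have heq : (TS (eL 2 F 0)).map γ.toMonoidHom = TS (eL 2 F 0) :=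
      Subgroup.eq_of_le_of_card_ge hle (le_of_eq hcardL.symm)
    obtain ⟨s, rfl⟩ := pi_surjective y
    have h : ∀ x, x ∈ TS (eL 2 F 0) ↔ pi s * β x * (pi s)⁻¹ ∈ TS (eL 2 F 0) := by
      intro x
      rw [← hγa]
      constructor
      · intro hx
        rw [← heq]
        exact ⟨x, hx, rfl⟩
      · intro hx
        rw [← heq] at hx
        obtain ⟨x', hx', h'⟩ := hx
        have : x' = x := γ.injective h'
        rwa [← this]
    exact fun v hv => permTS_of_invariant (by norm_num) β 0 s h v hv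
  · right
    have heq : (TS (eL 2 F 0)).map γ.toMonoidHom = (TS (eL 2 F 0)).map (gamA (F := F)).toMonoidHom :=
      Subgroup.eq_of_le_of_card_ge hle (le_of_eq (hcardS.trans hcardL.symm))
    obtain ⟨s, hs⟩ := pi_surjective ((gamA (F := F)).symm y)
    have h : ∀ x, x ∈ TS (eL 2 F 0) ↔
        pi s * (β.trans (gamA (F := F)).symm) x * (pi s)⁻¹ ∈ TS (eL 2 F 0) := by
      intro x
      have e1 : pi s * (β.trans (gamA (F := F)).symm) x * (pi s)⁻¹ = (gamA (F := F)).symm (γ x) := by
        rw [hγa, map_mul, map_mul, map_inv, hs]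
        rfl
      rw [e1]
      constructor
      · intro hx
        have h1 : γ x ∈ (TS (eL 2 F 0)).map (gamA (F := F)).toMonoidHom := by
          rw [← heq]
          exact ⟨x, hx, rfl⟩
        obtain ⟨l, hl, h'⟩ := h1
        have : (gamA (F := F)).symm (γ x) = l := by
          rw [← h']
          exact (gamA (F := F)).symm_apply_apply l
        rwa [this]
      · intro hx
        have h1 : γ x ∈ (TS (eL 2 F 0)).map γ.toMonoidHom := by
          rw [heq]
          exact ⟨_, hx, (gamA (F := F)).apply_symm_apply _⟩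
        obtain ⟨x', hx', h'⟩ := h1
        have : x' = x := γ.injective h'
        rwa [← this]
    exact fun v hv => permTS_of_invariant (by norm_num) _ 0 s h v hv

/-- **every automorphism of `PSp₄(F)`, `F` finite of characteristic 2, is induced by a semilinear map, possibly
composed with the graph automorphism** -/
theorem aut_decomp (β : Cfsg.PSp 2 F ≃* Cfsg.PSp 2 F) :
    ∃ (g : Cfsg.GSp 2 F) (σ : F ≃+* F),
      (∀ x, β x = conjA g (fieldA σ x)) ∨ (∀ x, β x = gamA (conjA g (fieldA σ x))) := by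
  rcases permAt_or β with h | h
  · obtain ⟨g, σ, hg⟩ := exists_semilinear_at (le_refl 2) h h.symm
    exact ⟨g, σ, Or.inl hg⟩
  · obtain ⟨g, σ, hg⟩ := exists_semilinear_at (le_refl 2) h h.symm
    refine ⟨g, σ, Or.inr fun x => ?_⟩
    rw [← hg x]
    exact ((gamA (F := F)).apply_symm_apply (β x)).symm

end Cfsg.Agent.Lib.Lead.Sp4Graph
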