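/-
Block-diagonal matrices of shape `(m, 1)` on the index type `Fin (m + 1)`:
entry lemmas, products, determinants.  Used for S1348 (lead).
-/
import Mathlib

set_option autoImplicit false

namespace Cfsg.Agent.Lib.Lead.StdSL

open Matrix

variable {F : Type*} [Field F] {m : ℕ}

/-- the cross entries (last column / last row off the corner) vanish -/
def BD (g : Matrix (Fin (m + 1)) (Fin (m + 1)) F) : Prop :=
  ∀ i : Fin m, g i.castSucc (Fin.last m) = 0 ∧ g (Fin.last m) i.castSucc = 0

/-- the block matrix `diag(A, d)` -/
def blk (A : Matrix (Fin m) (Fin m) F) (d : F) : Matrix (Fin (m + 1)) (Fin (m + 1)) F :=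
  Matrix.reindex finSumFinEquiv finSumFinEquiv
    (Matrix.fromBlocks A 0 0 (Matrix.diagonal fun _ : Fin 1 => d))

theorem symm_castSucc (i : Fin m) :
    (finSumFinEquiv (m := m) (n := 1)).symm i.castSucc = Sum.inl i := by
  rw [Equiv.symm_apply_eq]; rfl

theorem symm_last :
    (finSumFinEquiv (m := m) (n := 1)).symm (Fin.last m) = Sum.inr 0 := by
  rw [Equiv.symm_apply_eq]; rfl

@[simp] theorem blk_cc (A : Matrix (Fin m) (Fin m) F) (d : F) (i j : Fin m) :
    blk A d i.castSucc j.castSucc = A i j := by
  simp [blk, symm_castSucc]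

@[simp] theorem blk_cl (A : Matrix (Fin m) (Fin m) F) (d : F) (i : Fin m) :
    blk A d i.castSucc (Fin.last m) = 0 := by
  simp [blk, symm_castSucc, symm_last]

@[simp] theorem blk_lc (A : Matrix (Fin m) (Fin m) F) (d : F) (j : Fin m) :
    blk A d (Fin.last m) j.castSucc = 0 := by
  simp [blk, symm_castSucc, symm_last]

@[simp] theorem blk_ll (A : Matrix (Fin m) (Fin m) F) (d : F) :
    blk A d (Fin.last m) (Fin.last m) = d := by
  simp [blk, symm_last]

theorem bd_blk (A : Matrix (Fin m) (Fin m) F) (d : F) : BD (blk A d) :=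
  fun i => ⟨blk_cl A d i, blk_lc A d i⟩

/-- the upper left block -/
def ul (g : Matrix (Fin (m + 1)) (Fin (m + 1)) F) : Matrix (Fin m) (Fin m) F :=
  g.submatrix Fin.castSucc Fin.castSucc

@[simp] theorem ul_apply (g : Matrix (Fin (m + 1)) (Fin (m + 1)) F) (i j : Fin m) :
    ul g i j = g i.castSucc j.castSucc := rfl

@[simp] theorem ul_blk (A : Matrix (Fin m) (Fin m) F) (d : F) : ul (blk A d) = A := by
  ext i j; simp

theorem eq_blk_of_bd {g : Matrix (Fin (m + 1)) (Fin (m + 1)) F} (hg : BD g) :
    g = blk (ul g) (g (Fin.last m) (Fin.last m)) := by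
  ext i j
  induction i using Fin.lastCases with
  | last =>
    induction j using Fin.lastCases with
    | last => simp
    | cast j => simp [(hg j).2]
  | cast i =>
    induction j using Fin.lastCases with
    | last => simp [(hg i).1]
    | cast j => simp

theorem blk_mul (A B : Matrix (Fin m) (Fin m) F) (d e : F) :
    blk A d * blk B e = blk (A * B) (d * e) := by
  unfold blk
  simp only [Matrix.reindex_apply]
  rw [Matrix.submatrix_mul_equiv, Matrix.fromBlocks_multiply]
  simp

theorem blk_one : blk (1 : Matrix (Fin m) (Fin m) F) 1 = 1 := by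
  ext i j
  induction i using Fin.lastCases with
  | last =>
    induction j using Fin.lastCases with
    | last => simp
    | cast j => simp [Matrix.one_apply, Fin.ext_iff, (Fin.castSucc_lt_last j).ne']
  | cast i =>
    induction j using Fin.lastCases with
    | last => simp [Matrix.one_apply, Fin.ext_iff, (Fin.castSucc_lt_last i).ne]
    | cast j => simp [Matrix.one_apply]

theorem det_blk (A : Matrix (Fin m) (Fin m) F) (d : F) : (blk A d).det = A.det * d := by
  unfold blk
  rw [Matrix.det_reindex_self, Matrix.det_fromBlocks_zero₂₁]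
  simp

theorem blk_inj {A B : Matrix (Fin m) (Fin m) F} {d e : F} (h : blk A d = blk B e) :
    A = B ∧ d = e := by
  constructor
  · have := congrArg ul h
    simpa using this
  · have := congrFun (congrFun h (Fin.last m)) (Fin.last m)
    simpa using this

end Cfsg.Agent.Lib.Lead.StdSL
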