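/-
S1348 (lead): the block subgroup `K = diag(SL_m, 1)` of `SL_{m+1}(F)`, the centraliser of
`t = diag(-1,…,-1,1)`, the corner character, and the identification of the layer of `C(t)`.
-/
import Mathlib
import Cfsg.Prelude.Def_Local
import Cfsg.Agent.Lib.Lead.StdSLA
import Cfsg.Agent.Lib.Helper2.SLGen
import Cfsg.Agent.Lib.Helper11.Quasisimple
import Cfsg.Agent.Lib.Helper9.Quasisimple
import Cfsg.Agent.Lib.Helper9.Standard

set_option autoImplicit false

namespace Cfsg.Agent.Lib.Lead.StdSL

open Matrix

variable {F : Type*} [Field F] {m : ℕ}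

/-- the diagonal matrix `diag(a,…,a,b)` -/
def dg (a b : F) : Matrix (Fin (m + 1)) (Fin (m + 1)) F :=
  Matrix.diagonal (Fin.lastCases b (fun _ => a))

theorem dg_eq_blk (a b : F) : (dg a b : Matrix (Fin (m + 1)) (Fin (m + 1)) F) =
    blk (Matrix.diagonal fun _ => a) b := by
  ext i j
  induction i using Fin.lastCases with
  | last =>
    induction j using Fin.lastCases with
    | last => simp [dg]
    | cast j => simp [dg, Matrix.diagonal_apply, (Fin.castSucc_lt_last j).ne']
  | cast i =>
    induction j using Fin.lastCases with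
    | last => simp [dg, Matrix.diagonal_apply, (Fin.castSucc_lt_last i).ne]
    | cast j => simp [dg, Matrix.diagonal_apply]

theorem bd_of_commute_dg {a b : F} (hab : a ≠ b) {g : Matrix (Fin (m + 1)) (Fin (m + 1)) F}
    (h : g * dg a b = dg a b * g) : BD g := by
  intro i
  constructor
  · have := congrFun (congrFun h i.castSucc) (Fin.last m)
    simp only [dg, Matrix.mul_diagonal, Matrix.diagonal_mul, Fin.lastCases_last,
      Fin.lastCases_castSucc] at this
    have h2 : g i.castSucc (Fin.last m) * (b - a) = 0 := by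
      rw [mul_sub, this]; ring
    rcases mul_eq_zero.mp h2 with h3 | h3
    · exact h3
    · exact absurd (sub_eq_zero.mp h3).symm hab
  · have := congrFun (congrFun h (Fin.last m)) i.castSucc
    simp only [dg, Matrix.mul_diagonal, Matrix.diagonal_mul, Fin.lastCases_last,
      Fin.lastCases_castSucc] at this
    have h2 : g (Fin.last m) i.castSucc * (a - b) = 0 := by
      rw [mul_sub, this]; ring
    rcases mul_eq_zero.mp h2 with h3 | h3
    · exact h3
    · exact absurd (sub_eq_zero.mp h3) hab

theorem commute_dg_of_bd (a b : F) {g : Matrix (Fin (m + 1)) (Fin (m + 1)) F} (hg : BD g) :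
    g * dg a b = dg a b * g := by
  rw [eq_blk_of_bd hg, dg_eq_blk, blk_mul, blk_mul]
  congr 1
  · ext i j
    simp [Matrix.mul_diagonal, Matrix.diagonal_mul, mul_comm]
  · exact mul_comm _ _


/-! ### the ambient group -/

section grp

variable (F m)

/-- the ambient group `SL_{m+1}(F)` -/
abbrev GG := Matrix.SpecialLinearGroup (Fin (m + 1)) F

variable {F m}

/-- the block embedding `A ↦ diag(A, 1)` -/
def phi : Matrix.SpecialLinearGroup (Fin m) F →* GG F m where
  toFun A := ⟨blk (A : Matrix (Fin m) (Fin m) F) 1, by rw [det_blk, A.2, mul_one]⟩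
  map_one' := by
    apply Subtype.ext
    simp [blk_one]
  map_mul' A B := by
    apply Subtype.ext
    show blk ((A : Matrix (Fin m) (Fin m) F) * (B : Matrix (Fin m) (Fin m) F)) 1 =
      blk (A : Matrix (Fin m) (Fin m) F) 1 * blk (B : Matrix (Fin m) (Fin m) F) 1
    rw [blk_mul, mul_one]

@[simp] theorem coe_phi (A : Matrix.SpecialLinearGroup (Fin m) F) :
    ((phi A : GG F m) : Matrix (Fin (m + 1)) (Fin (m + 1)) F) = blk (A : Matrix (Fin m) (Fin m) F) 1 := rfl

theorem phi_injective : Function.Injective (phi : Matrix.SpecialLinearGroup (Fin m) F →* GG F m) := by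
  intro A B h
  have h1 := congrArg (fun g : GG F m => (g : Matrix (Fin (m + 1)) (Fin (m + 1)) F)) h
  simp only [coe_phi] at h1
  exact Subtype.ext (blk_inj h1).1

/-- the block subgroup `K = diag(SL_m, 1)` -/
def KK : Subgroup (GG F m) := (phi : Matrix.SpecialLinearGroup (Fin m) F →* GG F m).range

theorem mem_KK_iff (g : GG F m) :
    g ∈ (KK : Subgroup (GG F m)) ↔ BD (g : Matrix (Fin (m + 1)) (Fin (m + 1)) F) ∧
      (g : Matrix (Fin (m + 1)) (Fin (m + 1)) F) (Fin.last m) (Fin.last m) = 1 := by
  constructor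
  · rintro ⟨A, rfl⟩
    exact ⟨bd_blk _ _, by simp⟩
  · rintro ⟨h1, h2⟩
    have hg := eq_blk_of_bd h1
    rw [h2] at hg
    have hdet : (ul (g : Matrix (Fin (m + 1)) (Fin (m + 1)) F)).det = 1 := by
      have := g.2
      rw [hg, det_blk, mul_one] at this
      exact this
    refine ⟨⟨ul (g : Matrix (Fin (m + 1)) (Fin (m + 1)) F), hdet⟩, ?_⟩
    apply Subtype.ext
    show blk (ul (g : Matrix (Fin (m + 1)) (Fin (m + 1)) F)) 1 = (g : Matrix (Fin (m + 1)) (Fin (m + 1)) F)
    exact hg.symm

/-- `K ≃* SL_m` -/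
noncomputable def KKequiv : Matrix.SpecialLinearGroup (Fin m) F ≃* (KK : Subgroup (GG F m)) :=
  MonoidHom.ofInjective phi_injective

end grp

end Cfsg.Agent.Lib.Lead.StdSL
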