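/-
S1348 (lead): centraliser of `t`, corner character, layer of `C(t)`.
-/
import Mathlib
import Cfsg.Agent.Lib.Lead.StdSLB

set_option autoImplicit false

namespace Cfsg.Agent.Lib.Lead.StdSL

open Matrix
open scoped commutatorElement

variable {F : Type*} [Field F] {m : ℕ}

theorem mem_centralizer_iff_bd (h2 : (2 : F) ≠ 0) (t : GG F m)
    (ht : (t : Matrix (Fin (m + 1)) (Fin (m + 1)) F) = dg (-1) 1) (g : GG F m) :
    g ∈ Subgroup.centralizer ({t} : Set (GG F m)) ↔ BD (g : Matrix (Fin (m + 1)) (Fin (m + 1)) F) := by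
  rw [Subgroup.mem_centralizer_singleton_iff]
  have hne : (-1 : F) ≠ 1 := by
    intro h
    apply h2
    have h3 : (2 : F) = 1 - (-1) := by ring
    rw [h3, h]; ring
  constructor
  · intro h
    apply bd_of_commute_dg hne
    have h1 := congrArg (fun g : GG F m => (g : Matrix (Fin (m + 1)) (Fin (m + 1)) F)) h
    simp only [Matrix.SpecialLinearGroup.coe_mul, ht] at h1
    exact h1
  · intro h
    apply Subtype.ext
    show (g : Matrix (Fin (m + 1)) (Fin (m + 1)) F) * (t : Matrix (Fin (m + 1)) (Fin (m + 1)) F) =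
      (t : Matrix (Fin (m + 1)) (Fin (m + 1)) F) * (g : Matrix (Fin (m + 1)) (Fin (m + 1)) F)
    rw [ht]
    exact commute_dg_of_bd _ _ h

theorem bd_mul_ll {g h : Matrix (Fin (m + 1)) (Fin (m + 1)) F} (hg : BD g) :
    (g * h) (Fin.last m) (Fin.last m) = g (Fin.last m) (Fin.last m) * h (Fin.last m) (Fin.last m) := by
  rw [Matrix.mul_apply, Fin.sum_univ_castSucc]
  rw [Finset.sum_eq_zero, zero_add]
  intro i _
  rw [(hg i).2, zero_mul]

/-- the corner character on the centraliser of `t` -/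
def chi (h2 : (2 : F) ≠ 0) (t : GG F m)
    (ht : (t : Matrix (Fin (m + 1)) (Fin (m + 1)) F) = dg (-1) 1) :
    ↥(Subgroup.centralizer ({t} : Set (GG F m))) →* F where
  toFun g := ((g : GG F m) : Matrix (Fin (m + 1)) (Fin (m + 1)) F) (Fin.last m) (Fin.last m)
  map_one' := by simp
  map_mul' g h := by
    have hg := (mem_centralizer_iff_bd h2 t ht g).mp g.2
    simp only [Subgroup.coe_mul, Matrix.SpecialLinearGroup.coe_mul]
    exact bd_mul_ll hg

theorem chi_apply (h2 : (2 : F) ≠ 0) (t : GG F m)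
    (ht : (t : Matrix (Fin (m + 1)) (Fin (m + 1)) F) = dg (-1) 1)
    (g : ↥(Subgroup.centralizer ({t} : Set (GG F m)))) :
    chi h2 t ht g = ((g : GG F m) : Matrix (Fin (m + 1)) (Fin (m + 1)) F) (Fin.last m) (Fin.last m) := rfl

/-- a homomorphism into a commutative monoid kills commutators -/
theorem hom_commutator_eq_one {X M : Type*} [Group X] [CommMonoid M] (f : X →* M) (a b : X) :
    f ⁅a, b⁆ = 1 := by
  rw [commutatorElement_def, map_mul, map_mul, map_mul]
  calc f a * f b * f a⁻¹ * f b⁻¹ = (f a * f a⁻¹) * (f b * f b⁻¹) := by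
        simp only [mul_assoc]
        rw [mul_left_comm (f b) (f a⁻¹)]
    _ = 1 := by rw [← map_mul, ← map_mul, mul_inv_cancel, mul_inv_cancel, map_one, one_mul]

theorem hom_eq_one_of_perfect {X M : Type*} [Group X] [CommMonoid M] (f : X →* M)
    (J : Subgroup X) (hJ : Group.IsPerfect J) (x : X) (hx : x ∈ J) : f x = 1 := by
  have hJJ : ⁅J, J⁆ = J := Subgroup.isPerfect_iff.mp hJ
  have hle : ⁅J, J⁆ ≤ MonoidHom.ker f := by
    rw [Subgroup.commutator_le]
    intro a _ b _
    exact hom_commutator_eq_one f a b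
  rw [hJJ] at hle
  exact hle hx

end Cfsg.Agent.Lib.Lead.StdSL
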