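/-
S1348 (lead): the layer of `C(t)` is the block subgroup `K`, and `K` is a standard subgroup.
-/
import Mathlib
import Cfsg.Agent.Lib.Lead.StdSLC

set_option autoImplicit false

namespace Cfsg.Agent.Lib.Lead.StdSL

open Matrix
open scoped commutatorElement

variable {F : Type*} [Field F] {m : ℕ}

theorem sl_quasisimple (hm : 3 ≤ m) : Cfsg.IsQuasisimple (Matrix.SpecialLinearGroup (Fin m) F) :=
  ⟨⟨Cfsg.Agent.Lib.Helper2.sl_commutator_eq_top (by simpa using hm)⟩,
    Cfsg.Agent.Lib.Helper2.psl_isSimpleGroup (by simpa using hm)⟩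

theorem KK_quasisimple (hm : 3 ≤ m) : Cfsg.IsQuasisimple ↥(KK (F := F) (m := m)) :=
  Cfsg.Agent.Lib.Helper11.isQuasisimple_of_mulEquiv (KKequiv (F := F) (m := m)) (sl_quasisimple hm)

theorem KK_perfect (hm : 3 ≤ m) :
    ⁅(KK (F := F) (m := m)), (KK (F := F) (m := m))⁆ = (KK (F := F) (m := m)) :=
  Subgroup.isPerfect_iff.mp (KK_quasisimple hm).1

theorem hom_eq_one_of_isPerfect {X M : Type*} [Group X] [CommMonoid M] (hX : Group.IsPerfect X)
    (f : X →* M) (x : X) : f x = 1 := by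
  have hle : commutator X ≤ MonoidHom.ker f := by
    rw [commutator_def, Subgroup.commutator_le]
    intro a _ b _
    exact hom_commutator_eq_one f a b
  have : x ∈ commutator X := by rw [hX.commutator_eq_top]; trivial
  exact hle this

section fixt

variable (h2 : (2 : F) ≠ 0) (t : GG F m)
  (ht : (t : Matrix (Fin (m + 1)) (Fin (m + 1)) F) = dg (-1) 1)

include h2 ht

theorem KK_le_centralizer : (KK : Subgroup (GG F m)) ≤ Subgroup.centralizer ({t} : Set (GG F m)) := by
  intro g hg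
  rw [mem_centralizer_iff_bd h2 t ht]
  exact ((mem_KK_iff g).mp hg).1

omit h2 in
theorem t_mem_KK : t ∈ (KK : Subgroup (GG F m)) := by
  rw [mem_KK_iff, ht, dg_eq_blk]
  exact ⟨bd_blk _ _, by simp⟩

theorem ker_chi_map :
    (MonoidHom.ker (chi h2 t ht)).map (Subgroup.centralizer ({t} : Set (GG F m))).subtype = KK := by
  ext g
  constructor
  · rintro ⟨⟨g, hg⟩, hker, rfl⟩
    rw [SetLike.mem_coe, MonoidHom.mem_ker, chi_apply] at hker
    rw [mem_KK_iff]
    exact ⟨(mem_centralizer_iff_bd h2 t ht g).mp hg, hker⟩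
  · intro hg
    refine ⟨⟨g, KK_le_centralizer h2 t ht hg⟩, ?_, rfl⟩
    rw [SetLike.mem_coe, MonoidHom.mem_ker, chi_apply]
    exact ((mem_KK_iff g).mp hg).2

/-- a perfect subgroup of `C(t)` lies in `K` -/
theorem le_KK_of_perfect (J : Subgroup (GG F m))
    (hJH : J ≤ Subgroup.centralizer ({t} : Set (GG F m))) (hJ : ⁅J, J⁆ = J) : J ≤ KK := by
  intro x hx
  have hperf : Group.IsPerfect ↥J := Subgroup.isPerfect_iff.mpr hJ
  have h1 := hom_eq_one_of_isPerfect hperf ((chi h2 t ht).comp (Subgroup.inclusion hJH)) ⟨x, hx⟩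
  rw [mem_KK_iff]
  refine ⟨(mem_centralizer_iff_bd h2 t ht x).mp (hJH hx), ?_⟩
  simpa [chi_apply] using h1

theorem layer_eq (hm : 3 ≤ m) :
    Cfsg.layer ↥(Subgroup.centralizer ({t} : Set (GG F m))) = MonoidHom.ker (chi h2 t ht) := by
  apply le_antisymm
  · apply sSup_le
    intro J hJ x hx
    rw [MonoidHom.mem_ker]
    have hperf : Group.IsPerfect ↥J := hJ.2.1
    have h1 := hom_eq_one_of_isPerfect hperf ((chi h2 t ht).comp J.subtype) ⟨x, hx⟩
    simpa using h1
  · apply le_sSup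
    refine ⟨(MonoidHom.normal_ker _).isSubnormal, ?_⟩
    have e1 : ↥(MonoidHom.ker (chi h2 t ht)) ≃*
        ↥((MonoidHom.ker (chi h2 t ht)).map (Subgroup.centralizer ({t} : Set (GG F m))).subtype) :=
      Subgroup.equivMapOfInjective _ _ (Subgroup.subtype_injective _)
    have e2 : ↥((MonoidHom.ker (chi h2 t ht)).map (Subgroup.centralizer ({t} : Set (GG F m))).subtype)
        ≃* ↥(KK (F := F) (m := m)) := MulEquiv.subgroupCongr (ker_chi_map h2 t ht)
    exact Cfsg.Agent.Lib.Helper11.isQuasisimple_of_mulEquiv (e1.trans e2).symm (KK_quasisimple hm)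

theorem layer_map_eq (hm : 3 ≤ m) :
    (Cfsg.layer ↥(Subgroup.centralizer ({t} : Set (GG F m)))).map
      (Subgroup.centralizer ({t} : Set (GG F m))).subtype = KK := by
  rw [layer_eq h2 t ht hm, ker_chi_map]

end fixt

end Cfsg.Agent.Lib.Lead.StdSL
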