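/-
S1348 (lead): `K = diag(SL_m, 1)` is a standard subgroup of `SL_{m+1}(F)` (`m ≥ 3`, `m + 1` odd,
`F` finite of odd characteristic).
-/
import Mathlib
import Cfsg.Agent.Lib.Lead.StdSLD

set_option autoImplicit false

namespace Cfsg.Agent.Lib.Lead.StdSL

open Matrix
open scoped commutatorElement

variable {F : Type*} [Field F] {m : ℕ}

/-- elements of `C(K)` are of the form `diag(a,…,a,b)` -/
theorem exists_dg_of_mem_centralizer (h2 : (2 : F) ≠ 0) (t : GG F m)
    (ht : (t : Matrix (Fin (m + 1)) (Fin (m + 1)) F) = dg (-1) 1) (x : GG F m)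
    (hx : x ∈ Subgroup.centralizer ((KK (F := F) (m := m)) : Set (GG F m))) :
    ∃ a b : F, (x : Matrix (Fin (m + 1)) (Fin (m + 1)) F) = dg a b := by
  have hxt : x ∈ Subgroup.centralizer ({t} : Set (GG F m)) := by
    rw [Subgroup.mem_centralizer_singleton_iff]
    exact ((Subgroup.mem_centralizer_iff.mp hx) t (t_mem_KK t ht)).symm
  have hbd := (mem_centralizer_iff_bd h2 t ht x).mp hxt
  have hblk := eq_blk_of_bd hbd
  set P := ul (x : Matrix (Fin (m + 1)) (Fin (m + 1)) F) with hP
  set b := (x : Matrix (Fin (m + 1)) (Fin (m + 1)) F) (Fin.last m) (Fin.last m) with hb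
  have hsc : P ∈ Set.range (Matrix.scalar (Fin m)) := by
    apply Matrix.mem_range_scalar_of_commute_transvectionStruct
    intro T
    let A : Matrix.SpecialLinearGroup (Fin m) F := ⟨T.toMatrix, T.det⟩
    have hA : (phi A : GG F m) ∈ (KK (F := F) (m := m)) := ⟨A, rfl⟩
    have hc := (Subgroup.mem_centralizer_iff.mp hx) _ hA
    have hc' := congrArg (fun g : GG F m => (g : Matrix (Fin (m + 1)) (Fin (m + 1)) F)) hc
    simp only [Matrix.SpecialLinearGroup.coe_mul, coe_phi] at hc'
    rw [hblk, blk_mul, blk_mul] at hc'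
    exact (blk_inj hc').1
  obtain ⟨a, ha⟩ := hsc
  refine ⟨a, b, ?_⟩
  rw [hblk, dg_eq_blk, ← ha]
  rfl

theorem pow_eq_one_of_dg (x : GG F m) (a : F)
    (hx : (x : Matrix (Fin (m + 1)) (Fin (m + 1)) F) = dg a a) : x ^ (m + 1) = 1 := by
  have hd : (dg a a : Matrix (Fin (m + 1)) (Fin (m + 1)) F) = Matrix.diagonal fun _ => a := by
    unfold dg
    congr 1
    funext i
    induction i using Fin.lastCases with
    | last => simp
    | cast i => simp
  have hdet : a ^ (m + 1) = 1 := by
    have := x.2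
    rw [hx, hd, Matrix.det_diagonal] at this
    simpa using this
  apply Subtype.ext
  show ((x ^ (m + 1) : GG F m) : Matrix (Fin (m + 1)) (Fin (m + 1)) F) = 1
  rw [Matrix.SpecialLinearGroup.coe_pow, hx, hd, Matrix.diagonal_pow]
  have : ((fun _ => a) ^ (m + 1) : Fin (m + 1) → F) = fun _ => 1 := by
    funext i
    simp [hdet]
  rw [this]
  exact Matrix.diagonal_one

section fixt

variable [Finite F] (h2 : (2 : F) ≠ 0) (t : GG F m)
  (ht : (t : Matrix (Fin (m + 1)) (Fin (m + 1)) F) = dg (-1) 1)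

include h2 ht

/-- a conjugate of `K` inside `C(t)` equals `K` -/
theorem conj_KK_eq (hm : 3 ≤ m) (g : GG F m)
    (hle : (KK (F := F) (m := m)).map (MulAut.conj g).toMonoidHom ≤
      Subgroup.centralizer ({t} : Set (GG F m))) :
    (KK (F := F) (m := m)).map (MulAut.conj g).toMonoidHom = KK := by
  have hperf : ⁅(KK (F := F) (m := m)).map (MulAut.conj g).toMonoidHom,
      (KK (F := F) (m := m)).map (MulAut.conj g).toMonoidHom⁆ =
      (KK (F := F) (m := m)).map (MulAut.conj g).toMonoidHom := by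
    rw [← Subgroup.map_commutator, KK_perfect hm]
  have h1 := le_KK_of_perfect h2 t ht _ hle hperf
  apply Subgroup.eq_of_le_of_card_ge h1
  rw [Subgroup.card_map_of_injective (MulAut.conj g).injective]

theorem conj_KK_eq_of_mem (hm : 3 ≤ m) (g x : GG F m) (a b : F) (hab : a ≠ b)
    (hx : (x : Matrix (Fin (m + 1)) (Fin (m + 1)) F) = dg a b)
    (hxc : x ∈ Subgroup.centralizer
      (((KK (F := F) (m := m)).map (MulAut.conj g).toMonoidHom : Subgroup (GG F m)) : Set (GG F m))) :
    (KK (F := F) (m := m)).map (MulAut.conj g).toMonoidHom = KK := by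
  apply conj_KK_eq h2 t ht hm
  intro y hy
  rw [mem_centralizer_iff_bd h2 t ht]
  apply bd_of_commute_dg hab
  have hc := (Subgroup.mem_centralizer_iff.mp hxc) y hy
  have hc' := congrArg (fun g : GG F m => (g : Matrix (Fin (m + 1)) (Fin (m + 1)) F)) hc
  simp only [Matrix.SpecialLinearGroup.coe_mul, hx] at hc'
  exact hc'

end fixt

end Cfsg.Agent.Lib.Lead.StdSL
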