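/-
S1348 (lead): assembly -- `K = diag(SL_m, 1)` is a standard subgroup of `SL_{m+1}(F)`.
-/
import Mathlib
import Cfsg.Agent.Lib.Lead.StdSLE

set_option autoImplicit false

namespace Cfsg.Agent.Lib.Lead.StdSL

open Matrix
open scoped commutatorElement

variable {F : Type*} [Field F] [Finite F] {m : ℕ}

theorem t_sq (t : GG F m) (ht : (t : Matrix (Fin (m + 1)) (Fin (m + 1)) F) = dg (-1) 1) :
    t * t = 1 := by
  apply Subtype.ext
  show (t : Matrix (Fin (m + 1)) (Fin (m + 1)) F) * (t : Matrix (Fin (m + 1)) (Fin (m + 1)) F) = 1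
  rw [ht]
  unfold dg
  rw [Matrix.diagonal_mul_diagonal]
  rw [← Matrix.diagonal_one]
  congr 1
  funext i
  induction i using Fin.lastCases with
  | last => simp
  | cast i => simp

theorem t_ne_one (h2 : (2 : F) ≠ 0) (hm : 1 ≤ m) (t : GG F m)
    (ht : (t : Matrix (Fin (m + 1)) (Fin (m + 1)) F) = dg (-1) 1) : t ≠ 1 := by
  intro h
  have h1 := congrArg (fun g : GG F m => (g : Matrix (Fin (m + 1)) (Fin (m + 1)) F)
    (Fin.castSucc ⟨0, hm⟩) (Fin.castSucc ⟨0, hm⟩)) h
  simp only [ht, dg, Matrix.diagonal_apply_eq, Fin.lastCases_castSucc,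
    Matrix.SpecialLinearGroup.coe_one, Matrix.one_apply_eq] at h1
  apply h2
  have h3 : (2 : F) = 1 - (-1) := by ring
  rw [h3, h1]; ring

theorem isStandard_KK (h2 : (2 : F) ≠ 0) (hm : 3 ≤ m) (hodd : Odd (m + 1)) (t : GG F m)
    (ht : (t : Matrix (Fin (m + 1)) (Fin (m + 1)) F) = dg (-1) 1) :
    Cfsg.IsStandardSubgroup (KK (F := F) (m := m)) := by
  have htK := t_mem_KK t ht
  have htD : t ∈ Subgroup.centralizer ((KK (F := F) (m := m)) : Set (GG F m)) := by
    rw [Subgroup.mem_centralizer_iff]
    intro k hk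
    have := KK_le_centralizer h2 t ht hk
    rw [Subgroup.mem_centralizer_singleton_iff] at this
    exact this
  -- key: conjugates
  have key : ∀ g : GG F m, t ∈ Subgroup.centralizer
      (((KK (F := F) (m := m)).map (MulAut.conj g).toMonoidHom : Subgroup (GG F m)) : Set (GG F m)) →
      (KK (F := F) (m := m)).map (MulAut.conj g).toMonoidHom = KK := by
    intro g hg
    have hne : (-1 : F) ≠ 1 := by
      intro h
      apply h2
      have h3 : (2 : F) = 1 - (-1) := by ring
      rw [h3, h]; ring
    exact conj_KK_eq_of_mem h2 t ht hm g t (-1) 1 hne ht hg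
  refine ⟨KK_quasisimple hm, ⟨?_, ?_⟩, ?_, ?_⟩
  · -- even order
    rw [even_iff_two_dvd]
    have ho : orderOf (⟨t, htD⟩ : ↥(Subgroup.centralizer ((KK (F := F) (m := m)) : Set (GG F m)))) = 2 := by
      apply orderOf_eq_prime
      · apply Subtype.ext
        show t ^ 2 = 1
        rw [pow_two]; exact t_sq t ht
      · intro h
        exact t_ne_one h2 (by omega) t ht (congrArg Subtype.val h)
    rw [← ho]
    exact orderOf_dvd_natCard _
  · -- tightly embedded
    intro g hg
    by_contra hodd'
    rw [Nat.not_odd_iff_even, even_iff_two_dvd] at hodd'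
    haveI : Fact (Nat.Prime 2) := ⟨Nat.prime_two⟩
    obtain ⟨⟨y, hy⟩, hyo⟩ := exists_prime_orderOf_dvd_card' 2 hodd'
    have hyo' : orderOf y = 2 := by
      rw [← hyo]
      exact (Subgroup.orderOf_mk y hy).symm
    have hy1 : y ∈ Subgroup.centralizer ((KK (F := F) (m := m)) : Set (GG F m)) := hy.1
    have hy2 : y ∈ Subgroup.centralizer
        (((KK (F := F) (m := m)).map (MulAut.conj g).toMonoidHom : Subgroup (GG F m)) : Set (GG F m)) := by
      rw [Cfsg.Agent.Lib.Helper9.centralizer_map_equiv]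
      exact hy.2
    obtain ⟨a, b, hab⟩ := exists_dg_of_mem_centralizer h2 t ht y hy1
    by_cases hne : a = b
    · subst hne
      have hp := pow_eq_one_of_dg y a hab
      have hd := orderOf_dvd_of_pow_eq_one hp
      rw [hyo'] at hd
      obtain ⟨k, hk⟩ := hodd
      omega
    · have hK := conj_KK_eq_of_mem h2 t ht hm g y a b hne hab hy2
      apply hg
      apply Cfsg.Agent.Lib.Helper9.normalizer_le_normalizer_centralizer
      exact Cfsg.Agent.Lib.Helper9.mem_normalizer_of_map_conj_eq hK
  · -- no commuting conjugates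
    intro g hg hcomm
    apply hg
    apply key
    rw [Subgroup.commutator_eq_bot_iff_le_centralizer] at hcomm
    exact hcomm htK
  · -- normalizers
    apply le_antisymm
    · exact Cfsg.Agent.Lib.Helper9.normalizer_le_normalizer_centralizer _
    · intro g hg
      apply Cfsg.Agent.Lib.Helper9.mem_normalizer_of_map_conj_eq
      apply key
      rw [Cfsg.Agent.Lib.Helper9.centralizer_map_equiv,
        Cfsg.Agent.Lib.Helper9.map_conj_eq_of_mem_normalizer hg]
      exact htD

end Cfsg.Agent.Lib.Lead.StdSL
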