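import Cfsg.Agent.Lib.Helper3.BNSimple

/-! Automorphisms of a group with a (B,N)-pair that fix `B` permute the minimal parabolic
subgroups (lead). -/

set_option autoImplicit false

namespace Cfsg.Agent.Lib.Lead.Stein

open Cfsg Cfsg.Agent.Lib.Helper3.BN

section abstract
variable {G : Type*} [Group G] (P : Cfsg.BNPair G)

theorem parabolic_singleton_ne_B {s : G} (hs : s ∈ P.S) : P.parabolic {s} ≠ P.B := by
  intro h
  rw [← parabolic_empty P] at h
  have := parabolic_inj P (Set.singleton_subset_iff.mpr hs) (Set.empty_subset _) h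
  exact Set.singleton_ne_empty s this

/-- a subgroup strictly between `B` and a minimal parabolic does not exist -/
theorem eq_of_le_parabolic_singleton {s : G} (hs : s ∈ P.S) (M : Subgroup G) (hBM : P.B ≤ M)
    (hM : M ≤ P.parabolic {s}) (hne : M ≠ P.B) : M = P.parabolic {s} := by
  have h1 := subgroup_eq_parabolic P M hBM
  set J := {t | t ∈ P.S ∧ t ∈ M} with hJ
  have hJS : J ⊆ P.S := fun t ht => ht.1
  have hJs : J ⊆ {s} := by
    rw [h1] at hM
    exact (parabolic_le_iff P hJS (Set.singleton_subset_iff.mpr hs)).mp hM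
  rcases Set.subset_singleton_iff_eq.mp hJs with h | h
  · exfalso; apply hne; rw [h1, h, parabolic_empty]
  · rw [h1, h]

/-- an automorphism fixing `B` permutes the minimal parabolic subgroups -/
theorem exists_parabolic_map (θ : G ≃* G) (hB : P.B.map θ.toMonoidHom = P.B) {s : G} (hs : s ∈ P.S) :
    ∃ s' ∈ P.S, (P.parabolic {s}).map θ.toMonoidHom = P.parabolic {s'} := by
  have hinj : Function.Injective (Subgroup.map θ.toMonoidHom) :=
    Subgroup.map_injective θ.injective
  set M := (P.parabolic {s}).map θ.toMonoidHom with hM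
  have hBM : P.B ≤ M := by
    rw [← hB, hM]
    exact Subgroup.map_mono le_sup_left
  have h1 := subgroup_eq_parabolic P M hBM
  set J := {t | t ∈ P.S ∧ t ∈ M} with hJ
  have hJS : J ⊆ P.S := fun t ht => ht.1
  have hJne : J.Nonempty := by
    by_contra hne
    rw [Set.not_nonempty_iff_eq_empty] at hne
    rw [hne, parabolic_empty, ← hB] at h1
    exact parabolic_singleton_ne_B P hs (hinj h1)
  obtain ⟨s', hs'J⟩ := hJne
  have hs' : s' ∈ P.S := hs'J.1
  refine ⟨s', hs', ?_⟩
  set M' := (P.parabolic {s'}).comap θ.toMonoidHom with hM'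
  have hle : P.parabolic {s'} ≤ M := by
    rw [h1]
    exact parabolic_mono P (Set.singleton_subset_iff.mpr hs'J)
  have hBM' : P.B ≤ M' := by
    intro b hb
    rw [hM', Subgroup.mem_comap]
    have : θ.toMonoidHom b ∈ P.B.map θ.toMonoidHom := Subgroup.mem_map_of_mem _ hb
    rw [hB] at this
    exact (le_sup_left : P.B ≤ P.parabolic {s'}) this
  have hM's : M' ≤ P.parabolic {s} := by
    intro g hg
    rw [hM', Subgroup.mem_comap] at hg
    have h2 := hle hg
    rw [hM] at h2
    obtain ⟨g', hg', he⟩ := h2
    have : g' = g := θ.injective he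
    rw [← this]; exact hg'
  have hmapM' : M'.map θ.toMonoidHom = P.parabolic {s'} := by
    rw [hM']
    exact Subgroup.map_comap_eq_self_of_surjective θ.surjective _
  have hne : M' ≠ P.B := by
    intro h
    rw [h, hB] at hmapM'
    exact parabolic_singleton_ne_B P hs' hmapM'.symm
  have := eq_of_le_parabolic_singleton P hs M' hBM' hM's hne
  rw [hM, ← this, hmapM']

end abstract

end Cfsg.Agent.Lib.Lead.Stein
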