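import Cfsg.Agent.Lib.Lead.SteinA
import Cfsg.Agent.Lib.Helper11.ChevDiagMem
import Cfsg.Agent.Lib.Helper11.ChevFundGen
import Cfsg.Agent.Lib.Helper7.ChevCore
import Cfsg.Agent.Lib.Helper7.ChevSylow
import Cfsg.Agent.Lib.Helper7.ChevCanon2

/-! Normalisers of `U` and `V` in a Chevalley group, and automorphisms stabilising subgroups (lead). -/

set_option autoImplicit false

namespace Cfsg.Agent.Lib.Lead.Stein

open Cfsg Cfsg.Lie Matrix Cfsg.Agent.Lib.Helper7 Cfsg.Agent.Lib.Helper3.BN
open Cfsg.Agent.Lib.Helper11.ChevDiagMem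

section
variable (D : ChevalleyDatum) (F : Type*) [Field F]

/-- the opposite Borel subgroup `V H` -/
def negBorel : Subgroup (GL D.Idx F) := D.negUnipotent F ⊔ D.diagonalSubgroup F

/-- the automorphism `θ` of the Chevalley group stabilises the subgroup `A` of `GL` -/
def Stab (θ : ↥(D.group F) ≃* ↥(D.group F)) (A : Subgroup (GL D.Idx F)) : Prop :=
  ∀ g : ↥(D.group F), (θ g : GL D.Idx F) ∈ A ↔ (g : GL D.Idx F) ∈ A

variable {D F}

theorem Stab.symm {θ : ↥(D.group F) ≃* ↥(D.group F)} {A : Subgroup (GL D.Idx F)} (h : Stab D F θ A) :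
    Stab D F θ.symm A := by
  intro g
  have := h (θ.symm g)
  rw [MulEquiv.apply_symm_apply] at this
  exact this.symm

theorem Stab.inf {θ : ↥(D.group F) ≃* ↥(D.group F)} {A A' : Subgroup (GL D.Idx F)} (h : Stab D F θ A)
    (h' : Stab D F θ A') : Stab D F θ (A ⊓ A') := by
  intro g
  rw [Subgroup.mem_inf, Subgroup.mem_inf, h g, h' g]

theorem Stab.trans {θ θ' : ↥(D.group F) ≃* ↥(D.group F)} {A : Subgroup (GL D.Idx F)} (h : Stab D F θ A)
    (h' : Stab D F θ' A) : Stab D F (θ.trans θ') A := by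
  intro g
  rw [MulEquiv.trans_apply, h' (θ g), h g]

/-- `θ` stabilises the normaliser in `G` of a stabilised subgroup of `G` -/
theorem Stab.normalizer {θ : ↥(D.group F) ≃* ↥(D.group F)} {A : Subgroup (GL D.Idx F)}
    (hA : A ≤ D.group F) (h : Stab D F θ A) :
    Stab D F θ (Subgroup.normalizer (A : Set (GL D.Idx F)) ⊓ D.group F) := by
  have key : ∀ θ : ↥(D.group F) ≃* ↥(D.group F), Stab D F θ A → ∀ g : ↥(D.group F),
      (g : GL D.Idx F) ∈ Subgroup.normalizer (A : Set (GL D.Idx F)) →
      (θ g : GL D.Idx F) ∈ Subgroup.normalizer (A : Set (GL D.Idx F)) := by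
    intro θ h g hg
    rw [Subgroup.mem_set_normalizer_iff] at hg ⊢
    have one : ∀ g : ↥(D.group F), (∀ a : GL D.Idx F, a ∈ A → (g : GL D.Idx F) * a * (g : GL D.Idx F)⁻¹ ∈ A) →
        ∀ a : GL D.Idx F, a ∈ A → (θ g : GL D.Idx F) * a * (θ g : GL D.Idx F)⁻¹ ∈ A := by
      intro g hg a ha
      have haG : a ∈ D.group F := hA ha
      have ha' : ((θ.symm ⟨a, haG⟩ : ↥(D.group F)) : GL D.Idx F) ∈ A := (h.symm ⟨a, haG⟩).mpr ha
      have h1 := hg _ ha'
      have h2 : ((g * θ.symm ⟨a, haG⟩ * g⁻¹ : ↥(D.group F)) : GL D.Idx F) ∈ A := h1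
      rw [← h (g * θ.symm ⟨a, haG⟩ * g⁻¹)] at h2
      rw [map_mul, map_mul, map_inv, MulEquiv.apply_symm_apply] at h2
      exact h2
    intro a
    constructor
    · exact one g (fun a ha => (hg a).mp ha) a
    · intro ha
      have h3 := one g⁻¹ (fun a ha => by
        have := (hg ((g : GL D.Idx F)⁻¹ * a * (g : GL D.Idx F))).mpr (by
          have e : (g : GL D.Idx F) * ((g : GL D.Idx F)⁻¹ * a * (g : GL D.Idx F)) * (g : GL D.Idx F)⁻¹ = a := by
            group
          rw [e]; exact ha)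
        simpa using this) _ ha
      have e : ((θ g⁻¹ : ↥(D.group F)) : GL D.Idx F) * ((θ g : GL D.Idx F) * a * (θ g : GL D.Idx F)⁻¹) *
          ((θ g⁻¹ : ↥(D.group F)) : GL D.Idx F)⁻¹ = a := by
        rw [map_inv]
        simp only [Subgroup.coe_inv]
        group
      rwa [e] at h3
  intro g
  rw [Subgroup.mem_inf, Subgroup.mem_inf]
  constructor
  · rintro ⟨h1, -⟩
    refine ⟨?_, g.2⟩
    have := key θ.symm h.symm (θ g) h1
    rwa [MulEquiv.symm_apply_apply] at this
  · rintro ⟨h1, -⟩
    exact ⟨key θ h g h1, (θ g).2⟩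

end

section
variable (D : ChevalleyDatum) (hD : D ∈ [chevG2, chevB2, chevD4, chevF4, chevE6, chevE7, chevE8])
variable (F : Type*) [Field F]
include hD

theorem posUnipotent_le_group : D.posUnipotent F ≤ D.group F :=
  le_trans (posUnipotent_le_borel D hD F) (borel_le_group D hD F)

theorem negUnipotent_le_group : D.negUnipotent F ≤ D.group F := by
  unfold ChevalleyDatum.negUnipotent
  rw [Subgroup.closure_le]
  rintro g ⟨r, t, -, hg⟩
  have : g = xGL D hD F r t := Units.ext (by rw [hg, coe_xGL])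
  rw [this]
  exact xGL_mem_group D hD F r t

theorem diagonal_le_group : D.diagonalSubgroup F ≤ D.group F :=
  le_trans (diagonal_le_borel D hD F) (borel_le_group D hD F)

/-- `N_G(V) = V H` -/
theorem normalizer_negUnipotent_inf_group :
    Subgroup.normalizer (D.negUnipotent F : Set (GL D.Idx F)) ⊓ D.group F = negBorel D F := by
  obtain ⟨w, hL⟩ := exists_longFacts_of_mem D hD
  set n := nLongGL D hD F w with hn
  have hnG : n ∈ D.group F := nLongGL_mem_group D hD F w
  have h1 := conj_posUnipotent_eq D hD F w hL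
  have h2 := conj_borel_eq D hD F w hL
  have h3 : (D.group F).map (MulAut.conj n).toMonoidHom = D.group F :=
    map_conj_eq_of_mem_set_normalizer _ _ (Subgroup.le_normalizer hnG)
  unfold negBorel
  rw [← h2, ← normalizer_posUnipotent_inf_group D hD F, Subgroup.map_inf _ _ _ (MulAut.conj n).injective,
    h3, Subgroup.map_equiv_normalizer_eq, h1]

/-- `B ∩ V H = H` -/
theorem borel_inf_negBorel : D.borelSubgroup F ⊓ negBorel D F = D.diagonalSubgroup F := by
  apply le_antisymm
  · intro x hx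
    obtain ⟨hxB, hxV⟩ := Subgroup.mem_inf.mp hx
    have hxV' : x ∈ ((negBorel D F : Subgroup (GL D.Idx F)) : Set (GL D.Idx F)) := hxV
    unfold negBorel at hxV'
    rw [Subgroup.coe_mul_of_right_le_normalizer_left _ _
      (diagonalSubgroup_le_normalizer_negUnipotent D hD F)] at hxV'
    obtain ⟨v, hv, h, hh, rfl⟩ := Set.mem_mul.mp hxV'
    have hvB : v ∈ D.borelSubgroup F := by
      have : v = v * h * h⁻¹ := by group
      rw [this]
      exact Subgroup.mul_mem _ hxB (Subgroup.inv_mem _ (diagonal_le_borel D hD F hh))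
    have : v ∈ D.borelSubgroup F ⊓ D.negUnipotent F := Subgroup.mem_inf.mpr ⟨hvB, hv⟩
    rw [borel_inf_negUnipotent D hD F, Subgroup.mem_bot] at this
    rw [this, one_mul]; exact hh
  · apply le_inf (diagonal_le_borel D hD F)
    unfold negBorel
    exact le_sup_right

variable {D F}

/-- an automorphism stabilising `U` and `V` stabilises `B`, `V H` and `H` -/
theorem Stab.borel {θ : ↥(D.group F) ≃* ↥(D.group F)} (hU : Stab D F θ (D.posUnipotent F)) :
    Stab D F θ (D.borelSubgroup F) := by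
  have := hU.normalizer (posUnipotent_le_group D hD F)
  rwa [normalizer_posUnipotent_inf_group D hD F] at this

theorem Stab.negBorel {θ : ↥(D.group F) ≃* ↥(D.group F)} (hV : Stab D F θ (D.negUnipotent F)) :
    Stab D F θ (negBorel D F) := by
  have := hV.normalizer (negUnipotent_le_group D hD F)
  rwa [normalizer_negUnipotent_inf_group D hD F] at this

theorem Stab.diagonal {θ : ↥(D.group F) ≃* ↥(D.group F)} (hU : Stab D F θ (D.posUnipotent F))
    (hV : Stab D F θ (D.negUnipotent F)) : Stab D F θ (D.diagonalSubgroup F) := by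
  have := (Stab.borel hD hU).inf (Stab.negBorel hD hV)
  rwa [borel_inf_negBorel D hD F] at this

end

end Cfsg.Agent.Lib.Lead.Stein
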