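import Cfsg.Agent.Lib.Lead.SteinB
import Cfsg.Agent.Lib.Helper7.ChevBN0
import Cfsg.Agent.Lib.Helper7.ChevLongCent

/-! Every automorphism of a finite Chevalley group can be composed with an inner automorphism so
that it stabilises `U` and `V` (lead). -/

set_option autoImplicit false

namespace Cfsg.Agent.Lib.Lead.Stein

open Cfsg Cfsg.Lie Matrix Cfsg.Agent.Lib.Helper7 Cfsg.Agent.Lib.Helper3.BN

section
variable (D : ChevalleyDatum) (hD : D ∈ [chevG2, chevB2, chevD4, chevF4, chevE6, chevE7, chevE8])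
variable (F : Type*) [Field F]
include hD

/-- if `n ∈ N` and `n U n⁻¹ ∩ U = 1` then `n U n⁻¹ = V` -/
theorem conj_monomial_eq_neg (n : GL D.Idx F) (hn : n ∈ D.monomialSubgroup F)
    (h : ∀ u ∈ D.posUnipotent F, n * u * n⁻¹ ∈ D.posUnipotent F → u = 1) :
    (D.posUnipotent F).map (MulAut.conj n).toMonoidHom = D.negUnipotent F := by
  have hRC := monomial_le_rootConj D hD F hn
  have hPN := posNegOK_of_mem D hD
  have hNI := negInvOK_of_mem D hD
  apply le_antisymm
  · unfold ChevalleyDatum.posUnipotent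
    rw [MonoidHom.map_closure, Subgroup.closure_le]
    rintro _ ⟨g, ⟨s, t, hs, hg⟩, rfl⟩
    have hg' : g = xGL D hD F s t := Units.ext (by rw [hg, coe_xGL])
    obtain ⟨a, ha, c, hc, h1, -⟩ := hRC.2 s hs.1
    have h1' : ∀ t : F, n * xGL D hD F s t * n⁻¹ = xGL D hD F a (c * t) := by
      intro t; have := h1 t; rwa [inv_inv] at this
    show n * g * n⁻¹ ∈ D.negUnipotent F
    rw [hg', h1']
    rcases posOrNeg_of_mem D hD a ha with hp | hneg
    · exfalso
      have hu := h (xGL D hD F s 1) (xGL_pos_mem D hD F s hs 1) (by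
        rw [h1']; exact xGL_pos_mem D hD F a hp _)
      exact xGL_one_ne_one D hD F s hs.1 hu
    · exact xGL_neg_mem D hD F a hneg _
  · unfold ChevalleyDatum.negUnipotent
    rw [Subgroup.closure_le]
    rintro g ⟨r, t, hr, hg⟩
    have hg' : g = xGL D hD F r t := Units.ext (by rw [hg, coe_xGL])
    obtain ⟨a, ha, c, hc, h1, h2⟩ := hRC.1 r hr.1
    have hnr : D.IsPosRoot (D.neg r) := (hNI r hr.1).2.2 hr
    have hpa : D.IsPosRoot a := by
      rcases posOrNeg_of_mem D hD a ha with hp | hneg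
      · exact hp
      · exfalso
        have hna : D.IsPosRoot (D.neg a) := (hNI a ha).2.2 hneg
        have e : n * xGL D hD F (D.neg a) (c⁻¹ * 1) * n⁻¹ = xGL D hD F (D.neg r) 1 := by
          rw [← h2 1]; group
        have hu := h (xGL D hD F (D.neg a) (c⁻¹ * 1)) (xGL_pos_mem D hD F _ hna _) (by
          rw [e]; exact xGL_pos_mem D hD F _ hnr _)
        rw [← xGL_zero D hD F (D.neg a)] at hu
        have := xGL_param_inj D hD F (D.neg a) hna.1 _ _ hu
        rw [mul_one] at this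
        exact inv_ne_zero hc this
    refine ⟨xGL D hD F a (c * t), xGL_pos_mem D hD F a hpa _, ?_⟩
    show n * xGL D hD F a (c * t) * n⁻¹ = g
    rw [← h1 t, hg']; group

end

section
variable {D : ChevalleyDatum} {F : Type*} [Field F]

theorem stab_of_map_eq (ψ : ↥(D.group F) ≃* ↥(D.group F)) (A : Subgroup (GL D.Idx F))
    (h : (A.subgroupOf (D.group F)).map ψ.toMonoidHom = A.subgroupOf (D.group F)) : Stab D F ψ A := by
  intro g
  constructor
  · intro hg
    have : ψ g ∈ (A.subgroupOf (D.group F)).map ψ.toMonoidHom := by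
      rw [h]; exact Subgroup.mem_subgroupOf.mpr hg
    obtain ⟨g', hg', he⟩ := this
    have : g' = g := ψ.injective he
    rw [← this]; exact Subgroup.mem_subgroupOf.mp hg'
  · intro hg
    have : ψ g ∈ (A.subgroupOf (D.group F)).map ψ.toMonoidHom :=
      ⟨g, Subgroup.mem_subgroupOf.mpr hg, rfl⟩
    rw [h] at this
    exact Subgroup.mem_subgroupOf.mp this

theorem map_eq_of_stab (ψ : ↥(D.group F) ≃* ↥(D.group F)) (A : Subgroup (GL D.Idx F))
    (h : Stab D F ψ A) : (A.subgroupOf (D.group F)).map ψ.toMonoidHom = A.subgroupOf (D.group F) := by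
  ext g
  constructor
  · rintro ⟨g', hg', rfl⟩
    exact Subgroup.mem_subgroupOf.mpr ((h g').mpr (Subgroup.mem_subgroupOf.mp hg'))
  · intro hg
    refine ⟨ψ.symm g, ?_, by simp⟩
    exact Subgroup.mem_subgroupOf.mpr ((h.symm g).mpr (Subgroup.mem_subgroupOf.mp hg))

/-- conjugation by an element of the normaliser (in `G`) stabilises -/
theorem stab_conj (x : ↥(D.group F)) (A : Subgroup (GL D.Idx F))
    (hx : (x : GL D.Idx F) ∈ Subgroup.normalizer (A : Set (GL D.Idx F))) :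
    Stab D F (MulAut.conj x) A := by
  intro g
  rw [Subgroup.mem_set_normalizer_iff] at hx
  rw [MulAut.conj_apply]
  exact (hx g).symm

end

section
variable (D : ChevalleyDatum) (hD : D ∈ [chevG2, chevB2, chevD4, chevF4, chevE6, chevE7, chevE8])
variable (F : Type*) [Field F] [Fintype F]
include hD

/-- after composing with an inner automorphism, `θ` stabilises `U` -/
theorem exists_stab_posUnipotent (p : ℕ) [Fact p.Prime] [CharP F p] (θ : ↥(D.group F) ≃* ↥(D.group F)) :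
    ∃ x : ↥(D.group F), Stab D F (θ.trans (MulAut.conj x)) (D.posUnipotent F) := by
  classical
  have hfin : Finite (GL D.Idx F) := by
    have : Finite (Matrix D.Idx D.Idx F) := inferInstance
    exact Finite.of_injective (fun g : GL D.Idx F => (g : Matrix D.Idx D.Idx F)) Units.val_injective
  have : Finite ↥(D.group F) := inferInstance
  obtain ⟨P0, hP0⟩ := posUnipotent_sylow D hD F p
  set Q : Sylow p ↥(D.group F) := P0.mapSurjective (f := θ.toMonoidHom) θ.surjective with hQ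
  obtain ⟨x, hx⟩ := MulAction.exists_smul_eq ↥(D.group F) Q P0
  refine ⟨x, ?_⟩
  apply stab_of_map_eq
  have h1 : ((x • Q : Sylow p ↥(D.group F)) : Subgroup ↥(D.group F)) =
      (Q : Subgroup ↥(D.group F)).map (MulAut.conj x).toMonoidHom := by
    rw [Sylow.coe_subgroup_smul]
    rfl
  rw [hx, hP0] at h1
  have h2 : (Q : Subgroup ↥(D.group F)) =
      ((D.posUnipotent F).subgroupOf (D.group F)).map θ.toMonoidHom := by
    rw [← hP0]; rfl
  have h3 : (θ.trans (MulAut.conj x)).toMonoidHom =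
      (MulAut.conj x).toMonoidHom.comp θ.toMonoidHom := rfl
  rw [h3, ← Subgroup.map_map, ← h2]
  exact h1.symm

/-- after composing with an inner automorphism, `θ` stabilises `U` and `V` -/
theorem exists_stab (p : ℕ) [Fact p.Prime] [CharP F p] (θ : ↥(D.group F) ≃* ↥(D.group F)) :
    ∃ x : ↥(D.group F), Stab D F (θ.trans (MulAut.conj x)) (D.posUnipotent F) ∧
      Stab D F (θ.trans (MulAut.conj x)) (D.negUnipotent F) := by
  obtain ⟨x₁, hx₁⟩ := exists_stab_posUnipotent D hD F p θ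
  set θ₁ := θ.trans (MulAut.conj x₁) with hθ₁
  obtain ⟨w, hL⟩ := exists_longFacts_of_mem D hD
  set n₀ := nLongGL D hD F w with hn₀
  have hn₀G : n₀ ∈ D.group F := nLongGL_mem_group D hD F w
  have hUV := conj_posUnipotent_eq D hD F w hL
  rw [← hn₀] at hUV
  -- `y = θ₁(n₀) = b n u`
  set y : GL D.Idx F := ((θ₁ ⟨n₀, hn₀G⟩ : ↥(D.group F)) : GL D.Idx F) with hy
  obtain ⟨b, hb, n, hn, u, hu, hbnu⟩ := canon_exists D hD F y (θ₁ ⟨n₀, hn₀G⟩).2
  have huU : u ∈ D.posUnipotent F := uMinus_le_posUnipotent D F n hu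
  have hbG : b ∈ D.group F := borel_le_group D hD F hb
  have hnG : n ∈ D.group F := monomial_le_group D hD F hn
  have hUG := posUnipotent_le_group D hD F
  have hVG := negUnipotent_le_group D hD F
  have hbN : b ∈ Subgroup.normalizer (D.posUnipotent F : Set (GL D.Idx F)) := by
    have hle : D.borelSubgroup F ≤ Subgroup.normalizer (D.posUnipotent F : Set (GL D.Idx F)) := by
      unfold ChevalleyDatum.borelSubgroup
      exact sup_le Subgroup.le_normalizer (diagonalSubgroup_le_normalizer_posUnipotent D hD F)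
    exact hle hb
  -- `θ₁ (V) ∩ U = 1`
  have hV1 : ∀ v : ↥(D.group F), (v : GL D.Idx F) ∈ D.negUnipotent F →
      (θ₁ v : GL D.Idx F) ∈ D.posUnipotent F → v = 1 := by
    intro v hv hv'
    have h2 := (hx₁ v).mp hv'
    have : (v : GL D.Idx F) ∈ D.posUnipotent F ⊓ D.negUnipotent F := Subgroup.mem_inf.mpr ⟨h2, hv⟩
    rw [posUnipotent_inf_negUnipotent D hD F, Subgroup.mem_bot] at this
    exact Subtype.ext this
  -- `θ₁ (n₀ u n₀⁻¹) = y θ₁(u) y⁻¹`
  have hconj : ∀ u' : GL D.Idx F, u' ∈ D.posUnipotent F → n * u' * n⁻¹ ∈ D.posUnipotent F → u' = 1 := by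
    intro u' hu' hnu
    -- `u'' := u⁻¹ u' u ∈ U`, `θ₁⁻¹(u'') ∈ U`, `v := n₀ θ₁⁻¹(u'') n₀⁻¹ ∈ V`, `θ₁ v = y u'' y⁻¹ = b n u' n⁻¹ b⁻¹ ∈ U`
    set u'' : GL D.Idx F := u⁻¹ * u' * u with hu''
    have hu''U : u'' ∈ D.posUnipotent F :=
      Subgroup.mul_mem _ (Subgroup.mul_mem _ (Subgroup.inv_mem _ huU) hu') huU
    set z : ↥(D.group F) := θ₁.symm ⟨u'', hUG hu''U⟩ with hz
    have hzU : (z : GL D.Idx F) ∈ D.posUnipotent F := (hx₁.symm ⟨u'', hUG hu''U⟩).mpr hu''U
    set v : ↥(D.group F) := ⟨n₀, hn₀G⟩ * z * ⟨n₀, hn₀G⟩⁻¹ with hv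
    have hvV : (v : GL D.Idx F) ∈ D.negUnipotent F := by
      rw [← hUV]
      exact ⟨(z : GL D.Idx F), hzU, rfl⟩
    have hθv : (θ₁ v : GL D.Idx F) = b * (n * u' * n⁻¹) * b⁻¹ := by
      rw [hv, map_mul, map_mul, map_inv, hz, MulEquiv.apply_symm_apply]
      show y * u'' * y⁻¹ = _
      rw [hbnu, hu'']; group
    have hθvU : (θ₁ v : GL D.Idx F) ∈ D.posUnipotent F := by
      rw [hθv]
      rw [Subgroup.mem_set_normalizer_iff] at hbN
      exact (hbN _).mp hnu
    have hv1 := hV1 v hvV hθvU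
    have hz1 : z = 1 := by
      have : ⟨n₀, hn₀G⟩⁻¹ * v * ⟨n₀, hn₀G⟩ = z := by rw [hv]; group
      rw [← this, hv1]; group
    have hu''1 : u'' = 1 := by
      have := congrArg θ₁ hz1
      rw [hz, MulEquiv.apply_symm_apply, map_one] at this
      exact congrArg Subtype.val this
    have : u' = u * u'' * u⁻¹ := by rw [hu'']; group
    rw [this, hu''1]; group
  have hnV := conj_monomial_eq_neg D hD F n hn hconj
  -- `b = h u₁`
  have hb' : b ∈ ((D.borelSubgroup F : Subgroup (GL D.Idx F)) : Set (GL D.Idx F)) := hb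
  unfold ChevalleyDatum.borelSubgroup at hb'
  rw [Subgroup.coe_mul_of_right_le_normalizer_left _ _
    (diagonalSubgroup_le_normalizer_posUnipotent D hD F)] at hb'
  obtain ⟨u₁, hu₁, h, hh, rfl⟩ := Set.mem_mul.mp hb'
  have hu₁G : u₁ ∈ D.group F := hUG hu₁
  refine ⟨⟨u₁, hu₁G⟩⁻¹ * x₁, ?_, ?_⟩
  · have e : θ.trans (MulAut.conj (⟨u₁, hu₁G⟩⁻¹ * x₁)) = θ₁.trans (MulAut.conj ⟨u₁, hu₁G⟩⁻¹) := by
      ext g
      simp [hθ₁, MulAut.conj_apply, mul_assoc]
    rw [e]
    apply hx₁.trans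
    apply stab_conj
    apply Subgroup.inv_mem
    exact Subgroup.le_normalizer hu₁
  · have e : θ.trans (MulAut.conj (⟨u₁, hu₁G⟩⁻¹ * x₁)) = θ₁.trans (MulAut.conj ⟨u₁, hu₁G⟩⁻¹) := by
      ext g
      simp [hθ₁, MulAut.conj_apply, mul_assoc]
    rw [e]
    -- `θ₁ g ∈ u₁ V u₁⁻¹ ↔ g ∈ V`
    have hhN := diagonalSubgroup_le_normalizer_negUnipotent D hD F hh
    rw [Subgroup.mem_set_normalizer_iff] at hhN
    have key : ∀ g : ↥(D.group F), (g : GL D.Idx F) ∈ D.negUnipotent F ↔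
        u₁⁻¹ * (θ₁ g : GL D.Idx F) * u₁ ∈ D.negUnipotent F := by
      intro g
      -- `g ∈ V ↔ n₀⁻¹ g n₀ ∈ U ↔ θ₁(n₀⁻¹ g n₀) ∈ U ↔ y⁻¹ θ₁ g y ∈ U ↔ n⁻¹ b⁻¹ θ₁ g b n ∈ U ↔ b⁻¹ θ₁ g b ∈ V`
      have s1 : (g : GL D.Idx F) ∈ D.negUnipotent F ↔ n₀⁻¹ * (g : GL D.Idx F) * n₀ ∈ D.posUnipotent F := by
        rw [← hUV]
        constructor
        · rintro ⟨u', hu', he⟩
          have : n₀⁻¹ * (g : GL D.Idx F) * n₀ = u' := by
            rw [← he]; simp [MulAut.conj_apply]; group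
          rw [this]; exact hu'
        · intro hg
          exact ⟨_, hg, by simp [MulAut.conj_apply]; group⟩
      have s2 : n₀⁻¹ * (g : GL D.Idx F) * n₀ ∈ D.posUnipotent F ↔
          y⁻¹ * (θ₁ g : GL D.Idx F) * y ∈ D.posUnipotent F := by
        have := hx₁ (⟨n₀, hn₀G⟩⁻¹ * g * ⟨n₀, hn₀G⟩)
        rw [map_mul, map_mul, map_inv] at this
        exact this.symm
      have s3 : y⁻¹ * (θ₁ g : GL D.Idx F) * y ∈ D.posUnipotent F ↔
          (u₁ * h)⁻¹ * (θ₁ g : GL D.Idx F) * (u₁ * h) ∈ D.negUnipotent F := by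
        rw [← hnV]
        constructor
        · intro hg
          refine ⟨u * (y⁻¹ * (θ₁ g : GL D.Idx F) * y) * u⁻¹,
            Subgroup.mul_mem _ (Subgroup.mul_mem _ huU hg) (Subgroup.inv_mem _ huU), ?_⟩
          simp only [MulEquiv.coe_toMonoidHom, MulAut.conj_apply]
          rw [hbnu]; group
        · rintro ⟨u', hu', he⟩
          simp only [MulEquiv.coe_toMonoidHom, MulAut.conj_apply] at he
          have : y⁻¹ * (θ₁ g : GL D.Idx F) * y = u⁻¹ * u' * u := by
            rw [hbnu]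
            have : (θ₁ g : GL D.Idx F) = (u₁ * h) * (n * u' * n⁻¹) * (u₁ * h)⁻¹ := by rw [he]; group
            rw [this]; group
          rw [this]
          exact Subgroup.mul_mem _ (Subgroup.mul_mem _ (Subgroup.inv_mem _ huU) hu') huU
      rw [s1, s2, s3]
      have e2 : (u₁ * h)⁻¹ * (θ₁ g : GL D.Idx F) * (u₁ * h) =
          h⁻¹ * (u₁⁻¹ * (θ₁ g : GL D.Idx F) * u₁) * h := by group
      rw [e2]
      constructor
      · intro hg
        have := (hhN _).mp hg
        have e3 : h * (h⁻¹ * (u₁⁻¹ * (θ₁ g : GL D.Idx F) * u₁) * h) * h⁻¹ =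
            u₁⁻¹ * (θ₁ g : GL D.Idx F) * u₁ := by group
        rwa [e3] at this
      · intro hg
        apply (hhN _).mpr
        have e3 : h * (h⁻¹ * (u₁⁻¹ * (θ₁ g : GL D.Idx F) * u₁) * h) * h⁻¹ =
            u₁⁻¹ * (θ₁ g : GL D.Idx F) * u₁ := by group
        rwa [e3]
    intro g
    rw [key g, MulEquiv.trans_apply, MulAut.conj_apply]
    simp only [Subgroup.coe_mul, Subgroup.coe_inv, inv_inv]

end

end Cfsg.Agent.Lib.Lead.Stein
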