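import Cfsg.Agent.Lib.Lead.SteinC
import Cfsg.Agent.Lib.Helper7.ChevCell

/-! An automorphism of a Chevalley group stabilising `U` and `V` permutes the negative fundamental
root subgroups (lead). -/

set_option autoImplicit false

namespace Cfsg.Agent.Lib.Lead.Stein

open Cfsg Cfsg.Lie Matrix Cfsg.Agent.Lib.Helper7 Cfsg.Agent.Lib.Helper3.BN Cfsg.Agent.Lib.Helper11

section
variable (D : ChevalleyDatum) (F : Type*) [Field F]

/-- `θ` maps the subgroup `A` onto `A'` -/
def Maps (θ : ↥(D.group F) ≃* ↥(D.group F)) (A A' : Subgroup (GL D.Idx F)) : Prop :=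
  ∀ g : ↥(D.group F), (θ g : GL D.Idx F) ∈ A' ↔ (g : GL D.Idx F) ∈ A

end

section
variable (D : ChevalleyDatum) (hD : D ∈ [chevG2, chevB2, chevD4, chevF4, chevE6, chevE7, chevE8])
variable (F : Type*) [Field F]
include hD

theorem nFund_mem_group (i : ℕ) : nFund D hD F i ∈ D.group F := wordGL_mem_group D hD F _

/-- `n_p` as an element of the group -/
noncomputable def nG (i : ℕ) : ↥(D.group F) := ⟨nFund D hD F i, nFund_mem_group D hD F i⟩

theorem nG_mem_S (i : ℕ) (hi : i < D.rank) : nG D hD F i ∈ (chevBNPair D hD F).S := by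
  refine ⟨i, hi, ?_⟩
  show ((nFund D hD F i : GL D.Idx F) : Matrix D.Idx D.Idx F) = _
  unfold nFund
  rw [coe_wordGL]; rfl

theorem exists_nG_of_mem_S (s : ↥(D.group F)) (hs : s ∈ (chevBNPair D hD F).S) :
    ∃ j < D.rank, s = nG D hD F j := by
  obtain ⟨j, hj, hsm⟩ := hs
  exact ⟨j, hj, Subtype.ext (coe_eq_nFund_of_mem_fundSet D hD F s j hsm)⟩

theorem nFund_not_mem_borel (i : ℕ) (hi : i < D.rank) : nFund D hD F i ∉ D.borelSubgroup F := by
  intro h
  apply nFund_conj_not_mem_borel D hD F i hi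
  have hpos := (parFacts_of_mem D hD).simplePos i hi
  exact Subgroup.mul_mem _ (Subgroup.mul_mem _ h (xGL_pos_mem_borel D hD F _ hpos 1)) h

/-- `x_{-p}(t') = x_p(t'⁻¹) h n_p x_p(t'⁻¹)` with `h ∈ H` -/
theorem xGL_neg_explicit (i : ℕ) (hi : i < D.rank) (t' : F) (ht : t' ≠ 0) :
    ∃ h ∈ D.diagonalSubgroup F, xGL D hD F (D.neg (D.simple i)) t' =
      xGL D hD F (D.simple i) t'⁻¹ * h * nFund D hD F i * xGL D hD F (D.simple i) t'⁻¹ := by
  have hF := fundFacts_of_mem D hD i hi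
  set c : F := -t'⁻¹ with hc
  have hc0 : c ≠ 0 := by rw [hc]; exact neg_ne_zero.mpr (inv_ne_zero ht)
  have hct : -c⁻¹ = t' := by rw [hc]; field_simp
  have hcn : -c = t'⁻¹ := by rw [hc, neg_neg]
  have h1 := nGL_eq D hD F (D.simple i) c
  rw [nGL_eq_hGL_mul D hD F (D.simple i) c, hct] at h1
  refine ⟨wordGL D hD F (D.hWord (D.simple i) c), hGL_mem_diagonalSubgroup D hD F _ hF.hp c hc0, ?_⟩
  rw [← hcn]
  have e : xGL D hD F (D.simple i) (-c) * wordGL D hD F (D.hWord (D.simple i) c) * nFund D hD F i *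
      xGL D hD F (D.simple i) (-c) =
      xGL D hD F (D.simple i) (-c) * (wordGL D hD F (D.hWord (D.simple i) c) *
        wordGL D hD F (D.nWord (D.simple i) 1)) * xGL D hD F (D.simple i) (-c) := by
    unfold nFund; group
  rw [e, h1]
  have e2 : xGL D hD F (D.simple i) (-c) * (xGL D hD F (D.simple i) c *
      xGL D hD F (D.neg (D.simple i)) t' * xGL D hD F (D.simple i) c) * xGL D hD F (D.simple i) (-c) =
      (xGL D hD F (D.simple i) (-c) * xGL D hD F (D.simple i) c) *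
      xGL D hD F (D.neg (D.simple i)) t' * (xGL D hD F (D.simple i) c * xGL D hD F (D.simple i) (-c)) := by
    group
  rw [e2, xGL_mul, xGL_mul, neg_add_cancel, add_neg_cancel, xGL_zero, one_mul, mul_one]

/-- `n_p ∉ V B` -/
theorem nFund_ne_neg_mul_borel (i : ℕ) (hi : i < D.rank) (v b : GL D.Idx F)
    (hv : v ∈ D.negUnipotent F) (hb : b ∈ D.borelSubgroup F) : nFund D hD F i ≠ v * b := by
  intro he
  obtain ⟨w, hL⟩ := exists_longFacts_of_mem D hD
  set n₀ := nLongGL D hD F w with hn₀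
  have hn₀G : n₀ ∈ D.group F := nLongGL_mem_group D hD F w
  have hn₀N : n₀ ∈ D.monomialSubgroup F := nLongGL_mem_monomial D hD F w hL.lt
  have hUV := conj_posUnipotent_eq D hD F w hL
  rw [← hn₀] at hUV
  rw [← hUV] at hv
  obtain ⟨u, hu, huv⟩ := hv
  simp only [MulEquiv.coe_toMonoidHom, MulAut.conj_apply] at huv
  obtain ⟨P, hP⟩ : ∃ P, P = chevBNPair D hD F := ⟨_, rfl⟩
  have hPB : ∀ g : ↥(D.group F), g ∈ P.B ↔ (g : GL D.Idx F) ∈ D.borelSubgroup F := by
    rw [hP]; exact mem_B_iff D hD F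
  have hPN : ∀ g : ↥(D.group F), g ∈ P.N ↔ (g : GL D.Idx F) ∈ D.monomialSubgroup F := by
    rw [hP]; exact mem_N_iff D hD F
  have hniN := nFund_mem_monomial D hD F i hi
  have huB : u ∈ D.borelSubgroup F := posUnipotent_le_borel D hD F hu
  set a : ↥(D.group F) := ⟨n₀, hn₀G⟩⁻¹ * nG D hD F i with ha
  set a' : ↥(D.group F) := ⟨n₀, hn₀G⟩⁻¹ with ha'
  have haN : a ∈ P.N := by
    rw [hPN]
    exact Subgroup.mul_mem _ (Subgroup.inv_mem _ hn₀N) hniN
  have ha'N : a' ∈ P.N := by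
    rw [hPN]
    exact Subgroup.inv_mem _ hn₀N
  have h1 : a ∈ dc P a := self_mem_dc P a
  have h2 : a ∈ dc P a' := by
    rw [mem_dc]
    refine ⟨⟨u, borel_le_group D hD F huB⟩, (hPB _).mpr huB, ⟨b, borel_le_group D hD F hb⟩,
      (hPB _).mpr hb, ?_⟩
    apply Subtype.ext
    show n₀⁻¹ * nFund D hD F i = u * n₀⁻¹ * b
    rw [he, ← huv]; group
  have h3 := dc_eq_of_common P h1 h2
  rw [dc_eq_iff P haN ha'N] at h3
  rw [hPB] at h3
  apply nFund_not_mem_borel D hD F i hi
  have e : ((a⁻¹ * a' : ↥(D.group F)) : GL D.Idx F) = (nFund D hD F i)⁻¹ := by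
    show (n₀⁻¹ * nFund D hD F i)⁻¹ * n₀⁻¹ = _
    group
  rw [e] at h3
  have := Subgroup.inv_mem _ h3
  rwa [inv_inv] at this

/-- `V ∩ (B ∪ B n_p B) = X_{-p}` -/
theorem neg_inf_rankOne (i : ℕ) (hi : i < D.rank) (y : GL D.Idx F) (hy : y ∈ D.negUnipotent F)
    (hyP : y ∈ rankOneParabolic D hD F i hi) : ∃ c : F, y = xGL D hD F (D.neg (D.simple i)) c := by
  have hBV := borel_inf_negUnipotent D hD F
  rcases hyP with hyB | hyC
  · refine ⟨0, ?_⟩
    have : y ∈ D.borelSubgroup F ⊓ D.negUnipotent F := Subgroup.mem_inf.mpr ⟨hyB, hy⟩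
    rw [hBV, Subgroup.mem_bot] at this
    rw [this, xGL_zero]
  · rw [DoubleCoset.mem_doubleCoset] at hyC
    obtain ⟨b₁, hb₁, b₂, hb₂, rfl⟩ := hyC
    obtain ⟨t, c₁, hc₁, rfl⟩ := borel_decomp_fund D hD F i hi b₁ hb₁
    set n := nFund D hD F i with hn
    set b₃ := n⁻¹ * c₁ * n * b₂ with hb₃
    have hb₃B : b₃ ∈ D.borelSubgroup F := Subgroup.mul_mem _ hc₁ hb₂
    have e1 : xGL D hD F (D.simple i) t * c₁ * n * b₂ = xGL D hD F (D.simple i) t * n * b₃ := by
      rw [hb₃]; group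
    rw [e1] at hy ⊢
    by_cases ht : t = 0
    · exfalso
      rw [ht, xGL_zero, one_mul] at hy
      apply nFund_ne_neg_mul_borel D hD F i hi (n * b₃) b₃⁻¹ hy (Subgroup.inv_mem _ hb₃B)
      rw [← hn]; group
    · obtain ⟨h, hh, hx⟩ := xGL_neg_explicit D hD F i hi t⁻¹ (inv_ne_zero ht)
      rw [inv_inv, ← hn] at hx
      refine ⟨t⁻¹, ?_⟩
      have hnN := nFund_mem_monomial D hD F i hi
      have hh' : n⁻¹ * h⁻¹ * n ∈ D.diagonalSubgroup F := by
        have := monomialSubgroup_le_normalizer_diagonal D hD F (Subgroup.inv_mem _ hnN)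
        rw [Subgroup.mem_set_normalizer_iff] at this
        have h2 := (this h⁻¹).mp (Subgroup.inv_mem _ hh)
        rwa [inv_inv] at h2
      have hpos := (parFacts_of_mem D hD).simplePos i hi
      set b₄ := xGL D hD F (D.simple i) (-t) * (n⁻¹ * h⁻¹ * n) * b₃ with hb₄
      have hb₄B : b₄ ∈ D.borelSubgroup F :=
        Subgroup.mul_mem _ (Subgroup.mul_mem _ (xGL_pos_mem_borel D hD F _ hpos _)
          (diagonal_le_borel D hD F hh')) hb₃B
      have e2 : xGL D hD F (D.simple i) t * n * b₃ = xGL D hD F (D.neg (D.simple i)) t⁻¹ * b₄ := by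
        rw [hx, hb₄, ← xGL_inv]; group
      rw [e2] at hy ⊢
      have hb₄V : b₄ ∈ D.negUnipotent F := by
        have : b₄ = (xGL D hD F (D.neg (D.simple i)) t⁻¹)⁻¹ *
            (xGL D hD F (D.neg (D.simple i)) t⁻¹ * b₄) := by group
        rw [this]
        have hneg : D.IsNegRoot (D.neg (D.simple i)) := posNegOK_of_mem D hD _ hpos.1 hpos
        exact Subgroup.mul_mem _ (Subgroup.inv_mem _ (xGL_neg_mem D hD F _ hneg _)) hy
      have : b₄ ∈ D.borelSubgroup F ⊓ D.negUnipotent F := Subgroup.mem_inf.mpr ⟨hb₄B, hb₄V⟩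
      rw [hBV, Subgroup.mem_bot] at this
      rw [this, mul_one]

/-- elements of the minimal parabolic subgroup `⟨B, n_p⟩` lie in `B ∪ B n_p B` -/
theorem coe_mem_rankOne_of_mem_parabolic (i : ℕ) (hi : i < D.rank) (g : ↥(D.group F))
    (hg : g ∈ (chevBNPair D hD F).parabolic {nG D hD F i}) :
    (g : GL D.Idx F) ∈ rankOneParabolic D hD F i hi := by
  have hle : (chevBNPair D hD F).parabolic {nG D hD F i} ≤
      (rankOneParabolic D hD F i hi).subgroupOf (D.group F) := by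
    unfold BNPair.parabolic
    apply sup_le
    · intro b hb
      rw [Subgroup.mem_subgroupOf]
      exact Or.inl ((mem_B_iff D hD F b).mp hb)
    · rw [Subgroup.closure_le]
      intro s hs
      rw [Set.mem_singleton_iff] at hs
      rw [hs]
      show (nG D hD F i : GL D.Idx F) ∈ rankOneParabolic D hD F i hi
      right
      rw [DoubleCoset.mem_doubleCoset]
      exact ⟨1, Subgroup.one_mem _, 1, Subgroup.one_mem _, by simp [nG]⟩
  exact Subgroup.mem_subgroupOf.mp (hle hg)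

theorem xG_neg_mem_parabolic (i : ℕ) (hi : i < D.rank) (c : F) :
    xG D hD F (D.neg (D.simple i)) c ∈ (chevBNPair D hD F).parabolic {nG D hD F i} := by
  by_cases hc : c = 0
  · have : xG D hD F (D.neg (D.simple i)) c = 1 := by
      apply Subtype.ext
      show xGL D hD F _ c = 1
      rw [hc, xGL_zero]
    rw [this]; exact Subgroup.one_mem _
  · obtain ⟨b₁, hb₁, b₂, hb₂, he⟩ := xGL_neg_mem_doubleCoset D hD F i hi c hc
    have hB : (chevBNPair D hD F).B ≤ (chevBNPair D hD F).parabolic {nG D hD F i} := le_sup_left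
    have hn : nG D hD F i ∈ (chevBNPair D hD F).parabolic {nG D hD F i} :=
      (le_sup_right : Subgroup.closure _ ≤ _) (Subgroup.subset_closure rfl)
    have : xG D hD F (D.neg (D.simple i)) c =
        ⟨b₁, borel_le_group D hD F hb₁⟩ * nG D hD F i * ⟨b₂, borel_le_group D hD F hb₂⟩ :=
      Subtype.ext he
    rw [this]
    exact Subgroup.mul_mem _ (Subgroup.mul_mem _ (hB ((mem_B_iff D hD F _).mpr hb₁)) hn)
      (hB ((mem_B_iff D hD F _).mpr hb₂))

/-- membership in `X_{-p}` -/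
theorem mem_neg_rootSubgroup_iff (i : ℕ) (hi : i < D.rank) (g : ↥(D.group F)) :
    (g : GL D.Idx F) ∈ D.rootSubgroup F (D.neg (D.simple i)) ↔
      (g : GL D.Idx F) ∈ D.negUnipotent F ∧ g ∈ (chevBNPair D hD F).parabolic {nG D hD F i} := by
  have hpos := (parFacts_of_mem D hD).simplePos i hi
  have hneg : D.IsNegRoot (D.neg (D.simple i)) := posNegOK_of_mem D hD _ hpos.1 hpos
  rw [mem_rootSubgroup_iff D hD F]
  constructor
  · rintro ⟨c, hc⟩
    refine ⟨?_, ?_⟩
    · rw [hc]; exact xGL_neg_mem D hD F _ hneg c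
    · have : g = xG D hD F (D.neg (D.simple i)) c := Subtype.ext hc
      rw [this]; exact xG_neg_mem_parabolic D hD F i hi c
  · rintro ⟨h1, h2⟩
    exact neg_inf_rankOne D hD F i hi _ h1 (coe_mem_rankOne_of_mem_parabolic D hD F i hi g h2)

/-- an automorphism stabilising `U` and `V` permutes the negative fundamental root subgroups -/
theorem exists_neg_simple_map (θ : ↥(D.group F) ≃* ↥(D.group F))
    (hU : Stab D F θ (D.posUnipotent F)) (hV : Stab D F θ (D.negUnipotent F)) (i : ℕ) (hi : i < D.rank) :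
    ∃ j < D.rank, Maps D F θ (D.rootSubgroup F (D.neg (D.simple i)))
      (D.rootSubgroup F (D.neg (D.simple j))) := by
  have hB := Stab.borel hD hU
  have hB' : (chevBNPair D hD F).B.map θ.toMonoidHom = (chevBNPair D hD F).B :=
    map_eq_of_stab θ _ hB
  obtain ⟨s', hs', hmap⟩ := exists_parabolic_map (chevBNPair D hD F) θ hB' (nG_mem_S D hD F i hi)
  obtain ⟨j, hj, rfl⟩ := exists_nG_of_mem_S D hD F s' hs'
  refine ⟨j, hj, ?_⟩
  intro g
  rw [mem_neg_rootSubgroup_iff D hD F j hj, mem_neg_rootSubgroup_iff D hD F i hi, hV g, ← hmap]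
  constructor
  · rintro ⟨h1, g', hg', he⟩
    have : g' = g := θ.injective he
    rw [this] at hg'; exact ⟨h1, hg'⟩
  · rintro ⟨h1, h2⟩
    exact ⟨h1, g, h2, rfl⟩

end

end Cfsg.Agent.Lib.Lead.Stein
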