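import Cfsg.Agent.Lib.Helper7.ChevLong

/-! Table checks for the automorphism theorem of the Chevalley groups: the longest element and the
simple roots, commuting fundamental root subgroups (lead). -/

set_option autoImplicit false

namespace Cfsg.Agent.Lib.Lead.Stein

open Cfsg Cfsg.Lie Cfsg.Agent.Lib.Helper7

/-- `w` maps the negatives of the simple roots onto the simple roots -/
def longSimpleB (D : ChevalleyDatum) (w : List ℕ) : Bool :=
  ((List.range D.rank).all fun i => (List.range D.rank).any fun j =>
    actW D w (D.neg (D.simple i)) == D.simple j) &&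
  ((List.range D.rank).all fun j => (List.range D.rank).any fun i =>
    actW D w (D.neg (D.simple i)) == D.simple j)

/-- `w` maps the negatives of the simple roots onto the simple roots -/
structure LongSimple (D : ChevalleyDatum) (w : List ℕ) : Prop where
  into : ∀ i < D.rank, ∃ j < D.rank, actW D w (D.neg (D.simple i)) = D.simple j
  onto : ∀ j < D.rank, ∃ i < D.rank, actW D w (D.neg (D.simple i)) = D.simple j

theorem longSimple_of_B (D : ChevalleyDatum) (w : List ℕ) (h : longSimpleB D w = true) :
    LongSimple D w := by
  unfold longSimpleB at h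
  simp only [Bool.and_eq_true, List.all_eq_true, List.any_eq_true, List.mem_range, beq_iff_eq] at h
  exact ⟨fun i hi => h.1 i hi, fun j hj => h.2 j hj⟩

theorem longSimpleB_G2 : longSimpleB chevG2 longWordG2 = true := by decide +kernel
theorem longSimpleB_B2 : longSimpleB chevB2 longWordB2 = true := by decide +kernel
theorem longSimpleB_D4 : longSimpleB chevD4 longWordD4 = true := by decide +kernel
theorem longSimpleB_F4 : longSimpleB chevF4 longWordF4 = true := by decide +kernel
theorem longSimpleB_E6 : longSimpleB chevE6 longWordE6 = true := by decide +kernel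
theorem longSimpleB_E7 : longSimpleB chevE7 longWordE7 = true := by decide +kernel
theorem longSimpleB_E8 : longSimpleB chevE8 longWordE8 = true := by decide +kernel

theorem exists_longFacts_simple (D : ChevalleyDatum)
    (hD : D ∈ [chevG2, chevB2, chevD4, chevF4, chevE6, chevE7, chevE8]) :
    ∃ w : List ℕ, LongFacts D w ∧ LongSimple D w :=
  mem_seven_cases (P := fun D => ∃ w : List ℕ, LongFacts D w ∧ LongSimple D w)
    ⟨_, longFacts_of_longB _ _ longB_G2, longSimple_of_B _ _ longSimpleB_G2⟩
    ⟨_, longFacts_of_longB _ _ longB_B2, longSimple_of_B _ _ longSimpleB_B2⟩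
    ⟨_, longFacts_of_longB _ _ longB_D4, longSimple_of_B _ _ longSimpleB_D4⟩
    ⟨_, longFacts_of_longB _ _ longB_F4, longSimple_of_B _ _ longSimpleB_F4⟩
    ⟨_, longFacts_of_longB _ _ longB_E6, longSimple_of_B _ _ longSimpleB_E6⟩
    ⟨_, longFacts_of_longB _ _ longB_E7, longSimple_of_B _ _ longSimpleB_E7⟩
    ⟨_, longFacts_of_longB _ _ longB_E8, longSimple_of_B _ _ longSimpleB_E8⟩ D hD

/-- for distinct nodes `i`, `j` the commutator formula of `x_{p_i}`, `x_{-p_j}` has no terms -/
def simpleNegCommB (D : ChevalleyDatum) : Bool :=
  (List.range D.rank).all fun i => (List.range D.rank).all fun j =>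
    i == j || ((D.commTerms (D.simple i) (D.neg (D.simple j))).isEmpty &&
      D.simple i != D.neg (D.simple j) && D.simple i != D.simple j)

theorem simpleNegComm_of_B (D : ChevalleyDatum) (h : simpleNegCommB D = true) (i j : ℕ)
    (hi : i < D.rank) (hj : j < D.rank) (hij : i ≠ j) :
    D.commTerms (D.simple i) (D.neg (D.simple j)) = [] ∧ D.simple i ≠ D.neg (D.simple j) ∧
      D.simple i ≠ D.simple j := by
  unfold simpleNegCommB at h
  simp only [List.all_eq_true, List.mem_range, Bool.or_eq_true, beq_iff_eq, Bool.and_eq_true,
    List.isEmpty_iff, bne_iff_ne] at h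
  rcases h i hi j hj with h1 | h1
  · exact absurd h1 hij
  · exact ⟨h1.1.1, h1.1.2, h1.2⟩

theorem simpleNegCommB_G2 : simpleNegCommB chevG2 = true := by decide +kernel
theorem simpleNegCommB_B2 : simpleNegCommB chevB2 = true := by decide +kernel
theorem simpleNegCommB_D4 : simpleNegCommB chevD4 = true := by decide +kernel
theorem simpleNegCommB_F4 : simpleNegCommB chevF4 = true := by decide +kernel
theorem simpleNegCommB_E6 : simpleNegCommB chevE6 = true := by decide +kernel
theorem simpleNegCommB_E7 : simpleNegCommB chevE7 = true := by decide +kernel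
theorem simpleNegCommB_E8 : simpleNegCommB chevE8 = true := by decide +kernel

theorem simpleNegCommB_of_mem (D : ChevalleyDatum)
    (hD : D ∈ [chevG2, chevB2, chevD4, chevF4, chevE6, chevE7, chevE8]) : simpleNegCommB D = true :=
  mem_seven_cases (P := fun D => simpleNegCommB D = true) simpleNegCommB_G2 simpleNegCommB_B2
    simpleNegCommB_D4 simpleNegCommB_F4 simpleNegCommB_E6 simpleNegCommB_E7 simpleNegCommB_E8 D hD

end Cfsg.Agent.Lib.Lead.Stein
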