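import Cfsg.Agent.Lib.Lead.SteinD
import Cfsg.Agent.Lib.Lead.SteinTab

/-! An automorphism of a Chevalley group stabilising `U` and `V` permutes the positive fundamental
root subgroups (lead). -/

set_option autoImplicit false

namespace Cfsg.Agent.Lib.Lead.Stein

open Cfsg Cfsg.Lie Matrix Cfsg.Agent.Lib.Helper7 Cfsg.Agent.Lib.Helper3.BN Cfsg.Agent.Lib.Helper11

section
variable {D : ChevalleyDatum} {F : Type*} [Field F]

theorem Maps.trans {θ θ' : ↥(D.group F) ≃* ↥(D.group F)} {A B C : Subgroup (GL D.Idx F)}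
    (h : Maps D F θ A B) (h' : Maps D F θ' B C) : Maps D F (θ.trans θ') A C := by
  intro g
  rw [MulEquiv.trans_apply, h' (θ g), h g]

theorem Maps.symm {θ : ↥(D.group F) ≃* ↥(D.group F)} {A B : Subgroup (GL D.Idx F)}
    (h : Maps D F θ A B) : Maps D F θ.symm B A := by
  intro g
  have := h (θ.symm g)
  rw [MulEquiv.apply_symm_apply] at this
  exact this.symm

theorem maps_conj (x : ↥(D.group F)) (A : Subgroup (GL D.Idx F)) :
    Maps D F (MulAut.conj x) A (A.map (MulAut.conj (x : GL D.Idx F)).toMonoidHom) := by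
  intro g
  rw [MulAut.conj_apply]
  constructor
  · rintro ⟨a, ha, he⟩
    simp only [MulEquiv.coe_toMonoidHom, MulAut.conj_apply] at he
    have : (g : GL D.Idx F) = a := by
      have h1 : ((x * g * x⁻¹ : ↥(D.group F)) : GL D.Idx F) =
          (x : GL D.Idx F) * (g : GL D.Idx F) * (x : GL D.Idx F)⁻¹ := rfl
      rw [h1] at he
      have h2 : (a : GL D.Idx F) = (x : GL D.Idx F)⁻¹ * ((x : GL D.Idx F) * a * (x : GL D.Idx F)⁻¹) *
        (x : GL D.Idx F) := by group
      rw [h2, he]; group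
    rw [this]; exact ha
  · intro hg
    exact ⟨(g : GL D.Idx F), hg, rfl⟩

theorem Stab.toMaps {θ : ↥(D.group F) ≃* ↥(D.group F)} {A : Subgroup (GL D.Idx F)}
    (h : Stab D F θ A) : Maps D F θ A A := h

theorem Maps.toStab {θ : ↥(D.group F) ≃* ↥(D.group F)} {A : Subgroup (GL D.Idx F)}
    (h : Maps D F θ A A) : Stab D F θ A := h

end

section
variable (D : ChevalleyDatum) (hD : D ∈ [chevG2, chevB2, chevD4, chevF4, chevE6, chevE7, chevE8])
variable (F : Type*) [Field F]
include hD

/-- if `n ∈ N` and `n V n⁻¹ ∩ V = 1` then `n V n⁻¹ = U` -/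
theorem conj_monomial_eq_pos (n : GL D.Idx F) (hn : n ∈ D.monomialSubgroup F)
    (h : ∀ v ∈ D.negUnipotent F, n * v * n⁻¹ ∈ D.negUnipotent F → v = 1) :
    (D.negUnipotent F).map (MulAut.conj n).toMonoidHom = D.posUnipotent F := by
  have hRC := monomial_le_rootConj D hD F hn
  have hPN := posNegOK_of_mem D hD
  have hNI := negInvOK_of_mem D hD
  apply le_antisymm
  · unfold ChevalleyDatum.negUnipotent
    rw [MonoidHom.map_closure, Subgroup.closure_le]
    rintro _ ⟨g, ⟨s, t, hs, hg⟩, rfl⟩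
    have hg' : g = xGL D hD F s t := Units.ext (by rw [hg, coe_xGL])
    obtain ⟨a, ha, c, hc, h1, -⟩ := hRC.2 s hs.1
    have h1' : ∀ t : F, n * xGL D hD F s t * n⁻¹ = xGL D hD F a (c * t) := by
      intro t; have := h1 t; rwa [inv_inv] at this
    show n * g * n⁻¹ ∈ D.posUnipotent F
    rw [hg', h1']
    rcases posOrNeg_of_mem D hD a ha with hp | hneg
    · exact xGL_pos_mem D hD F a hp _
    · exfalso
      have hu := h (xGL D hD F s 1) (xGL_neg_mem D hD F s hs 1) (by
        rw [h1']; exact xGL_neg_mem D hD F a hneg _)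
      exact xGL_one_ne_one D hD F s hs.1 hu
  · unfold ChevalleyDatum.posUnipotent
    rw [Subgroup.closure_le]
    rintro g ⟨r, t, hr, hg⟩
    have hg' : g = xGL D hD F r t := Units.ext (by rw [hg, coe_xGL])
    obtain ⟨a, ha, c, hc, h1, h2⟩ := hRC.1 r hr.1
    have hnr : D.IsNegRoot (D.neg r) := hPN r hr.1 hr
    have hna : D.IsNegRoot a := by
      rcases posOrNeg_of_mem D hD a ha with hp | hneg
      · exfalso
        have hna : D.IsNegRoot (D.neg a) := hPN a ha hp
        have e : n * xGL D hD F (D.neg a) (c⁻¹ * 1) * n⁻¹ = xGL D hD F (D.neg r) 1 := by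
          rw [← h2 1]; group
        have hu := h (xGL D hD F (D.neg a) (c⁻¹ * 1)) (xGL_neg_mem D hD F _ hna _) (by
          rw [e]; exact xGL_neg_mem D hD F _ hnr _)
        rw [← xGL_zero D hD F (D.neg a)] at hu
        have := xGL_param_inj D hD F (D.neg a) hna.1 _ _ hu
        rw [mul_one] at this
        exact inv_ne_zero hc this
      · exact hneg
    refine ⟨xGL D hD F a (c * t), xGL_neg_mem D hD F a hna _, ?_⟩
    show n * xGL D hD F a (c * t) * n⁻¹ = g
    rw [← h1 t, hg']; group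

/-- the longest element swaps `U` and `V` -/
theorem conj_negUnipotent_eq (w : List ℕ) (hL : LongFacts D w) :
    (D.negUnipotent F).map (MulAut.conj (nLongGL D hD F w)).toMonoidHom = D.posUnipotent F := by
  apply conj_monomial_eq_pos D hD F _ (nLongGL_mem_monomial D hD F w hL.lt)
  intro v hv hv'
  have hUV := conj_posUnipotent_eq D hD F w hL
  rw [← hUV] at hv'
  obtain ⟨u, hu, he⟩ := hv'
  simp only [MulEquiv.coe_toMonoidHom, MulAut.conj_apply] at he
  have huv : u = v := by
    have h2 : u = (nLongGL D hD F w)⁻¹ * (nLongGL D hD F w * u * (nLongGL D hD F w)⁻¹) *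
      nLongGL D hD F w := by group
    rw [h2, he]; group
  have : v ∈ D.posUnipotent F ⊓ D.negUnipotent F := Subgroup.mem_inf.mpr ⟨huv ▸ hu, hv⟩
  rw [posUnipotent_inf_negUnipotent D hD F, Subgroup.mem_bot] at this
  exact this

/-- conjugation by a word of fundamental reflections maps root subgroups to root subgroups -/
theorem rootSubgroup_map_conj (w : List ℕ) (hw : ∀ i ∈ w, i < D.rank) (s : ℕ) (hs : s < D.nroots) :
    (D.rootSubgroup F s).map (MulAut.conj (nLongGL D hD F w)).toMonoidHom =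
      D.rootSubgroup F (actW D w s) := by
  obtain ⟨ε, hε, hcomm⟩ := nLongGL_xGL_comm D hD F w hw s hs
  have hε2 : ε * ε = 1 := by rcases hε with h | h <;> rw [h] <;> ring
  have hconj : ∀ t : F, nLongGL D hD F w * xGL D hD F s t * (nLongGL D hD F w)⁻¹ =
      xGL D hD F (actW D w s) (ε * t) := by
    intro t; rw [hcomm t]; group
  ext g
  rw [mem_rootSubgroup_iff D hD F]
  constructor
  · rintro ⟨g', hg', rfl⟩
    have hg'' : g' ∈ D.rootSubgroup F s := hg'
    rw [mem_rootSubgroup_iff D hD F] at hg''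
    obtain ⟨t, rfl⟩ := hg''
    exact ⟨ε * t, hconj t⟩
  · rintro ⟨t, rfl⟩
    refine ⟨xGL D hD F s (ε * t), (mem_rootSubgroup_iff D hD F _ _).mpr ⟨_, rfl⟩, ?_⟩
    show nLongGL D hD F w * xGL D hD F s (ε * t) * (nLongGL D hD F w)⁻¹ = _
    rw [hconj, ← mul_assoc, hε2, one_mul]

/-- an automorphism stabilising `U` and `V` permutes the positive fundamental root subgroups -/
theorem exists_pos_simple_map (θ : ↥(D.group F) ≃* ↥(D.group F))
    (hU : Stab D F θ (D.posUnipotent F)) (hV : Stab D F θ (D.negUnipotent F)) (k : ℕ) (hk : k < D.rank) :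
    ∃ m < D.rank, Maps D F θ (D.rootSubgroup F (D.simple k)) (D.rootSubgroup F (D.simple m)) := by
  obtain ⟨w, hL, hS⟩ := exists_longFacts_simple D hD
  set n₀ : ↥(D.group F) := ⟨nLongGL D hD F w, nLongGL_mem_group D hD F w⟩ with hn₀
  set c : ↥(D.group F) ≃* ↥(D.group F) := MulAut.conj n₀ with hc
  have hcU : Maps D F c (D.posUnipotent F) (D.negUnipotent F) := by
    have := maps_conj n₀ (D.posUnipotent F)
    rwa [show ((n₀ : ↥(D.group F)) : GL D.Idx F) = nLongGL D hD F w from rfl,
      conj_posUnipotent_eq D hD F w hL] at this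
  have hcV : Maps D F c (D.negUnipotent F) (D.posUnipotent F) := by
    have := maps_conj n₀ (D.negUnipotent F)
    rwa [show ((n₀ : ↥(D.group F)) : GL D.Idx F) = nLongGL D hD F w from rfl,
      conj_negUnipotent_eq D hD F w hL] at this
  have hcX : ∀ s < D.nroots, Maps D F c (D.rootSubgroup F s) (D.rootSubgroup F (actW D w s)) := by
    intro s hs
    have := maps_conj n₀ (D.rootSubgroup F s)
    rwa [show ((n₀ : ↥(D.group F)) : GL D.Idx F) = nLongGL D hD F w from rfl,
      rootSubgroup_map_conj D hD F w hL.lt s hs] at this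
  set ψ : ↥(D.group F) ≃* ↥(D.group F) := c.trans (θ.trans c.symm) with hψ
  have hψU : Stab D F ψ (D.posUnipotent F) := (hcU.trans (hV.toMaps.trans hcU.symm)).toStab
  have hψV : Stab D F ψ (D.negUnipotent F) := (hcV.trans (hU.toMaps.trans hcV.symm)).toStab
  obtain ⟨i, hi, hik⟩ := hS.onto k hk
  obtain ⟨j, hj, hψij⟩ := exists_neg_simple_map D hD F ψ hψU hψV i hi
  obtain ⟨m, hm, hjm⟩ := hS.into j hj
  refine ⟨m, hm, ?_⟩
  have hθ : θ = c.symm.trans (ψ.trans c) := by
    ext g
    simp [hψ]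
  have hni : D.neg (D.simple i) < D.nroots :=
    (posNegOK_of_mem D hD _ ((parFacts_of_mem D hD).simplePos i hi).1
      ((parFacts_of_mem D hD).simplePos i hi)).1
  have hnj : D.neg (D.simple j) < D.nroots :=
    (posNegOK_of_mem D hD _ ((parFacts_of_mem D hD).simplePos j hj).1
      ((parFacts_of_mem D hD).simplePos j hj)).1
  have h1 := hcX _ hni
  have h2 := hcX _ hnj
  rw [hik] at h1
  rw [hjm] at h2
  rw [hθ]
  exact h1.symm.trans (hψij.trans h2)

end

end Cfsg.Agent.Lib.Lead.Stein
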