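import Cfsg.Agent.Lib.Lead.SteinF
import Cfsg.Agent.Lib.Helper7.ChevPerf2

/-! The big cell `V B` in rank one and the relation between the parameters of an automorphism on
`X_p` and `X_{-p}` (lead). -/

set_option autoImplicit false

namespace Cfsg.Agent.Lib.Lead.Stein

open Cfsg Cfsg.Lie Matrix Cfsg.Agent.Lib.Helper7 Cfsg.Agent.Lib.Helper3.BN Cfsg.Agent.Lib.Helper11

section
variable (D : ChevalleyDatum) (F : Type*) [Field F]

/-- membership in the big cell `V B` -/
def InBig (x : GL D.Idx F) : Prop :=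
  ∃ v ∈ D.negUnipotent F, ∃ b ∈ D.borelSubgroup F, x = v * b

variable {D F}

theorem InBig.mul_borel {x b : GL D.Idx F} (hx : InBig D F x) (hb : b ∈ D.borelSubgroup F) :
    InBig D F (x * b) := by
  obtain ⟨v, hv, b', hb', rfl⟩ := hx
  exact ⟨v, hv, b' * b, Subgroup.mul_mem _ hb' hb, by group⟩

theorem InBig.neg_mul {x v : GL D.Idx F} (hx : InBig D F x) (hv : v ∈ D.negUnipotent F) :
    InBig D F (v * x) := by
  obtain ⟨v', hv', b', hb', rfl⟩ := hx
  exact ⟨v * v', Subgroup.mul_mem _ hv hv', b', hb', by group⟩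

end

section
variable (D : ChevalleyDatum) (hD : D ∈ [chevG2, chevB2, chevD4, chevF4, chevE6, chevE7, chevE8])
variable (F : Type*) [Field F]
include hD

theorem InBig.diag_mul {x h : GL D.Idx F} (hx : InBig D F x) (hh : h ∈ D.diagonalSubgroup F) :
    InBig D F (h * x) := by
  obtain ⟨v', hv', b', hb', rfl⟩ := hx
  have hN := diagonalSubgroup_le_normalizer_negUnipotent D hD F hh
  rw [Subgroup.mem_set_normalizer_iff] at hN
  exact ⟨h * v' * h⁻¹, (hN v').mp hv', h * b', Subgroup.mul_mem _ (diagonal_le_borel D hD F hh) hb',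
    by group⟩

theorem nFund_not_inBig (i : ℕ) (hi : i < D.rank) : ¬ InBig D F (nFund D hD F i) := by
  rintro ⟨v, hv, b, hb, he⟩
  exact nFund_ne_neg_mul_borel D hD F i hi v b hv hb he

/-- `h_r(c) x_r(t) = x_r(c² t) h_r(c)` -/
theorem hGL_xGL_comm (r : ℕ) (hr : r < D.nroots) (c : F) (hc : c ≠ 0) (t : F) :
    wordGL D hD F (D.hWord r c) * xGL D hD F r t =
      xGL D hD F r (c ^ 2 * t) * wordGL D hD F (D.hWord r c) := by
  have hm : ((wordGL D hD F (D.hWord r c) : GL D.Idx F) : Matrix D.Idx D.Idx F) =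
      diagChar D F (fun s => c ^ carR D r s) := by
    rw [coe_wordGL]
    exact hMat_eq_diagChar D hD F r hr c hc
  have := diagGL_xGL_comm D hD F _ _ (chainChar_h D hD F r c hc) hm r t
  rw [this]
  congr 2
  show c ^ carR D r r * t = c ^ 2 * t
  rw [carR_self D hD r hr]
  norm_cast

/-- `x_{-p}(t') = x_p(t'⁻¹) h_p(-t'⁻¹) n_p x_p(t'⁻¹)` -/
theorem xGL_neg_explicit' (i : ℕ) (hi : i < D.rank) (t' : F) (ht : t' ≠ 0) :
    xGL D hD F (D.neg (D.simple i)) t' =
      xGL D hD F (D.simple i) t'⁻¹ * wordGL D hD F (D.hWord (D.simple i) (-t'⁻¹)) * nFund D hD F i *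
        xGL D hD F (D.simple i) t'⁻¹ := by
  have hF := fundFacts_of_mem D hD i hi
  set c : F := -t'⁻¹ with hc
  have hc0 : c ≠ 0 := by rw [hc]; exact neg_ne_zero.mpr (inv_ne_zero ht)
  have hct : -c⁻¹ = t' := by rw [hc]; field_simp
  have hcn : -c = t'⁻¹ := by rw [hc, neg_neg]
  have h1 := nGL_eq D hD F (D.simple i) c
  rw [nGL_eq_hGL_mul D hD F (D.simple i) c, hct] at h1
  rw [← hcn]
  have e : xGL D hD F (D.simple i) (-c) * wordGL D hD F (D.hWord (D.simple i) c) * nFund D hD F i *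
      xGL D hD F (D.simple i) (-c) =
      xGL D hD F (D.simple i) (-c) * (wordGL D hD F (D.hWord (D.simple i) c) *
        wordGL D hD F (D.nWord (D.simple i) 1)) * xGL D hD F (D.simple i) (-c) := by
    unfold nFund; group
  rw [e, h1]
  have e2 : xGL D hD F (D.simple i) (-c) * (xGL D hD F (D.simple i) c *
      xGL D hD F (D.neg (D.simple i)) t' * xGL D hD F (D.simple i) c) * xGL D hD F (D.simple i) (-c) =
      (xGL D hD F (D.simple i) (-c) * xGL D hD F (D.simple i) c) *
      xGL D hD F (D.neg (D.simple i)) t' * (xGL D hD F (D.simple i) c * xGL D hD F (D.simple i) (-c)) := by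
    group
  rw [e2, xGL_mul, xGL_mul, neg_add_cancel, add_neg_cancel, xGL_zero, one_mul, mul_one]

/-- `x_p(c) n_p ∈ V B` for `c ≠ 0` -/
theorem xGL_mul_nFund_inBig (i : ℕ) (hi : i < D.rank) (c : F) (hc : c ≠ 0) :
    InBig D F (xGL D hD F (D.simple i) c * nFund D hD F i) := by
  have hF := fundFacts_of_mem D hD i hi
  have hpos := (parFacts_of_mem D hD).simplePos i hi
  have hneg : D.IsNegRoot (D.neg (D.simple i)) := posNegOK_of_mem D hD _ hpos.1 hpos
  have hx := xGL_neg_explicit' D hD F i hi c hc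
  have hc' : -c⁻¹ ≠ 0 := neg_ne_zero.mpr (inv_ne_zero hc)
  set h := wordGL D hD F (D.hWord (D.simple i) (-c⁻¹)) with hh
  have hhH : h ∈ D.diagonalSubgroup F := hGL_mem_diagonalSubgroup D hD F _ hF.hp _ hc'
  -- `x_p(c⁻¹) h = h x_p(c)`
  have h1 : h * xGL D hD F (D.simple i) c = xGL D hD F (D.simple i) c⁻¹ * h := by
    rw [hh, hGL_xGL_comm D hD F _ hF.hp _ hc']
    congr 2
    field_simp
  have h2 : InBig D F (h * (xGL D hD F (D.simple i) c * nFund D hD F i)) := by
    have e : h * (xGL D hD F (D.simple i) c * nFund D hD F i) =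
        xGL D hD F (D.neg (D.simple i)) c * xGL D hD F (D.simple i) (-c⁻¹) := by
      rw [← mul_assoc, h1, hx, ← xGL_inv]; group
    rw [e]
    exact ⟨_, xGL_neg_mem D hD F _ hneg _, _, xGL_pos_mem_borel D hD F _ hpos _, rfl⟩
  have h3 := InBig.diag_mul D hD F h2 (Subgroup.inv_mem _ hhH)
  rwa [← mul_assoc, inv_mul_cancel, one_mul] at h3

/-- `x_p(a) x_{-p}(b) ∈ V B` when `a b ≠ -1` -/
theorem inBig_of_ne (i : ℕ) (hi : i < D.rank) (a b : F) (hab : a * b ≠ -1) :
    InBig D F (xGL D hD F (D.simple i) a * xGL D hD F (D.neg (D.simple i)) b) := by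
  have hF := fundFacts_of_mem D hD i hi
  have hpos := (parFacts_of_mem D hD).simplePos i hi
  have hneg : D.IsNegRoot (D.neg (D.simple i)) := posNegOK_of_mem D hD _ hpos.1 hpos
  by_cases hb : b = 0
  · rw [hb, xGL_zero, mul_one]
    exact ⟨1, Subgroup.one_mem _, _, xGL_pos_mem_borel D hD F _ hpos a, by rw [one_mul]⟩
  · have hx := xGL_neg_explicit' D hD F i hi b hb
    have hb' : -b⁻¹ ≠ 0 := neg_ne_zero.mpr (inv_ne_zero hb)
    set h := wordGL D hD F (D.hWord (D.simple i) (-b⁻¹)) with hh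
    have hhH : h ∈ D.diagonalSubgroup F := hGL_mem_diagonalSubgroup D hD F _ hF.hp _ hb'
    obtain ⟨χ, hχ, hm⟩ := mem_diagonalSubgroup_char D hD F h hhH
    have hcomm := diagGL_xGL_comm D hD F h χ hχ hm (D.simple i)
    have hχ0 : χ (D.simple i) ≠ 0 := hχ.ne0 _ hF.hp
    -- `x_p(a + b⁻¹) h = h x_p(c')`
    set c' : F := (χ (D.simple i))⁻¹ * (a + b⁻¹) with hc'
    have hc'0 : c' ≠ 0 := by
      rw [hc']
      apply mul_ne_zero (inv_ne_zero hχ0)
      intro h0
      apply hab
      have : a = -b⁻¹ := eq_neg_of_add_eq_zero_left h0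
      rw [this]; field_simp
    have h1 : xGL D hD F (D.simple i) (a + b⁻¹) * h = h * xGL D hD F (D.simple i) c' := by
      rw [hcomm, hc', ← mul_assoc, mul_inv_cancel₀ hχ0, one_mul]
    have e : xGL D hD F (D.simple i) a * xGL D hD F (D.neg (D.simple i)) b =
        h * (xGL D hD F (D.simple i) c' * nFund D hD F i) * xGL D hD F (D.simple i) b⁻¹ := by
      rw [hx]
      calc xGL D hD F (D.simple i) a * (xGL D hD F (D.simple i) b⁻¹ * h * nFund D hD F i *
            xGL D hD F (D.simple i) b⁻¹)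
          = (xGL D hD F (D.simple i) a * xGL D hD F (D.simple i) b⁻¹) * h * nFund D hD F i *
            xGL D hD F (D.simple i) b⁻¹ := by group
        _ = h * (xGL D hD F (D.simple i) c' * nFund D hD F i) * xGL D hD F (D.simple i) b⁻¹ := by
            rw [xGL_mul, h1]; group
    rw [e]
    exact (InBig.diag_mul D hD F (xGL_mul_nFund_inBig D hD F i hi c' hc'0) hhH).mul_borel
      (xGL_pos_mem_borel D hD F _ hpos _)

/-- `x_p(a) x_{-p}(b) ∉ V B` when `a b = -1` -/
theorem not_inBig_of_eq (i : ℕ) (hi : i < D.rank) (a b : F) (hab : a * b = -1) :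
    ¬ InBig D F (xGL D hD F (D.simple i) a * xGL D hD F (D.neg (D.simple i)) b) := by
  intro hbig
  have hF := fundFacts_of_mem D hD i hi
  have hpos := (parFacts_of_mem D hD).simplePos i hi
  have ha : a ≠ 0 := by
    intro h0; rw [h0, zero_mul] at hab
    exact one_ne_zero (neg_eq_zero.mp hab.symm)
  have hb : b = -a⁻¹ := by
    field_simp
    linear_combination hab
  have h1 := nGL_eq D hD F (D.simple i) a
  rw [nGL_eq_hGL_mul D hD F (D.simple i) a, ← hb] at h1
  set h := wordGL D hD F (D.hWord (D.simple i) a) with hh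
  have hhH : h ∈ D.diagonalSubgroup F := hGL_mem_diagonalSubgroup D hD F _ hF.hp _ ha
  have e : nFund D hD F i = h⁻¹ * ((xGL D hD F (D.simple i) a * xGL D hD F (D.neg (D.simple i)) b) *
      xGL D hD F (D.simple i) a) := by
    unfold nFund
    rw [← h1]; group
  apply nFund_not_inBig D hD F i hi
  rw [e]
  exact InBig.diag_mul D hD F (hbig.mul_borel (xGL_pos_mem_borel D hD F _ hpos _)) (Subgroup.inv_mem _ hhH)

/-- an automorphism stabilising `U` and `V` preserves the big cell -/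
theorem inBig_of_stab (θ : ↥(D.group F) ≃* ↥(D.group F))
    (hU : Stab D F θ (D.posUnipotent F)) (hV : Stab D F θ (D.negUnipotent F)) (g : ↥(D.group F))
    (hg : InBig D F (g : GL D.Idx F)) : InBig D F (θ g : GL D.Idx F) := by
  obtain ⟨v, hv, b, hb, he⟩ := hg
  have hB := Stab.borel hD hU
  set v' : ↥(D.group F) := ⟨v, negUnipotent_le_group D hD F hv⟩ with hv'
  set b' : ↥(D.group F) := ⟨b, borel_le_group D hD F hb⟩ with hb'
  have : g = v' * b' := Subtype.ext he
  rw [this, map_mul]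
  exact ⟨_, (hV v').mpr hv, _, (hB b').mpr hb, rfl⟩

variable {D hD F}

/-- the relation between the parameters on `X_p` and `X_{-p}` -/
theorem FundData.rel {θ : ↥(D.group F) ≃* ↥(D.group F)} {ρ : ℕ → ℕ} {f g : ℕ → F → F}
    (h : FundData D hD F θ ρ f g)
    (hU : Stab D F θ (D.posUnipotent F)) (hV : Stab D F θ (D.negUnipotent F))
    (k : ℕ) (hk : k < D.rank) (t : F) (ht : t ≠ 0) : f k t * g k (-t⁻¹) = -1 := by
  by_contra hne
  have h1 := inBig_of_ne D hD F (ρ k) (h.lt k hk) _ _ hne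
  have h2 : InBig D F ((θ (xG D hD F (D.simple k) t * xG D hD F (D.neg (D.simple k)) (-t⁻¹)) :
      ↥(D.group F)) : GL D.Idx F) := by
    rw [map_mul, (h.pos k hk).map, (h.neg k hk).map]
    exact h1
  have h3 := inBig_of_stab D hD F θ.symm hU.symm hV.symm _ h2
  rw [MulEquiv.symm_apply_apply] at h3
  apply not_inBig_of_eq D hD F k hk t (-t⁻¹) (by field_simp)
  exact h3

end

end Cfsg.Agent.Lib.Lead.Stein
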