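import Cfsg.Agent.Lib.Helper7.ChevDiagSym

/-! Table checks for the automorphism theorem of the Chevalley groups: simply laced types, connected
diagrams, the diagram symmetries of `E₇` and `E₈` (lead). -/

set_option autoImplicit false
set_option maxRecDepth 100000

namespace Cfsg.Agent.Lib.Lead.Stein

open Cfsg Cfsg.Lie Cfsg.Agent.Lib.Helper7

/-- table check for a simply laced type: for distinct nodes, either the Cartan integer is `0`, the
commutator formula has no terms and there is no bond; or there is one bond and the commutator formula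
has exactly one term, with coefficient `±1` -/
def simplyLacedB (D : ChevalleyDatum) : Bool :=
  (List.range D.rank).all fun i => (List.range D.rank).all fun j =>
    i == j || ((D.simple i != D.neg (D.simple j)) && (D.simple i != D.simple j) &&
      (if D.cartan i (D.simple j) == 0 then
        (D.commTerms (D.simple i) (D.simple j)).isEmpty && D.bonds i j == 0
      else D.bonds i j == 1 && (D.commTerms (D.simple i) (D.simple j)).length == 1 &&
        (D.commTerms (D.simple i) (D.simple j)).all fun c =>
          decide (c.1 < D.nroots) && (c.2.1 == 1 || c.2.1 == -1) && c.2.2.1 == 1 && c.2.2.2 == 1))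

/-- the type is simply laced -/
structure SimplyLaced (D : ChevalleyDatum) : Prop where
  ne_neg : ∀ i < D.rank, ∀ j < D.rank, i ≠ j → D.simple i ≠ D.neg (D.simple j)
  ne : ∀ i < D.rank, ∀ j < D.rank, i ≠ j → D.simple i ≠ D.simple j
  cases : ∀ i < D.rank, ∀ j < D.rank, i ≠ j →
    (D.commTerms (D.simple i) (D.simple j) = [] ∧ D.bonds i j = 0) ∨
    (D.bonds i j = 1 ∧ ∃ (k : ℕ) (C : ℤ), D.commTerms (D.simple i) (D.simple j) = [(k, C, 1, 1)] ∧
      k < D.nroots ∧ (C = 1 ∨ C = -1))

theorem simplyLaced_of_B (D : ChevalleyDatum) (h : simplyLacedB D = true) : SimplyLaced D := by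
  unfold simplyLacedB at h
  simp only [List.all_eq_true, List.mem_range, Bool.or_eq_true, beq_iff_eq, Bool.and_eq_true,
    bne_iff_ne] at h
  refine ⟨?_, ?_, ?_⟩
  · intro i hi j hj hij
    rcases h i hi j hj with h1 | h1
    · exact absurd h1 hij
    · exact h1.1.1
  · intro i hi j hj hij
    rcases h i hi j hj with h1 | h1
    · exact absurd h1 hij
    · exact h1.1.2
  · intro i hi j hj hij
    rcases h i hi j hj with h1 | h1
    · exact absurd h1 hij
    · have h2 := h1.2
      split_ifs at h2 with hc
      · left
        simp only [Bool.and_eq_true, List.isEmpty_iff, beq_iff_eq] at h2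
        exact h2
      · right
        simp only [Bool.and_eq_true, beq_iff_eq, List.all_eq_true, decide_eq_true_eq,
          Bool.or_eq_true] at h2
        obtain ⟨⟨hb, hlen⟩, hall⟩ := h2
        refine ⟨hb, ?_⟩
        obtain ⟨a, ha⟩ := List.length_eq_one_iff.mp hlen
        have h3 := hall a (by rw [ha]; exact List.mem_singleton_self a)
        obtain ⟨k, C, p, q⟩ := a
        simp only at h3
        obtain ⟨⟨⟨h4, h5⟩, h6⟩, h7⟩ := h3
        refine ⟨k, C, ?_, h4, h5⟩
        rw [ha, h6, h7]

theorem simplyLacedB_D4 : simplyLacedB chevD4 = true := by decide +kernel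
theorem simplyLacedB_E6 : simplyLacedB chevE6 = true := by decide +kernel
theorem simplyLacedB_E7 : simplyLacedB chevE7 = true := by decide +kernel
theorem simplyLacedB_E8 : simplyLacedB chevE8 = true := by decide +kernel

theorem simplyLaced_D4 : SimplyLaced chevD4 := simplyLaced_of_B _ simplyLacedB_D4
theorem simplyLaced_E6 : SimplyLaced chevE6 := simplyLaced_of_B _ simplyLacedB_E6
theorem simplyLaced_E7 : SimplyLaced chevE7 := simplyLaced_of_B _ simplyLacedB_E7
theorem simplyLaced_E8 : SimplyLaced chevE8 := simplyLaced_of_B _ simplyLacedB_E8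

/-- the nodes reached from node `0` in at most `n` steps -/
def reachL (D : ChevalleyDatum) : ℕ → List ℕ
  | 0 => [0]
  | n + 1 => reachL D n ++ (List.range D.rank).filter fun b => (reachL D n).any fun a => D.bonds a b != 0

theorem reachL_spec (D : ChevalleyDatum) (P : ℕ → Prop) (h0 : P 0)
    (hstep : ∀ a b, b < D.rank → D.bonds a b ≠ 0 → P a → P b) :
    ∀ n, ∀ k ∈ reachL D n, P k := by
  intro n
  induction n with
  | zero =>
    intro k hk
    unfold reachL at hk
    rw [List.mem_singleton] at hk
    rw [hk]; exact h0
  | succ n ih =>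
    intro k hk
    unfold reachL at hk
    rw [List.mem_append] at hk
    rcases hk with hk | hk
    · exact ih k hk
    · rw [List.mem_filter, List.any_eq_true] at hk
      obtain ⟨hk1, a, ha, hab⟩ := hk
      exact hstep a k (List.mem_range.mp hk1) (bne_iff_ne.mp hab) (ih a ha)

/-- the diagram is connected (and has at least two nodes) -/
def connB (D : ChevalleyDatum) : Bool :=
  decide (2 ≤ D.rank) && ((List.range D.rank).all fun k => (reachL D D.rank).contains k) &&
    ((List.range D.rank).all fun k => (List.range D.rank).any fun j => j != k && D.bonds k j != 0)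

/-- connected diagram: induction principle, and every node has a neighbour -/
theorem conn_of_B (D : ChevalleyDatum) (h : connB D = true) :
    0 < D.rank ∧ (∀ P : ℕ → Prop, P 0 → (∀ a b, b < D.rank → D.bonds a b ≠ 0 → P a → P b) →
      ∀ k < D.rank, P k) ∧ ∀ k < D.rank, ∃ j < D.rank, j ≠ k ∧ D.bonds k j ≠ 0 := by
  unfold connB at h
  simp only [Bool.and_eq_true, decide_eq_true_eq, List.all_eq_true, List.mem_range,
    List.contains_iff_mem, List.any_eq_true, bne_iff_ne] at h
  obtain ⟨⟨h1, h2⟩, h3⟩ := h
  refine ⟨by omega, ?_, ?_⟩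
  · intro P h0 hstep k hk
    exact reachL_spec D P h0 hstep D.rank k (h2 k hk)
  · intro k hk
    obtain ⟨j, hj, hjk, hb⟩ := h3 k hk
    exact ⟨j, hj, hjk, hb⟩

theorem connB_D4 : connB chevD4 = true := by decide +kernel
theorem connB_E6 : connB chevE6 = true := by decide +kernel
theorem connB_E7 : connB chevE7 = true := by decide +kernel
theorem connB_E8 : connB chevE8 = true := by decide +kernel
theorem connB_G2 : connB chevG2 = true := by decide +kernel
theorem connB_B2 : connB chevB2 = true := by decide +kernel
theorem connB_F4 : connB chevF4 = true := by decide +kernel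

theorem symAll_E7 : allExt chevE7 [[0, 1, 2, 3, 4, 5, 6]] chevE7.rank [] = true := by decide +kernel

theorem symAll_E8 : allExt chevE8 [[0, 1, 2, 3, 4, 5, 6, 7]] chevE8.rank [] = true := by decide +kernel

end Cfsg.Agent.Lib.Lead.Stein
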