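import Cfsg.Agent.Lib.Lead.SteinG
import Cfsg.Agent.Lib.Lead.SteinTab2

/-! Automorphisms of simply laced Chevalley groups stabilising `U` and `V`: the permutation of the
nodes is a diagram symmetry, and after normalisation the parameters are given by one field
automorphism (lead). -/

set_option autoImplicit false

namespace Cfsg.Agent.Lib.Lead.Stein

open Cfsg Cfsg.Lie Matrix Cfsg.Agent.Lib.Helper7 Cfsg.Agent.Lib.Helper3.BN Cfsg.Agent.Lib.Helper11

section
variable (D : ChevalleyDatum) (hD : D ∈ [chevG2, chevB2, chevD4, chevF4, chevE6, chevE7, chevE8])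
variable (F : Type*) [Field F]
include hD

theorem wordGL_singleton (r : ℕ) (c : F) : wordGL D hD F [(r, c)] = xGL D hD F r c := by
  unfold wordGL; simp

/-- commutator formula for two fundamental roots whose sum is not a root -/
theorem xGL_simple_comm_of_nil (hSL : SimplyLaced D) (i j : ℕ) (hi : i < D.rank) (hj : j < D.rank)
    (hij : i ≠ j) (h : D.commTerms (D.simple i) (D.simple j) = []) (t u : F) :
    xGL D hD F (D.simple j) u * xGL D hD F (D.simple i) t =
      xGL D hD F (D.simple i) t * xGL D hD F (D.simple j) u := by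
  have := comm_formula_GL D hD F (D.simple i) (D.simple j) (simple_lt D hD i hi) (simple_lt D hD j hj)
    (Ne.symm (hSL.ne i hi j hj hij)) (hSL.ne_neg j hj i hi (Ne.symm hij)) t u
  unfold ChevalleyDatum.commWord at this
  rw [h] at this
  have e : wordGL D hD F ([] : List (ℕ × F)) = 1 := rfl
  rw [List.map_nil, e, mul_one] at this
  exact this

/-- commutator formula for two fundamental roots whose sum is a root -/
theorem xGL_simple_comm_of_single (hSL : SimplyLaced D) (i j : ℕ) (hi : i < D.rank) (hj : j < D.rank)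
    (hij : i ≠ j) (k : ℕ) (C : ℤ) (h : D.commTerms (D.simple i) (D.simple j) = [(k, C, 1, 1)]) (t u : F) :
    xGL D hD F (D.simple j) u * xGL D hD F (D.simple i) t =
      xGL D hD F (D.simple i) t * xGL D hD F (D.simple j) u * xGL D hD F k ((C : F) * (-t) * u) := by
  have := comm_formula_GL D hD F (D.simple i) (D.simple j) (simple_lt D hD i hi) (simple_lt D hD j hj)
    (Ne.symm (hSL.ne i hi j hj hij)) (hSL.ne_neg j hj i hi (Ne.symm hij)) t u
  unfold ChevalleyDatum.commWord at this
  rw [h] at this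
  simp only [List.map_cons, List.map_nil, pow_one] at this
  rw [wordGL_singleton] at this
  exact this

omit hD in
theorem intCast_ne_zero_of_pm (C : ℤ) (hC : C = 1 ∨ C = -1) : (C : F) ≠ 0 := by
  rcases hC with h | h <;> rw [h] <;> simp

/-- adjacent fundamental root elements commute only if a parameter vanishes -/
theorem mul_eq_zero_of_comm (hSL : SimplyLaced D) (i j : ℕ) (hi : i < D.rank) (hj : j < D.rank)
    (hij : i ≠ j) (k : ℕ) (C : ℤ) (h : D.commTerms (D.simple i) (D.simple j) = [(k, C, 1, 1)])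
    (hk : k < D.nroots) (hC : C = 1 ∨ C = -1) (t u : F)
    (hcomm : xGL D hD F (D.simple j) u * xGL D hD F (D.simple i) t =
      xGL D hD F (D.simple i) t * xGL D hD F (D.simple j) u) : t * u = 0 := by
  have h1 := xGL_simple_comm_of_single D hD F hSL i j hi hj hij k C h t u
  rw [hcomm] at h1
  have h2 : xGL D hD F k ((C : F) * (-t) * u) = 1 := by
    have := mul_left_cancel (a := xGL D hD F (D.simple i) t * xGL D hD F (D.simple j) u)
      (b := 1) (c := xGL D hD F k ((C : F) * (-t) * u)) (by rw [mul_one]; exact h1)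
    exact this.symm
  rw [← xGL_zero D hD F k] at h2
  have h3 := xGL_param_inj D hD F k hk _ _ h2
  have hC0 := intCast_ne_zero_of_pm F C hC
  have : (C : F) * (t * u) = 0 := by linear_combination -h3
  rcases mul_eq_zero.mp this with h4 | h4
  · exact absurd h4 hC0
  · exact h4

variable {D hD F}

/-- the permutation of the nodes preserves the bonds -/
theorem FundData.bonds_eq (hSL : SimplyLaced D) {θ : ↥(D.group F) ≃* ↥(D.group F)} {ρ : ℕ → ℕ}
    {f g : ℕ → F → F} (h : FundData D hD F θ ρ f g) (i j : ℕ) (hi : i < D.rank) (hj : j < D.rank)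
    (hij : i ≠ j) : D.bonds (ρ i) (ρ j) = D.bonds i j := by
  have hρ : ρ i ≠ ρ j := fun he => hij (h.inj i j hi hj he)
  have hρi := h.lt i hi
  have hρj := h.lt j hj
  rcases hSL.cases i hi j hj hij with ⟨hnil, hb⟩ | ⟨hb, k, C, hsing, hk, hC⟩
  · rcases hSL.cases (ρ i) hρi (ρ j) hρj hρ with ⟨_, hb'⟩ | ⟨hb', k', C', hsing', hk', hC'⟩
    · rw [hb, hb']
    · exfalso
      have hcomm := xGL_simple_comm_of_nil D hD F hSL i j hi hj hij hnil 1 1
      have h1 : θ (xG D hD F (D.simple j) 1 * xG D hD F (D.simple i) 1) =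
          θ (xG D hD F (D.simple i) 1 * xG D hD F (D.simple j) 1) := by
        congr 1
        exact Subtype.ext hcomm
      rw [map_mul, map_mul, (h.pos i hi).map, (h.pos j hj).map] at h1
      have h2 := mul_eq_zero_of_comm D hD F hSL (ρ i) (ρ j) hρi hρj hρ k' C' hsing' hk' hC' _ _
        (congrArg Subtype.val h1)
      rcases mul_eq_zero.mp h2 with h3 | h3
      · exact (h.pos i hi).ne_zero 1 one_ne_zero h3
      · exact (h.pos j hj).ne_zero 1 one_ne_zero h3
  · rcases hSL.cases (ρ i) hρi (ρ j) hρj hρ with ⟨hnil', hb'⟩ | ⟨hb', _⟩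
    · exfalso
      have hcomm := xGL_simple_comm_of_nil D hD F hSL (ρ i) (ρ j) hρi hρj hρ hnil' (f i 1) (f j 1)
      have h1 : θ (xG D hD F (D.simple j) 1 * xG D hD F (D.simple i) 1) =
          θ (xG D hD F (D.simple i) 1 * xG D hD F (D.simple j) 1) := by
        rw [map_mul, map_mul, (h.pos i hi).map, (h.pos j hj).map]
        exact Subtype.ext hcomm
      have h2 := congrArg Subtype.val (θ.injective h1)
      have h3 := mul_eq_zero_of_comm D hD F hSL i j hi hj hij k C hsing hk hC 1 1 h2
      rw [mul_one] at h3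
      exact one_ne_zero h3
    · rw [hb, hb']

/-- adjacent nodes: the parameters are proportional and multiplicative -/
theorem FundData.adj (hSL : SimplyLaced D) {θ : ↥(D.group F) ≃* ↥(D.group F)} {ρ : ℕ → ℕ}
    {f g : ℕ → F → F} (h : FundData D hD F θ ρ f g) (i j : ℕ) (hi : i < D.rank) (hj : j < D.rank)
    (hij : i ≠ j) (hb : D.bonds i j ≠ 0) :
    (∀ t, f i t * f j 1 = f i 1 * f j t) ∧ ∀ t u, f i (t * u) * f j 1 = f i t * f j u := by
  have hρ : ρ i ≠ ρ j := fun he => hij (h.inj i j hi hj he)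
  have hρi := h.lt i hi
  have hρj := h.lt j hj
  have hbe := h.bonds_eq hSL i j hi hj hij
  rcases hSL.cases i hi j hj hij with ⟨_, hb0⟩ | ⟨hb1, k, C, hsing, hk, hC⟩
  · exact absurd hb0 hb
  rcases hSL.cases (ρ i) hρi (ρ j) hρj hρ with ⟨_, hb0'⟩ | ⟨_, k', C', hsing', hk', hC'⟩
  · rw [hbe, hb1] at hb0'
    exact absurd hb0' one_ne_zero
  have hC0 := intCast_ne_zero_of_pm F C hC
  have hC0' := intCast_ne_zero_of_pm F C' hC'
  have key : ∀ t u : F, θ (xG D hD F k ((C : F) * (-t) * u)) =
      xG D hD F k' ((C' : F) * (-(f i t)) * f j u) := by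
    intro t u
    have e1 : xG D hD F (D.simple j) u * xG D hD F (D.simple i) t =
        xG D hD F (D.simple i) t * xG D hD F (D.simple j) u * xG D hD F k ((C : F) * (-t) * u) :=
      Subtype.ext (xGL_simple_comm_of_single D hD F hSL i j hi hj hij k C hsing t u)
    have e2 : xG D hD F (D.simple (ρ j)) (f j u) * xG D hD F (D.simple (ρ i)) (f i t) =
        xG D hD F (D.simple (ρ i)) (f i t) * xG D hD F (D.simple (ρ j)) (f j u) *
          xG D hD F k' ((C' : F) * (-(f i t)) * f j u) :=
      Subtype.ext (xGL_simple_comm_of_single D hD F hSL (ρ i) (ρ j) hρi hρj hρ k' C' hsing' _ _)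
    have e3 := congrArg θ e1
    rw [map_mul, map_mul, map_mul, (h.pos i hi).map, (h.pos j hj).map, e2] at e3
    exact (mul_left_cancel e3).symm
  constructor
  · intro t
    have k1 := key t 1
    have k2 := key 1 t
    have e : (C : F) * (-t) * 1 = (C : F) * (-1) * t := by ring
    rw [e, k2] at k1
    have := xG_inj D hD F k' hk' _ _ k1
    have h5 : (C' : F) * (f i t * f j 1 - f i 1 * f j t) = 0 := by linear_combination this
    rcases mul_eq_zero.mp h5 with h6 | h6
    · exact absurd h6 hC0'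
    · exact sub_eq_zero.mp h6
  · intro t u
    have k1 := key (t * u) 1
    have k2 := key t u
    have e : (C : F) * (-(t * u)) * 1 = (C : F) * (-t) * u := by ring
    rw [e, k2] at k1
    have := xG_inj D hD F k' hk' _ _ k1
    have h5 : (C' : F) * (f i (t * u) * f j 1 - f i t * f j u) = 0 := by linear_combination this
    rcases mul_eq_zero.mp h5 with h6 | h6
    · exact absurd h6 hC0'
    · exact sub_eq_zero.mp h6

/-- simply laced: all parameters are given by one field automorphism, up to scalars -/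
theorem FundData.exists_field (hSL : SimplyLaced D) (hconn : connB D = true)
    {θ : ↥(D.group F) ≃* ↥(D.group F)} {ρ : ℕ → ℕ}
    {f g : ℕ → F → F} (h : FundData D hD F θ ρ f g)
    (hU : Stab D F θ (D.posUnipotent F)) (hV : Stab D F θ (D.negUnipotent F)) :
    ∃ σ : F ≃+* F, ∀ k < D.rank, ∀ t, f k t = f k 1 * σ t ∧ g k t = (f k 1)⁻¹ * σ t := by
  obtain ⟨h0, hind, hnb⟩ := conn_of_B D hconn
  have hc : ∀ k < D.rank, f k 1 ≠ 0 := fun k hk => (h.pos k hk).ne_zero 1 one_ne_zero
  have hall : ∀ k < D.rank, k < D.rank ∧ ∀ t, (f k 1)⁻¹ * f k t = (f 0 1)⁻¹ * f 0 t := by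
    apply hind (fun k => k < D.rank ∧ ∀ t, (f k 1)⁻¹ * f k t = (f 0 1)⁻¹ * f 0 t) ⟨h0, fun _ => rfl⟩
    intro a b hb hab ⟨ha, hfa⟩
    refine ⟨hb, ?_⟩
    by_cases hne : a = b
    · rw [← hne]; exact hfa
    · intro t
      rw [← hfa t]
      have := (h.adj hSL a b ha hb hne hab).1 t
      have hca := hc a ha
      have hcb := hc b hb
      field_simp
      linear_combination -this
  obtain ⟨j, hj, hj0, hbj⟩ := hnb 0 h0
  have hadj := h.adj hSL 0 j h0 hj (Ne.symm hj0) hbj
  have hP := h.pos 0 h0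
  have hc0 := hc 0 h0
  have hcj := hc j hj
  let φ : F →+* F :=
    { toFun := fun t => (f 0 1)⁻¹ * f 0 t
      map_one' := inv_mul_cancel₀ hc0
      map_mul' := by
        intro t u
        have h1 := hadj.2 t u
        have h2 := hadj.1 u
        field_simp
        have h3 : f 0 (t * u) * f j 1 * f 0 1 = f 0 t * f 0 u * f j 1 := by
          rw [h1, mul_assoc, mul_comm (f j u), ← h2]; ring
        have h4 : (f 0 1 * f 0 (t * u) - f 0 t * f 0 u) * f j 1 = 0 := by linear_combination h3
        rcases mul_eq_zero.mp h4 with h5 | h5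
        · exact sub_eq_zero.mp h5
        · exact absurd h5 hcj
      map_zero' := by show (f 0 1)⁻¹ * f 0 0 = 0; rw [hP.zero, mul_zero]
      map_add' := by
        intro t u
        show (f 0 1)⁻¹ * f 0 (t + u) = (f 0 1)⁻¹ * f 0 t + (f 0 1)⁻¹ * f 0 u
        rw [hP.add, mul_add] }
  have hbij : Function.Bijective φ := by
    constructor
    · intro t u htu
      have : (f 0 1)⁻¹ * f 0 t = (f 0 1)⁻¹ * f 0 u := htu
      exact hP.bij.1 (mul_left_cancel₀ (inv_ne_zero hc0) this)
    · intro y
      obtain ⟨t, ht⟩ := hP.bij.2 (f 0 1 * y)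
      refine ⟨t, ?_⟩
      show (f 0 1)⁻¹ * f 0 t = y
      rw [ht, ← mul_assoc, inv_mul_cancel₀ hc0, one_mul]
  let σ : F ≃+* F := RingEquiv.ofBijective φ hbij
  have hσ : ∀ t, σ t = (f 0 1)⁻¹ * f 0 t := fun _ => rfl
  refine ⟨σ, ?_⟩
  intro k hk t
  have hck := hc k hk
  have hfk : ∀ t, f k t = f k 1 * σ t := by
    intro t
    rw [hσ, ← (hall k hk).2 t, ← mul_assoc, mul_inv_cancel₀ hck, one_mul]
  refine ⟨hfk t, ?_⟩
  by_cases ht : t = 0
  · rw [ht, (h.neg k hk).zero, map_zero, mul_zero]
  · have hrel := h.rel hU hV k hk (-t⁻¹) (neg_ne_zero.mpr (inv_ne_zero ht))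
    have e : -(-t⁻¹)⁻¹ = t := by field_simp
    rw [e, hfk] at hrel
    have hs0 : σ (-t⁻¹) ≠ 0 := by
      rw [Ne, map_eq_zero_iff σ σ.injective]
      exact neg_ne_zero.mpr (inv_ne_zero ht)
    have hst : σ (-t⁻¹) = -(σ t)⁻¹ := by rw [map_neg, map_inv₀]
    have hst0 : σ t ≠ 0 := by
      rw [Ne, map_eq_zero_iff σ σ.injective]; exact ht
    rw [hst] at hrel
    have : f k 1 * (σ t)⁻¹ * g k t = 1 := by linear_combination -hrel
    calc g k t = (f k 1)⁻¹ * σ t * (f k 1 * (σ t)⁻¹ * g k t) := by field_simp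
      _ = (f k 1)⁻¹ * σ t := by rw [this, mul_one]

end

end Cfsg.Agent.Lib.Lead.Stein
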