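import Cfsg.Agent.Lib.Lead.SteinH
import Cfsg.Agent.Lib.Lead.ChevCentD
import Cfsg.Agent.Lib.Helper7.ChevHCard

/-! Automorphisms of a simply laced Chevalley group without diagram symmetries and with
`|H| = (q-1)^l` (type `E₈`) are products of inner and field automorphisms (lead). -/

set_option autoImplicit false

namespace Cfsg.Agent.Lib.Lead.Stein

open Cfsg Cfsg.Lie Matrix Cfsg.Agent.Lib.Helper7 Cfsg.Agent.Lib.Helper3.BN Cfsg.Agent.Lib.Helper11
open Cfsg.Agent.Lib.Lead.ChevCent Cfsg.Agent.Lib.Lead.ChevFix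

section
variable (D : ChevalleyDatum) (hD : D ∈ [chevG2, chevB2, chevD4, chevF4, chevE6, chevE7, chevE8])
variable (F : Type*) [Field F]
include hD

/-- if `|H| = (q-1)^l`, every family of values on the fundamental roots is the character of an
element of `H` -/
theorem exists_diag_of_card [Fintype F] (A R : List (List ℤ)) (hAR : rootCoefOKB D A R = true)
    (hcard : Nat.card (D.diagonalSubgroup F) = (Fintype.card F - 1) ^ D.rank) (c : Fin D.rank → Fˣ) :
    ∃ h ∈ D.diagonalSubgroup F, ∃ χ : ℕ → F, ChainChar D F χ ∧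
      ((h : GL D.Idx F) : Matrix D.Idx D.Idx F) = diagChar D F χ ∧
      ∀ k : Fin D.rank, χ (D.simple k) = ((c k : Fˣ) : F) := by
  have h1 := card_diagonal_eq_range D hD F A R hAR
  have h2 : Nat.card (Fin D.rank → Fˣ) = (Fintype.card F - 1) ^ D.rank := by
    rw [Nat.card_fun, Nat.card_units, Nat.card_eq_fintype_card, Nat.card_eq_fintype_card,
      Fintype.card_fin]
  have h3 : Set.range (zact (cartanA D) : (Fin D.rank → Fˣ) → (Fin D.rank → Fˣ)) = Set.univ := by
    rw [Set.eq_univ_iff_ncard, ← Nat.card_coe_set_eq, ← h1, hcard, h2]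
  have h4 : c ∈ Set.range (zact (cartanA D) : (Fin D.rank → Fˣ) → (Fin D.rank → Fˣ)) := by
    rw [h3]; trivial
  obtain ⟨c', hc'⟩ := h4
  refine ⟨hOf D hD F c', hOf_mem D hD F c', ?_⟩
  obtain ⟨χ, hχ, hm⟩ := mem_diagonalSubgroup_char D hD F _ (hOf_mem D hD F c')
  refine ⟨χ, hχ, hm, ?_⟩
  intro k
  have hk := (fundFacts_of_mem D hD k.val k.isLt).hp
  have h5 : diagChar D F χ = diagChar D F (fun s => ((unitChar D F c' s : Fˣ) : F)) := by
    rw [← hm, coe_hOf D hD F c']
  have h6 := congrFun (Matrix.diagonal_injective h5) (Sum.inr ⟨D.simple k, hk⟩)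
  simp only [Sum.elim_inr] at h6
  rw [h6, unitChar_simple D F c' k, hc']

/-- conjugation of a root element by an element of `H` -/
theorem conj_diag_xG (h : ↥(D.group F)) (χ : ℕ → F) (hχ : ChainChar D F χ)
    (hm : ((h : GL D.Idx F) : Matrix D.Idx D.Idx F) = diagChar D F χ) (s : ℕ) (t : F) :
    h * xG D hD F s t * h⁻¹ = xG D hD F s (χ s * t) := by
  apply Subtype.ext
  show (h : GL D.Idx F) * xGL D hD F s t * (h : GL D.Idx F)⁻¹ = xGL D hD F s (χ s * t)
  rw [diagGL_xGL_comm D hD F _ χ hχ hm]; group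

end

section
variable (D : ChevalleyDatum) {F : Type*} [Field F] (σ : F ≃+* F)

theorem phiOf_xG (hD : D ∈ [chevG2, chevB2, chevD4, chevF4, chevE6, chevE7, chevE8]) (r : ℕ) (t : F) :
    phiOf D σ (xG D hD F r t) = xG D hD F r (σ t) := by
  apply Subtype.ext
  rw [coe_phiOf]
  exact tau_xGL D hD σ r t

end

section
variable (D : ChevalleyDatum) (hD : D ∈ [chevG2, chevB2, chevD4, chevF4, chevE6, chevE7, chevE8])
variable (F : Type*) [Field F]
include hD

/-- a simply laced type without diagram symmetries and with `|H| = (q-1)^l`: every automorphism is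
the product of an inner and a field automorphism -/
theorem aut_eq_inner_field [Fintype F] (p : ℕ) [Fact p.Prime] [CharP F p] (hSL : SimplyLaced D)
    (hconn : connB D = true) (hsym : allExt D [List.range D.rank] D.rank [] = true)
    (A R : List (List ℤ)) (hAR : rootCoefOKB D A R = true)
    (hcard : Nat.card (D.diagonalSubgroup F) = (Fintype.card F - 1) ^ D.rank)
    (θ : ↥(D.group F) ≃* ↥(D.group F)) :
    ∃ (z : ↥(D.group F)) (σ : F ≃+* F), ∀ y, θ y = z * phiOf D σ y * z⁻¹ := by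
  obtain ⟨x₁, hU, hV⟩ := exists_stab D hD F p θ
  set θ₁ := θ.trans (MulAut.conj x₁) with hθ₁
  obtain ⟨ρ, f, g, hFD⟩ := exists_fundData D hD F θ₁ hU hV
  -- `ρ` is the identity
  have hρ : ∀ k < D.rank, ρ k = k := by
    have h1 := allExt_spec D [List.range D.rank] ρ hFD.lt (fun i hi j hj => hFD.inj i j hi hj)
      (fun i hi j hj hij => hFD.bonds_eq hSL i j hi hj hij) D.rank 0 (by omega) (by simpa using hsym)
    rw [List.mem_singleton] at h1
    intro k hk
    have h2 := getD_map_range ρ D.rank k hk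
    rw [h1] at h2
    rw [← h2, List.getD_eq_getElem _ _ (by simpa using hk), List.getElem_range]
  obtain ⟨σ, hσ⟩ := hFD.exists_field hSL hconn hU hV
  have hc : ∀ k < D.rank, f k 1 ≠ 0 := fun k hk => (hFD.pos k hk).ne_zero 1 one_ne_zero
  -- the diagonal element
  let c : Fin D.rank → Fˣ := fun k => (Units.mk0 (f k.val 1) (hc k.val k.isLt))⁻¹
  obtain ⟨h, hh, χ, hχ, hm, hχc⟩ := exists_diag_of_card D hD F A R hAR hcard c
  set hG : ↥(D.group F) := ⟨h, diagonal_le_group D hD F hh⟩ with hhG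
  have hχk : ∀ k < D.rank, χ (D.simple k) = (f k 1)⁻¹ := by
    intro k hk
    have := hχc ⟨k, hk⟩
    rw [this]
    simp [c]
  set θ₂ := θ₁.trans (MulAut.conj hG) with hθ₂
  have hpos : ∀ k < D.rank, ∀ t : F, θ₂ (xG D hD F (D.simple k) t) = xG D hD F (D.simple k) (σ t) := by
    intro k hk t
    rw [hθ₂, MulEquiv.trans_apply, (hFD.pos k hk).map, hρ k hk, MulAut.conj_apply,
      conj_diag_xG D hD F hG χ hχ hm, hχk k hk, (hσ k hk t).1, ← mul_assoc,
      inv_mul_cancel₀ (hc k hk), one_mul]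
  have hneg : ∀ k < D.rank, ∀ t : F, θ₂ (xG D hD F (D.neg (D.simple k)) t) =
      xG D hD F (D.neg (D.simple k)) (σ t) := by
    intro k hk t
    have hF := fundFacts_of_mem D hD k hk
    rw [hθ₂, MulEquiv.trans_apply, (hFD.neg k hk).map, hρ k hk, MulAut.conj_apply,
      conj_diag_xG D hD F hG χ hχ hm, hχ.negC _ hF.hp hF.hpb, hχk k hk, inv_inv, (hσ k hk t).2,
      ← mul_assoc, mul_inv_cancel₀ (hc k hk), one_mul]
  have heq : θ₂.toMonoidHom = (phiOf D σ).toMonoidHom := by
    apply hom_ext_of_fund D hD F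
    · intro j hj t
      show θ₂ _ = phiOf D σ _
      rw [hpos j hj t, phiOf_xG]
    · intro j hj t
      show θ₂ _ = phiOf D σ _
      rw [hneg j hj t, phiOf_xG]
  refine ⟨(hG * x₁)⁻¹, σ, ?_⟩
  intro y
  have h1 : θ₂ y = phiOf D σ y := by
    have := congrArg (fun φ : ↥(D.group F) →* ↥(D.group F) => φ y) heq
    exact this
  rw [← h1, hθ₂, hθ₁]
  simp only [MulEquiv.trans_apply, MulAut.conj_apply]
  group

end

end Cfsg.Agent.Lib.Lead.Stein
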