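import Cfsg.Agent.Lib.Lead.SteinL

/-! The group of automorphisms of a Chevalley group stabilising `U` and `V`: it covers the outer
automorphism group, with kernel isomorphic to `H` (lead). -/

set_option autoImplicit false

namespace Cfsg.Agent.Lib.Lead.Stein

open Cfsg Cfsg.Lie Matrix Cfsg.Agent.Lib.Helper7 Cfsg.Agent.Lib.Helper3.BN Cfsg.Agent.Lib.Helper11
open Cfsg.Agent.Lib.Lead.ChevCent Cfsg.Agent.Lib.Lead.ChevFix
open Cfsg.Agent.Lib.Helper11.ChevDiagMem

section
variable (D : ChevalleyDatum) (F : Type*) [Field F]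

/-- the automorphisms stabilising `U` and `V` -/
def autUV : Subgroup (MulAut ↥(D.group F)) where
  carrier := {θ | Stab D F θ (D.posUnipotent F) ∧ Stab D F θ (D.negUnipotent F)}
  one_mem' := ⟨fun _ => Iff.rfl, fun _ => Iff.rfl⟩
  mul_mem' := by
    intro a b ha hb
    refine ⟨fun g => ?_, fun g => ?_⟩
    · rw [MulAut.mul_apply, ha.1 (b g), hb.1 g]
    · rw [MulAut.mul_apply, ha.2 (b g), hb.2 g]
  inv_mem' := by
    intro a ha
    exact ⟨ha.1.symm, ha.2.symm⟩

theorem mem_autUV (θ : MulAut ↥(D.group F)) :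
    θ ∈ autUV D F ↔ Stab D F θ (D.posUnipotent F) ∧ Stab D F θ (D.negUnipotent F) := Iff.rfl

/-- the map from `autUV` to the outer automorphism group -/
def outMap : ↥(autUV D F) →* Cfsg.Out ↥(D.group F) :=
  (QuotientGroup.mk' (Cfsg.Inn ↥(D.group F))).comp (autUV D F).subtype

end

section
variable (D : ChevalleyDatum) (hD : D ∈ [chevG2, chevB2, chevD4, chevF4, chevE6, chevE7, chevE8])
variable (F : Type*) [Field F]
include hD

theorem outMap_surjective [Fintype F] (p : ℕ) [Fact p.Prime] [CharP F p] :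
    Function.Surjective (outMap D F) := by
  intro x
  obtain ⟨θ, rfl⟩ := QuotientGroup.mk_surjective x
  obtain ⟨z, hU, hV⟩ := exists_stab D hD F p θ
  have he : θ.trans (MulAut.conj z) = (MulAut.conj z : MulAut ↥(D.group F)) * θ := by
    ext y; rfl
  have hmem : (MulAut.conj z : MulAut ↥(D.group F)) * θ ∈ autUV D F := by
    rw [← he]; exact ⟨hU, hV⟩
  refine ⟨⟨_, hmem⟩, ?_⟩
  show (QuotientGroup.mk ((MulAut.conj z : MulAut ↥(D.group F)) * θ) : Cfsg.Out ↥(D.group F)) =
    QuotientGroup.mk θ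
  have h2 : (MulAut.conj z : MulAut ↥(D.group F)) ∈ Cfsg.Inn ↥(D.group F) := ⟨z, rfl⟩
  rw [QuotientGroup.mk_mul, (QuotientGroup.eq_one_iff (MulAut.conj z)).mpr h2, one_mul]

/-- an element whose conjugation stabilises `U` and `V` lies in `H` -/
theorem mem_diagonal_of_stab_conj (z : ↥(D.group F))
    (hU : Stab D F (MulAut.conj z) (D.posUnipotent F))
    (hV : Stab D F (MulAut.conj z) (D.negUnipotent F)) : (z : GL D.Idx F) ∈ D.diagonalSubgroup F := by
  have h1 := mem_normalizer_of_stab_conj (posUnipotent_le_group D hD F) z hU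
  have h2 := mem_normalizer_of_stab_conj (negUnipotent_le_group D hD F) z hV
  have h3 : (z : GL D.Idx F) ∈ D.borelSubgroup F := by
    rw [← normalizer_posUnipotent_inf_group D hD F]
    exact Subgroup.mem_inf.mpr ⟨h1, z.2⟩
  have h4 : (z : GL D.Idx F) ∈ negBorel D F := by
    rw [← normalizer_negUnipotent_inf_group D hD F]
    exact Subgroup.mem_inf.mpr ⟨h2, z.2⟩
  rw [← borel_inf_negBorel D hD F]
  exact Subgroup.mem_inf.mpr ⟨h3, h4⟩

/-- conjugation by an element of `H` stabilises `U` and `V` -/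
theorem conj_diag_mem_autUV (h : GL D.Idx F) (hh : h ∈ D.diagonalSubgroup F) :
    (MulAut.conj (⟨h, diagonal_le_group D hD F hh⟩ : ↥(D.group F)) : MulAut ↥(D.group F)) ∈ autUV D F :=
  ⟨stab_conj _ _ (diagonalSubgroup_le_normalizer_posUnipotent D hD F hh),
    stab_conj _ _ (diagonalSubgroup_le_normalizer_negUnipotent D hD F hh)⟩

/-- an element of `H` centralising the group is trivial -/
theorem diag_eq_of_conj_eq (h h' : GL D.Idx F) (hh : h ∈ D.diagonalSubgroup F)
    (hh' : h' ∈ D.diagonalSubgroup F)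
    (he : ∀ (r : ℕ) (_ : r < D.nroots), h * xGL D hD F r 1 * h⁻¹ = h' * xGL D hD F r 1 * h'⁻¹) :
    h = h' := by
  obtain ⟨χ, hχ, hm⟩ := mem_diagonalSubgroup_char D hD F h hh
  obtain ⟨χ', hχ', hm'⟩ := mem_diagonalSubgroup_char D hD F h' hh'
  apply Units.ext
  rw [hm, hm']
  unfold diagChar
  congr 1
  funext x
  rcases x with j | s
  · rfl
  · simp only [Sum.elim_inr]
    have := he s.val s.isLt
    rw [diagGL_xGL_comm D hD F h χ hχ hm, diagGL_xGL_comm D hD F h' χ' hχ' hm'] at this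
    have h2 : xGL D hD F s.val (χ s.val * 1) = xGL D hD F s.val (χ' s.val * 1) := by
      have e1 : xGL D hD F s.val (χ s.val * 1) * h * h⁻¹ = xGL D hD F s.val (χ s.val * 1) := by group
      have e2 : xGL D hD F s.val (χ' s.val * 1) * h' * h'⁻¹ = xGL D hD F s.val (χ' s.val * 1) := by group
      rw [← e1, ← e2, this]
    have := xGL_param_inj D hD F s.val s.isLt _ _ h2
    rwa [mul_one, mul_one] at this

/-- the kernel of the map to the outer automorphism group has the order of `H` -/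
theorem card_ker_outMap : Nat.card ↥(outMap D F).ker = Nat.card ↥(D.diagonalSubgroup F) := by
  have hker : ∀ h : ↥(D.diagonalSubgroup F),
      (⟨MulAut.conj (⟨h.1, diagonal_le_group D hD F h.2⟩ : ↥(D.group F)),
        conj_diag_mem_autUV D hD F h.1 h.2⟩ : ↥(autUV D F)) ∈ (outMap D F).ker := by
    intro h
    rw [MonoidHom.mem_ker]
    show (QuotientGroup.mk (MulAut.conj (⟨h.1, diagonal_le_group D hD F h.2⟩ : ↥(D.group F))) :
      Cfsg.Out ↥(D.group F)) = 1
    rw [QuotientGroup.eq_one_iff]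
    exact ⟨_, rfl⟩
  let φ : ↥(D.diagonalSubgroup F) → ↥(outMap D F).ker := fun h => ⟨_, hker h⟩
  have hinj : Function.Injective φ := by
    intro h h' he
    have h1 : (MulAut.conj (⟨h.1, diagonal_le_group D hD F h.2⟩ : ↥(D.group F)) :
        MulAut ↥(D.group F)) = MulAut.conj (⟨h'.1, diagonal_le_group D hD F h'.2⟩ : ↥(D.group F)) := by
      have := congrArg (fun x : ↥(outMap D F).ker => ((x : ↥(autUV D F)) : MulAut ↥(D.group F))) he
      exact this
    apply Subtype.ext
    apply diag_eq_of_conj_eq D hD F h.1 h'.1 h.2 h'.2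
    intro r hr
    have h2 := congrArg (fun θ : MulAut ↥(D.group F) => ((θ (xG D hD F r 1) : ↥(D.group F)) :
      GL D.Idx F)) h1
    exact h2
  have hsurj : Function.Surjective φ := by
    rintro ⟨⟨θ, hθ⟩, hk⟩
    rw [MonoidHom.mem_ker] at hk
    have h1 : (QuotientGroup.mk θ : Cfsg.Out ↥(D.group F)) = 1 := hk
    rw [QuotientGroup.eq_one_iff] at h1
    obtain ⟨z, hz⟩ := h1
    have hz' : (MulAut.conj z : MulAut ↥(D.group F)) = θ := hz
    rw [← hz'] at hθ
    have hzH := mem_diagonal_of_stab_conj D hD F z hθ.1 hθ.2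
    refine ⟨⟨(z : GL D.Idx F), hzH⟩, ?_⟩
    apply Subtype.ext
    apply Subtype.ext
    show (MulAut.conj (⟨(z : GL D.Idx F), _⟩ : ↥(D.group F)) : MulAut ↥(D.group F)) = θ
    rw [← hz']
  exact (Nat.card_congr (Equiv.ofBijective φ ⟨hinj, hsurj⟩)).symm

/-- `|Aut_{U,V}| = |Out| |H|` -/
theorem card_autUV [Fintype F] (p : ℕ) [Fact p.Prime] [CharP F p] :
    Nat.card ↥(autUV D F) =
      Nat.card (Cfsg.Out ↥(D.group F)) * Nat.card ↥(D.diagonalSubgroup F) := by
  rw [Subgroup.card_eq_card_quotient_mul_card_subgroup (outMap D F).ker, card_ker_outMap D hD F,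
    Nat.card_congr (QuotientGroup.quotientKerEquivOfSurjective (outMap D F)
      (outMap_surjective D hD F p)).toEquiv]

end

end Cfsg.Agent.Lib.Lead.Stein
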