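import Cfsg.Agent.Lib.Lead.SteinM

/-! Simply laced Chevalley groups: the automorphisms stabilising `U` and `V` are the products of a
diagonal, a graph and a field automorphism, and the order of the outer automorphism group (lead). -/

set_option autoImplicit false

namespace Cfsg.Agent.Lib.Lead.Stein

open Cfsg Cfsg.Lie Matrix Cfsg.Agent.Lib.Helper7 Cfsg.Agent.Lib.Helper3.BN Cfsg.Agent.Lib.Helper11
open Cfsg.Agent.Lib.Lead.ChevCent Cfsg.Agent.Lib.Lead.ChevFix

/-- a complete family of graph automorphisms -/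
structure GraphData (D : ChevalleyDatum)
    (hD : D ∈ [chevG2, chevB2, chevD4, chevF4, chevE6, chevE7, chevE8]) (F : Type*) [Field F] where
  Γ : Type
  perm : Γ → ℕ → ℕ
  γ : Γ → (↥(D.group F) ≃* ↥(D.group F))
  perm_lt : ∀ a, ∀ k < D.rank, perm a k < D.rank
  perm_inj : ∀ a, ∀ k < D.rank, ∀ k' < D.rank, perm a k = perm a k' → k = k'
  γ_pos : ∀ a, ∀ k < D.rank, ∀ t : F,
    γ a (xG D hD F (D.simple k) t) = xG D hD F (D.simple (perm a k)) t
  γ_neg : ∀ a, ∀ k < D.rank, ∀ t : F,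
    γ a (xG D hD F (D.neg (D.simple k)) t) = xG D hD F (D.neg (D.simple (perm a k))) t
  γ_mem : ∀ a, γ a ∈ autUV D F
  ext : ∀ a b, (∀ k < D.rank, perm a k = perm b k) → a = b
  complete : ∀ ρ : ℕ → ℕ, (∀ k < D.rank, ρ k < D.rank) →
    (∀ i < D.rank, ∀ j < D.rank, ρ i = ρ j → i = j) →
    (∀ i < D.rank, ∀ j < D.rank, i ≠ j → D.bonds (ρ i) (ρ j) = D.bonds i j) →
    ∃ a, ∀ k < D.rank, perm a k = ρ k

section
variable (D : ChevalleyDatum) (hD : D ∈ [chevG2, chevB2, chevD4, chevF4, chevE6, chevE7, chevE8])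
variable (F : Type*) [Field F]

/-- a chosen character with given values on the fundamental roots -/
noncomputable def chiOf (c : Fin D.rank → Fˣ) : ℕ → F := Classical.choose (exists_chainChar D hD F c)

theorem chiOf_chainChar (c : Fin D.rank → Fˣ) : ChainChar D F (chiOf D hD F c) :=
  (Classical.choose_spec (exists_chainChar D hD F c)).1

theorem chiOf_simple (c : Fin D.rank → Fˣ) (k : ℕ) (hk : k < D.rank) :
    chiOf D hD F c (D.simple k) = ((c ⟨k, hk⟩ : Fˣ) : F) :=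
  (Classical.choose_spec (exists_chainChar D hD F c)).2 ⟨k, hk⟩

theorem chiOf_neg_simple (c : Fin D.rank → Fˣ) (k : ℕ) (hk : k < D.rank) :
    chiOf D hD F c (D.neg (D.simple k)) = (((c ⟨k, hk⟩ : Fˣ) : F))⁻¹ := by
  have hF := fundFacts_of_mem D hD k hk
  rw [(chiOf_chainChar D hD F c).negC _ hF.hp hF.hpb, chiOf_simple D hD F c k hk]

variable {D hD F}

theorem GraphData.perm_surj (GD : GraphData D hD F) (a : GD.Γ) (m : ℕ) (hm : m < D.rank) :
    ∃ k < D.rank, GD.perm a k = m := by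
  let pF : Fin D.rank → Fin D.rank := fun k => ⟨GD.perm a k, GD.perm_lt a k k.isLt⟩
  have hinj : Function.Injective pF := by
    intro k k' h
    exact Fin.ext (GD.perm_inj a k k.isLt k' k'.isLt (Fin.mk.inj_iff.mp h))
  obtain ⟨k, hk⟩ := Finite.injective_iff_surjective.mp hinj ⟨m, hm⟩
  exact ⟨k.val, k.isLt, Fin.mk.inj_iff.mp hk⟩

/-- the product of a diagonal, a graph and a field automorphism -/
noncomputable def GraphData.prodAut (GD : GraphData D hD F) (x : (Fin D.rank → Fˣ) × GD.Γ × (F ≃+* F)) :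
    ↥(autUV D F) :=
  ⟨(diagAut D hD F (chiOf D hD F x.1) (chiOf_chainChar D hD F x.1) : MulAut ↥(D.group F)) *
      (GD.γ x.2.1 * (phiOf D x.2.2 : MulAut ↥(D.group F))),
    Subgroup.mul_mem _ ⟨diagAut_stab_pos D hD F _ _, diagAut_stab_neg D hD F _ _⟩
      (Subgroup.mul_mem _ (GD.γ_mem x.2.1) ⟨phiOf_stab_pos D x.2.2, phiOf_stab_neg D x.2.2⟩)⟩

theorem GraphData.prodAut_pos (GD : GraphData D hD F) (x : (Fin D.rank → Fˣ) × GD.Γ × (F ≃+* F))
    (k : ℕ) (hk : k < D.rank) (t : F) :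
    (GD.prodAut x : MulAut ↥(D.group F)) (xG D hD F (D.simple k) t) =
      xG D hD F (D.simple (GD.perm x.2.1 k))
        (((x.1 ⟨GD.perm x.2.1 k, GD.perm_lt x.2.1 k hk⟩ : Fˣ) : F) * x.2.2 t) := by
  show diagAut D hD F _ _ (GD.γ x.2.1 (phiOf D x.2.2 (xG D hD F (D.simple k) t))) = _
  rw [phiOf_xG, GD.γ_pos _ k hk, diagAut_xG, chiOf_simple D hD F x.1 _ (GD.perm_lt x.2.1 k hk)]

theorem GraphData.prodAut_neg (GD : GraphData D hD F) (x : (Fin D.rank → Fˣ) × GD.Γ × (F ≃+* F))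
    (k : ℕ) (hk : k < D.rank) (t : F) :
    (GD.prodAut x : MulAut ↥(D.group F)) (xG D hD F (D.neg (D.simple k)) t) =
      xG D hD F (D.neg (D.simple (GD.perm x.2.1 k)))
        ((((x.1 ⟨GD.perm x.2.1 k, GD.perm_lt x.2.1 k hk⟩ : Fˣ) : F))⁻¹ * x.2.2 t) := by
  show diagAut D hD F _ _ (GD.γ x.2.1 (phiOf D x.2.2 (xG D hD F (D.neg (D.simple k)) t))) = _
  rw [phiOf_xG, GD.γ_neg _ k hk, diagAut_xG, chiOf_neg_simple D hD F x.1 _ (GD.perm_lt x.2.1 k hk)]

include hD in
theorem GraphData.prodAut_injective (GD : GraphData D hD F) (hrank : 0 < D.rank) :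
    Function.Injective GD.prodAut := by
  rintro ⟨c, a, σ⟩ ⟨c', a', σ'⟩ he
  have he' : ∀ (k : ℕ) (hk : k < D.rank) (t : F),
      xG D hD F (D.simple (GD.perm a k)) (((c ⟨GD.perm a k, GD.perm_lt a k hk⟩ : Fˣ) : F) * σ t) =
      xG D hD F (D.simple (GD.perm a' k)) (((c' ⟨GD.perm a' k, GD.perm_lt a' k hk⟩ : Fˣ) : F) * σ' t) := by
    intro k hk t
    have h1 := GD.prodAut_pos (c, a, σ) k hk t
    have h2 := GD.prodAut_pos (c', a', σ') k hk t
    rw [he] at h1
    rw [← h1, ← h2]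
  have hperm : ∀ k < D.rank, GD.perm a k = GD.perm a' k := by
    intro k hk
    have h1 := congrArg Subtype.val (he' k hk 1)
    rw [coe_xG, coe_xG] at h1
    have h2 := xGL_root_inj D hD F _ _ (simple_lt D hD _ (GD.perm_lt a k hk))
      (simple_lt D hD _ (GD.perm_lt a' k hk)) _ _
      (by rw [map_one, mul_one]; exact Units.ne_zero _) h1
    exact simple_inj D hD _ _ (GD.perm_lt a k hk) (GD.perm_lt a' k hk) h2
  have haa : a = a' := GD.ext a a' hperm
  subst haa
  have hval : ∀ (k : ℕ) (hk : k < D.rank) (t : F),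
      ((c ⟨GD.perm a k, GD.perm_lt a k hk⟩ : Fˣ) : F) * σ t =
        ((c' ⟨GD.perm a k, GD.perm_lt a k hk⟩ : Fˣ) : F) * σ' t := by
    intro k hk t
    exact xG_inj D hD F _ (simple_lt D hD _ (GD.perm_lt a k hk)) _ _ (he' k hk t)
  have hcc : c = c' := by
    funext m
    obtain ⟨k, hk, hkm⟩ := GD.perm_surj a m.val m.isLt
    have := hval k hk 1
    rw [map_one, map_one, mul_one, mul_one] at this
    have e : (⟨GD.perm a k, GD.perm_lt a k hk⟩ : Fin D.rank) = m := Fin.ext hkm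
    rw [e] at this
    exact Units.ext this
  subst hcc
  have hσ : σ = σ' := by
    ext t
    have := hval 0 hrank t
    exact mul_left_cancel₀ (Units.ne_zero _) this
  subst hσ
  rfl

include hD in
theorem GraphData.prodAut_surjective (GD : GraphData D hD F) (hSL : SimplyLaced D)
    (hconn : connB D = true) : Function.Surjective GD.prodAut := by
  rintro ⟨θ, hU, hV⟩
  obtain ⟨ρ, f, g, hFD⟩ := exists_fundData D hD F θ hU hV
  obtain ⟨a, ha⟩ := GD.complete ρ hFD.lt (fun i hi j hj => hFD.inj i j hi hj)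
    (fun i hi j hj hij => hFD.bonds_eq hSL i j hi hj hij)
  obtain ⟨σ, hσ⟩ := hFD.exists_field hSL hconn hU hV
  have hc : ∀ k < D.rank, f k 1 ≠ 0 := fun k hk => (hFD.pos k hk).ne_zero 1 one_ne_zero
  -- the inverse permutation
  have hex : ∀ m : Fin D.rank, ∃ k : Fin D.rank, ρ k.val = m.val := by
    intro m
    obtain ⟨k, hk, hkm⟩ := GD.perm_surj a m.val m.isLt
    exact ⟨⟨k, hk⟩, by rw [← ha k hk]; exact hkm⟩
  choose inv hinv using hex
  let c : Fin D.rank → Fˣ := fun m => Units.mk0 (f (inv m).val 1) (hc _ (inv m).isLt)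
  have hcρ : ∀ k (hk : k < D.rank), ((c ⟨ρ k, hFD.lt k hk⟩ : Fˣ) : F) = f k 1 := by
    intro k hk
    have h1 : (inv ⟨ρ k, hFD.lt k hk⟩).val = k :=
      hFD.inj _ _ (inv _).isLt hk (hinv ⟨ρ k, hFD.lt k hk⟩)
    show f (inv ⟨ρ k, hFD.lt k hk⟩).val 1 = f k 1
    rw [h1]
  refine ⟨(c, a, σ), ?_⟩
  apply Subtype.ext
  have heq : ((GD.prodAut (c, a, σ) : MulAut ↥(D.group F)) : ↥(D.group F) ≃* ↥(D.group F)).toMonoidHom =
      θ.toMonoidHom := by
    apply hom_ext_of_fund D hD F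
    · intro j hj t
      show (GD.prodAut (c, a, σ) : MulAut ↥(D.group F)) _ = θ _
      rw [GD.prodAut_pos (c, a, σ) j hj t, (hFD.pos j hj).map, (hσ j hj t).1]
      have e : (⟨GD.perm a j, GD.perm_lt a j hj⟩ : Fin D.rank) = ⟨ρ j, hFD.lt j hj⟩ :=
        Fin.ext (ha j hj)
      show xG D hD F (D.simple (GD.perm a j)) (((c ⟨GD.perm a j, _⟩ : Fˣ) : F) * σ t) = _
      rw [e, hcρ j hj, ha j hj]
    · intro j hj t
      show (GD.prodAut (c, a, σ) : MulAut ↥(D.group F)) _ = θ _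
      rw [GD.prodAut_neg (c, a, σ) j hj t, (hFD.neg j hj).map, (hσ j hj t).2]
      have e : (⟨GD.perm a j, GD.perm_lt a j hj⟩ : Fin D.rank) = ⟨ρ j, hFD.lt j hj⟩ :=
        Fin.ext (ha j hj)
      show xG D hD F (D.neg (D.simple (GD.perm a j))) ((((c ⟨GD.perm a j, _⟩ : Fˣ) : F))⁻¹ * σ t) = _
      rw [e, hcρ j hj, ha j hj]
  refine MulEquiv.ext (fun y => ?_)
  exact congrArg (fun φ : ↥(D.group F) →* ↥(D.group F) => φ y) heq

include hD in
/-- the order of the outer automorphism group of a simply laced Chevalley group -/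
theorem GraphData.card_out [Fintype F] (GD : GraphData D hD F) (p : ℕ) [Fact p.Prime] [CharP F p]
    (hSL : SimplyLaced D) (hconn : connB D = true) :
    Nat.card (Cfsg.Out ↥(D.group F)) * Nat.card ↥(D.diagonalSubgroup F) =
      (Fintype.card F - 1) ^ D.rank * (Nat.card GD.Γ * Nat.card (F ≃+* F)) := by
  have h0 := (conn_of_B D hconn).1
  rw [← card_autUV D hD F p,
    ← Nat.card_congr (Equiv.ofBijective GD.prodAut
      ⟨GD.prodAut_injective h0, GD.prodAut_surjective hSL hconn⟩),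
    Nat.card_prod, Nat.card_prod, Nat.card_fun, Nat.card_units, Nat.card_eq_fintype_card,
    Nat.card_eq_fintype_card, Fintype.card_fin]

end

end Cfsg.Agent.Lib.Lead.Stein
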