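import Cfsg.Agent.Lib.Lead.SteinN

/-! Simply laced types without diagram symmetries: the trivial family of graph automorphisms, and the
order of the outer automorphism group (lead). -/

set_option autoImplicit false

namespace Cfsg.Agent.Lib.Lead.Stein

open Cfsg Cfsg.Lie Matrix Cfsg.Agent.Lib.Helper7 Cfsg.Agent.Lib.Helper3.BN Cfsg.Agent.Lib.Helper11
open Cfsg.Agent.Lib.Lead.ChevCent Cfsg.Agent.Lib.Lead.ChevFix

section
variable (D : ChevalleyDatum) (hD : D ∈ [chevG2, chevB2, chevD4, chevF4, chevE6, chevE7, chevE8])
variable (F : Type*) [Field F]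

/-- the trivial family of graph automorphisms, complete when the diagram has no symmetries -/
noncomputable def trivialGraphData (hsym : allExt D [List.range D.rank] D.rank [] = true) :
    GraphData D hD F where
  Γ := Unit
  perm := fun _ k => k
  γ := fun _ => MulEquiv.refl _
  perm_lt := fun _ _ hk => hk
  perm_inj := fun _ _ _ _ _ h => h
  γ_pos := fun _ _ _ _ => rfl
  γ_neg := fun _ _ _ _ => rfl
  γ_mem := fun _ => (autUV D F).one_mem
  ext := fun _ _ _ => rfl
  complete := by
    intro ρ hlt hinj hb
    refine ⟨(), ?_⟩
    have h1 := allExt_spec D [List.range D.rank] ρ hlt hinj hb D.rank 0 (by omega) (by simpa using hsym)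
    rw [List.mem_singleton] at h1
    intro k hk
    have h2 := getD_map_range ρ D.rank k hk
    rw [h1] at h2
    rw [← h2, List.getD_eq_getElem _ _ (by simpa using hk), List.getElem_range]

include hD in
/-- simply laced, no diagram symmetries: `|Out| |H| = (q-1)^l f` -/
theorem card_out_mul_of_trivial [Fintype F] (p : ℕ) [Fact p.Prime] [CharP F p] (hSL : SimplyLaced D)
    (hconn : connB D = true) (hsym : allExt D [List.range D.rank] D.rank [] = true) :
    Nat.card (Cfsg.Out ↥(D.group F)) * Nat.card ↥(D.diagonalSubgroup F) =
      (Fintype.card F - 1) ^ D.rank * Nat.card (F ≃+* F) := by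
  have := (trivialGraphData D hD F hsym).card_out p hSL hconn
  rw [this]
  show _ * (Nat.card Unit * _) = _
  rw [Nat.card_unique, one_mul]

end

end Cfsg.Agent.Lib.Lead.Stein
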