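import Cfsg.Agent.Lib.Lead.SteinO
import Cfsg.Agent.Lib.Helper7.ChevDiagSymTab

/-! The graph automorphism of `E₆` and the complete family of graph automorphisms of `E₆` (lead). -/

set_option autoImplicit false
set_option maxRecDepth 100000

namespace Cfsg.Agent.Lib.Lead.Stein

open Cfsg Cfsg.Lie Matrix Cfsg.Agent.Lib.Helper7 Cfsg.Agent.Lib.Helper3.BN Cfsg.Agent.Lib.Helper11
open Cfsg.Agent.Lib.Lead.ChevCent Cfsg.Agent.Lib.Lead.ChevFix

section
variable (D : ChevalleyDatum) (hD : D ∈ [chevG2, chevB2, chevD4, chevF4, chevE6, chevE7, chevE8])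
variable (F : Type*) [Field F]
include hD

/-- conjugation by an element permuting the positive root subgroups preserves `U` -/
theorem conj_mem_posUnipotent_of (x : GL D.Idx F) (a : ℕ → ℕ) (c : ℕ → F → F)
    (hx : ∀ r, D.IsPosRoot r → ∀ t, x * xGL D hD F r t * x⁻¹ = xGL D hD F (a r) (c r t))
    (ha : ∀ r, D.IsPosRoot r → D.IsPosRoot (a r)) (u : GL D.Idx F) (hu : u ∈ D.posUnipotent F) :
    x * u * x⁻¹ ∈ D.posUnipotent F := by
  unfold ChevalleyDatum.posUnipotent at hu
  induction hu using Subgroup.closure_induction with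
  | mem u hu =>
    obtain ⟨r, t, hr, hum⟩ := hu
    have : u = xGL D hD F r t := Units.ext (by rw [hum, coe_xGL])
    rw [this, hx r hr t]
    exact xGL_pos_mem D hD F _ (ha r hr) _
  | one => simpa using Subgroup.one_mem _
  | mul a b _ _ iha ihb =>
    have : x * (a * b) * x⁻¹ = (x * a * x⁻¹) * (x * b * x⁻¹) := by group
    rw [this]
    exact Subgroup.mul_mem _ iha ihb
  | inv a _ iha =>
    have : x * a⁻¹ * x⁻¹ = (x * a * x⁻¹)⁻¹ := by group
    rw [this]
    exact Subgroup.inv_mem _ iha

/-- conjugation by an element permuting the negative root subgroups preserves `V` -/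
theorem conj_mem_negUnipotent_of (x : GL D.Idx F) (a : ℕ → ℕ) (c : ℕ → F → F)
    (hx : ∀ r, D.IsNegRoot r → ∀ t, x * xGL D hD F r t * x⁻¹ = xGL D hD F (a r) (c r t))
    (ha : ∀ r, D.IsNegRoot r → D.IsNegRoot (a r)) (u : GL D.Idx F) (hu : u ∈ D.negUnipotent F) :
    x * u * x⁻¹ ∈ D.negUnipotent F := by
  unfold ChevalleyDatum.negUnipotent at hu
  induction hu using Subgroup.closure_induction with
  | mem u hu =>
    obtain ⟨r, t, hr, hum⟩ := hu
    have : u = xGL D hD F r t := Units.ext (by rw [hum, coe_xGL])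
    rw [this, hx r hr t]
    exact xGL_neg_mem D hD F _ (ha r hr) _
  | one => simpa using Subgroup.one_mem _
  | mul a b _ _ iha ihb =>
    have : x * (a * b) * x⁻¹ = (x * a * x⁻¹) * (x * b * x⁻¹) := by group
    rw [this]
    exact Subgroup.mul_mem _ iha ihb
  | inv a _ iha =>
    have : x * a⁻¹ * x⁻¹ = (x * a * x⁻¹)⁻¹ := by group
    rw [this]
    exact Subgroup.inv_mem _ iha

end

/-- table check: the root permutation and its inverse preserve positivity and negativity -/
def graphPosB (D : ChevalleyDatum) (ρ ρ' : List ℕ) : Bool :=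
  (List.range D.nroots).all fun s =>
    (!decide (D.IsPosRoot s) || (decide (D.IsPosRoot (ρ.getD s 0)) && decide (D.IsPosRoot (ρ'.getD s 0)))) &&
    (!decide (D.IsNegRoot s) || (decide (D.IsNegRoot (ρ.getD s 0)) && decide (D.IsNegRoot (ρ'.getD s 0))))

theorem graphPos_of_B (D : ChevalleyDatum) (ρ ρ' : List ℕ) (h : graphPosB D ρ ρ' = true) :
    (∀ s, D.IsPosRoot s → D.IsPosRoot (ρ.getD s 0) ∧ D.IsPosRoot (ρ'.getD s 0)) ∧
    (∀ s, D.IsNegRoot s → D.IsNegRoot (ρ.getD s 0) ∧ D.IsNegRoot (ρ'.getD s 0)) := by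
  unfold graphPosB at h
  simp only [List.all_eq_true, List.mem_range, Bool.and_eq_true, Bool.or_eq_true, Bool.not_eq_true',
    decide_eq_false_iff_not, decide_eq_true_eq] at h
  constructor
  · intro s hs
    rcases (h s hs.1).1 with h1 | h1
    · exact absurd hs h1
    · exact h1
  · intro s hs
    rcases (h s hs.1).2 with h1 | h1
    · exact absurd hs h1
    · exact h1

section
variable (D : ChevalleyDatum) (hD : D ∈ [chevG2, chevB2, chevD4, chevF4, chevE6, chevE7, chevE8])
variable (F : Type*) [Field F]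
variable (pv pv' ρ ρ' : List ℕ) (ε : List ℤ) (hOK : graphOKB D pv pv' ρ ρ' ε = true)
  (hS : graphSimpleB D pv ρ ε = true) (hP : graphPosB D ρ ρ' = true)

/-- the graph automorphism of a table certificate -/
noncomputable def graphAutL : ↥(D.group F) ≃* ↥(D.group F) :=
  graphAut D hD _ _ _ _ _ (graphFacts_of_graphOKB D pv pv' ρ ρ' ε hOK) F

include hP in
theorem graphAutL_mem_autUV : (graphAutL D hD F pv pv' ρ ρ' ε hOK : MulAut ↥(D.group F)) ∈ autUV D F := by
  have hG := graphFacts_of_graphOKB D pv pv' ρ ρ' ε hOK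
  obtain ⟨hpos, hneg⟩ := graphPos_of_B D ρ ρ' hP
  set T := gGL D _ _ _ _ _ hG F with hT
  have hcoe : ∀ g : ↥(D.group F), ((graphAutL D hD F pv pv' ρ ρ' ε hOK g : ↥(D.group F)) : GL D.Idx F) =
      T * (g : GL D.Idx F) * T⁻¹ := fun _ => rfl
  have h1 : ∀ r, r < D.nroots → ∀ t : F, T * xGL D hD F r t * T⁻¹ =
      xGL D hD F (ρ.getD r 0) (((ε.getD r 0 : ℤ) : F) * t) :=
    fun r hr t => gGL_conj_xGL D hD _ _ _ _ _ hG F r hr t
  have h2 : ∀ r, r < D.nroots → ∀ t : F, T⁻¹ * xGL D hD F r t * T⁻¹⁻¹ =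
      xGL D hD F (ρ'.getD r 0) (((ε.getD (ρ'.getD r 0) 0 : ℤ) : F) * t) := by
    intro r hr t
    rw [inv_inv]
    exact gGL_inv_conj_xGL D hD _ _ _ _ _ hG F r hr t
  constructor
  · intro g
    rw [hcoe]
    constructor
    · intro h
      have := conj_mem_posUnipotent_of D hD F T⁻¹ (fun r => ρ'.getD r 0)
        (fun r t => ((ε.getD (ρ'.getD r 0) 0 : ℤ) : F) * t) (fun r hr t => h2 r hr.1 t)
        (fun r hr => (hpos r hr).2) _ h
      have e : T⁻¹ * (T * (g : GL D.Idx F) * T⁻¹) * T⁻¹⁻¹ = (g : GL D.Idx F) := by group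
      rwa [e] at this
    · intro h
      exact conj_mem_posUnipotent_of D hD F T (fun r => ρ.getD r 0)
        (fun r t => ((ε.getD r 0 : ℤ) : F) * t) (fun r hr t => h1 r hr.1 t)
        (fun r hr => (hpos r hr).1) _ h
  · intro g
    rw [hcoe]
    constructor
    · intro h
      have := conj_mem_negUnipotent_of D hD F T⁻¹ (fun r => ρ'.getD r 0)
        (fun r t => ((ε.getD (ρ'.getD r 0) 0 : ℤ) : F) * t) (fun r hr t => h2 r hr.1 t)
        (fun r hr => (hneg r hr).2) _ h
      have e : T⁻¹ * (T * (g : GL D.Idx F) * T⁻¹) * T⁻¹⁻¹ = (g : GL D.Idx F) := by group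
      rwa [e] at this
    · intro h
      exact conj_mem_negUnipotent_of D hD F T (fun r => ρ.getD r 0)
        (fun r t => ((ε.getD r 0 : ℤ) : F) * t) (fun r hr t => h1 r hr.1 t)
        (fun r hr => (hneg r hr).1) _ h

include hS in
theorem graphAutL_simple (i : ℕ) (hi : i < D.rank) (t : F) :
    graphAutL D hD F pv pv' ρ ρ' ε hOK (xG D hD F (D.simple i) t) =
      xG D hD F (D.simple (pv.getD i 0)) t ∧
    graphAutL D hD F pv pv' ρ ρ' ε hOK (xG D hD F (D.neg (D.simple i)) t) =
      xG D hD F (D.neg (D.simple (pv.getD i 0))) t := by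
  have hG := graphFacts_of_graphOKB D pv pv' ρ ρ' ε hOK
  have hx := graphAut_x D hD _ _ _ _ _ hG F
  unfold graphSimpleB at hS
  rw [List.all_eq_true] at hS
  have hi' := hS i (List.mem_range.mpr hi)
  simp only [Bool.and_eq_true, beq_iff_eq] at hi'
  obtain ⟨⟨⟨e1, e2⟩, e3⟩, e4⟩ := hi'
  have hF := fundFacts_of_mem D hD i hi
  constructor
  · apply eq_xG_of_coe
    have := hx (xG D hD F (D.simple i) t) (D.simple i) hF.hp t (coe_coe_xG D hD F _ _)
    simp only [e1, e2, Int.cast_one, one_mul] at this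
    exact this
  · apply eq_xG_of_coe
    have := hx (xG D hD F (D.neg (D.simple i)) t) (D.neg (D.simple i)) hF.hpb t (coe_coe_xG D hD F _ _)
    simp only [e3, e4, Int.cast_one, one_mul] at this
    exact this

end

theorem graphPosB_E6_1 : graphPosB chevE6 grRho_E6_1 grRhoInv_E6_1 = true := by decide +kernel

theorem hD_E6 : chevE6 ∈ [chevG2, chevB2, chevD4, chevF4, chevE6, chevE7, chevE8] := by simp

/-- the complete family of graph automorphisms of `E₆` -/
noncomputable def graphDataE6 (F : Type*) [Field F] : GraphData chevE6 hD_E6 F where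
  Γ := Bool
  perm := fun b k => if b then grPv_E6_1.getD k 0 else k
  γ := fun b => if b then graphAutL chevE6 hD_E6 F _ _ _ _ _ graphOKB_E6_1 else MulEquiv.refl _
  perm_lt := by
    intro b k hk
    cases b
    · exact hk
    · exact (graphFacts_of_graphOKB _ _ _ _ _ _ graphOKB_E6_1).pvlt k hk
  perm_inj := by
    intro b k hk k' hk' h
    cases b
    · exact h
    · have hG := graphFacts_of_graphOKB _ _ _ _ _ _ graphOKB_E6_1
      have h1 := hG.pvinv k hk
      have h2 := hG.pvinv k' hk'
      simp only [if_true] at h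
      rw [← h1, ← h2, h]
  γ_pos := by
    intro b k hk t
    cases b
    · rfl
    · exact (graphAutL_simple chevE6 hD_E6 F _ _ _ _ _ graphOKB_E6_1 graphSimpleB_E6_1 k hk t).1
  γ_neg := by
    intro b k hk t
    cases b
    · rfl
    · exact (graphAutL_simple chevE6 hD_E6 F _ _ _ _ _ graphOKB_E6_1 graphSimpleB_E6_1 k hk t).2
  γ_mem := by
    intro b
    cases b
    · exact (autUV chevE6 F).one_mem
    · exact graphAutL_mem_autUV chevE6 hD_E6 F _ _ _ _ _ graphOKB_E6_1 graphPosB_E6_1
  ext := by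
    intro a b h
    cases a <;> cases b
    · rfl
    · exfalso
      have := h 0 (by decide)
      simp only [if_true] at this
      revert this
      decide
    · exfalso
      have := h 0 (by decide)
      simp only [if_true] at this
      revert this
      decide
    · rfl
  complete := by
    intro ρ hlt hinj hb
    have h1 := allExt_spec chevE6 [grPv_E6_0, grPv_E6_1] ρ hlt hinj hb chevE6.rank 0 (by omega)
      (by simpa using symAll_E6)
    simp only [List.mem_cons, List.not_mem_nil, or_false] at h1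
    rcases h1 with h1 | h1
    · refine ⟨false, ?_⟩
      intro k hk
      have h2 := getD_map_range ρ chevE6.rank k hk
      rw [h1] at h2
      show k = ρ k
      rw [← h2]
      have hk' : k < 6 := hk
      interval_cases k <;> rfl
    · refine ⟨true, ?_⟩
      intro k hk
      have h2 := getD_map_range ρ chevE6.rank k hk
      rw [h1] at h2
      show grPv_E6_1.getD k 0 = ρ k
      rw [← h2]

theorem card_graphDataE6 (F : Type*) [Field F] : Nat.card (graphDataE6 F).Γ = 2 := by
  show Nat.card Bool = 2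
  rw [Nat.card_eq_fintype_card, Fintype.card_bool]

end Cfsg.Agent.Lib.Lead.Stein
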