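import Cfsg.Agent.Lib.Lead.SteinP
import Cfsg.Agent.Lib.Helper11.ChevSL2

/-! Automorphisms of a Chevalley group stabilising `U` and `V`: action on all root subgroups through the
Weyl group, and transfer of the commutator formula (lead). -/

set_option autoImplicit false

namespace Cfsg.Agent.Lib.Lead.Stein

open Cfsg Cfsg.Lie Matrix Cfsg.Agent.Lib.Helper7 Cfsg.Agent.Lib.Helper3.BN Cfsg.Agent.Lib.Helper11
open Cfsg.Agent.Lib.Helper11.ChevSL2

section
variable {D : ChevalleyDatum} {F : Type*} [Field F]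

/-- transport of `Maps` along a conjugation -/
theorem Maps.conj {θ : ↥(D.group F) ≃* ↥(D.group F)} {A B : Subgroup (GL D.Idx F)}
    (h : Maps D F θ A B) (x : ↥(D.group F)) :
    Maps D F θ (A.map (MulAut.conj (x : GL D.Idx F)).toMonoidHom)
      (B.map (MulAut.conj ((θ x : ↥(D.group F)) : GL D.Idx F)).toMonoidHom) := by
  have h1 : Maps D F (MulAut.conj x).symm (A.map (MulAut.conj (x : GL D.Idx F)).toMonoidHom) A :=
    (maps_conj x A).symm
  have h3 := maps_conj (θ x) B
  have h4 := h1.trans (h.trans h3)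
  have e : (MulEquiv.trans (MulAut.conj x).symm (MulEquiv.trans θ (MulAut.conj (θ x)))) = θ := by
    apply MulEquiv.ext
    intro g
    simp only [MulEquiv.trans_apply, MulAut.conj_symm_apply, MulAut.conj_apply, map_mul, map_inv]
    group
  rw [e] at h4
  exact h4

end

section
variable (D : ChevalleyDatum) (hD : D ∈ [chevG2, chevB2, chevD4, chevF4, chevE6, chevE7, chevE8])
variable (F : Type*) [Field F]
include hD

/-- conjugation by `n` maps `X_s` onto `X_{s'}` when it does so on the root elements -/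
theorem rootSubgroup_map_conj_of (n : GL D.Idx F) (s s' : ℕ) (κ : F) (hκ : κ ≠ 0)
    (h : ∀ t : F, n * xGL D hD F s t * n⁻¹ = xGL D hD F s' (κ * t)) :
    (D.rootSubgroup F s).map (MulAut.conj n).toMonoidHom = D.rootSubgroup F s' := by
  ext g
  rw [mem_rootSubgroup_iff D hD F]
  constructor
  · rintro ⟨g', hg', rfl⟩
    have hg'' : g' ∈ D.rootSubgroup F s := hg'
    rw [mem_rootSubgroup_iff D hD F] at hg''
    obtain ⟨t, rfl⟩ := hg''
    exact ⟨κ * t, h t⟩
  · rintro ⟨t, rfl⟩
    refine ⟨xGL D hD F s (κ⁻¹ * t), (mem_rootSubgroup_iff D hD F _ _).mpr ⟨_, rfl⟩, ?_⟩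
    show n * xGL D hD F s (κ⁻¹ * t) * n⁻¹ = _
    rw [h, ← mul_assoc, mul_inv_cancel₀ hκ, one_mul]

/-- conjugation by `n_p(c)` maps `X_s` onto `X_{w_p s}` -/
theorem rootSubgroup_map_conj_nGL (j : ℕ) (hj : j < D.rank) (c : F) (hc : c ≠ 0) (s : ℕ)
    (hs : s < D.nroots) :
    (D.rootSubgroup F s).map (MulAut.conj (wordGL D hD F (D.nWord (D.simple j) c))).toMonoidHom =
      D.rootSubgroup F (D.reflectRoot j s) := by
  have hη : ((etaFn D j s : ℤ) : F) * ((etaFn D j s : ℤ) : F) = 1 := eta_sq D hD F j hj s hs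
  have hη0 : ((etaFn D j s : ℤ) : F) ≠ 0 := by
    intro h0; rw [h0, mul_zero] at hη; exact zero_ne_one hη
  apply rootSubgroup_map_conj_of D hD F _ s (D.reflectRoot j s)
    (c ^ (D.cartan j (D.reflectRoot j s)) * ((etaFn D j s : ℤ) : F))
    (mul_ne_zero (zpow_ne_zero _ hc) hη0)
  intro t
  rw [nGL_eq_hGL_mul]
  have e : wordGL D hD F (D.hWord (D.simple j) c) * wordGL D hD F (D.nWord (D.simple j) 1) *
      xGL D hD F s t * (wordGL D hD F (D.hWord (D.simple j) c) * wordGL D hD F (D.nWord (D.simple j) 1))⁻¹ =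
      wordGL D hD F (D.hWord (D.simple j) c) * (wordGL D hD F (D.nWord (D.simple j) 1) *
      xGL D hD F s t * (wordGL D hD F (D.nWord (D.simple j) 1))⁻¹) *
        (wordGL D hD F (D.hWord (D.simple j) c))⁻¹ := by group
  rw [e, nGL_conj_xGL D hD F j hj s hs]
  have := hF_x D hD F j hj (D.reflectRoot j s) c hc (((etaFn D j s : ℤ) : F) * t)
  unfold hF at this
  rw [this, mul_assoc, mul_inv_cancel, mul_one, mul_assoc]

variable {D hD F}

theorem RootParam.toMaps {θ : ↥(D.group F) ≃* ↥(D.group F)} {r s : ℕ} {f : F → F}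
    (h : RootParam D hD F θ r s f) :
    Maps D F θ (D.rootSubgroup F r) (D.rootSubgroup F s) := by
  intro g
  rw [mem_rootSubgroup_iff D hD F, mem_rootSubgroup_iff D hD F]
  constructor
  · rintro ⟨c, hc⟩
    obtain ⟨t, rfl⟩ := h.bij.2 c
    have h1 : θ g = θ (xG D hD F r t) := by
      rw [h.map]; exact Subtype.ext hc
    have h2 := θ.injective h1
    exact ⟨t, by rw [h2]; rfl⟩
  · rintro ⟨t, ht⟩
    have h1 : g = xG D hD F r t := Subtype.ext ht
    exact ⟨f t, by rw [h1, h.map]; rfl⟩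

/-- the image of `n_p` -/
theorem FundData.map_nG {θ : ↥(D.group F) ≃* ↥(D.group F)} {ρ : ℕ → ℕ} {f g : ℕ → F → F}
    (h : FundData D hD F θ ρ f g)
    (hU : Stab D F θ (D.posUnipotent F)) (hV : Stab D F θ (D.negUnipotent F))
    (k : ℕ) (hk : k < D.rank) :
    ((θ (nG D hD F k) : ↥(D.group F)) : GL D.Idx F) =
      wordGL D hD F (D.nWord (D.simple (ρ k)) (f k 1)) := by
  have hrel := h.rel hU hV k hk 1 one_ne_zero
  have hc : f k 1 ≠ 0 := (h.pos k hk).ne_zero 1 one_ne_zero
  have hg1 : g k (-1) = -(f k 1)⁻¹ := by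
    rw [inv_one] at hrel
    field_simp
    linear_combination hrel
  have e1 : nG D hD F k = xG D hD F (D.simple k) 1 * xG D hD F (D.neg (D.simple k)) (-1) *
      xG D hD F (D.simple k) 1 := by
    apply Subtype.ext
    show nFund D hD F k = _
    unfold nFund
    rw [nGL_eq, inv_one]
    rfl
  rw [e1, map_mul, map_mul, (h.pos k hk).map, (h.neg k hk).map, hg1, nGL_eq]
  rfl

/-- the action on root subgroups is compatible with the fundamental reflections -/
theorem FundData.maps_step {θ : ↥(D.group F) ≃* ↥(D.group F)} {ρ : ℕ → ℕ} {f g : ℕ → F → F}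
    (h : FundData D hD F θ ρ f g)
    (hU : Stab D F θ (D.posUnipotent F)) (hV : Stab D F θ (D.negUnipotent F))
    (k : ℕ) (hk : k < D.rank) (s s' : ℕ) (hs : s < D.nroots) (hs' : s' < D.nroots)
    (hm : Maps D F θ (D.rootSubgroup F s) (D.rootSubgroup F s')) :
    Maps D F θ (D.rootSubgroup F (D.reflectRoot k s)) (D.rootSubgroup F (D.reflectRoot (ρ k) s')) := by
  have hc : f k 1 ≠ 0 := (h.pos k hk).ne_zero 1 one_ne_zero
  have h1 := hm.conj (nG D hD F k)
  rw [h.map_nG hU hV k hk, rootSubgroup_map_conj_nGL D hD F (ρ k) (h.lt k hk) (f k 1) hc s' hs'] at h1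
  have h2 : ((nG D hD F k : ↥(D.group F)) : GL D.Idx F) = wordGL D hD F (D.nWord (D.simple k) 1) := rfl
  rw [h2, rootSubgroup_map_conj_nGL D hD F k hk 1 one_ne_zero s hs] at h1
  exact h1

/-- if the permutation of the nodes is trivial then every root subgroup is stabilised -/
theorem FundData.stab_all {θ : ↥(D.group F) ≃* ↥(D.group F)} {ρ : ℕ → ℕ} {f g : ℕ → F → F}
    (h : FundData D hD F θ ρ f g)
    (hU : Stab D F θ (D.posUnipotent F)) (hV : Stab D F θ (D.negUnipotent F))
    (hρ : ∀ k < D.rank, ρ k = k) (r : ℕ) (hr : r < D.nroots) :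
    Maps D F θ (D.rootSubgroup F r) (D.rootSubgroup F r) := by
  obtain ⟨cert, hcert⟩ := exists_reach D hD
  unfold reachAllB at hcert
  rw [List.all_eq_true] at hcert
  have h1 := hcert r (List.mem_range.mpr hr)
  rw [List.contains_iff_mem] at h1
  have key := reachL_induction D
    (fun s => s < D.nroots ∧ Maps D F θ (D.rootSubgroup F s) (D.rootSubgroup F s))
    (fun j hj s hs => by
      have hC := conjFacts_of_mem D hD j hj
      refine ⟨hC.wlt s hs.1, ?_⟩
      have := h.maps_step hU hV j hj s s hs.1 hs.1 hs.2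
      rw [hρ j hj] at this
      exact this) cert _ (by
      intro s hs
      rw [List.mem_map] at hs
      obtain ⟨i, hi, rfl⟩ := hs
      have hi' := List.mem_range.mp hi
      refine ⟨simple_lt D hD i hi', ?_⟩
      have := (h.pos i hi').toMaps
      rw [hρ i hi'] at this
      exact this) r h1
  exact key.2

end

end Cfsg.Agent.Lib.Lead.Stein
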