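import Cfsg.Agent.Lib.Lead.SteinQ
import Cfsg.Agent.Lib.Helper7.ChevOrd3

/-! Automorphisms of a Chevalley group stabilising `U` and `V`: transfer of the commutator formula of two
fundamental roots, and comparison of the leading terms (lead). -/

set_option autoImplicit false

namespace Cfsg.Agent.Lib.Lead.Stein

open Cfsg Cfsg.Lie Matrix Cfsg.Agent.Lib.Helper7 Cfsg.Agent.Lib.Helper3.BN Cfsg.Agent.Lib.Helper11

section
variable (D : ChevalleyDatum) (hD : D ∈ [chevG2, chevB2, chevD4, chevF4, chevE6, chevE7, chevE8])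
variable (F : Type*) [Field F]
include hD

theorem wordGL_cons (p : ℕ × F) (w : List (ℕ × F)) :
    wordGL D hD F (p :: w) = xGL D hD F p.1 p.2 * wordGL D hD F w := by
  unfold wordGL
  rw [List.map_cons, List.prod_cons]

theorem wordGL_nil : wordGL D hD F ([] : List (ℕ × F)) = 1 := rfl

/-- a word in root elements as an element of the group -/
noncomputable def wordG (w : List (ℕ × F)) : ↥(D.group F) :=
  ⟨wordGL D hD F w, wordGL_mem_group D hD F w⟩

theorem wordG_cons (p : ℕ × F) (w : List (ℕ × F)) :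
    wordG D hD F (p :: w) = xG D hD F p.1 p.2 * wordG D hD F w :=
  Subtype.ext (wordGL_cons D hD F p w)

theorem wordG_nil : wordG D hD F ([] : List (ℕ × F)) = 1 := rfl

omit hD in
/-- the upper segment of the positive roots above a positive root -/
theorem goodL_filter (k : ℕ) (hk : D.IsPosRoot k) :
    GoodL D (k :: D.posRoots.filter (fun s => decide (k < s))) := by
  have hG := goodL_posRoots D
  refine ⟨?_, ?_, ?_⟩
  · rw [List.pairwise_cons]
    refine ⟨?_, List.Pairwise.filter _ hG.sorted⟩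
    intro s hs
    rw [List.mem_filter] at hs
    exact of_decide_eq_true hs.2
  · intro r hr
    rcases List.mem_cons.mp hr with rfl | hr
    · exact hk
    · exact hG.pos r (List.mem_filter.mp hr).1
  · intro r hr s hs hrs
    apply List.mem_cons_of_mem
    rw [List.mem_filter]
    refine ⟨(mem_posRoots D s).mpr hs, decide_eq_true ?_⟩
    rcases List.mem_cons.mp hr with rfl | hr
    · exact hrs
    · have := of_decide_eq_true (List.mem_filter.mp hr).2
      omega

theorem rootSubgroup_le_closure_gensL (l : List ℕ) (m : ℕ) (hm : m ∈ l) :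
    D.rootSubgroup F m ≤ Subgroup.closure (gensL D F l) := by
  intro g hg
  rw [mem_rootSubgroup_iff D hD F] at hg
  obtain ⟨t, rfl⟩ := hg
  apply Subgroup.subset_closure
  exact ⟨m, hm, t, coe_xGL D hD F _ _⟩

theorem wordGL_mem_closure_gensL (l : List ℕ) (w : List (ℕ × F)) (hw : ∀ p ∈ w, p.1 ∈ l) :
    wordGL D hD F w ∈ Subgroup.closure (gensL D F l) := by
  unfold wordGL
  apply Subgroup.list_prod_mem
  intro g hg
  rw [List.mem_map] at hg
  obtain ⟨p, hp, rfl⟩ := hg
  apply Subgroup.subset_closure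
  exact ⟨p.1, hw p hp, p.2, coe_xGL D hD F _ _⟩

/-- two root elements of different roots with the same product have the same parameters -/
theorem xGL_pair_inj (k1 k2 : ℕ) (hk1 : k1 < D.nroots) (hk2 : k2 < D.nroots) (hne : k1 ≠ k2)
    (a b a' b' : F)
    (h : xGL D hD F k1 a * xGL D hD F k2 b = xGL D hD F k1 a' * xGL D hD F k2 b') :
    a = a' ∧ b = b' := by
  have h1 : xGL D hD F k1 (a - a') = xGL D hD F k2 (b' - b) := by
    have e1 : xGL D hD F k1 (a - a') = (xGL D hD F k1 a')⁻¹ * xGL D hD F k1 a := by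
      rw [xGL_inv, xGL_mul]; congr 1; ring
    have e2 : xGL D hD F k2 (b' - b) = xGL D hD F k2 b' * (xGL D hD F k2 b)⁻¹ := by
      rw [xGL_inv, xGL_mul]; congr 1; ring
    rw [e1, e2]
    have : xGL D hD F k1 a = xGL D hD F k1 a' * xGL D hD F k2 b' * (xGL D hD F k2 b)⁻¹ := by
      rw [← h]; group
    rw [this]; group
  have ha : a - a' = 0 := by
    by_contra hne0
    exact hne (xGL_root_inj D hD F k1 k2 hk1 hk2 _ _ hne0 h1)
  have hb : b' - b = 0 := by
    rw [ha, xGL_zero, ← xGL_zero D hD F k2] at h1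
    exact (xGL_param_inj D hD F k2 hk2 _ _ h1).symm
  exact ⟨sub_eq_zero.mp ha, (sub_eq_zero.mp hb).symm⟩

variable {D hD F}

/-- transfer of the commutator formula of two fundamental roots -/
theorem FundData.transfer {θ : ↥(D.group F) ≃* ↥(D.group F)} {ρ : ℕ → ℕ} {f g : ℕ → F → F}
    (h : FundData D hD F θ ρ f g) (i j : ℕ) (hi : i < D.rank) (hj : j < D.rank) (hij : i ≠ j)
    (t u : F) :
    θ (wordG D hD F (D.commWord F (D.simple i) (D.simple j) t u)) =
      wordG D hD F (D.commWord F (D.simple (ρ i)) (D.simple (ρ j)) (f i t) (f j u)) := by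
  have hρ : ρ i ≠ ρ j := fun he => hij (h.inj i j hi hj he)
  have hρi := h.lt i hi
  have hρj := h.lt j hj
  obtain ⟨-, n1, n2⟩ := simpleNegComm_of_B D (simpleNegCommB_of_mem D hD) j i hj hi (Ne.symm hij)
  obtain ⟨-, n1', n2'⟩ := simpleNegComm_of_B D (simpleNegCommB_of_mem D hD) (ρ j) (ρ i) hρj hρi
    (Ne.symm hρ)
  have e1 : xG D hD F (D.simple j) u * xG D hD F (D.simple i) t =
      xG D hD F (D.simple i) t * xG D hD F (D.simple j) u *
        wordG D hD F (D.commWord F (D.simple i) (D.simple j) t u) :=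
    Subtype.ext (comm_formula_GL D hD F (D.simple i) (D.simple j) (simple_lt D hD i hi)
      (simple_lt D hD j hj) n2 n1 t u)
  have e2 : xG D hD F (D.simple (ρ j)) (f j u) * xG D hD F (D.simple (ρ i)) (f i t) =
      xG D hD F (D.simple (ρ i)) (f i t) * xG D hD F (D.simple (ρ j)) (f j u) *
        wordG D hD F (D.commWord F (D.simple (ρ i)) (D.simple (ρ j)) (f i t) (f j u)) :=
    Subtype.ext (comm_formula_GL D hD F (D.simple (ρ i)) (D.simple (ρ j)) (simple_lt D hD _ hρi)
      (simple_lt D hD _ hρj) n2' n1' _ _)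
  have e3 := congrArg θ e1
  rw [map_mul, map_mul, map_mul, (h.pos i hi).map, (h.pos j hj).map, e2] at e3
  exact (mul_left_cancel e3).symm

/-- the image of a word whose root subgroups are mapped into later root subgroups -/
theorem map_wordG_mem_closure (θ : ↥(D.group F) ≃* ↥(D.group F)) (l : List ℕ) (w : List (ℕ × F))
    (hw : ∀ p ∈ w, ∃ m' ∈ l, Maps D F θ (D.rootSubgroup F p.1) (D.rootSubgroup F m')) :
    ((θ (wordG D hD F w) : ↥(D.group F)) : GL D.Idx F) ∈ Subgroup.closure (gensL D F l) := by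
  induction w with
  | nil =>
    rw [wordG_nil, map_one]
    exact Subgroup.one_mem _
  | cons p w ih =>
    rw [wordG_cons, map_mul]
    apply Subgroup.mul_mem
    · obtain ⟨m', hm', hmap⟩ := hw p (List.mem_cons_self ..)
      apply rootSubgroup_le_closure_gensL D hD F l m' hm'
      rw [hmap]
      exact (mem_rootSubgroup_iff D hD F _ _).mpr ⟨_, rfl⟩
    · exact ih (fun q hq => hw q (List.mem_cons_of_mem _ hq))

/-- comparison of the leading terms of the two commutator formulas -/
theorem FundData.first_term {θ : ↥(D.group F) ≃* ↥(D.group F)} {ρ : ℕ → ℕ} {f g : ℕ → F → F}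
    (h : FundData D hD F θ ρ f g) (i j : ℕ) (hi : i < D.rank) (hj : j < D.rank) (hij : i ≠ j)
    (k : ℕ) (C : ℤ) (R : List (ℕ × ℤ × ℕ × ℕ))
    (hT : D.commTerms (D.simple i) (D.simple j) = (k, C, 1, 1) :: R)
    (k' : ℕ) (C' : ℤ) (R' : List (ℕ × ℤ × ℕ × ℕ))
    (hT' : D.commTerms (D.simple (ρ i)) (D.simple (ρ j)) = (k', C', 1, 1) :: R')
    (Fk : F → F) (hFk : RootParam D hD F θ k k' Fk)
    (l : List ℕ) (hl : GoodL D (k' :: l))
    (hR : ∀ c ∈ R, ∃ m' ∈ l, Maps D F θ (D.rootSubgroup F c.1) (D.rootSubgroup F m'))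
    (hR' : ∀ c ∈ R', c.1 ∈ l) (t u : F) :
    Fk ((C : F) * (-t) * u) = (C' : F) * (-(f i t)) * f j u := by
  obtain ⟨w, hO⟩ := exists_ordW D hD
  have hA := chainAdd_linF D hD w
  have htr := h.transfer i j hi hj hij t u
  unfold ChevalleyDatum.commWord at htr
  rw [hT, hT', List.map_cons, List.map_cons, wordG_cons, wordG_cons, map_mul, hFk.map] at htr
  simp only [pow_one] at htr
  set W1 := θ (wordG D hD F (List.map (fun c : ℕ × ℤ × ℕ × ℕ =>
    (c.1, (c.2.1 : F) * (-t) ^ c.2.2.1 * u ^ c.2.2.2)) R)) with hW1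
  set W2 := wordG D hD F (List.map (fun c : ℕ × ℤ × ℕ × ℕ =>
    (c.1, (c.2.1 : F) * (-(f i t)) ^ c.2.2.1 * (f j u) ^ c.2.2.2)) R') with hW2
  have hW1m : ((W1 : ↥(D.group F)) : GL D.Idx F) ∈ Subgroup.closure (gensL D F l) := by
    apply map_wordG_mem_closure
    intro p hp
    rw [List.mem_map] at hp
    obtain ⟨c, hc, rfl⟩ := hp
    exact hR c hc
  have hW2m : ((W2 : ↥(D.group F)) : GL D.Idx F) ∈ Subgroup.closure (gensL D F l) := by
    apply wordGL_mem_closure_gensL
    intro p hp
    rw [List.mem_map] at hp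
    obtain ⟨c, hc, rfl⟩ := hp
    exact hR' c hc
  have hd : xGL D hD F k' (Fk ((C : F) * (-t) * u) - (C' : F) * (-(f i t)) * f j u) ∈
      Subgroup.closure (gensL D F l) := by
    have e : xGL D hD F k' (Fk ((C : F) * (-t) * u) - (C' : F) * (-(f i t)) * f j u) =
        (W2 : GL D.Idx F) * ((W1 : ↥(D.group F)) : GL D.Idx F)⁻¹ := by
      have h1 : xGL D hD F k' (Fk ((C : F) * (-t) * u) - (C' : F) * (-(f i t)) * f j u) =
          (xGL D hD F k' ((C' : F) * (-(f i t)) * f j u))⁻¹ * xGL D hD F k' (Fk ((C : F) * (-t) * u)) := by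
        rw [xGL_inv, xGL_mul]; congr 1; ring
      rw [h1]
      have h2 := congrArg Subtype.val htr
      have h3 : xGL D hD F k' (Fk ((C : F) * (-t) * u)) * ((W1 : ↥(D.group F)) : GL D.Idx F) =
          xGL D hD F k' ((C' : F) * (-(f i t)) * f j u) * ((W2 : ↥(D.group F)) : GL D.Idx F) := h2
      have h4 : xGL D hD F k' (Fk ((C : F) * (-t) * u)) =
          xGL D hD F k' ((C' : F) * (-(f i t)) * f j u) * ((W2 : ↥(D.group F)) : GL D.Idx F) *
            ((W1 : ↥(D.group F)) : GL D.Idx F)⁻¹ := by rw [← h3]; group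
      rw [h4]; group
    rw [e]
    exact Subgroup.mul_mem _ hW2m (Subgroup.inv_mem _ hW1m)
  have h0 := eq_zero_of_xGL_mem D hD F _ hA hO k' l hl _ hd
  exact sub_eq_zero.mp h0

end

end Cfsg.Agent.Lib.Lead.Stein
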