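import Mathlib

/-! Field-theoretic lemmas for the automorphism theorem of the Chevalley groups with two root lengths:
additive bijections of a finite field satisfying the functional equations coming from the commutator
formulas (lead). -/

set_option autoImplicit false

namespace Cfsg.Agent.Lib.Lead.Stein

section
variable {F : Type*} [Field F]

/-- from the leading term: the two parameter maps are proportional and multiplicative -/
theorem adj_of_leading (fi fj Fk : F → F) (C C' : F) (hC' : C' ≠ 0)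
    (h : ∀ t u : F, Fk (C * (-t) * u) = C' * (-(fi t)) * fj u) :
    (∀ t, fi t * fj 1 = fi 1 * fj t) ∧ ∀ t u, fi (t * u) * fj 1 = fi t * fj u := by
  constructor
  · intro t
    have k1 := h t 1
    have k2 := h 1 t
    have e : C * (-t) * 1 = C * (-1) * t := by ring
    rw [e, k2] at k1
    have h5 : C' * (fi t * fj 1 - fi 1 * fj t) = 0 := by linear_combination k1
    rcases mul_eq_zero.mp h5 with h6 | h6
    · exact absurd h6 hC'
    · exact sub_eq_zero.mp h6
  · intro t u
    have k1 := h (t * u) 1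
    have k2 := h t u
    have e : C * (-(t * u)) * 1 = C * (-t) * u := by ring
    rw [e, k2] at k1
    have h5 : C' * (fi (t * u) * fj 1 - fi t * fj u) = 0 := by linear_combination k1
    rcases mul_eq_zero.mp h5 with h6 | h6
    · exact absurd h6 hC'
    · exact sub_eq_zero.mp h6

/-- the parameters on the negative root subgroup from those on the positive one -/
theorem neg_param_of_pos (f g : F → F) (σ : F ≃+* F) (c : F) (e : ℕ) (he : e ≠ 0)
    (hm1 : (-1 : F) ^ e = -1) (hc : c ≠ 0) (hg0 : g 0 = 0)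
    (hrel : ∀ t : F, t ≠ 0 → f t * g (-t⁻¹) = -1)
    (hf : ∀ t, f t = c * σ t ^ e) (t : F) : g t = c⁻¹ * σ t ^ e := by
  by_cases ht : t = 0
  · rw [ht, hg0, map_zero, zero_pow he, mul_zero]
  · have h1 := hrel (-t⁻¹) (neg_ne_zero.mpr (inv_ne_zero ht))
    have e1 : -(-t⁻¹)⁻¹ = t := by field_simp
    rw [e1, hf] at h1
    have hst0 : σ t ≠ 0 := by
      rw [Ne, map_eq_zero_iff σ σ.injective]; exact ht
    have hst : σ (-t⁻¹) = -(σ t)⁻¹ := by rw [map_neg, map_inv₀]
    rw [hst, neg_eq_neg_one_mul, mul_pow, hm1, inv_pow] at h1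
    have hpe : σ t ^ e ≠ 0 := pow_ne_zero _ hst0
    have h2 : c * (σ t ^ e)⁻¹ * g t = 1 := by linear_combination -h1
    calc g t = c⁻¹ * σ t ^ e * (c * (σ t ^ e)⁻¹ * g t) := by field_simp
      _ = c⁻¹ * σ t ^ e := by rw [h2, mul_one]

end

section
variable {F : Type*} [Field F] [Finite F]

/-- a bijective additive map which is multiplicative when one factor is a `p`-th power, over a finite
field of characteristic `p` -/
theorem exists_ringEquiv_of_pow (p : ℕ) [hp : Fact p.Prime] [CharP F p] (s : F → F) (hs1 : s 1 = 1)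
    (hadd : ∀ t u, s (t + u) = s t + s u) (hbij : Function.Bijective s)
    (hmul : ∀ t u, s (t ^ p) * s u = s (t ^ p * u)) :
    ∃ σ : F ≃+* F, ∀ t, σ t = s t := by
  have hs0 : s 0 = 0 := by
    have := hadd 0 0
    rw [add_zero] at this
    exact left_eq_add.mp this
  have hsurj : ∀ y : F, ∃ z : F, z ^ p = y := by
    intro y
    have hb : Function.Bijective (frobenius F p) := by
      have hinj : Function.Injective (frobenius F p) := frobenius_inj F p
      exact Finite.injective_iff_bijective.mp hinj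
    obtain ⟨z, hz⟩ := hb.2 y
    exact ⟨z, by rw [← hz, frobenius_def]⟩
  let φ : F →+* F :=
    { toFun := s
      map_one' := hs1
      map_mul' := by
        intro y u
        obtain ⟨z, rfl⟩ := hsurj y
        exact (hmul z u).symm
      map_zero' := hs0
      map_add' := hadd }
  exact ⟨RingEquiv.ofBijective φ hbij, fun _ => rfl⟩

/-- the functional equations of an automorphism interchanging the two fundamental root subgroups in type
`B₂`: the characteristic is `2` and the parameters are `c σ(t)²` and `d σ(t)` -/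
theorem alg_b2 (fa fb F1 F2 : F → F) (c1 c2 c1' c2' : F)
    (hc1' : c1' ≠ 0) (hc2' : c2' ≠ 0)
    (hadda : ∀ t u, fa (t + u) = fa t + fa u) (hbija : Function.Bijective fa)
    (haddb : ∀ t u, fb (t + u) = fb t + fb u) (hbijb : Function.Bijective fb)
    (hI : ∀ t u : F, F2 (c2 * (-t) ^ 2 * u ^ 1) = c1' * (-(fa t)) ^ 1 * (fb u) ^ 1)
    (hII : ∀ t u : F, F1 (c1 * (-t) ^ 1 * u ^ 1) = c2' * (-(fa t)) ^ 1 * (fb u) ^ 2) :
    (2 : F) = 0 ∧ ∃ σ : F ≃+* F, ∀ t, fa t = fa 1 * σ t ^ 2 ∧ fb t = fb 1 * σ t := by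
  have hb0 : fb 0 = 0 := by
    have := haddb 0 0
    rw [add_zero] at this
    exact left_eq_add.mp this
  have ha0 : fa 0 = 0 := by
    have := hadda 0 0
    rw [add_zero] at this
    exact left_eq_add.mp this
  have hc : fa 1 ≠ 0 := by
    intro h0
    have := hbija.1 (h0.trans ha0.symm)
    exact one_ne_zero this
  have hd : fb 1 ≠ 0 := by
    intro h0
    have := hbijb.1 (h0.trans hb0.symm)
    exact one_ne_zero this
  set c := fa 1 with hcdef
  set d := fb 1 with hddef
  -- (I')
  have hI' : ∀ t u, fa t * fb u = c * fb (t ^ 2 * u) := by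
    intro t u
    have k1 := hI t u
    have k2 := hI 1 (t ^ 2 * u)
    have e : c2 * (-t) ^ 2 * u ^ 1 = c2 * (-1) ^ 2 * (t ^ 2 * u) ^ 1 := by ring
    rw [e, k2] at k1
    have h5 : c1' * (fa t * fb u - c * fb (t ^ 2 * u)) = 0 := by linear_combination k1
    rcases mul_eq_zero.mp h5 with h6 | h6
    · exact absurd h6 hc1'
    · exact sub_eq_zero.mp h6
  -- (II')
  have hII' : ∀ t u, fa t * fb u ^ 2 = fa (t * u) * d ^ 2 := by
    intro t u
    have k1 := hII t u
    have k2 := hII (t * u) 1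
    have e : c1 * (-t) ^ 1 * u ^ 1 = c1 * (-(t * u)) ^ 1 * 1 ^ 1 := by ring
    rw [e, k2] at k1
    have h5 : c2' * (fa t * fb u ^ 2 - fa (t * u) * d ^ 2) = 0 := by linear_combination k1
    rcases mul_eq_zero.mp h5 with h6 | h6
    · exact absurd h6 hc2'
    · exact sub_eq_zero.mp h6
  set s : F → F := fun u => d⁻¹ * fb u with hsdef
  have hs1 : s 1 = 1 := inv_mul_cancel₀ hd
  have hfb : ∀ u, fb u = d * s u := by
    intro u
    show fb u = d * (d⁻¹ * fb u)
    rw [← mul_assoc, mul_inv_cancel₀ hd, one_mul]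
  have hfa : ∀ t, fa t = c * s (t ^ 2) := by
    intro t
    have := hI' t 1
    rw [mul_one] at this
    show fa t = c * (d⁻¹ * fb (t ^ 2))
    field_simp
    linear_combination this
  have hsadd : ∀ t u, s (t + u) = s t + s u := by
    intro t u
    show d⁻¹ * fb (t + u) = d⁻¹ * fb t + d⁻¹ * fb u
    rw [haddb, mul_add]
  have hsbij : Function.Bijective s := by
    constructor
    · intro t u htu
      have : d⁻¹ * fb t = d⁻¹ * fb u := htu
      exact hbijb.1 (mul_left_cancel₀ (inv_ne_zero hd) this)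
    · intro y
      obtain ⟨t, ht⟩ := hbijb.2 (d * y)
      refine ⟨t, ?_⟩
      show d⁻¹ * fb t = y
      rw [ht, ← mul_assoc, inv_mul_cancel₀ hd, one_mul]
  have hM1 : ∀ t u, s (t ^ 2) * s u = s (t ^ 2 * u) := by
    intro t u
    have := hI' t u
    rw [hfa, hfb, hfb] at this
    have h5 : c * d * (s (t ^ 2) * s u - s (t ^ 2 * u)) = 0 := by linear_combination this
    rcases mul_eq_zero.mp h5 with h6 | h6
    · exact absurd h6 (mul_ne_zero hc hd)
    · exact sub_eq_zero.mp h6
  have hM2 : ∀ u, s u ^ 2 = s (u ^ 2) := by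
    intro u
    have := hII' 1 u
    rw [hfa, hfa, hfb, one_mul, one_pow, hs1] at this
    have h5 : c * d ^ 2 * (s u ^ 2 - s (u ^ 2)) = 0 := by linear_combination this
    rcases mul_eq_zero.mp h5 with h6 | h6
    · exact absurd h6 (mul_ne_zero hc (pow_ne_zero _ hd))
    · exact sub_eq_zero.mp h6
  have h2 : (2 : F) = 0 := by
    have e1 := hadda 1 1
    rw [hfa, hfa] at e1
    have e2 : s ((1 + 1) ^ 2) = s 1 + s 1 := by
      have h5 : c * (s ((1 + 1) ^ 2) - (s 1 + s 1)) = 0 := by
        rw [one_pow] at e1; linear_combination e1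
      rcases mul_eq_zero.mp h5 with h6 | h6
      · exact absurd h6 hc
      · exact sub_eq_zero.mp h6
    rw [← hM2, hsadd, hs1] at e2
    linear_combination e2
  refine ⟨h2, ?_⟩
  have : Fact (Nat.Prime 2) := ⟨Nat.prime_two⟩
  have hchar : ringChar F = 2 := CharP.ringChar_of_prime_eq_zero Nat.prime_two (by exact_mod_cast h2)
  have : CharP F 2 := by rw [← hchar]; exact ringChar.charP F
  obtain ⟨σ, hσ⟩ := exists_ringEquiv_of_pow 2 s hs1 hsadd hsbij hM1
  refine ⟨σ, fun t => ⟨?_, ?_⟩⟩
  · rw [hσ, hM2]; exact hfa t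
  · rw [hσ]; exact hfb t

/-- the functional equations of an automorphism interchanging the two fundamental root subgroups in type
`G₂`: the characteristic is `3` and the parameters are `c σ(t)³` and `d σ(t)` -/
theorem alg_g2 (fa fb F8 F9 F10 : F → F)
    (hadda : ∀ t u, fa (t + u) = fa t + fa u) (hbija : Function.Bijective fa)
    (haddb : ∀ t u, fb (t + u) = fb t + fb u) (hbijb : Function.Bijective fb)
    (hinj9 : Function.Injective F9)
    (hG1 : ∀ t u : F, F10 (((1 : ℤ) : F) * (-t) ^ 3 * u ^ 1) = ((1 : ℤ) : F) * (-(fa t)) ^ 1 * (fb u) ^ 1)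
    (hG3 : ∀ t u : F, F8 (((-1 : ℤ) : F) * (-t) ^ 1 * u ^ 1) = ((-1 : ℤ) : F) * (-(fa t)) ^ 1 * (fb u) ^ 3)
    (hG4 : ∀ t u : F, F9 (((1 : ℤ) : F) * (-t) ^ 2 * u ^ 1) = ((-2 : ℤ) : F) * (-(fa t)) ^ 2 * (fb u) ^ 3) :
    (3 : F) = 0 ∧ ∃ σ : F ≃+* F, ∀ t, fa t = fa 1 * σ t ^ 3 ∧ fb t = fb 1 * σ t := by
  have hb0 : fb 0 = 0 := by
    have := haddb 0 0
    rw [add_zero] at this
    exact left_eq_add.mp this
  have ha0 : fa 0 = 0 := by
    have := hadda 0 0
    rw [add_zero] at this
    exact left_eq_add.mp this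
  have hc : fa 1 ≠ 0 := by
    intro h0
    have := hbija.1 (h0.trans ha0.symm)
    exact one_ne_zero this
  have hd : fb 1 ≠ 0 := by
    intro h0
    have := hbijb.1 (h0.trans hb0.symm)
    exact one_ne_zero this
  set c := fa 1 with hcdef
  set d := fb 1 with hddef
  have hG1' : ∀ t u, fa t * fb u = c * fb (t ^ 3 * u) := by
    intro t u
    have k1 := hG1 t u
    have k2 := hG1 1 (t ^ 3 * u)
    have e : ((1 : ℤ) : F) * (-t) ^ 3 * u ^ 1 = ((1 : ℤ) : F) * (-1) ^ 3 * (t ^ 3 * u) ^ 1 := by ring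
    rw [e, k2] at k1
    push_cast at k1
    linear_combination k1
  have hG3' : ∀ t u, fa t * fb u ^ 3 = fa (t * u) * d ^ 3 := by
    intro t u
    have k1 := hG3 t u
    have k2 := hG3 (t * u) 1
    have e : ((-1 : ℤ) : F) * (-t) ^ 1 * u ^ 1 = ((-1 : ℤ) : F) * (-(t * u)) ^ 1 * 1 ^ 1 := by ring
    rw [e, k2] at k1
    push_cast at k1
    linear_combination -k1
  set s : F → F := fun u => d⁻¹ * fb u with hsdef
  have hs1 : s 1 = 1 := inv_mul_cancel₀ hd
  have hfb : ∀ u, fb u = d * s u := by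
    intro u
    show fb u = d * (d⁻¹ * fb u)
    rw [← mul_assoc, mul_inv_cancel₀ hd, one_mul]
  have hfa : ∀ t, fa t = c * s (t ^ 3) := by
    intro t
    have := hG1' t 1
    rw [mul_one] at this
    show fa t = c * (d⁻¹ * fb (t ^ 3))
    field_simp
    linear_combination this
  have hsadd : ∀ t u, s (t + u) = s t + s u := by
    intro t u
    show d⁻¹ * fb (t + u) = d⁻¹ * fb t + d⁻¹ * fb u
    rw [haddb, mul_add]
  have hsbij : Function.Bijective s := by
    constructor
    · intro t u htu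
      have : d⁻¹ * fb t = d⁻¹ * fb u := htu
      exact hbijb.1 (mul_left_cancel₀ (inv_ne_zero hd) this)
    · intro y
      obtain ⟨t, ht⟩ := hbijb.2 (d * y)
      refine ⟨t, ?_⟩
      show d⁻¹ * fb t = y
      rw [ht, ← mul_assoc, inv_mul_cancel₀ hd, one_mul]
  have hM1 : ∀ t u, s (t ^ 3) * s u = s (t ^ 3 * u) := by
    intro t u
    have := hG1' t u
    rw [hfa, hfb, hfb] at this
    have h5 : c * d * (s (t ^ 3) * s u - s (t ^ 3 * u)) = 0 := by linear_combination this
    rcases mul_eq_zero.mp h5 with h6 | h6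
    · exact absurd h6 (mul_ne_zero hc hd)
    · exact sub_eq_zero.mp h6
  have hM2 : ∀ u, s u ^ 3 = s (u ^ 3) := by
    intro u
    have := hG3' 1 u
    rw [hfa, hfa, hfb, one_mul, one_pow, hs1] at this
    have h5 : c * d ^ 3 * (s u ^ 3 - s (u ^ 3)) = 0 := by linear_combination this
    rcases mul_eq_zero.mp h5 with h6 | h6
    · exact absurd h6 (mul_ne_zero hc (pow_ne_zero _ hd))
    · exact sub_eq_zero.mp h6
  have h6 : (6 : F) = 0 := by
    have e1 := hadda 1 1
    rw [hfa, hfa] at e1
    have e2 : s ((1 + 1) ^ 3) = s 1 + s 1 := by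
      have h5 : c * (s ((1 + 1) ^ 3) - (s 1 + s 1)) = 0 := by
        rw [one_pow] at e1; linear_combination e1
      rcases mul_eq_zero.mp h5 with h6 | h6
      · exact absurd h6 hc
      · exact sub_eq_zero.mp h6
    rw [← hM2, hsadd, hs1] at e2
    linear_combination e2
  have h2 : (2 : F) ≠ 0 := by
    intro h2
    have k1 := hG4 1 1
    have k2 := hG4 0 1
    have e2 : ((-2 : ℤ) : F) = 0 := by push_cast; rw [h2, neg_zero]
    rw [e2, zero_mul, zero_mul] at k1 k2
    have := hinj9 (k1.trans k2.symm)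
    simp at this
  have h3 : (3 : F) = 0 := by
    have : (2 : F) * 3 = 0 := by rw [← h6]; norm_num
    rcases mul_eq_zero.mp this with h | h
    · exact absurd h h2
    · exact h
  refine ⟨h3, ?_⟩
  have : Fact (Nat.Prime 3) := ⟨Nat.prime_three⟩
  have hchar : ringChar F = 3 := CharP.ringChar_of_prime_eq_zero Nat.prime_three (by exact_mod_cast h3)
  have : CharP F 3 := by rw [← hchar]; exact ringChar.charP F
  obtain ⟨σ, hσ⟩ := exists_ringEquiv_of_pow 3 s hs1 hsadd hsbij hM1
  refine ⟨σ, fun t => ⟨?_, ?_⟩⟩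
  · rw [hσ, hM2]; exact hfa t
  · rw [hσ]; exact hfb t

end

end Cfsg.Agent.Lib.Lead.Stein
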