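import Cfsg.Agent.Lib.Lead.SteinR
import Cfsg.Agent.Lib.Lead.SteinS

/-! Automorphisms of a Chevalley group stabilising `U` and `V`: adjacency of nodes is preserved; if the
permutation of the nodes is trivial, all parameters are given by one field automorphism (lead). -/

set_option autoImplicit false
set_option maxRecDepth 100000

namespace Cfsg.Agent.Lib.Lead.Stein

open Cfsg Cfsg.Lie Matrix Cfsg.Agent.Lib.Helper7 Cfsg.Agent.Lib.Helper3.BN Cfsg.Agent.Lib.Helper11

/-- table check: for distinct nodes either there is no bond and the commutator formula of the two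
fundamental roots has no terms, or there is a bond and the formula starts with the term of the sum of
the two roots, with coefficient `±1`, followed by terms of later positive roots -/
def adjB (D : ChevalleyDatum) : Bool :=
  (List.range D.rank).all fun i => (List.range D.rank).all fun j =>
    i == j ||
    ((D.commTerms (D.simple i) (D.simple j)).isEmpty && D.bonds i j == 0) ||
    (match D.commTerms (D.simple i) (D.simple j) with
      | [] => false
      | c :: R => c.2.2.1 == 1 && c.2.2.2 == 1 && (c.2.1 == 1 || c.2.1 == -1) &&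
          decide (D.IsPosRoot c.1) &&
          (R.all fun c' => decide (c.1 < c'.1) && decide (D.IsPosRoot c'.1)) && D.bonds i j != 0)

/-- the commutator formulas of pairs of fundamental roots -/
structure AdjFacts (D : ChevalleyDatum) : Prop where
  cases : ∀ i < D.rank, ∀ j < D.rank, i ≠ j →
    (D.commTerms (D.simple i) (D.simple j) = [] ∧ D.bonds i j = 0) ∨
    (∃ (k : ℕ) (C : ℤ) (R : List (ℕ × ℤ × ℕ × ℕ)),
      D.commTerms (D.simple i) (D.simple j) = (k, C, 1, 1) :: R ∧ (C = 1 ∨ C = -1) ∧ D.IsPosRoot k ∧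
        (∀ c ∈ R, k < c.1 ∧ D.IsPosRoot c.1) ∧ D.bonds i j ≠ 0)

theorem adjFacts_of_B (D : ChevalleyDatum) (h : adjB D = true) : AdjFacts D := by
  unfold adjB at h
  simp only [List.all_eq_true, List.mem_range, Bool.or_eq_true, beq_iff_eq, Bool.and_eq_true,
    List.isEmpty_iff] at h
  refine ⟨?_⟩
  intro i hi j hj hij
  rcases h i hi j hj with (h1 | h1) | h1
  · exact absurd h1 hij
  · exact Or.inl h1
  · right
    cases hT : D.commTerms (D.simple i) (D.simple j) with
    | nil => rw [hT] at h1; simp at h1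
    | cons c R =>
      rw [hT] at h1
      simp only [Bool.and_eq_true, beq_iff_eq, Bool.or_eq_true, decide_eq_true_eq, List.all_eq_true,
        bne_iff_ne] at h1
      obtain ⟨⟨⟨⟨⟨h2, h3⟩, h4⟩, h5⟩, h6⟩, h7⟩ := h1
      obtain ⟨k, C, p, q⟩ := c
      simp only at h2 h3 h4 h5 h6
      subst h2 h3
      exact ⟨k, C, R, rfl, h4, h5, fun c hc => h6 c hc, h7⟩

theorem adjB_G2 : adjB chevG2 = true := by decide +kernel
theorem adjB_B2 : adjB chevB2 = true := by decide +kernel
theorem adjB_D4 : adjB chevD4 = true := by decide +kernel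
theorem adjB_F4 : adjB chevF4 = true := by decide +kernel
theorem adjB_E6 : adjB chevE6 = true := by decide +kernel
theorem adjB_E7 : adjB chevE7 = true := by decide +kernel
theorem adjB_E8 : adjB chevE8 = true := by decide +kernel

theorem adjFacts_of_mem (D : ChevalleyDatum)
    (hD : D ∈ [chevG2, chevB2, chevD4, chevF4, chevE6, chevE7, chevE8]) : AdjFacts D :=
  mem_seven_cases (P := AdjFacts) (adjFacts_of_B _ adjB_G2) (adjFacts_of_B _ adjB_B2)
    (adjFacts_of_B _ adjB_D4) (adjFacts_of_B _ adjB_F4) (adjFacts_of_B _ adjB_E6)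
    (adjFacts_of_B _ adjB_E7) (adjFacts_of_B _ adjB_E8) D hD

section
variable (D : ChevalleyDatum) (hD : D ∈ [chevG2, chevB2, chevD4, chevF4, chevE6, chevE7, chevE8])
variable (F : Type*) [Field F]
include hD

/-- two fundamental root elements whose roots are joined by a bond commute only if a parameter
vanishes -/
theorem mul_eq_zero_of_simple_comm (i j : ℕ) (hi : i < D.rank) (hj : j < D.rank) (hij : i ≠ j)
    (k : ℕ) (C : ℤ) (R : List (ℕ × ℤ × ℕ × ℕ))
    (hT : D.commTerms (D.simple i) (D.simple j) = (k, C, 1, 1) :: R) (hC : C = 1 ∨ C = -1)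
    (hk : D.IsPosRoot k) (hR : ∀ c ∈ R, k < c.1 ∧ D.IsPosRoot c.1) (t u : F)
    (hcomm : xGL D hD F (D.simple j) u * xGL D hD F (D.simple i) t =
      xGL D hD F (D.simple i) t * xGL D hD F (D.simple j) u) : t * u = 0 := by
  obtain ⟨w, hO⟩ := exists_ordW D hD
  have hA := chainAdd_linF D hD w
  obtain ⟨-, n1, n2⟩ := simpleNegComm_of_B D (simpleNegCommB_of_mem D hD) j i hj hi (Ne.symm hij)
  have h1 := comm_formula_GL D hD F (D.simple i) (D.simple j) (simple_lt D hD i hi)
    (simple_lt D hD j hj) n2 n1 t u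
  rw [hcomm] at h1
  have h2 : wordGL D hD F (D.commWord F (D.simple i) (D.simple j) t u) = 1 := by
    have := mul_left_cancel (a := xGL D hD F (D.simple i) t * xGL D hD F (D.simple j) u)
      (b := 1) (c := wordGL D hD F (D.commWord F (D.simple i) (D.simple j) t u))
      (by rw [mul_one]; exact h1)
    exact this.symm
  unfold ChevalleyDatum.commWord at h2
  rw [hT, List.map_cons, wordGL_cons] at h2
  simp only [pow_one] at h2
  set l := D.posRoots.filter (fun s => decide (k < s)) with hl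
  have hW : wordGL D hD F (List.map (fun c : ℕ × ℤ × ℕ × ℕ =>
      (c.1, (c.2.1 : F) * (-t) ^ c.2.2.1 * u ^ c.2.2.2)) R) ∈ Subgroup.closure (gensL D F l) := by
    apply wordGL_mem_closure_gensL
    intro p hp
    rw [List.mem_map] at hp
    obtain ⟨c, hc, rfl⟩ := hp
    rw [hl, List.mem_filter]
    exact ⟨(mem_posRoots D _).mpr (hR c hc).2, decide_eq_true (hR c hc).1⟩
  have hd : xGL D hD F k ((C : F) * (-t) * u) ∈ Subgroup.closure (gensL D F l) := by
    have e : xGL D hD F k ((C : F) * (-t) * u) = (wordGL D hD F (List.map (fun c : ℕ × ℤ × ℕ × ℕ =>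
        (c.1, (c.2.1 : F) * (-t) ^ c.2.2.1 * u ^ c.2.2.2)) R))⁻¹ := eq_inv_of_mul_eq_one_left h2
    rw [e]
    exact Subgroup.inv_mem _ hW
  have h0 := eq_zero_of_xGL_mem D hD F _ hA hO k l (goodL_filter D k hk) _ hd
  have hC0 := intCast_ne_zero_of_pm F C hC
  have : (C : F) * (t * u) = 0 := by linear_combination -h0
  rcases mul_eq_zero.mp this with h4 | h4
  · exact absurd h4 hC0
  · exact h4

/-- two fundamental root elements whose roots are not joined commute -/
theorem xGL_simple_comm_of_nil' (i j : ℕ) (hi : i < D.rank) (hj : j < D.rank)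
    (hij : i ≠ j) (h : D.commTerms (D.simple i) (D.simple j) = []) (t u : F) :
    xGL D hD F (D.simple j) u * xGL D hD F (D.simple i) t =
      xGL D hD F (D.simple i) t * xGL D hD F (D.simple j) u := by
  obtain ⟨-, n1, n2⟩ := simpleNegComm_of_B D (simpleNegCommB_of_mem D hD) j i hj hi (Ne.symm hij)
  have := comm_formula_GL D hD F (D.simple i) (D.simple j) (simple_lt D hD i hi) (simple_lt D hD j hj)
    n2 n1 t u
  unfold ChevalleyDatum.commWord at this
  rw [h] at this
  have e : wordGL D hD F ([] : List (ℕ × F)) = 1 := rfl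
  rw [List.map_nil, e, mul_one] at this
  exact this

variable {D hD F}

/-- adjacency of the nodes is preserved -/
theorem FundData.bonds_zero_iff {θ : ↥(D.group F) ≃* ↥(D.group F)} {ρ : ℕ → ℕ}
    {f g : ℕ → F → F} (h : FundData D hD F θ ρ f g) (i j : ℕ) (hi : i < D.rank) (hj : j < D.rank)
    (hij : i ≠ j) : D.bonds (ρ i) (ρ j) = 0 ↔ D.bonds i j = 0 := by
  have hAdj := adjFacts_of_mem D hD
  have hρ : ρ i ≠ ρ j := fun he => hij (h.inj i j hi hj he)
  have hρi := h.lt i hi
  have hρj := h.lt j hj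
  rcases hAdj.cases i hi j hj hij with ⟨hnil, hb⟩ | ⟨k, C, R, hT, hC, hk, hR, hb⟩
  · rcases hAdj.cases (ρ i) hρi (ρ j) hρj hρ with ⟨_, hb'⟩ | ⟨k', C', R', hT', hC', hk', hR', hb'⟩
    · rw [hb, hb']
    · exfalso
      have hcomm := xGL_simple_comm_of_nil' D hD F i j hi hj hij hnil 1 1
      have h1 : θ (xG D hD F (D.simple j) 1 * xG D hD F (D.simple i) 1) =
          θ (xG D hD F (D.simple i) 1 * xG D hD F (D.simple j) 1) := by
        congr 1
        exact Subtype.ext hcomm
      rw [map_mul, map_mul, (h.pos i hi).map, (h.pos j hj).map] at h1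
      have h2 := mul_eq_zero_of_simple_comm D hD F (ρ i) (ρ j) hρi hρj hρ k' C' R' hT' hC' hk' hR' _ _
        (congrArg Subtype.val h1)
      rcases mul_eq_zero.mp h2 with h3 | h3
      · exact (h.pos i hi).ne_zero 1 one_ne_zero h3
      · exact (h.pos j hj).ne_zero 1 one_ne_zero h3
  · rcases hAdj.cases (ρ i) hρi (ρ j) hρj hρ with ⟨hnil', hb'⟩ | ⟨_, _, _, _, _, _, _, hb'⟩
    · exfalso
      have hcomm := xGL_simple_comm_of_nil' D hD F (ρ i) (ρ j) hρi hρj hρ hnil' (f i 1) (f j 1)
      have h1 : θ (xG D hD F (D.simple j) 1 * xG D hD F (D.simple i) 1) =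
          θ (xG D hD F (D.simple i) 1 * xG D hD F (D.simple j) 1) := by
        rw [map_mul, map_mul, (h.pos i hi).map, (h.pos j hj).map]
        exact Subtype.ext hcomm
      have h2 := congrArg Subtype.val (θ.injective h1)
      have h3 := mul_eq_zero_of_simple_comm D hD F i j hi hj hij k C R hT hC hk hR 1 1 h2
      rw [mul_one] at h3
      exact one_ne_zero h3
    · exact ⟨fun h0 => absurd h0 hb', fun h0 => absurd h0 hb⟩

/-- trivial permutation of the nodes: adjacent nodes have proportional, multiplicative parameters -/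
theorem FundData.adj_of_id {θ : ↥(D.group F) ≃* ↥(D.group F)} {ρ : ℕ → ℕ}
    {f g : ℕ → F → F} (h : FundData D hD F θ ρ f g)
    (hU : Stab D F θ (D.posUnipotent F)) (hV : Stab D F θ (D.negUnipotent F))
    (hρ : ∀ k < D.rank, ρ k = k)
    (i j : ℕ) (hi : i < D.rank) (hj : j < D.rank)
    (hij : i ≠ j) (hb : D.bonds i j ≠ 0) :
    (∀ t, f i t * f j 1 = f i 1 * f j t) ∧ ∀ t u, f i (t * u) * f j 1 = f i t * f j u := by
  have hAdj := adjFacts_of_mem D hD
  rcases hAdj.cases i hi j hj hij with ⟨_, hb0⟩ | ⟨k, C, R, hT, hC, hk, hR, _⟩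
  · exact absurd hb0 hb
  have hT' : D.commTerms (D.simple (ρ i)) (D.simple (ρ j)) = (k, C, 1, 1) :: R := by
    rw [hρ i hi, hρ j hj]; exact hT
  obtain ⟨Fk, hFk⟩ := exists_rootParam D hD F θ k k hk.1 hk.1 (h.stab_all hU hV hρ k hk.1)
  set l := D.posRoots.filter (fun s => decide (k < s)) with hl
  have hmem : ∀ c ∈ R, c.1 ∈ l := by
    intro c hc
    rw [hl, List.mem_filter]
    exact ⟨(mem_posRoots D _).mpr (hR c hc).2, decide_eq_true (hR c hc).1⟩
  have key := h.first_term i j hi hj hij k C R hT k C R hT' Fk hFk l (goodL_filter D k hk)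
    (fun c hc => ⟨c.1, hmem c hc, h.stab_all hU hV hρ c.1 (hR c hc).2.1⟩) hmem
  exact adj_of_leading (f i) (f j) Fk (C : F) (C : F) (intCast_ne_zero_of_pm F C hC) key

/-- from proportional, multiplicative parameters on adjacent nodes to one field automorphism -/
theorem FundData.exists_field_of_adj (hconn : connB D = true)
    {θ : ↥(D.group F) ≃* ↥(D.group F)} {ρ : ℕ → ℕ}
    {f g : ℕ → F → F} (h : FundData D hD F θ ρ f g)
    (hU : Stab D F θ (D.posUnipotent F)) (hV : Stab D F θ (D.negUnipotent F))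
    (hadj : ∀ i < D.rank, ∀ j < D.rank, i ≠ j → D.bonds i j ≠ 0 →
      (∀ t, f i t * f j 1 = f i 1 * f j t) ∧ ∀ t u, f i (t * u) * f j 1 = f i t * f j u) :
    ∃ σ : F ≃+* F, ∀ k < D.rank, ∀ t, f k t = f k 1 * σ t ∧ g k t = (f k 1)⁻¹ * σ t := by
  obtain ⟨h0, hind, hnb⟩ := conn_of_B D hconn
  have hc : ∀ k < D.rank, f k 1 ≠ 0 := fun k hk => (h.pos k hk).ne_zero 1 one_ne_zero
  have hall : ∀ k < D.rank, k < D.rank ∧ ∀ t, (f k 1)⁻¹ * f k t = (f 0 1)⁻¹ * f 0 t := by
    apply hind (fun k => k < D.rank ∧ ∀ t, (f k 1)⁻¹ * f k t = (f 0 1)⁻¹ * f 0 t) ⟨h0, fun _ => rfl⟩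
    intro a b hb hab ⟨ha, hfa⟩
    refine ⟨hb, ?_⟩
    by_cases hne : a = b
    · rw [← hne]; exact hfa
    · intro t
      rw [← hfa t]
      have := (hadj a ha b hb hne hab).1 t
      have hca := hc a ha
      have hcb := hc b hb
      field_simp
      linear_combination -this
  obtain ⟨j, hj, hj0, hbj⟩ := hnb 0 h0
  have hadj0 := hadj 0 h0 j hj (Ne.symm hj0) hbj
  have hP := h.pos 0 h0
  have hc0 := hc 0 h0
  have hcj := hc j hj
  let φ : F →+* F :=
    { toFun := fun t => (f 0 1)⁻¹ * f 0 t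
      map_one' := inv_mul_cancel₀ hc0
      map_mul' := by
        intro t u
        have h1 := hadj0.2 t u
        have h2 := hadj0.1 u
        field_simp
        have h3 : f 0 (t * u) * f j 1 * f 0 1 = f 0 t * f 0 u * f j 1 := by
          rw [h1, mul_assoc, mul_comm (f j u), ← h2]; ring
        have h4 : (f 0 1 * f 0 (t * u) - f 0 t * f 0 u) * f j 1 = 0 := by linear_combination h3
        rcases mul_eq_zero.mp h4 with h5 | h5
        · exact sub_eq_zero.mp h5
        · exact absurd h5 hcj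
      map_zero' := by show (f 0 1)⁻¹ * f 0 0 = 0; rw [hP.zero, mul_zero]
      map_add' := by
        intro t u
        show (f 0 1)⁻¹ * f 0 (t + u) = (f 0 1)⁻¹ * f 0 t + (f 0 1)⁻¹ * f 0 u
        rw [hP.add, mul_add] }
  have hbij : Function.Bijective φ := by
    constructor
    · intro t u htu
      have : (f 0 1)⁻¹ * f 0 t = (f 0 1)⁻¹ * f 0 u := htu
      exact hP.bij.1 (mul_left_cancel₀ (inv_ne_zero hc0) this)
    · intro y
      obtain ⟨t, ht⟩ := hP.bij.2 (f 0 1 * y)
      refine ⟨t, ?_⟩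
      show (f 0 1)⁻¹ * f 0 t = y
      rw [ht, ← mul_assoc, inv_mul_cancel₀ hc0, one_mul]
  let σ : F ≃+* F := RingEquiv.ofBijective φ hbij
  have hσ : ∀ t, σ t = (f 0 1)⁻¹ * f 0 t := fun _ => rfl
  refine ⟨σ, ?_⟩
  intro k hk t
  have hck := hc k hk
  have hfk : ∀ t, f k t = f k 1 * σ t := by
    intro t
    rw [hσ, ← (hall k hk).2 t, ← mul_assoc, mul_inv_cancel₀ hck, one_mul]
  refine ⟨hfk t, ?_⟩
  have := neg_param_of_pos (f k) (g k) σ (f k 1) 1 one_ne_zero (pow_one _) hck (h.neg k hk).zero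
    (fun t ht => h.rel hU hV k hk t ht) (fun t => by rw [pow_one]; exact hfk t) t
  rw [pow_one] at this
  exact this

end

end Cfsg.Agent.Lib.Lead.Stein
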