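import Cfsg.Agent.Lib.Lead.SteinT

/-! Automorphisms of a Chevalley group stabilising `U` and `V`: the shape theorem. The parameters on the
fundamental root subgroups are `t ↦ c_k σ(t)^{e_k}` for one field automorphism `σ`, where `e_k` is the
exponent of a graph automorphism; a permutation of the nodes interchanging the root lengths forces the
characteristic (lead). -/

set_option autoImplicit false
set_option maxRecDepth 100000

namespace Cfsg.Agent.Lib.Lead.Stein

open Cfsg Cfsg.Lie Matrix Cfsg.Agent.Lib.Helper7 Cfsg.Agent.Lib.Helper3.BN Cfsg.Agent.Lib.Helper11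

/-- the conclusion of the shape theorem -/
def ShapeConcl (D : ChevalleyDatum) (F : Type*) [Field F] (ρ : ℕ → ℕ) (f g : ℕ → F → F) : Prop :=
  (∀ i < D.rank, ∀ j < D.rank, i ≠ j → D.bonds (ρ i) (ρ j) = D.bonds i j) ∧
  (∃ σ : F ≃+* F, ∀ k < D.rank, ∀ t, f k t = f k 1 * σ t ^ D.graphExp (ringChar F) k (ρ k) ∧
      g k t = (f k 1)⁻¹ * σ t ^ D.graphExp (ringChar F) k (ρ k)) ∧
  (D = chevG2 → ρ 0 = 1 → ringChar F = 3) ∧ (D = chevB2 → ρ 0 = 1 → ringChar F = 2) ∧
  (D = chevF4 → ρ 0 = 3 → ringChar F = 2)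

theorem bonds_comm (D : ChevalleyDatum) (i j : ℕ) : D.bonds i j = D.bonds j i := by
  unfold ChevalleyDatum.bonds
  ring

theorem graphExp_self (D : ChevalleyDatum) (c k : ℕ) : D.graphExp c k k = 1 := by
  unfold ChevalleyDatum.graphExp
  cases D.isLong (D.simple k) <;> simp

section
variable (D : ChevalleyDatum) (hD : D ∈ [chevG2, chevB2, chevD4, chevF4, chevE6, chevE7, chevE8])
variable (F : Type*) [Field F]
include hD

/-- root elements of two roots whose commutator formula has no terms commute -/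
theorem xGL_comm_of_nil (r s : ℕ) (hr : r < D.nroots) (hs : s < D.nroots) (hsr : s ≠ r)
    (hsn : s ≠ D.neg r) (h : D.commTerms r s = []) (t u : F) :
    xGL D hD F s u * xGL D hD F r t = xGL D hD F r t * xGL D hD F s u := by
  have := comm_formula_GL D hD F r s hr hs hsr hsn t u
  unfold ChevalleyDatum.commWord at this
  rw [h] at this
  have e : wordGL D hD F ([] : List (ℕ × F)) = 1 := rfl
  rw [List.map_nil, e, mul_one] at this
  exact this

variable {D hD F}

/-- trivial permutation of the nodes -/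
theorem FundData.shape_of_id (hconn : connB D = true)
    {θ : ↥(D.group F) ≃* ↥(D.group F)} {ρ : ℕ → ℕ}
    {f g : ℕ → F → F} (h : FundData D hD F θ ρ f g)
    (hU : Stab D F θ (D.posUnipotent F)) (hV : Stab D F θ (D.negUnipotent F))
    (hρ : ∀ k < D.rank, ρ k = k) :
    (∀ i < D.rank, ∀ j < D.rank, i ≠ j → D.bonds (ρ i) (ρ j) = D.bonds i j) ∧
    (∃ σ : F ≃+* F, ∀ k < D.rank, ∀ t, f k t = f k 1 * σ t ^ D.graphExp (ringChar F) k (ρ k) ∧
      g k t = (f k 1)⁻¹ * σ t ^ D.graphExp (ringChar F) k (ρ k)) := by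
  refine ⟨fun i hi j hj _ => by rw [hρ i hi, hρ j hj], ?_⟩
  obtain ⟨σ, hσ⟩ := h.exists_field_of_adj hconn hU hV
    (fun i hi j hj hij hb => h.adj_of_id hU hV hρ i j hi hj hij hb)
  refine ⟨σ, fun k hk t => ?_⟩
  rw [hρ k hk, graphExp_self, pow_one]
  exact hσ k hk t

/-- the comparison of the commutator formulas for an automorphism interchanging two fundamental roots
joined by a double bond -/
theorem FundData.b2_swap {θ : ↥(D.group F) ≃* ↥(D.group F)} {ρ : ℕ → ℕ}
    {f g : ℕ → F → F} (h : FundData D hD F θ ρ f g) (i j : ℕ) (hi : i < D.rank) (hj : j < D.rank)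
    (hij : i ≠ j) (hρi : ρ i = j) (hρj : ρ j = i)
    (k1 k2 : ℕ) (C1 C2 C1' C2' : ℤ)
    (hT : D.commTerms (D.simple i) (D.simple j) = [(k1, C1, 1, 1), (k2, C2, 2, 1)])
    (hT' : D.commTerms (D.simple j) (D.simple i) = [(k1, C1', 1, 1), (k2, C2', 1, 2)])
    (hk1 : k1 < D.nroots) (hk2 : k2 < D.nroots) (hne : k2 ≠ k1) (hne' : k2 ≠ D.neg k1)
    (hcomm : D.commTerms k1 k2 = [])
    (F1 F2 : F → F) (hF1 : RootParam D hD F θ k1 k2 F1) (hF2 : RootParam D hD F θ k2 k1 F2) (t u : F) :
    F2 ((C2 : F) * (-t) ^ 2 * u ^ 1) = (C1' : F) * (-(f i t)) ^ 1 * (f j u) ^ 1 ∧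
    F1 ((C1 : F) * (-t) ^ 1 * u ^ 1) = (C2' : F) * (-(f i t)) ^ 1 * (f j u) ^ 2 := by
  have htr := h.transfer i j hi hj hij t u
  unfold ChevalleyDatum.commWord at htr
  rw [hρi, hρj, hT, hT'] at htr
  simp only [List.map_cons, List.map_nil, wordG_cons, wordG_nil, mul_one, map_mul, hF1.map,
    hF2.map] at htr
  have h2 := congrArg Subtype.val htr
  simp only [Subgroup.coe_mul, coe_xG] at h2
  rw [xGL_comm_of_nil D hD F k1 k2 hk1 hk2 hne hne' hcomm] at h2
  have h3 := xGL_pair_inj D hD F k1 k2 hk1 hk2 (Ne.symm hne) _ _ _ _ h2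
  exact ⟨h3.1, h3.2⟩

end

/-! ### Type `B₂` -/

section
variable {F : Type*} [Field F] [Finite F]

theorem shape_B2 (hD : chevB2 ∈ [chevG2, chevB2, chevD4, chevF4, chevE6, chevE7, chevE8])
    (θ : ↥(chevB2.group F) ≃* ↥(chevB2.group F)) (ρ : ℕ → ℕ) (f g : ℕ → F → F)
    (hU : Stab chevB2 F θ (chevB2.posUnipotent F)) (hV : Stab chevB2 F θ (chevB2.negUnipotent F))
    (h : FundData chevB2 hD F θ ρ f g) : ShapeConcl chevB2 F ρ f g := by
  have h0 : (0 : ℕ) < chevB2.rank := by decide
  have h1 : (1 : ℕ) < chevB2.rank := by decide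
  have hr2 : chevB2.rank = 2 := rfl
  have hlt0 := h.lt 0 h0
  have hlt1 := h.lt 1 h1
  have hinj : ρ 0 ≠ ρ 1 := fun he => absurd (h.inj 0 1 h0 h1 he) (by decide)
  have hcases : (ρ 0 = 0 ∧ ρ 1 = 1) ∨ (ρ 0 = 1 ∧ ρ 1 = 0) := by omega
  have hneG : chevB2 ≠ chevG2 := by
    intro he; have := congrArg ChevalleyDatum.nroots he; revert this; decide
  have hneF : chevB2 ≠ chevF4 := by
    intro he; have := congrArg ChevalleyDatum.rank he; revert this; decide
  rcases hcases with ⟨hρ0, hρ1⟩ | ⟨hρ0, hρ1⟩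
  · have hρ : ∀ k < chevB2.rank, ρ k = k := by
      intro k hk
      have : k = 0 ∨ k = 1 := by omega
      rcases this with rfl | rfl
      · exact hρ0
      · exact hρ1
    obtain ⟨hb, hσ⟩ := h.shape_of_id connB_B2 hU hV hρ
    exact ⟨hb, hσ, fun he => absurd he hneG, fun _ h1' => by omega, fun he => absurd he hneF⟩
  · -- the two fundamental roots are interchanged
    have e0 : chevB2.simple 0 = 5 := by decide
    have e1 : chevB2.simple 1 = 4 := by decide
    have hp0 := h.pos 0 h0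
    have hp1 := h.pos 1 h1
    rw [hρ0, e0, e1] at hp0
    rw [hρ1, e0, e1] at hp1
    have m5 : Maps chevB2 F θ (chevB2.rootSubgroup F 5) (chevB2.rootSubgroup F 4) := hp0.toMaps
    have m4 : Maps chevB2 F θ (chevB2.rootSubgroup F 4) (chevB2.rootSubgroup F 5) := hp1.toMaps
    have m6 : Maps chevB2 F θ (chevB2.rootSubgroup F 6) (chevB2.rootSubgroup F 7) := by
      have := h.maps_step hU hV 1 h1 5 4 (by decide) (by decide) m5
      rw [hρ1] at this
      have r1 : chevB2.reflectRoot 1 5 = 6 := by decide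
      have r2 : chevB2.reflectRoot 0 4 = 7 := by decide
      rw [r1, r2] at this
      exact this
    have m7 : Maps chevB2 F θ (chevB2.rootSubgroup F 7) (chevB2.rootSubgroup F 6) := by
      have := h.maps_step hU hV 0 h0 4 5 (by decide) (by decide) m4
      rw [hρ0] at this
      have r1 : chevB2.reflectRoot 0 4 = 7 := by decide
      have r2 : chevB2.reflectRoot 1 5 = 6 := by decide
      rw [r1, r2] at this
      exact this
    obtain ⟨F1, hF1⟩ := exists_rootParam chevB2 hD F θ 6 7 (by decide) (by decide) m6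
    obtain ⟨F2, hF2⟩ := exists_rootParam chevB2 hD F θ 7 6 (by decide) (by decide) m7
    have hT : chevB2.commTerms (chevB2.simple 0) (chevB2.simple 1) =
        [(6, -1, 1, 1), (7, -1, 2, 1)] := by decide
    have hT' : chevB2.commTerms (chevB2.simple 1) (chevB2.simple 0) =
        [(6, 1, 1, 1), (7, -1, 1, 2)] := by decide
    have hsw := h.b2_swap 0 1 h0 h1 (by decide) hρ0 hρ1 6 7 (-1) (-1) 1 (-1) hT hT' (by decide)
      (by decide) (by decide) (by decide) (by decide) F1 F2 hF1 hF2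
    obtain ⟨h2, σ, hσ⟩ := alg_b2 (f 0) (f 1) F1 F2 (((-1 : ℤ) : F)) (((-1 : ℤ) : F))
      (((1 : ℤ) : F)) (((-1 : ℤ) : F)) (intCast_ne_zero_of_pm F 1 (Or.inl rfl))
      (intCast_ne_zero_of_pm F (-1) (Or.inr rfl)) (h.pos 0 h0).add (h.pos 0 h0).bij
      (h.pos 1 h1).add (h.pos 1 h1).bij (fun t u => (hsw t u).1) (fun t u => (hsw t u).2)
    have hchar : ringChar F = 2 :=
      CharP.ringChar_of_prime_eq_zero Nat.prime_two (by exact_mod_cast h2)
    have hm1 : (-1 : F) ^ 2 = -1 := by linear_combination h2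
    have hc : ∀ k < chevB2.rank, f k 1 ≠ 0 := fun k hk => (h.pos k hk).ne_zero 1 one_ne_zero
    refine ⟨?_, ⟨σ, ?_⟩, fun he => absurd he hneG, fun _ _ => hchar, fun he => absurd he hneF⟩
    · intro i hi j hj hij
      have hi' : i = 0 ∨ i = 1 := by omega
      have hj' : j = 0 ∨ j = 1 := by omega
      rcases hi' with rfl | rfl <;> rcases hj' with rfl | rfl
      · exact absurd rfl hij
      · rw [hρ0, hρ1]; exact bonds_comm _ _ _
      · rw [hρ0, hρ1]; exact bonds_comm _ _ _
      · exact absurd rfl hij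
    · intro k hk t
      have hk' : k = 0 ∨ k = 1 := by omega
      rcases hk' with rfl | rfl
      · have ge : chevB2.graphExp (ringChar F) 0 (ρ 0) = 2 := by
          rw [hρ0, hchar]; decide
        rw [ge]
        refine ⟨(hσ t).1, ?_⟩
        exact neg_param_of_pos (f 0) (g 0) σ (f 0 1) 2 (by norm_num) hm1 (hc 0 h0) (h.neg 0 h0).zero
          (fun t ht => h.rel hU hV 0 h0 t ht) (fun t => (hσ t).1) t
      · have ge : chevB2.graphExp (ringChar F) 1 (ρ 1) = 1 := by
          rw [hρ1, hchar]; decide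
        rw [ge, pow_one]
        refine ⟨(hσ t).2, ?_⟩
        have := neg_param_of_pos (f 1) (g 1) σ (f 1 1) 1 one_ne_zero (pow_one _) (hc 1 h1)
          (h.neg 1 h1).zero (fun t ht => h.rel hU hV 1 h1 t ht)
          (fun t => by rw [pow_one]; exact (hσ t).2) t
        rw [pow_one] at this
        exact this

end

end Cfsg.Agent.Lib.Lead.Stein
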