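import Cfsg.Agent.Lib.Lead.SteinU

/-! The shape theorem for type `G₂` (lead). -/

set_option autoImplicit false
set_option maxRecDepth 100000

namespace Cfsg.Agent.Lib.Lead.Stein

open Cfsg Cfsg.Lie Matrix Cfsg.Agent.Lib.Helper7 Cfsg.Agent.Lib.Helper3.BN Cfsg.Agent.Lib.Helper11

section
variable {F : Type*} [Field F]

theorem goodL_G2 : GoodL chevG2 [8, 9, 10, 11] := by
  have h := goodL_filter chevG2 8 (by decide)
  have e : chevG2.posRoots.filter (fun s => decide (8 < s)) = [9, 10, 11] := by decide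
  rw [e] at h
  exact h

/-- the comparison of the commutator formulas for an automorphism of `G₂` interchanging the two
fundamental roots -/
theorem FundData.g2_swap (hD : chevG2 ∈ [chevG2, chevB2, chevD4, chevF4, chevE6, chevE7, chevE8])
    {θ : ↥(chevG2.group F) ≃* ↥(chevG2.group F)} {ρ : ℕ → ℕ}
    {f g : ℕ → F → F} (h : FundData chevG2 hD F θ ρ f g) (hρ0 : ρ 0 = 1) (hρ1 : ρ 1 = 0)
    (F8 F9 F10 F11 : F → F) (h8 : RootParam chevG2 hD F θ 8 10 F8)
    (h9 : RootParam chevG2 hD F θ 9 11 F9) (h10 : RootParam chevG2 hD F θ 10 8 F10)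
    (h11 : RootParam chevG2 hD F θ 11 9 F11) (t u : F) :
    F10 (((1 : ℤ) : F) * (-t) ^ 3 * u ^ 1) = ((1 : ℤ) : F) * (-(f 0 t)) ^ 1 * (f 1 u) ^ 1 ∧
    F8 (((-1 : ℤ) : F) * (-t) ^ 1 * u ^ 1) = ((-1 : ℤ) : F) * (-(f 0 t)) ^ 1 * (f 1 u) ^ 3 ∧
    F9 (((1 : ℤ) : F) * (-t) ^ 2 * u ^ 1) = ((-2 : ℤ) : F) * (-(f 0 t)) ^ 2 * (f 1 u) ^ 3 := by
  obtain ⟨w, hO⟩ := exists_ordW chevG2 hD
  have hA := chainAdd_linF chevG2 hD w
  have h0 : (0 : ℕ) < chevG2.rank := by decide
  have h1 : (1 : ℕ) < chevG2.rank := by decide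
  have htr := h.transfer 0 1 h0 h1 (by decide) t u
  unfold ChevalleyDatum.commWord at htr
  have hT : chevG2.commTerms (chevG2.simple 0) (chevG2.simple 1) =
      [(8, -1, 1, 1), (9, 1, 2, 1), (10, 1, 3, 1), (11, 1, 3, 2)] := by decide
  have hT' : chevG2.commTerms (chevG2.simple 1) (chevG2.simple 0) =
      [(8, 1, 1, 1), (9, 1, 1, 2), (10, -1, 1, 3), (11, -2, 2, 3)] := by decide
  rw [hρ0, hρ1, hT, hT'] at htr
  simp only [List.map_cons, List.map_nil, wordG_cons, wordG_nil, mul_one, map_mul, h8.map, h9.map,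
    h10.map, h11.map] at htr
  have h2 := congrArg Subtype.val htr
  simp only [Subgroup.coe_mul, coe_xG] at h2
  -- reorder the left hand side
  have c810 := xGL_comm_of_nil chevG2 hD F 8 10 (by decide) (by decide) (by decide) (by decide)
    (by decide)
  have c910 := xGL_comm_of_nil chevG2 hD F 9 10 (by decide) (by decide) (by decide) (by decide)
    (by decide)
  have c811 := xGL_comm_of_nil chevG2 hD F 8 11 (by decide) (by decide) (by decide) (by decide)
    (by decide)
  have c911 := xGL_comm_of_nil chevG2 hD F 9 11 (by decide) (by decide) (by decide) (by decide)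
    (by decide)
  set a8 := F8 (((-1 : ℤ) : F) * (-t) ^ 1 * u ^ 1) with ha8
  set a9 := F9 (((1 : ℤ) : F) * (-t) ^ 2 * u ^ 1) with ha9
  set a10 := F10 (((1 : ℤ) : F) * (-t) ^ 3 * u ^ 1) with ha10
  set a11 := F11 (((1 : ℤ) : F) * (-t) ^ 3 * u ^ 2) with ha11
  have e : xGL chevG2 hD F 10 a8 * (xGL chevG2 hD F 11 a9 * (xGL chevG2 hD F 8 a10 *
      xGL chevG2 hD F 9 a11)) =
      xGL chevG2 hD F 8 a10 * (xGL chevG2 hD F 9 a11 * (xGL chevG2 hD F 10 a8 *
        xGL chevG2 hD F 11 a9)) := by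
    calc xGL chevG2 hD F 10 a8 * (xGL chevG2 hD F 11 a9 * (xGL chevG2 hD F 8 a10 *
          xGL chevG2 hD F 9 a11))
        = xGL chevG2 hD F 10 a8 * ((xGL chevG2 hD F 11 a9 * xGL chevG2 hD F 8 a10) *
          xGL chevG2 hD F 9 a11) := by group
      _ = xGL chevG2 hD F 10 a8 * ((xGL chevG2 hD F 8 a10 * xGL chevG2 hD F 11 a9) *
          xGL chevG2 hD F 9 a11) := by rw [c811]
      _ = xGL chevG2 hD F 10 a8 * (xGL chevG2 hD F 8 a10 * (xGL chevG2 hD F 11 a9 *
          xGL chevG2 hD F 9 a11)) := by group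
      _ = xGL chevG2 hD F 10 a8 * (xGL chevG2 hD F 8 a10 * (xGL chevG2 hD F 9 a11 *
          xGL chevG2 hD F 11 a9)) := by rw [c911]
      _ = (xGL chevG2 hD F 10 a8 * xGL chevG2 hD F 8 a10) * (xGL chevG2 hD F 9 a11 *
          xGL chevG2 hD F 11 a9) := by group
      _ = (xGL chevG2 hD F 8 a10 * xGL chevG2 hD F 10 a8) * (xGL chevG2 hD F 9 a11 *
          xGL chevG2 hD F 11 a9) := by rw [c810]
      _ = xGL chevG2 hD F 8 a10 * ((xGL chevG2 hD F 10 a8 * xGL chevG2 hD F 9 a11) *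
          xGL chevG2 hD F 11 a9) := by group
      _ = xGL chevG2 hD F 8 a10 * ((xGL chevG2 hD F 9 a11 * xGL chevG2 hD F 10 a8) *
          xGL chevG2 hD F 11 a9) := by rw [c910]
      _ = _ := by group
  rw [e] at h2
  set T1 : ℕ → F := fun r => if r = 8 then a10 else if r = 9 then a11 else if r = 10 then a8 else a9
    with hT1
  set T2 : ℕ → F := fun r => if r = 8 then ((1 : ℤ) : F) * (-(f 0 t)) ^ 1 * (f 1 u) ^ 1
    else if r = 9 then ((1 : ℤ) : F) * (-(f 0 t)) ^ 1 * (f 1 u) ^ 2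
    else if r = 10 then ((-1 : ℤ) : F) * (-(f 0 t)) ^ 1 * (f 1 u) ^ 3
    else ((-2 : ℤ) : F) * (-(f 0 t)) ^ 2 * (f 1 u) ^ 3 with hT2
  have hord : ordProd chevG2 hD F [8, 9, 10, 11] T1 = ordProd chevG2 hD F [8, 9, 10, 11] T2 := by
    simp only [ordProd_cons, ordProd_nil, mul_one]
    exact h2
  have hagree := ordProd_inj chevG2 hD F _ hA hO _ goodL_G2 T1 T2 hord
  have g8 := hagree 8 (by simp)
  have g10 := hagree 10 (by simp)
  have g11 := hagree 11 (by simp)
  simp only [hT1, hT2] at g8 g10 g11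
  norm_num at g8 g10 g11
  refine ⟨?_, ?_, ?_⟩
  · rw [g8]; push_cast; ring
  · rw [g10]; push_cast; ring
  · rw [g11]; push_cast; ring

end

section
variable {F : Type*} [Field F] [Finite F]

theorem shape_G2 (hD : chevG2 ∈ [chevG2, chevB2, chevD4, chevF4, chevE6, chevE7, chevE8])
    (θ : ↥(chevG2.group F) ≃* ↥(chevG2.group F)) (ρ : ℕ → ℕ) (f g : ℕ → F → F)
    (hU : Stab chevG2 F θ (chevG2.posUnipotent F)) (hV : Stab chevG2 F θ (chevG2.negUnipotent F))
    (h : FundData chevG2 hD F θ ρ f g) : ShapeConcl chevG2 F ρ f g := by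
  have h0 : (0 : ℕ) < chevG2.rank := by decide
  have h1 : (1 : ℕ) < chevG2.rank := by decide
  have hr2 : chevG2.rank = 2 := rfl
  have hlt0 := h.lt 0 h0
  have hlt1 := h.lt 1 h1
  have hinj : ρ 0 ≠ ρ 1 := fun he => absurd (h.inj 0 1 h0 h1 he) (by decide)
  have hcases : (ρ 0 = 0 ∧ ρ 1 = 1) ∨ (ρ 0 = 1 ∧ ρ 1 = 0) := by omega
  have hneB : chevG2 ≠ chevB2 := by
    intro he; have := congrArg ChevalleyDatum.nroots he; revert this; decide
  have hneF : chevG2 ≠ chevF4 := by
    intro he; have := congrArg ChevalleyDatum.rank he; revert this; decide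
  rcases hcases with ⟨hρ0, hρ1⟩ | ⟨hρ0, hρ1⟩
  · have hρ : ∀ k < chevG2.rank, ρ k = k := by
      intro k hk
      have : k = 0 ∨ k = 1 := by omega
      rcases this with rfl | rfl
      · exact hρ0
      · exact hρ1
    obtain ⟨hb, hσ⟩ := h.shape_of_id connB_G2 hU hV hρ
    exact ⟨hb, hσ, fun _ h1' => by omega, fun he => absurd he hneB, fun he => absurd he hneF⟩
  · -- the two fundamental roots are interchanged
    have e0 : chevG2.simple 0 = 7 := by decide
    have e1 : chevG2.simple 1 = 6 := by decide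
    have hp0 := h.pos 0 h0
    have hp1 := h.pos 1 h1
    rw [hρ0, e0, e1] at hp0
    rw [hρ1, e0, e1] at hp1
    have m7 : Maps chevG2 F θ (chevG2.rootSubgroup F 7) (chevG2.rootSubgroup F 6) := hp0.toMaps
    have m6 : Maps chevG2 F θ (chevG2.rootSubgroup F 6) (chevG2.rootSubgroup F 7) := hp1.toMaps
    have r17 : chevG2.reflectRoot 1 7 = 8 := by decide
    have r06 : chevG2.reflectRoot 0 6 = 10 := by decide
    have r08 : chevG2.reflectRoot 0 8 = 9 := by decide
    have r110 : chevG2.reflectRoot 1 10 = 11 := by decide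
    have m8 : Maps chevG2 F θ (chevG2.rootSubgroup F 8) (chevG2.rootSubgroup F 10) := by
      have := h.maps_step hU hV 1 h1 7 6 (by decide) (by decide) m7
      rw [hρ1, r17, r06] at this
      exact this
    have m10 : Maps chevG2 F θ (chevG2.rootSubgroup F 10) (chevG2.rootSubgroup F 8) := by
      have := h.maps_step hU hV 0 h0 6 7 (by decide) (by decide) m6
      rw [hρ0, r17, r06] at this
      exact this
    have m9 : Maps chevG2 F θ (chevG2.rootSubgroup F 9) (chevG2.rootSubgroup F 11) := by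
      have := h.maps_step hU hV 0 h0 8 10 (by decide) (by decide) m8
      rw [hρ0, r08, r110] at this
      exact this
    have m11 : Maps chevG2 F θ (chevG2.rootSubgroup F 11) (chevG2.rootSubgroup F 9) := by
      have := h.maps_step hU hV 1 h1 10 8 (by decide) (by decide) m10
      rw [hρ1, r08, r110] at this
      exact this
    obtain ⟨F8, hF8⟩ := exists_rootParam chevG2 hD F θ 8 10 (by decide) (by decide) m8
    obtain ⟨F9, hF9⟩ := exists_rootParam chevG2 hD F θ 9 11 (by decide) (by decide) m9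
    obtain ⟨F10, hF10⟩ := exists_rootParam chevG2 hD F θ 10 8 (by decide) (by decide) m10
    obtain ⟨F11, hF11⟩ := exists_rootParam chevG2 hD F θ 11 9 (by decide) (by decide) m11
    have hsw := h.g2_swap hD hρ0 hρ1 F8 F9 F10 F11 hF8 hF9 hF10 hF11
    obtain ⟨h3, σ, hσ⟩ := alg_g2 (f 0) (f 1) F8 F9 F10 (h.pos 0 h0).add (h.pos 0 h0).bij
      (h.pos 1 h1).add (h.pos 1 h1).bij hF9.bij.1 (fun t u => (hsw t u).1)
      (fun t u => (hsw t u).2.1) (fun t u => (hsw t u).2.2)
    have hchar : ringChar F = 3 :=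
      CharP.ringChar_of_prime_eq_zero Nat.prime_three (by exact_mod_cast h3)
    have hm1 : (-1 : F) ^ 3 = -1 := by ring
    have hc : ∀ k < chevG2.rank, f k 1 ≠ 0 := fun k hk => (h.pos k hk).ne_zero 1 one_ne_zero
    refine ⟨?_, ⟨σ, ?_⟩, fun _ _ => hchar, fun he => absurd he hneB, fun he => absurd he hneF⟩
    · intro i hi j hj hij
      have hi' : i = 0 ∨ i = 1 := by omega
      have hj' : j = 0 ∨ j = 1 := by omega
      rcases hi' with rfl | rfl <;> rcases hj' with rfl | rfl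
      · exact absurd rfl hij
      · rw [hρ0, hρ1]; exact bonds_comm _ _ _
      · rw [hρ0, hρ1]; exact bonds_comm _ _ _
      · exact absurd rfl hij
    · intro k hk t
      have hk' : k = 0 ∨ k = 1 := by omega
      rcases hk' with rfl | rfl
      · have ge : chevG2.graphExp (ringChar F) 0 (ρ 0) = 3 := by
          rw [hρ0, hchar]; decide
        rw [ge]
        refine ⟨(hσ t).1, ?_⟩
        exact neg_param_of_pos (f 0) (g 0) σ (f 0 1) 3 (by norm_num) hm1 (hc 0 h0) (h.neg 0 h0).zero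
          (fun t ht => h.rel hU hV 0 h0 t ht) (fun t => (hσ t).1) t
      · have ge : chevG2.graphExp (ringChar F) 1 (ρ 1) = 1 := by
          rw [hρ1, hchar]; decide
        rw [ge, pow_one]
        refine ⟨(hσ t).2, ?_⟩
        have := neg_param_of_pos (f 1) (g 1) σ (f 1 1) 1 one_ne_zero (pow_one _) (hc 1 h1)
          (h.neg 1 h1).zero (fun t ht => h.rel hU hV 1 h1 t ht)
          (fun t => by rw [pow_one]; exact (hσ t).2) t
        rw [pow_one] at this
        exact this

end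

end Cfsg.Agent.Lib.Lead.Stein
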