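import Cfsg.Agent.Lib.Lead.SteinU

/-! The shape theorem for type `F₄` (lead). -/

set_option autoImplicit false
set_option maxRecDepth 100000

namespace Cfsg.Agent.Lib.Lead.Stein

open Cfsg Cfsg.Lie Matrix Cfsg.Agent.Lib.Helper7 Cfsg.Agent.Lib.Helper3.BN Cfsg.Agent.Lib.Helper11

/-- a permutation of the nodes of `F₄` preserving non-adjacency is trivial or the reversal -/
theorem f4_perm_aux : ∀ a b c d : Fin 4, a ≠ b → a ≠ c → a ≠ d → b ≠ c → b ≠ d → c ≠ d →
    chevF4.bonds a.val c.val = 0 → chevF4.bonds a.val d.val = 0 → chevF4.bonds b.val d.val = 0 →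
    (a = 0 ∧ b = 1 ∧ c = 2 ∧ d = 3) ∨ (a = 3 ∧ b = 2 ∧ c = 1 ∧ d = 0) := by decide +kernel

theorem f4_bonds_rev : ∀ i < 4, ∀ j < 4, chevF4.bonds (3 - i) (3 - j) = chevF4.bonds i j := by
  decide +kernel

section
variable {F : Type*} [Field F] [Finite F]

theorem shape_F4 (hD : chevF4 ∈ [chevG2, chevB2, chevD4, chevF4, chevE6, chevE7, chevE8])
    (θ : ↥(chevF4.group F) ≃* ↥(chevF4.group F)) (ρ : ℕ → ℕ) (f g : ℕ → F → F)
    (hU : Stab chevF4 F θ (chevF4.posUnipotent F)) (hV : Stab chevF4 F θ (chevF4.negUnipotent F))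
    (h : FundData chevF4 hD F θ ρ f g) : ShapeConcl chevF4 F ρ f g := by
  have h0 : (0 : ℕ) < chevF4.rank := by decide
  have h1 : (1 : ℕ) < chevF4.rank := by decide
  have h2 : (2 : ℕ) < chevF4.rank := by decide
  have h3 : (3 : ℕ) < chevF4.rank := by decide
  have hr4 : chevF4.rank = 4 := rfl
  have hlt0 : ρ 0 < 4 := h.lt 0 h0
  have hlt1 : ρ 1 < 4 := h.lt 1 h1
  have hlt2 : ρ 2 < 4 := h.lt 2 h2
  have hlt3 : ρ 3 < 4 := h.lt 3 h3
  have hneG : chevF4 ≠ chevG2 := by
    intro he; have := congrArg ChevalleyDatum.rank he; revert this; decide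
  have hneB : chevF4 ≠ chevB2 := by
    intro he; have := congrArg ChevalleyDatum.rank he; revert this; decide
  have n01 : ρ 0 ≠ ρ 1 := fun he => absurd (h.inj 0 1 h0 h1 he) (by decide)
  have n02 : ρ 0 ≠ ρ 2 := fun he => absurd (h.inj 0 2 h0 h2 he) (by decide)
  have n03 : ρ 0 ≠ ρ 3 := fun he => absurd (h.inj 0 3 h0 h3 he) (by decide)
  have n12 : ρ 1 ≠ ρ 2 := fun he => absurd (h.inj 1 2 h1 h2 he) (by decide)
  have n13 : ρ 1 ≠ ρ 3 := fun he => absurd (h.inj 1 3 h1 h3 he) (by decide)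
  have n23 : ρ 2 ≠ ρ 3 := fun he => absurd (h.inj 2 3 h2 h3 he) (by decide)
  have b02 : chevF4.bonds (ρ 0) (ρ 2) = 0 := (h.bonds_zero_iff 0 2 h0 h2 (by decide)).mpr (by decide)
  have b03 : chevF4.bonds (ρ 0) (ρ 3) = 0 := (h.bonds_zero_iff 0 3 h0 h3 (by decide)).mpr (by decide)
  have b13 : chevF4.bonds (ρ 1) (ρ 3) = 0 := (h.bonds_zero_iff 1 3 h1 h3 (by decide)).mpr (by decide)
  have hcases := f4_perm_aux ⟨ρ 0, hlt0⟩ ⟨ρ 1, hlt1⟩ ⟨ρ 2, hlt2⟩ ⟨ρ 3, hlt3⟩
    (fun he => n01 (Fin.mk.inj_iff.mp he)) (fun he => n02 (Fin.mk.inj_iff.mp he))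
    (fun he => n03 (Fin.mk.inj_iff.mp he)) (fun he => n12 (Fin.mk.inj_iff.mp he))
    (fun he => n13 (Fin.mk.inj_iff.mp he)) (fun he => n23 (Fin.mk.inj_iff.mp he)) b02 b03 b13
  rcases hcases with ⟨q0, q1, q2, q3⟩ | ⟨q0, q1, q2, q3⟩
  · have hρ0 : ρ 0 = 0 := Fin.mk.inj_iff.mp q0
    have hρ1 : ρ 1 = 1 := Fin.mk.inj_iff.mp q1
    have hρ2 : ρ 2 = 2 := Fin.mk.inj_iff.mp q2
    have hρ3 : ρ 3 = 3 := Fin.mk.inj_iff.mp q3
    have hρ : ∀ k < chevF4.rank, ρ k = k := by
      intro k hk
      have : k = 0 ∨ k = 1 ∨ k = 2 ∨ k = 3 := by omega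
      rcases this with rfl | rfl | rfl | rfl
      · exact hρ0
      · exact hρ1
      · exact hρ2
      · exact hρ3
    obtain ⟨hb, hσ⟩ := h.shape_of_id connB_F4 hU hV hρ
    exact ⟨hb, hσ, fun he => absurd he hneG, fun he => absurd he hneB, fun _ h1' => by omega⟩
  · -- the reversal of the diagram
    have hρ0 : ρ 0 = 3 := Fin.mk.inj_iff.mp q0
    have hρ1 : ρ 1 = 2 := Fin.mk.inj_iff.mp q1
    have hρ2 : ρ 2 = 1 := Fin.mk.inj_iff.mp q2
    have hρ3 : ρ 3 = 0 := Fin.mk.inj_iff.mp q3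
    have e0 : chevF4.simple 0 = 33 := by decide
    have e1 : chevF4.simple 1 = 27 := by decide
    have e2 : chevF4.simple 2 = 25 := by decide
    have e3 : chevF4.simple 3 = 24 := by decide
    have hp0 := h.pos 0 h0
    have hp1 := h.pos 1 h1
    have hp2 := h.pos 2 h2
    have hp3 := h.pos 3 h3
    rw [hρ0, e0, e3] at hp0
    rw [hρ1, e1, e2] at hp1
    rw [hρ2, e2, e1] at hp2
    rw [hρ3, e3, e0] at hp3
    have m33 : Maps chevF4 F θ (chevF4.rootSubgroup F 33) (chevF4.rootSubgroup F 24) := hp0.toMaps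
    have m27 : Maps chevF4 F θ (chevF4.rootSubgroup F 27) (chevF4.rootSubgroup F 25) := hp1.toMaps
    have m25 : Maps chevF4 F θ (chevF4.rootSubgroup F 25) (chevF4.rootSubgroup F 27) := hp2.toMaps
    have m24 : Maps chevF4 F θ (chevF4.rootSubgroup F 24) (chevF4.rootSubgroup F 33) := hp3.toMaps
    have r227 : chevF4.reflectRoot 2 27 = 28 := by decide
    have r125 : chevF4.reflectRoot 1 25 = 30 := by decide
    have r133 : chevF4.reflectRoot 1 33 = 34 := by decide
    have r224 : chevF4.reflectRoot 2 24 = 26 := by decide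
    have m28 : Maps chevF4 F θ (chevF4.rootSubgroup F 28) (chevF4.rootSubgroup F 30) := by
      have := h.maps_step hU hV 2 h2 27 25 (by decide) (by decide) m27
      rw [hρ2, r227, r125] at this
      exact this
    have m30 : Maps chevF4 F θ (chevF4.rootSubgroup F 30) (chevF4.rootSubgroup F 28) := by
      have := h.maps_step hU hV 1 h1 25 27 (by decide) (by decide) m25
      rw [hρ1, r227, r125] at this
      exact this
    have m34 : Maps chevF4 F θ (chevF4.rootSubgroup F 34) (chevF4.rootSubgroup F 26) := by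
      have := h.maps_step hU hV 1 h1 33 24 (by decide) (by decide) m33
      rw [hρ1, r133, r224] at this
      exact this
    have m26 : Maps chevF4 F θ (chevF4.rootSubgroup F 26) (chevF4.rootSubgroup F 34) := by
      have := h.maps_step hU hV 2 h2 24 33 (by decide) (by decide) m24
      rw [hρ2, r133, r224] at this
      exact this
    obtain ⟨F28, hF28⟩ := exists_rootParam chevF4 hD F θ 28 30 (by decide) (by decide) m28
    obtain ⟨F30, hF30⟩ := exists_rootParam chevF4 hD F θ 30 28 (by decide) (by decide) m30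
    obtain ⟨F34, hF34⟩ := exists_rootParam chevF4 hD F θ 34 26 (by decide) (by decide) m34
    obtain ⟨F26, hF26⟩ := exists_rootParam chevF4 hD F θ 26 34 (by decide) (by decide) m26
    -- the double bond
    have hT : chevF4.commTerms (chevF4.simple 1) (chevF4.simple 2) =
        [(28, -1, 1, 1), (30, -1, 2, 1)] := by decide
    have hT' : chevF4.commTerms (chevF4.simple 2) (chevF4.simple 1) =
        [(28, 1, 1, 1), (30, -1, 1, 2)] := by decide
    have hsw := h.b2_swap 1 2 h1 h2 (by decide) hρ1 hρ2 28 30 (-1) (-1) 1 (-1) hT hT' (by decide)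
      (by decide) (by decide) (by decide) (by decide) F28 F30 hF28 hF30
    obtain ⟨h2F, σ, hσ⟩ := alg_b2 (f 1) (f 2) F28 F30 (((-1 : ℤ) : F)) (((-1 : ℤ) : F))
      (((1 : ℤ) : F)) (((-1 : ℤ) : F)) (intCast_ne_zero_of_pm F 1 (Or.inl rfl))
      (intCast_ne_zero_of_pm F (-1) (Or.inr rfl)) (h.pos 1 h1).add (h.pos 1 h1).bij
      (h.pos 2 h2).add (h.pos 2 h2).bij (fun t u => (hsw t u).1) (fun t u => (hsw t u).2)
    have hchar : ringChar F = 2 :=
      CharP.ringChar_of_prime_eq_zero Nat.prime_two (by exact_mod_cast h2F)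
    have hm1 : (-1 : F) ^ 2 = -1 := by linear_combination h2F
    have hc : ∀ k < chevF4.rank, f k 1 ≠ 0 := fun k hk => (h.pos k hk).ne_zero 1 one_ne_zero
    -- the single bonds
    have hT01 : chevF4.commTerms (chevF4.simple 0) (chevF4.simple 1) = (34, -1, 1, 1) :: [] := by
      decide
    have hT01' : chevF4.commTerms (chevF4.simple (ρ 0)) (chevF4.simple (ρ 1)) =
        (26, 1, 1, 1) :: [] := by
      rw [hρ0, hρ1]; decide
    have key01 := h.first_term 0 1 h0 h1 (by decide) 34 (-1) [] hT01 26 1 [] hT01' F34 hF34 _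
      (goodL_filter chevF4 26 (by decide)) (fun c hc => by simp at hc) (fun c hc => by simp at hc)
    have a01 := adj_of_leading (f 0) (f 1) F34 (((-1 : ℤ) : F)) (((1 : ℤ) : F))
      (intCast_ne_zero_of_pm F 1 (Or.inl rfl)) key01
    have hT23 : chevF4.commTerms (chevF4.simple 2) (chevF4.simple 3) = (26, -1, 1, 1) :: [] := by
      decide
    have hT23' : chevF4.commTerms (chevF4.simple (ρ 2)) (chevF4.simple (ρ 3)) =
        (34, 1, 1, 1) :: [] := by
      rw [hρ2, hρ3]; decide
    have key23 := h.first_term 2 3 h2 h3 (by decide) 26 (-1) [] hT23 34 1 [] hT23' F26 hF26 _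
      (goodL_filter chevF4 34 (by decide)) (fun c hc => by simp at hc) (fun c hc => by simp at hc)
    have a23 := adj_of_leading (f 2) (f 3) F26 (((-1 : ℤ) : F)) (((1 : ℤ) : F))
      (intCast_ne_zero_of_pm F 1 (Or.inl rfl)) key23
    have hf0 : ∀ t, f 0 t = f 0 1 * σ t ^ 2 := by
      intro t
      have := a01.1 t
      rw [(hσ t).1] at this
      have hc1 := hc 1 h1
      have h5 : f 1 1 * (f 0 t - f 0 1 * σ t ^ 2) = 0 := by linear_combination this
      rcases mul_eq_zero.mp h5 with h6 | h6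
      · exact absurd h6 hc1
      · exact sub_eq_zero.mp h6
    have hf3 : ∀ t, f 3 t = f 3 1 * σ t := by
      intro t
      have := a23.1 t
      rw [(hσ t).2] at this
      have hc2 := hc 2 h2
      have h5 : f 2 1 * (f 3 t - f 3 1 * σ t) = 0 := by linear_combination -this
      rcases mul_eq_zero.mp h5 with h6 | h6
      · exact absurd h6 hc2
      · exact sub_eq_zero.mp h6
    refine ⟨?_, ⟨σ, ?_⟩, fun he => absurd he hneG, fun he => absurd he hneB, fun _ _ => hchar⟩
    · intro i hi j hj _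
      have hρk : ∀ k < 4, ρ k = 3 - k := by
        intro k hk
        have : k = 0 ∨ k = 1 ∨ k = 2 ∨ k = 3 := by omega
        rcases this with rfl | rfl | rfl | rfl
        · exact hρ0
        · exact hρ1
        · exact hρ2
        · exact hρ3
      rw [hρk i hi, hρk j hj]
      exact f4_bonds_rev i hi j hj
    · intro k hk t
      have hk' : k = 0 ∨ k = 1 ∨ k = 2 ∨ k = 3 := by omega
      rcases hk' with rfl | rfl | rfl | rfl
      · have ge : chevF4.graphExp (ringChar F) 0 (ρ 0) = 2 := by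
          rw [hρ0, hchar]; decide
        rw [ge]
        refine ⟨hf0 t, ?_⟩
        exact neg_param_of_pos (f 0) (g 0) σ (f 0 1) 2 (by norm_num) hm1 (hc 0 h0) (h.neg 0 h0).zero
          (fun t ht => h.rel hU hV 0 h0 t ht) hf0 t
      · have ge : chevF4.graphExp (ringChar F) 1 (ρ 1) = 2 := by
          rw [hρ1, hchar]; decide
        rw [ge]
        refine ⟨(hσ t).1, ?_⟩
        exact neg_param_of_pos (f 1) (g 1) σ (f 1 1) 2 (by norm_num) hm1 (hc 1 h1) (h.neg 1 h1).zero
          (fun t ht => h.rel hU hV 1 h1 t ht) (fun t => (hσ t).1) t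
      · have ge : chevF4.graphExp (ringChar F) 2 (ρ 2) = 1 := by
          rw [hρ2, hchar]; decide
        rw [ge, pow_one]
        refine ⟨(hσ t).2, ?_⟩
        have := neg_param_of_pos (f 2) (g 2) σ (f 2 1) 1 one_ne_zero (pow_one _) (hc 2 h2)
          (h.neg 2 h2).zero (fun t ht => h.rel hU hV 2 h2 t ht)
          (fun t => by rw [pow_one]; exact (hσ t).2) t
        rw [pow_one] at this
        exact this
      · have ge : chevF4.graphExp (ringChar F) 3 (ρ 3) = 1 := by
          rw [hρ3, hchar]; decide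
        rw [ge, pow_one]
        refine ⟨hf3 t, ?_⟩
        have := neg_param_of_pos (f 3) (g 3) σ (f 3 1) 1 one_ne_zero (pow_one _) (hc 3 h3)
          (h.neg 3 h3).zero (fun t ht => h.rel hU hV 3 h3 t ht)
          (fun t => by rw [pow_one]; exact hf3 t) t
        rw [pow_one] at this
        exact this

end

end Cfsg.Agent.Lib.Lead.Stein
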