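import Cfsg.Agent.Lib.Lead.SteinV
import Cfsg.Agent.Lib.Lead.SteinW

/-! The shape theorem for the seven tabulated Chevalley data over a finite field (lead). -/

set_option autoImplicit false
set_option maxRecDepth 100000

namespace Cfsg.Agent.Lib.Lead.Stein

open Cfsg Cfsg.Lie Matrix Cfsg.Agent.Lib.Helper7 Cfsg.Agent.Lib.Helper3.BN Cfsg.Agent.Lib.Helper11

/-- no fundamental root is long (one root length) -/
def noLongB (D : ChevalleyDatum) : Bool := (List.range D.rank).all fun j => !D.isLong (D.simple j)

theorem graphExp_of_noLong (D : ChevalleyDatum) (h : noLongB D = true) (c i j : ℕ) (hj : j < D.rank) :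
    D.graphExp c i j = 1 := by
  unfold noLongB at h
  rw [List.all_eq_true] at h
  have := h j (List.mem_range.mpr hj)
  unfold ChevalleyDatum.graphExp
  cases hL : D.isLong (D.simple j)
  · simp
  · rw [hL] at this; simp at this

theorem noLongB_D4 : noLongB chevD4 = true := by decide +kernel
theorem noLongB_E6 : noLongB chevE6 = true := by decide +kernel
theorem noLongB_E7 : noLongB chevE7 = true := by decide +kernel
theorem noLongB_E8 : noLongB chevE8 = true := by decide +kernel

/-- the shape theorem: the form of an automorphism stabilising `U` and `V` on the fundamental root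
subgroups -/
def Shape (D : ChevalleyDatum) (hD : D ∈ [chevG2, chevB2, chevD4, chevF4, chevE6, chevE7, chevE8])
    (F : Type*) [Field F] : Prop :=
  ∀ (θ : ↥(D.group F) ≃* ↥(D.group F)) (ρ : ℕ → ℕ) (f g : ℕ → F → F),
    Stab D F θ (D.posUnipotent F) → Stab D F θ (D.negUnipotent F) → FundData D hD F θ ρ f g →
      ShapeConcl D F ρ f g

section
variable {F : Type*} [Field F]

theorem shape_SL (D : ChevalleyDatum)
    (hD : D ∈ [chevG2, chevB2, chevD4, chevF4, chevE6, chevE7, chevE8]) (hSL : SimplyLaced D)
    (hconn : connB D = true) (hNL : noLongB D = true) (hneG : D ≠ chevG2) (hneB : D ≠ chevB2)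
    (hneF : D ≠ chevF4) : Shape D hD F := by
  intro θ ρ f g hU hV h
  refine ⟨fun i hi j hj hij => h.bonds_eq hSL i j hi hj hij, ?_, fun he => absurd he hneG,
    fun he => absurd he hneB, fun he => absurd he hneF⟩
  obtain ⟨σ, hσ⟩ := h.exists_field hSL hconn hU hV
  refine ⟨σ, fun k hk t => ?_⟩
  rw [graphExp_of_noLong D hNL _ k (ρ k) (h.lt k hk), pow_one]
  exact hσ k hk t

variable [Finite F]

theorem shape (D : ChevalleyDatum)
    (hD : D ∈ [chevG2, chevB2, chevD4, chevF4, chevE6, chevE7, chevE8]) : Shape D hD F := by
  have key := mem_seven_cases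
    (P := fun D => ∀ hD : D ∈ [chevG2, chevB2, chevD4, chevF4, chevE6, chevE7, chevE8], Shape D hD F)
    (fun hD θ ρ f g hU hV h => shape_G2 hD θ ρ f g hU hV h)
    (fun hD θ ρ f g hU hV h => shape_B2 hD θ ρ f g hU hV h)
    (fun hD => shape_SL chevD4 hD simplyLaced_D4 connB_D4 noLongB_D4
      (by intro he; have := congrArg ChevalleyDatum.rank he; revert this; decide)
      (by intro he; have := congrArg ChevalleyDatum.rank he; revert this; decide)
      (by intro he; have := congrArg ChevalleyDatum.nroots he; revert this; decide))
    (fun hD θ ρ f g hU hV h => shape_F4 hD θ ρ f g hU hV h)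
    (fun hD => shape_SL chevE6 hD simplyLaced_E6 connB_E6 noLongB_E6
      (by intro he; have := congrArg ChevalleyDatum.rank he; revert this; decide)
      (by intro he; have := congrArg ChevalleyDatum.rank he; revert this; decide)
      (by intro he; have := congrArg ChevalleyDatum.rank he; revert this; decide))
    (fun hD => shape_SL chevE7 hD simplyLaced_E7 connB_E7 noLongB_E7
      (by intro he; have := congrArg ChevalleyDatum.rank he; revert this; decide)
      (by intro he; have := congrArg ChevalleyDatum.rank he; revert this; decide)
      (by intro he; have := congrArg ChevalleyDatum.rank he; revert this; decide))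
    (fun hD => shape_SL chevE8 hD simplyLaced_E8 connB_E8 noLongB_E8
      (by intro he; have := congrArg ChevalleyDatum.rank he; revert this; decide)
      (by intro he; have := congrArg ChevalleyDatum.rank he; revert this; decide)
      (by intro he; have := congrArg ChevalleyDatum.rank he; revert this; decide))
    D hD
  exact key hD

end

end Cfsg.Agent.Lib.Lead.Stein
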