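import Cfsg.Agent.Lib.Lead.SteinX

/-! The permutation of the nodes of the Dynkin diagram induced by an automorphism stabilising `U` and
`V`, as a homomorphism (lead). -/

set_option autoImplicit false

namespace Cfsg.Agent.Lib.Lead.Stein

open Cfsg Cfsg.Lie Matrix Cfsg.Agent.Lib.Helper7 Cfsg.Agent.Lib.Helper3.BN Cfsg.Agent.Lib.Helper11
open Cfsg.Agent.Lib.Lead.ChevCent

section
variable {D : ChevalleyDatum} {hD : D ∈ [chevG2, chevB2, chevD4, chevF4, chevE6, chevE7, chevE8]}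
variable {F : Type*} [Field F]

include hD in
/-- the permutation of the nodes is determined by the automorphism -/
theorem FundData.rho_unique {θ : ↥(D.group F) ≃* ↥(D.group F)} {ρ ρ' : ℕ → ℕ} {f g f' g' : ℕ → F → F}
    (h : FundData D hD F θ ρ f g) (h' : FundData D hD F θ ρ' f' g') (k : ℕ) (hk : k < D.rank) :
    ρ k = ρ' k := by
  have h1 : xG D hD F (D.simple (ρ k)) (f k 1) = xG D hD F (D.simple (ρ' k)) (f' k 1) := by
    rw [← (h.pos k hk).map, ← (h'.pos k hk).map]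
  have h2 := congrArg Subtype.val h1
  rw [coe_xG, coe_xG] at h2
  have h3 := xGL_root_inj D hD F _ _ (simple_lt D hD _ (h.lt k hk)) (simple_lt D hD _ (h'.lt k hk))
    _ _ ((h.pos k hk).ne_zero 1 one_ne_zero) h2
  exact simple_inj D hD _ _ (h.lt k hk) (h'.lt k hk) h3

theorem RootParam.comp {θ θ' : ↥(D.group F) ≃* ↥(D.group F)} {r s u : ℕ} {f f' : F → F}
    (h' : RootParam D hD F θ' r s f') (h : RootParam D hD F θ s u f) :
    RootParam D hD F ((θ : MulAut ↥(D.group F)) * (θ' : MulAut ↥(D.group F))) r u (f ∘ f') := by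
  refine ⟨fun t => ?_, fun t t' => ?_, h.bij.comp h'.bij⟩
  · show θ (θ' (xG D hD F r t)) = _
    rw [h'.map, h.map]; rfl
  · show f (f' (t + t')) = f (f' t) + f (f' t')
    rw [h'.add, h.add]

theorem FundData.mul {θ θ' : ↥(D.group F) ≃* ↥(D.group F)} {ρ ρ' : ℕ → ℕ} {f g f' g' : ℕ → F → F}
    (h : FundData D hD F θ ρ f g) (h' : FundData D hD F θ' ρ' f' g') :
    FundData D hD F ((θ : MulAut ↥(D.group F)) * (θ' : MulAut ↥(D.group F))) (fun k => ρ (ρ' k))
      (fun k => f (ρ' k) ∘ f' k) (fun k => g (ρ' k) ∘ g' k) :=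
  ⟨fun k hk => h.lt _ (h'.lt k hk), fun k hk => (h'.pos k hk).comp (h.pos _ (h'.lt k hk)),
    fun k hk => (h'.neg k hk).comp (h.neg _ (h'.lt k hk))⟩

theorem FundData.one : FundData D hD F (1 : MulAut ↥(D.group F)) (fun k => k) (fun _ => id)
    (fun _ => id) :=
  ⟨fun _ hk => hk, fun _ _ => ⟨fun _ => rfl, fun _ _ => rfl, Function.bijective_id⟩,
    fun _ _ => ⟨fun _ => rfl, fun _ _ => rfl, Function.bijective_id⟩⟩

end

section
variable (D : ChevalleyDatum) (hD : D ∈ [chevG2, chevB2, chevD4, chevF4, chevE6, chevE7, chevE8])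
variable (F : Type*) [Field F]

/-- the permutation of the nodes induced by an automorphism stabilising `U` and `V` -/
noncomputable def rhoOf (θ : ↥(autUV D F)) : ℕ → ℕ :=
  Classical.choose (exists_fundData D hD F θ.1 θ.2.1 θ.2.2)

theorem rhoOf_spec (θ : ↥(autUV D F)) :
    ∃ f g : ℕ → F → F, FundData D hD F θ.1 (rhoOf D hD F θ) f g :=
  Classical.choose_spec (exists_fundData D hD F θ.1 θ.2.1 θ.2.2)

variable {D hD F}

theorem FundData.rhoOf_eq {θ : ↥(autUV D F)} {ρ : ℕ → ℕ} {f g : ℕ → F → F}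
    (h : FundData D hD F θ.1 ρ f g) (k : ℕ) (hk : k < D.rank) : rhoOf D hD F θ k = ρ k := by
  obtain ⟨f', g', h'⟩ := rhoOf_spec D hD F θ
  exact h'.rho_unique h k hk

variable (D hD F)

theorem rhoOf_lt (θ : ↥(autUV D F)) (k : ℕ) (hk : k < D.rank) : rhoOf D hD F θ k < D.rank := by
  obtain ⟨f', g', h'⟩ := rhoOf_spec D hD F θ
  exact h'.lt k hk

theorem rhoOf_inj (θ : ↥(autUV D F)) (k k' : ℕ) (hk : k < D.rank) (hk' : k' < D.rank)
    (h : rhoOf D hD F θ k = rhoOf D hD F θ k') : k = k' := by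
  obtain ⟨f', g', h'⟩ := rhoOf_spec D hD F θ
  exact h'.inj k k' hk hk' h

theorem rhoOf_mul (θ θ' : ↥(autUV D F)) (k : ℕ) (hk : k < D.rank) :
    rhoOf D hD F (θ * θ') k = rhoOf D hD F θ (rhoOf D hD F θ' k) := by
  obtain ⟨f, g, h⟩ := rhoOf_spec D hD F θ
  obtain ⟨f', g', h'⟩ := rhoOf_spec D hD F θ'
  exact (h.mul h').rhoOf_eq (θ := θ * θ') k hk

theorem rhoOf_one (k : ℕ) (hk : k < D.rank) : rhoOf D hD F (1 : ↥(autUV D F)) k = k :=
  (FundData.one (D := D) (hD := hD) (F := F)).rhoOf_eq (θ := (1 : ↥(autUV D F))) k hk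

/-- the permutation of the nodes as a permutation of `Fin D.rank` -/
noncomputable def nodePerm (θ : ↥(autUV D F)) : Equiv.Perm (Fin D.rank) :=
  Equiv.ofBijective (fun k : Fin D.rank => (⟨rhoOf D hD F θ k.val, rhoOf_lt D hD F θ k.val k.isLt⟩ :
    Fin D.rank))
    (Finite.injective_iff_bijective.mp (fun k k' h =>
      Fin.ext (rhoOf_inj D hD F θ k.val k'.val k.isLt k'.isLt (Fin.mk.inj_iff.mp h))))

theorem nodePerm_val (θ : ↥(autUV D F)) (k : Fin D.rank) :
    (nodePerm D hD F θ k).val = rhoOf D hD F θ k.val := rfl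

/-- the action on the nodes of the Dynkin diagram -/
noncomputable def nodeHom : ↥(autUV D F) →* Equiv.Perm (Fin D.rank) where
  toFun := nodePerm D hD F
  map_one' := by
    ext k
    rw [nodePerm_val, rhoOf_one D hD F k.val k.isLt]
    rfl
  map_mul' := by
    intro θ θ'
    ext k
    rw [nodePerm_val, rhoOf_mul D hD F θ θ' k.val k.isLt]
    rfl

theorem mem_ker_nodeHom (θ : ↥(autUV D F)) :
    θ ∈ (nodeHom D hD F).ker ↔ ∀ k < D.rank, rhoOf D hD F θ k = k := by
  rw [MonoidHom.mem_ker]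
  constructor
  · intro h k hk
    have := congrArg (fun π : Equiv.Perm (Fin D.rank) => (π ⟨k, hk⟩).val) h
    exact this
  · intro h
    ext k
    show rhoOf D hD F θ k.val = k.val
    exact h k.val k.isLt

end

end Cfsg.Agent.Lib.Lead.Stein
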