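import Cfsg.Agent.Lib.Lead.SteinY1

/-! Diagonal and field automorphisms inside the group of automorphisms stabilising `U` and `V`: they act
trivially on the nodes; the automorphisms acting trivially on the nodes are products of a diagonal and a
field automorphism; conjugates of diagonal automorphisms are diagonal (lead). -/

set_option autoImplicit false

namespace Cfsg.Agent.Lib.Lead.Stein

open Cfsg Cfsg.Lie Matrix Cfsg.Agent.Lib.Helper7 Cfsg.Agent.Lib.Helper3.BN Cfsg.Agent.Lib.Helper11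
open Cfsg.Agent.Lib.Lead.ChevCent

section
variable (D : ChevalleyDatum) (hD : D ∈ [chevG2, chevB2, chevD4, chevF4, chevE6, chevE7, chevE8])
variable (F : Type*) [Field F]

theorem diagAut_mem_autUV (χ : ℕ → F) (hχ : ChainChar D F χ) :
    (diagAut D hD F χ hχ : MulAut ↥(D.group F)) ∈ autUV D F :=
  ⟨diagAut_stab_pos D hD F χ hχ, diagAut_stab_neg D hD F χ hχ⟩

theorem phiOf_mem_autUV (σ : F ≃+* F) : (phiOf D σ : MulAut ↥(D.group F)) ∈ autUV D F :=
  ⟨phiOf_stab_pos D σ, phiOf_stab_neg D σ⟩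

theorem fundData_diagAut (χ : ℕ → F) (hχ : ChainChar D F χ) :
    FundData D hD F (diagAut D hD F χ hχ) (fun k => k) (fun k t => χ (D.simple k) * t)
      (fun k t => χ (D.neg (D.simple k)) * t) := by
  refine ⟨fun _ hk => hk, fun k hk => ⟨fun t => diagAut_xG D hD F χ hχ _ t, fun t u => mul_add _ _ _, ?_⟩,
    fun k hk => ⟨fun t => diagAut_xG D hD F χ hχ _ t, fun t u => mul_add _ _ _, ?_⟩⟩
  · have h0 := hχ.ne0 _ (simple_lt D hD k hk)
    exact ⟨fun a b h => mul_left_cancel₀ h0 h, fun y => ⟨(χ (D.simple k))⁻¹ * y,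
      mul_inv_cancel_left₀ h0 y⟩⟩
  · have h0 := hχ.ne0 _ (neg_simple_lt D hD k hk)
    exact ⟨fun a b h => mul_left_cancel₀ h0 h, fun y => ⟨(χ (D.neg (D.simple k)))⁻¹ * y,
      mul_inv_cancel_left₀ h0 y⟩⟩

theorem fundData_phiOf (σ : F ≃+* F) :
    FundData D hD F (phiOf D σ) (fun k => k) (fun _ t => σ t) (fun _ t => σ t) :=
  ⟨fun _ hk => hk, fun _ _ => ⟨fun t => phiOf_xG D σ hD _ t, fun t u => map_add σ t u, σ.bijective⟩,
    fun _ _ => ⟨fun t => phiOf_xG D σ hD _ t, fun t u => map_add σ t u, σ.bijective⟩⟩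

theorem diagAut_mem_ker (χ : ℕ → F) (hχ : ChainChar D F χ) :
    (⟨diagAut D hD F χ hχ, diagAut_mem_autUV D hD F χ hχ⟩ : ↥(autUV D F)) ∈ (nodeHom D hD F).ker := by
  rw [mem_ker_nodeHom]
  intro k hk
  exact (fundData_diagAut D hD F χ hχ).rhoOf_eq
    (θ := (⟨diagAut D hD F χ hχ, diagAut_mem_autUV D hD F χ hχ⟩ : ↥(autUV D F))) k hk

theorem phiOf_mem_ker (σ : F ≃+* F) :
    (⟨phiOf D σ, phiOf_mem_autUV D F σ⟩ : ↥(autUV D F)) ∈ (nodeHom D hD F).ker := by
  rw [mem_ker_nodeHom]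
  intro k hk
  exact (fundData_phiOf D hD F σ).rhoOf_eq
    (θ := (⟨phiOf D σ, phiOf_mem_autUV D F σ⟩ : ↥(autUV D F))) k hk

/-- an inner automorphism stabilising `U` and `V` acts trivially on the nodes -/
theorem conj_mem_ker (z : ↥(D.group F))
    (hz : (MulAut.conj z : MulAut ↥(D.group F)) ∈ autUV D F) :
    (⟨MulAut.conj z, hz⟩ : ↥(autUV D F)) ∈ (nodeHom D hD F).ker := by
  have hzH := mem_diagonal_of_stab_conj D hD F z hz.1 hz.2
  obtain ⟨χ, hχ, hm⟩ := mem_diagonalSubgroup_char D hD F (z : GL D.Idx F) hzH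
  rw [mem_ker_nodeHom]
  intro k hk
  have hconj : ∀ (r : ℕ) (t : F), (MulAut.conj z : MulAut ↥(D.group F)) (xG D hD F r t) =
      xG D hD F r (χ r * t) := by
    intro r t
    apply Subtype.ext
    show (z : GL D.Idx F) * xGL D hD F r t * (z : GL D.Idx F)⁻¹ = xGL D hD F r (χ r * t)
    rw [diagGL_xGL_comm D hD F _ χ hχ hm]
    group
  have hFD : FundData D hD F (MulAut.conj z : MulAut ↥(D.group F)) (fun k => k)
      (fun k t => χ (D.simple k) * t) (fun k t => χ (D.neg (D.simple k)) * t) := by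
    refine ⟨fun _ hk => hk, fun k hk => ⟨fun t => hconj _ t, fun t u => mul_add _ _ _, ?_⟩,
      fun k hk => ⟨fun t => hconj _ t, fun t u => mul_add _ _ _, ?_⟩⟩
    · have h0 := hχ.ne0 _ (simple_lt D hD k hk)
      exact ⟨fun a b h => mul_left_cancel₀ h0 h, fun y => ⟨(χ (D.simple k))⁻¹ * y,
        mul_inv_cancel_left₀ h0 y⟩⟩
    · have h0 := hχ.ne0 _ (neg_simple_lt D hD k hk)
      exact ⟨fun a b h => mul_left_cancel₀ h0 h, fun y => ⟨(χ (D.neg (D.simple k)))⁻¹ * y,
        mul_inv_cancel_left₀ h0 y⟩⟩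
  exact hFD.rhoOf_eq (θ := (⟨MulAut.conj z, hz⟩ : ↥(autUV D F))) k hk

variable [Finite F]

/-- an automorphism stabilising `U` and `V` and acting trivially on the nodes is the product of a
diagonal and a field automorphism -/
theorem exists_diag_field_of_ker (θ : ↥(autUV D F)) (hθ : θ ∈ (nodeHom D hD F).ker) :
    ∃ (χ : ℕ → F) (hχ : ChainChar D F χ) (σ : F ≃+* F),
      (θ : MulAut ↥(D.group F)) = (diagAut D hD F χ hχ : MulAut ↥(D.group F)) * phiOf D σ := by
  rw [mem_ker_nodeHom] at hθ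
  obtain ⟨f, g, hFD⟩ := rhoOf_spec D hD F θ
  obtain ⟨-, ⟨σ, hσ⟩, -⟩ := shape D hD θ.1 _ f g θ.2.1 θ.2.2 hFD
  have hc : ∀ k < D.rank, f k 1 ≠ 0 := fun k hk => (hFD.pos k hk).ne_zero 1 one_ne_zero
  let c : Fin D.rank → Fˣ := fun m => Units.mk0 (f m.val 1) (hc _ m.isLt)
  refine ⟨chiOf D hD F c, chiOf_chainChar D hD F c, σ, ?_⟩
  have heq : (θ.1 : ↥(D.group F) ≃* ↥(D.group F)).toMonoidHom =
      (((diagAut D hD F (chiOf D hD F c) (chiOf_chainChar D hD F c) : MulAut ↥(D.group F)) *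
        phiOf D σ : MulAut ↥(D.group F)) : ↥(D.group F) ≃* ↥(D.group F)).toMonoidHom := by
    apply hom_ext_of_fund D hD F
    · intro j hj t
      show θ.1 (xG D hD F (D.simple j) t) = diagAut D hD F _ _ (phiOf D σ (xG D hD F (D.simple j) t))
      rw [phiOf_xG D σ hD, diagAut_xG, (hFD.pos j hj).map, (hσ j hj t).1, hθ j hj, graphExp_self,
        pow_one, chiOf_simple D hD F c j hj]
      rfl
    · intro j hj t
      show θ.1 (xG D hD F (D.neg (D.simple j)) t) =
        diagAut D hD F _ _ (phiOf D σ (xG D hD F (D.neg (D.simple j)) t))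
      rw [phiOf_xG D σ hD, diagAut_xG, (hFD.neg j hj).map, (hσ j hj t).2, hθ j hj, graphExp_self,
        pow_one, chiOf_neg_simple D hD F c j hj]
      rfl
  refine MulEquiv.ext (fun y => ?_)
  exact congrArg (fun φ : ↥(D.group F) →* ↥(D.group F) => φ y) heq

/-- a conjugate of a diagonal automorphism by an automorphism stabilising `U` and `V` is diagonal -/
theorem conj_diagAut (θ : ↥(autUV D F)) (χ : ℕ → F) (hχ : ChainChar D F χ) :
    ∃ (χ' : ℕ → F) (hχ' : ChainChar D F χ'),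
      (θ : MulAut ↥(D.group F)) * diagAut D hD F χ hχ * (θ : MulAut ↥(D.group F))⁻¹ =
        diagAut D hD F χ' hχ' := by
  obtain ⟨f, g, hFD⟩ := rhoOf_spec D hD F θ
  obtain ⟨-, ⟨σ, hσ⟩, -⟩ := shape D hD θ.1 _ f g θ.2.1 θ.2.2 hFD
  set ρ := rhoOf D hD F θ with hρ
  set π := nodePerm D hD F θ with hπ
  have hπv : ∀ k : Fin D.rank, (π k).val = ρ k.val := fun _ => rfl
  -- the new character
  have hne : ∀ m : Fin D.rank, σ (χ (D.simple (π.symm m).val)) ^
      D.graphExp (ringChar F) (π.symm m).val (ρ (π.symm m).val) ≠ 0 := by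
    intro m
    apply pow_ne_zero
    rw [Ne, map_eq_zero_iff σ σ.injective]
    exact hχ.ne0 _ (simple_lt D hD _ (π.symm m).isLt)
  let c' : Fin D.rank → Fˣ := fun m => Units.mk0 _ (hne m)
  refine ⟨chiOf D hD F c', chiOf_chainChar D hD F c', ?_⟩
  have hc'π : ∀ k : Fin D.rank, ((c' (π k) : Fˣ) : F) =
      σ (χ (D.simple k.val)) ^ D.graphExp (ringChar F) k.val (ρ k.val) := by
    intro k
    show σ (χ (D.simple (π.symm (π k)).val)) ^
      D.graphExp (ringChar F) (π.symm (π k)).val (ρ (π.symm (π k)).val) = _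
    rw [Equiv.symm_apply_apply]
  have heq : (((θ : MulAut ↥(D.group F)) * diagAut D hD F χ hχ * (θ : MulAut ↥(D.group F))⁻¹ :
      MulAut ↥(D.group F)) : ↥(D.group F) ≃* ↥(D.group F)).toMonoidHom =
      (diagAut D hD F (chiOf D hD F c') (chiOf_chainChar D hD F c') :
        ↥(D.group F) ≃* ↥(D.group F)).toMonoidHom := by
    apply hom_ext_of_fund D hD F
    · intro m hm s
      set k := π.symm ⟨m, hm⟩ with hk
      have hkm : ρ k.val = m := by
        have := hπv k
        rw [hk, Equiv.apply_symm_apply] at this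
        exact this.symm
      obtain ⟨t, ht⟩ := (hFD.pos k.val k.isLt).bij.2 s
      have h1 : (θ : MulAut ↥(D.group F))⁻¹ (xG D hD F (D.simple m) s) = xG D hD F (D.simple k.val) t := by
        rw [MulAut.inv_apply, MulEquiv.symm_apply_eq, (hFD.pos k.val k.isLt).map, ht, hkm]
      show θ.1 (diagAut D hD F χ hχ ((θ : MulAut ↥(D.group F))⁻¹ (xG D hD F (D.simple m) s))) =
        diagAut D hD F _ _ (xG D hD F (D.simple m) s)
      rw [h1, diagAut_xG, (hFD.pos k.val k.isLt).map, diagAut_xG, hkm, chiOf_simple D hD F c' m hm]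
      congr 1
      have e : (⟨m, hm⟩ : Fin D.rank) = π k := by rw [hk, Equiv.apply_symm_apply]
      rw [e, hc'π, (hσ k.val k.isLt _).1, map_mul, mul_pow, ← ht, (hσ k.val k.isLt t).1]
      ring
    · intro m hm s
      set k := π.symm ⟨m, hm⟩ with hk
      have hkm : ρ k.val = m := by
        have := hπv k
        rw [hk, Equiv.apply_symm_apply] at this
        exact this.symm
      obtain ⟨t, ht⟩ := (hFD.neg k.val k.isLt).bij.2 s
      have h1 : (θ : MulAut ↥(D.group F))⁻¹ (xG D hD F (D.neg (D.simple m)) s) =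
          xG D hD F (D.neg (D.simple k.val)) t := by
        rw [MulAut.inv_apply, MulEquiv.symm_apply_eq, (hFD.neg k.val k.isLt).map, ht, hkm]
      show θ.1 (diagAut D hD F χ hχ ((θ : MulAut ↥(D.group F))⁻¹ (xG D hD F (D.neg (D.simple m)) s))) =
        diagAut D hD F _ _ (xG D hD F (D.neg (D.simple m)) s)
      rw [h1, diagAut_xG, (hFD.neg k.val k.isLt).map, diagAut_xG, hkm,
        chiOf_neg_simple D hD F c' m hm]
      congr 1
      have e : (⟨m, hm⟩ : Fin D.rank) = π k := by rw [hk, Equiv.apply_symm_apply]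
      have hF := fundFacts_of_mem D hD k.val k.isLt
      rw [e, hc'π, (hσ k.val k.isLt _).2, map_mul, mul_pow, ← ht, (hσ k.val k.isLt t).2,
        hχ.negC _ hF.hp hF.hpb, map_inv₀, inv_pow]
      ring
  refine MulEquiv.ext (fun y => ?_)
  exact congrArg (fun φ : ↥(D.group F) →* ↥(D.group F) => φ y) heq

end

end Cfsg.Agent.Lib.Lead.Stein
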