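import Cfsg.Agent.Lib.Lead.SteinY3

/-! The permutations of the nodes induced by the automorphisms of a Chevalley group stabilising `U` and
`V`: at most two of them, except in type `D₄` where there are six (lead). -/

set_option autoImplicit false
set_option maxRecDepth 100000

namespace Cfsg.Agent.Lib.Lead.Stein

open Cfsg Cfsg.Lie Matrix Cfsg.Agent.Lib.Helper7 Cfsg.Agent.Lib.Helper3.BN Cfsg.Agent.Lib.Helper11
open Cfsg.Agent.Lib.Lead.ChevCent

/-- a subgroup with at most one non-trivial element has order `1` or `2` -/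
theorem card_eq_one_or_two {G : Type*} [Group G] [Finite G] (R : Subgroup G) (a : G)
    (h : ∀ x ∈ R, x = 1 ∨ x = a) : Nat.card R = 1 ∨ Nat.card R = 2 := by
  classical
  let f : ↥R → Bool := fun x => decide ((x : G) = 1)
  have hf : Function.Injective f := by
    intro x y hxy
    apply Subtype.ext
    by_cases hx : (x : G) = 1
    · have hy : (y : G) = 1 := by
        have : f y = true := by rw [← hxy]; exact decide_eq_true hx
        exact of_decide_eq_true this
      rw [hx, hy]
    · have hy : (y : G) ≠ 1 := by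
        intro hy
        have : f x = true := by rw [hxy]; exact decide_eq_true hy
        exact hx (of_decide_eq_true this)
      rcases h x x.2 with h1 | h1
      · exact absurd h1 hx
      rcases h y y.2 with h2 | h2
      · exact absurd h2 hy
      rw [h1, h2]
  have h1 : Nat.card ↥R ≤ Nat.card Bool := Nat.card_le_card_of_injective f hf
  have h2 : Nat.card Bool = 2 := by rw [Nat.card_eq_fintype_card, Fintype.card_bool]
  have h3 : 0 < Nat.card ↥R := Nat.card_pos
  omega

theorem perm_fin_two : ∀ π : Equiv.Perm (Fin 2), π = 1 ∨ π = Equiv.swap 0 1 := by decide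

theorem f4_sym : ∀ π : Equiv.Perm (Fin 4),
    (∀ i j : Fin 4, i ≠ j → chevF4.bonds (π i).val (π j).val = chevF4.bonds i.val j.val) →
      π = 1 ∨ π = Fin.revPerm := by decide +kernel

theorem d4_sym : ∀ π : Equiv.Perm (Fin 4),
    (∀ i j : Fin 4, i ≠ j → chevD4.bonds (π i).val (π j).val = chevD4.bonds i.val j.val) →
      π 1 = 1 := by decide +kernel

section
variable (D : ChevalleyDatum) (hD : D ∈ [chevG2, chevB2, chevD4, chevF4, chevE6, chevE7, chevE8])
variable (F : Type*) [Field F] [Finite F]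

/-- the permutation of the nodes is a symmetry of the diagram -/
theorem rhoOf_bonds (θ : ↥(autUV D F)) (i j : ℕ) (hi : i < D.rank) (hj : j < D.rank) (hij : i ≠ j) :
    D.bonds (rhoOf D hD F θ i) (rhoOf D hD F θ j) = D.bonds i j := by
  obtain ⟨f, g, hFD⟩ := rhoOf_spec D hD F θ
  exact (shape D hD θ.1 _ f g θ.2.1 θ.2.2 hFD).1 i hi j hj hij

theorem nodeHom_bonds (θ : ↥(autUV D F)) (i j : Fin D.rank) (hij : i ≠ j) :
    D.bonds (nodeHom D hD F θ i).val (nodeHom D hD F θ j).val = D.bonds i.val j.val :=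
  rhoOf_bonds D hD F θ i.val j.val i.isLt j.isLt (fun h => hij (Fin.ext h))

/-- the value list of the permutation of the nodes lies in a complete list of diagram symmetries -/
theorem rhoOf_mem_of_allExt (good : List (List ℕ)) (h : allExt D good D.rank [] = true)
    (θ : ↥(autUV D F)) : (List.range D.rank).map (rhoOf D hD F θ) ∈ good :=
  allExt_spec D good (rhoOf D hD F θ) (rhoOf_lt D hD F θ)
    (fun i hi j hj => rhoOf_inj D hD F θ i j hi hj)
    (fun i hi j hj hij => rhoOf_bonds D hD F θ i j hi hj hij) D.rank 0 (by omega) (by simpa using h)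

end

section
variable (F : Type*) [Field F] [Finite F]

theorem card_range_G2 (hD : chevG2 ∈ [chevG2, chevB2, chevD4, chevF4, chevE6, chevE7, chevE8]) :
    Nat.card ↥(nodeHom chevG2 hD F).range = 1 ∨ Nat.card ↥(nodeHom chevG2 hD F).range = 2 :=
  card_eq_one_or_two (G := Equiv.Perm (Fin 2)) _ (Equiv.swap 0 1) (fun x _ => perm_fin_two x)

theorem card_range_B2 (hD : chevB2 ∈ [chevG2, chevB2, chevD4, chevF4, chevE6, chevE7, chevE8]) :
    Nat.card ↥(nodeHom chevB2 hD F).range = 1 ∨ Nat.card ↥(nodeHom chevB2 hD F).range = 2 :=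
  card_eq_one_or_two (G := Equiv.Perm (Fin 2)) _ (Equiv.swap 0 1) (fun x _ => perm_fin_two x)

theorem card_range_F4 (hD : chevF4 ∈ [chevG2, chevB2, chevD4, chevF4, chevE6, chevE7, chevE8]) :
    Nat.card ↥(nodeHom chevF4 hD F).range = 1 ∨ Nat.card ↥(nodeHom chevF4 hD F).range = 2 := by
  apply card_eq_one_or_two (G := Equiv.Perm (Fin 4)) _ Fin.revPerm
  rintro _ ⟨θ, rfl⟩
  exact f4_sym _ (fun i j hij => nodeHom_bonds chevF4 hD F θ i j hij)

theorem card_range_E7 (hD : chevE7 ∈ [chevG2, chevB2, chevD4, chevF4, chevE6, chevE7, chevE8]) :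
    Nat.card ↥(nodeHom chevE7 hD F).range = 1 ∨ Nat.card ↥(nodeHom chevE7 hD F).range = 2 := by
  apply card_eq_one_or_two (G := Equiv.Perm (Fin 7)) _ 1
  rintro _ ⟨θ, rfl⟩
  left
  have h1 := rhoOf_mem_of_allExt chevE7 hD F [List.range chevE7.rank] symAll_E7 θ
  rw [List.mem_singleton] at h1
  ext k
  show rhoOf chevE7 hD F θ k.val = k.val
  have h2 := getD_map_range (rhoOf chevE7 hD F θ) chevE7.rank k.val k.isLt
  rw [h1] at h2
  rw [← h2, List.getD_eq_getElem _ _ (by simpa using k.isLt), List.getElem_range]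

theorem card_range_E8 (hD : chevE8 ∈ [chevG2, chevB2, chevD4, chevF4, chevE6, chevE7, chevE8]) :
    Nat.card ↥(nodeHom chevE8 hD F).range = 1 ∨ Nat.card ↥(nodeHom chevE8 hD F).range = 2 := by
  apply card_eq_one_or_two (G := Equiv.Perm (Fin 8)) _ 1
  rintro _ ⟨θ, rfl⟩
  left
  have h1 := rhoOf_mem_of_allExt chevE8 hD F [List.range chevE8.rank] symAll_E8 θ
  rw [List.mem_singleton] at h1
  ext k
  show rhoOf chevE8 hD F θ k.val = k.val
  have h2 := getD_map_range (rhoOf chevE8 hD F θ) chevE8.rank k.val k.isLt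
  rw [h1] at h2
  rw [← h2, List.getD_eq_getElem _ _ (by simpa using k.isLt), List.getElem_range]

theorem e6_perm_vals : ∀ k : Fin 6,
    ((Equiv.swap (0 : Fin 6) 5 * Equiv.swap (2 : Fin 6) 4) k).val = grPv_E6_1.getD k.val 0 := by decide

theorem e6_id_vals : ∀ k : Fin 6, grPv_E6_0.getD k.val 0 = k.val := by decide

theorem card_range_E6 (hD : chevE6 ∈ [chevG2, chevB2, chevD4, chevF4, chevE6, chevE7, chevE8]) :
    Nat.card ↥(nodeHom chevE6 hD F).range = 1 ∨ Nat.card ↥(nodeHom chevE6 hD F).range = 2 := by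
  apply card_eq_one_or_two (G := Equiv.Perm (Fin 6)) _ (Equiv.swap (0 : Fin 6) 5 * Equiv.swap (2 : Fin 6) 4)
  rintro _ ⟨θ, rfl⟩
  have h1 := rhoOf_mem_of_allExt chevE6 hD F [grPv_E6_0, grPv_E6_1] symAll_E6 θ
  simp only [List.mem_cons, List.not_mem_nil, or_false] at h1
  rcases h1 with h1 | h1
  · left
    ext k
    show rhoOf chevE6 hD F θ k.val = k.val
    have h2 := getD_map_range (rhoOf chevE6 hD F θ) chevE6.rank k.val k.isLt
    rw [h1] at h2
    rw [← h2]
    exact e6_id_vals k
  · right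
    ext k
    show rhoOf chevE6 hD F θ k.val = _
    have h2 := getD_map_range (rhoOf chevE6 hD F θ) chevE6.rank k.val k.isLt
    rw [h1] at h2
    rw [← h2]
    exact (e6_perm_vals k).symm

end

end Cfsg.Agent.Lib.Lead.Stein
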