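import Cfsg.Agent.Lib.Lead.SteinY4

/-! Type `D₄`: the six symmetries of the diagram are induced by automorphisms (lead). -/

set_option autoImplicit false
set_option maxRecDepth 100000

namespace Cfsg.Agent.Lib.Lead.Stein

open Cfsg Cfsg.Lie Matrix Cfsg.Agent.Lib.Helper7 Cfsg.Agent.Lib.Helper3.BN Cfsg.Agent.Lib.Helper11
open Cfsg.Agent.Lib.Lead.ChevCent

section
variable (D : ChevalleyDatum) (hD : D ∈ [chevG2, chevB2, chevD4, chevF4, chevE6, chevE7, chevE8])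
variable (F : Type*) [Field F]
variable (pv pv' ρ ρ' : List ℕ) (ε : List ℤ) (hOK : graphOKB D pv pv' ρ ρ' ε = true)
  (hS : graphSimpleB D pv ρ ε = true) (hP : graphPosB D ρ ρ' = true)

include hS in
theorem fundData_graphAutL :
    FundData D hD F (graphAutL D hD F pv pv' ρ ρ' ε hOK) (fun k => pv.getD k 0) (fun _ t => t)
      (fun _ t => t) :=
  ⟨fun k hk => (graphFacts_of_graphOKB D pv pv' ρ ρ' ε hOK).pvlt k hk,
    fun k hk => ⟨fun t => (graphAutL_simple D hD F pv pv' ρ ρ' ε hOK hS k hk t).1, fun _ _ => rfl,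
      Function.bijective_id⟩,
    fun k hk => ⟨fun t => (graphAutL_simple D hD F pv pv' ρ ρ' ε hOK hS k hk t).2, fun _ _ => rfl,
      Function.bijective_id⟩⟩

include hS hP in
theorem rhoOf_graphAutL (k : ℕ) (hk : k < D.rank) :
    rhoOf D hD F ⟨graphAutL D hD F pv pv' ρ ρ' ε hOK, graphAutL_mem_autUV D hD F pv pv' ρ ρ' ε hOK hP⟩ k =
      pv.getD k 0 :=
  (fundData_graphAutL D hD F pv pv' ρ ρ' ε hOK hS).rhoOf_eq
    (θ := ⟨graphAutL D hD F pv pv' ρ ρ' ε hOK, graphAutL_mem_autUV D hD F pv pv' ρ ρ' ε hOK hP⟩) k hk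

end

theorem graphPosB_D4_3 : graphPosB chevD4 grRho_D4_3 grRhoInv_D4_3 = true := by decide +kernel
theorem graphPosB_D4_5 : graphPosB chevD4 grRho_D4_5 grRhoInv_D4_5 = true := by decide +kernel

/-- the permutations of four points fixing the point `1` -/
def stOne : Subgroup (Equiv.Perm (Fin 4)) where
  carrier := {π | π 1 = 1}
  mul_mem' := by
    intro a b ha hb
    show a (b 1) = 1
    rw [show b 1 = 1 from hb, show a 1 = 1 from ha]
  one_mem' := rfl
  inv_mem' := by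
    intro a ha
    show a⁻¹ 1 = 1
    rw [Equiv.Perm.inv_eq_iff_eq]
    exact (show a 1 = 1 from ha).symm

instance : DecidablePred (· ∈ stOne) := fun π => inferInstanceAs (Decidable (π 1 = 1))

theorem card_stOne : Nat.card ↥stOne = 6 := by
  rw [Nat.card_eq_fintype_card]
  decide

/-- a non-commutative subgroup of a group of order `6` is the whole group -/
theorem card_eq_six_of_noncomm {G : Type*} [Group G] (R S : Subgroup G) (hRS : R ≤ S)
    (hS : Nat.card ↥S = 6) (x y : G) (hx : x ∈ R) (hy : y ∈ R) (hxy : x * y ≠ y * x) :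
    Nat.card ↥R = 6 := by
  have hdvd : Nat.card ↥R ∣ 6 := hS ▸ Subgroup.card_dvd_of_le hRS
  have hle : Nat.card ↥R ≤ 6 := Nat.le_of_dvd (by norm_num) hdvd
  have hcomm_of_cyc : IsCyclic ↥R → False := by
    intro hc
    have h1 : (⟨x, hx⟩ : ↥R) * ⟨y, hy⟩ = ⟨y, hy⟩ * ⟨x, hx⟩ := mul_comm' _ _
    exact hxy (congrArg Subtype.val h1)
  have h1 : Nat.card ↥R ≠ 1 := by
    intro h
    have hb := Subgroup.eq_bot_of_card_eq R h
    rw [hb, Subgroup.mem_bot] at hx hy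
    rw [hx, hy] at hxy
    exact hxy rfl
  have h2 : Nat.card ↥R ≠ 2 := by
    intro h
    have : Fact (Nat.Prime 2) := ⟨Nat.prime_two⟩
    exact hcomm_of_cyc (isCyclic_of_prime_card h)
  have h3 : Nat.card ↥R ≠ 3 := by
    intro h
    have : Fact (Nat.Prime 3) := ⟨Nat.prime_three⟩
    exact hcomm_of_cyc (isCyclic_of_prime_card h)
  have h0 : Nat.card ↥R ≠ 0 := fun h => by rw [h] at hdvd; norm_num at hdvd
  have h4 : Nat.card ↥R ≠ 4 := fun h => by rw [h] at hdvd; norm_num at hdvd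
  have h5 : Nat.card ↥R ≠ 5 := fun h => by rw [h] at hdvd; norm_num at hdvd
  omega

section
variable (F : Type*) [Field F] [Finite F]

omit [Finite F] in
theorem d4_noncomm (hD : chevD4 ∈ [chevG2, chevB2, chevD4, chevF4, chevE6, chevE7, chevE8]) :
    ∃ θ₁ θ₂ : ↥(autUV chevD4 F),
      nodeHom chevD4 hD F θ₁ * nodeHom chevD4 hD F θ₂ ≠
        nodeHom chevD4 hD F θ₂ * nodeHom chevD4 hD F θ₁ := by
  refine ⟨⟨graphAutL chevD4 hD F _ _ _ _ _ graphOKB_D4_3,
      graphAutL_mem_autUV chevD4 hD F _ _ _ _ _ graphOKB_D4_3 graphPosB_D4_3⟩,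
    ⟨graphAutL chevD4 hD F _ _ _ _ _ graphOKB_D4_5,
      graphAutL_mem_autUV chevD4 hD F _ _ _ _ _ graphOKB_D4_5 graphPosB_D4_5⟩, ?_⟩
  intro h
  have h1 := congrArg (fun π : Equiv.Perm (Fin chevD4.rank) => (π ⟨2, by decide⟩).val) h
  simp only [Equiv.Perm.mul_apply, nodeHom] at h1
  change rhoOf chevD4 hD F _ (rhoOf chevD4 hD F _ 2) = rhoOf chevD4 hD F _ (rhoOf chevD4 hD F _ 2) at h1
  rw [rhoOf_graphAutL chevD4 hD F _ _ _ _ _ graphOKB_D4_5 graphSimpleB_D4_5 graphPosB_D4_5 2 (by decide),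
    rhoOf_graphAutL chevD4 hD F _ _ _ _ _ graphOKB_D4_3 graphSimpleB_D4_3 graphPosB_D4_3 2 (by decide)]
    at h1
  have e1 : grPv_D4_5.getD 2 0 = 3 := by decide
  have e2 : grPv_D4_3.getD 2 0 = 0 := by decide
  rw [e1, e2, rhoOf_graphAutL chevD4 hD F _ _ _ _ _ graphOKB_D4_3 graphSimpleB_D4_3 graphPosB_D4_3 3
    (by decide), rhoOf_graphAutL chevD4 hD F _ _ _ _ _ graphOKB_D4_5 graphSimpleB_D4_5 graphPosB_D4_5 0
    (by decide)] at h1
  revert h1
  decide

theorem card_range_D4 (hD : chevD4 ∈ [chevG2, chevB2, chevD4, chevF4, chevE6, chevE7, chevE8]) :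
    Nat.card ↥(nodeHom chevD4 hD F).range = 6 := by
  obtain ⟨θ₁, θ₂, hne⟩ := d4_noncomm F hD
  have hle : (nodeHom chevD4 hD F).range ≤ stOne := by
    rintro _ ⟨θ, rfl⟩
    exact d4_sym _ (fun i j hij => nodeHom_bonds chevD4 hD F θ i j hij)
  exact card_eq_six_of_noncomm (G := Equiv.Perm (Fin 4)) (nodeHom chevD4 hD F).range stOne hle
    card_stOne (nodeHom chevD4 hD F θ₁) (nodeHom chevD4 hD F θ₂) (MonoidHom.mem_range.mpr ⟨θ₁, rfl⟩)
    (MonoidHom.mem_range.mpr ⟨θ₂, rfl⟩) hne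

end

end Cfsg.Agent.Lib.Lead.Stein
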