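import Cfsg.Agent.Lib.Lead.SteinY5

/-! The index in the outer automorphism group of the subgroup generated by the images of the diagonal
and the field automorphisms (lead). -/

set_option autoImplicit false
set_option maxRecDepth 100000

namespace Cfsg.Agent.Lib.Lead.Stein

open Cfsg Cfsg.Lie Matrix Cfsg.Agent.Lib.Helper7 Cfsg.Agent.Lib.Helper3.BN Cfsg.Agent.Lib.Helper11
open Cfsg.Agent.Lib.Lead.ChevCent
open scoped commutatorElement

section
variable (F : Type*) [Field F] [Finite F]

/-- the number of permutations of the nodes which are induced by automorphisms -/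
theorem card_range_cases (D : ChevalleyDatum)
    (hD : D ∈ [chevG2, chevB2, chevD4, chevF4, chevE6, chevE7, chevE8]) :
    Nat.card ↥(nodeHom D hD F).range = 1 ∨ Nat.card ↥(nodeHom D hD F).range = 2 ∨
      (Nat.card ↥(nodeHom D hD F).range = 6 ∧ ∃ θ₁ θ₂ : ↥(autUV D F),
        nodeHom D hD F θ₁ * nodeHom D hD F θ₂ ≠ nodeHom D hD F θ₂ * nodeHom D hD F θ₁) := by
  have key := mem_seven_cases
    (P := fun D => ∀ hD : D ∈ [chevG2, chevB2, chevD4, chevF4, chevE6, chevE7, chevE8],
      Nat.card ↥(nodeHom D hD F).range = 1 ∨ Nat.card ↥(nodeHom D hD F).range = 2 ∨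
      (Nat.card ↥(nodeHom D hD F).range = 6 ∧ ∃ θ₁ θ₂ : ↥(autUV D F),
        nodeHom D hD F θ₁ * nodeHom D hD F θ₂ ≠ nodeHom D hD F θ₂ * nodeHom D hD F θ₁))
    (fun hD => by rcases card_range_G2 F hD with h | h; exact Or.inl h; exact Or.inr (Or.inl h))
    (fun hD => by rcases card_range_B2 F hD with h | h; exact Or.inl h; exact Or.inr (Or.inl h))
    (fun hD => Or.inr (Or.inr ⟨card_range_D4 F hD, d4_noncomm F hD⟩))
    (fun hD => by rcases card_range_F4 F hD with h | h; exact Or.inl h; exact Or.inr (Or.inl h))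
    (fun hD => by rcases card_range_E6 F hD with h | h; exact Or.inl h; exact Or.inr (Or.inl h))
    (fun hD => by rcases card_range_E7 F hD with h | h; exact Or.inl h; exact Or.inr (Or.inl h))
    (fun hD => by rcases card_range_E8 F hD with h | h; exact Or.inl h; exact Or.inr (Or.inl h))
    D hD
  exact key hD

end

section
variable (D : ChevalleyDatum) (hD : D ∈ [chevG2, chevB2, chevD4, chevF4, chevE6, chevE7, chevE8])
variable (F : Type*) [Field F] [Fintype F] (p : ℕ) [Fact p.Prime] [CharP F p]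
include p

theorem index_cases :
    ((kerAuts D hD F).map (QuotientGroup.mk' (Cfsg.Inn ↥(D.group F)))).index = 1 ∨
    ((kerAuts D hD F).map (QuotientGroup.mk' (Cfsg.Inn ↥(D.group F)))).index = 2 ∨
    (((kerAuts D hD F).map (QuotientGroup.mk' (Cfsg.Inn ↥(D.group F)))).index = 6 ∧
      ¬ commutator (Cfsg.Out ↥(D.group F)) ≤
        (kerAuts D hD F).map (QuotientGroup.mk' (Cfsg.Inn ↥(D.group F)))) := by
  rw [index_kerAuts_map D hD F p]
  rcases card_range_cases F D hD with h | h | ⟨h, θ₁, θ₂, hne⟩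
  · exact Or.inl h
  · exact Or.inr (Or.inl h)
  · refine Or.inr (Or.inr ⟨h, ?_⟩)
    intro hle
    have h1 : ⁅outMap D F θ₁, outMap D F θ₂⁆ ∈ commutator (Cfsg.Out ↥(D.group F)) :=
      Subgroup.commutator_mem_commutator (Subgroup.mem_top _) (Subgroup.mem_top _)
    have h2 := hle h1
    rw [← map_commutatorElement] at h2
    have h3 : ⁅θ₁, θ₂⁆ ∈ ((kerAuts D hD F).map (QuotientGroup.mk' (Cfsg.Inn ↥(D.group F)))).comap
        (outMap D F) := h2
    rw [comap_kerAuts_map, MonoidHom.mem_ker, map_commutatorElement,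
      commutatorElement_eq_one_iff_mul_comm] at h3
    exact hne h3

end

end Cfsg.Agent.Lib.Lead.Stein
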