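import Cfsg.Agent.Lib.Lead.TwSteinS
import Cfsg.Prelude.Def_KGroupFacts

/-! The group of automorphisms of `G ≤ Γ` stabilising two subgroups `U`, `V` of `Γ`: when every automorphism
can be moved into it by an inner automorphism, it covers the outer automorphism group, and the kernel is
the group of the inner automorphisms it contains (lead). -/

set_option autoImplicit false

namespace Cfsg.Agent.Lib.Lead.TwStein

open Cfsg

section
variable {Γ : Type*} [Group Γ] (G : Subgroup Γ) (U V : Subgroup Γ)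

/-- the automorphisms stabilising `U` and `V` -/
def autStb : Subgroup (MulAut ↥G) where
  carrier := {θ | Stb θ U ∧ Stb θ V}
  one_mem' := ⟨fun _ => Iff.rfl, fun _ => Iff.rfl⟩
  mul_mem' := by
    intro a b ha hb
    refine ⟨fun g => ?_, fun g => ?_⟩
    · rw [MulAut.mul_apply, ha.1 (b g), hb.1 g]
    · rw [MulAut.mul_apply, ha.2 (b g), hb.2 g]
  inv_mem' := by
    intro a ha
    exact ⟨ha.1.symm, ha.2.symm⟩

theorem mem_autStb (θ : MulAut ↥G) : θ ∈ autStb G U V ↔ Stb θ U ∧ Stb θ V := Iff.rfl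

/-- the map to the outer automorphism group -/
def autStbOut : ↥(autStb G U V) →* Cfsg.Out ↥G :=
  (QuotientGroup.mk' (Cfsg.Inn ↥G)).comp (autStb G U V).subtype

theorem autStbOut_surjective
    (h : ∀ θ : ↥G ≃* ↥G, ∃ x : ↥G, Stb (θ.trans (MulAut.conj x)) U ∧ Stb (θ.trans (MulAut.conj x)) V) :
    Function.Surjective (autStbOut G U V) := by
  intro x
  obtain ⟨θ, rfl⟩ := QuotientGroup.mk_surjective x
  obtain ⟨z, hU, hV⟩ := h θ
  have he : θ.trans (MulAut.conj z) = (MulAut.conj z : MulAut ↥G) * θ := by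
    ext y; rfl
  have hmem : (MulAut.conj z : MulAut ↥G) * θ ∈ autStb G U V := by
    rw [← he]; exact ⟨hU, hV⟩
  refine ⟨⟨_, hmem⟩, ?_⟩
  show (QuotientGroup.mk ((MulAut.conj z : MulAut ↥G) * θ) : Cfsg.Out ↥G) = QuotientGroup.mk θ
  have h2 : (MulAut.conj z : MulAut ↥G) ∈ Cfsg.Inn ↥G := ⟨z, rfl⟩
  rw [QuotientGroup.mk_mul, (QuotientGroup.eq_one_iff (MulAut.conj z)).mpr h2, one_mul]

variable (H : Subgroup Γ)

/-- the kernel of the map to the outer automorphism group has the order of `H ∩ G` -/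
theorem card_ker_autStbOut
    (h1 : ∀ z : ↥G, Stb (MulAut.conj z) U → Stb (MulAut.conj z) V → (z : Γ) ∈ H)
    (h2 : ∀ z : ↥G, (z : Γ) ∈ H → Stb (MulAut.conj z) U ∧ Stb (MulAut.conj z) V)
    (hfaith : ∀ z : ↥G, (z : Γ) ∈ H → (∀ g : ↥G, z * g = g * z) → z = 1) :
    Nat.card ↥(autStbOut G U V).ker = Nat.card ↥(H.subgroupOf G) := by
  have hker : ∀ z : ↥(H.subgroupOf G),
      (⟨MulAut.conj (z : ↥G), h2 _ (Subgroup.mem_subgroupOf.mp z.2)⟩ : ↥(autStb G U V)) ∈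
        (autStbOut G U V).ker := by
    intro z
    rw [MonoidHom.mem_ker]
    show (QuotientGroup.mk (MulAut.conj (z : ↥G)) : Cfsg.Out ↥G) = 1
    rw [QuotientGroup.eq_one_iff]
    exact ⟨_, rfl⟩
  let f : ↥(H.subgroupOf G) → ↥(autStbOut G U V).ker := fun z => ⟨_, hker z⟩
  have hinj : Function.Injective f := by
    intro z z' he
    have e1 : (MulAut.conj (z : ↥G) : MulAut ↥G) = MulAut.conj (z' : ↥G) := by
      have := congrArg (fun x : ↥(autStbOut G U V).ker => ((x : ↥(autStb G U V)) : MulAut ↥G)) he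
      exact this
    have hc : ∀ g : ↥G, ((z' : ↥G)⁻¹ * (z : ↥G)) * g = g * ((z' : ↥G)⁻¹ * (z : ↥G)) := by
      intro g
      have := congrArg (fun θ : MulAut ↥G => θ g) e1
      simp only [MulAut.conj_apply] at this
      calc ((z' : ↥G)⁻¹ * (z : ↥G)) * g = (z' : ↥G)⁻¹ * ((z : ↥G) * g * (z : ↥G)⁻¹) * (z : ↥G) := by group
        _ = (z' : ↥G)⁻¹ * ((z' : ↥G) * g * (z' : ↥G)⁻¹) * (z : ↥G) := by rw [this]
        _ = g * ((z' : ↥G)⁻¹ * (z : ↥G)) := by group
    have hm : (((z' : ↥G)⁻¹ * (z : ↥G) : ↥G) : Γ) ∈ H := by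
      rw [Subgroup.coe_mul, Subgroup.coe_inv]
      exact H.mul_mem (H.inv_mem (Subgroup.mem_subgroupOf.mp z'.2)) (Subgroup.mem_subgroupOf.mp z.2)
    have := hfaith _ hm hc
    apply Subtype.ext
    calc (z : ↥G) = (z' : ↥G) * ((z' : ↥G)⁻¹ * (z : ↥G)) := by group
      _ = (z' : ↥G) := by rw [this, mul_one]
  have hsurj : Function.Surjective f := by
    rintro ⟨⟨θ, hθ⟩, hk⟩
    rw [MonoidHom.mem_ker] at hk
    have e1 : (QuotientGroup.mk θ : Cfsg.Out ↥G) = 1 := hk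
    rw [QuotientGroup.eq_one_iff] at e1
    obtain ⟨z, hz⟩ := e1
    have hz' : (MulAut.conj z : MulAut ↥G) = θ := hz
    rw [← hz'] at hθ
    have hzH := h1 z hθ.1 hθ.2
    refine ⟨⟨z, Subgroup.mem_subgroupOf.mpr hzH⟩, ?_⟩
    apply Subtype.ext
    apply Subtype.ext
    show (MulAut.conj z : MulAut ↥G) = θ
    exact hz'
  exact (Nat.card_congr (Equiv.ofBijective f ⟨hinj, hsurj⟩)).symm

/-- `|Aut_{U,V}| = |Out| |H ∩ G|` -/
theorem card_autStb
    (h : ∀ θ : ↥G ≃* ↥G, ∃ x : ↥G, Stb (θ.trans (MulAut.conj x)) U ∧ Stb (θ.trans (MulAut.conj x)) V)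
    (h1 : ∀ z : ↥G, Stb (MulAut.conj z) U → Stb (MulAut.conj z) V → (z : Γ) ∈ H)
    (h2 : ∀ z : ↥G, (z : Γ) ∈ H → Stb (MulAut.conj z) U ∧ Stb (MulAut.conj z) V)
    (hfaith : ∀ z : ↥G, (z : Γ) ∈ H → (∀ g : ↥G, z * g = g * z) → z = 1) :
    Nat.card ↥(autStb G U V) = Nat.card (Cfsg.Out ↥G) * Nat.card ↥(H.subgroupOf G) := by
  rw [Subgroup.card_eq_card_quotient_mul_card_subgroup (autStbOut G U V).ker,
    card_ker_autStbOut G U V H h1 h2 hfaith,
    Nat.card_congr (QuotientGroup.quotientKerEquivOfSurjective (autStbOut G U V)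
      (autStbOut_surjective G U V h)).toEquiv]

end

end Cfsg.Agent.Lib.Lead.TwStein
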