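import Cfsg.Agent.Lib.Lead.TwSteinL
import Cfsg.Agent.Lib.Lead.SteinL

/-! Diagonal automorphisms of the twisted groups generated by `twWords` (lead). -/

set_option autoImplicit false

namespace Cfsg.Agent.Lib.Lead.TwStein

open Cfsg Cfsg.Lie Matrix Cfsg.Agent.Lib.Helper7 Cfsg.Agent.Lib.Helper3.BN
open Cfsg.Agent.Lib.Lead.Stein

section
variable (D : ChevalleyDatum) (hD : D ∈ [chevG2, chevB2, chevD4, chevF4, chevE6, chevE7, chevE8])
variable (K : Type*) [Field K] (φ : K ≃+* K)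
variable (L1 : List ℕ) (L2 : List (ℕ × ℕ)) (L3 : List (ℕ × ℕ × ℕ))

/-- the compatibility of a character with the twist on the roots of the generators -/
structure TwChar (χ : ℕ → K) : Prop where
  one : ∀ r ∈ L1, φ (χ r) = χ r
  two : ∀ rs ∈ L2, χ rs.2 = φ (χ rs.1)
  three : ∀ rs ∈ L3, χ rs.2.1 = φ (χ rs.1) ∧ χ rs.2.2 = φ (φ (χ rs.1))

variable {K φ L1 L2 L3} in
theorem TwChar.inv {χ : ℕ → K} (h : TwChar K φ L1 L2 L3 χ) :
    TwChar K φ L1 L2 L3 (fun s => (χ s)⁻¹) := by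
  refine ⟨fun r hr => ?_, fun rs hrs => ?_, fun rs hrs => ⟨?_, ?_⟩⟩
  · show φ (χ r)⁻¹ = (χ r)⁻¹
    rw [map_inv₀, h.one r hr]
  · show (χ rs.2)⁻¹ = φ (χ rs.1)⁻¹
    rw [map_inv₀, h.two rs hrs]
  · show (χ rs.2.1)⁻¹ = φ (χ rs.1)⁻¹
    rw [map_inv₀, (h.three rs hrs).1]
  · show (χ rs.2.2)⁻¹ = φ (φ (χ rs.1)⁻¹)
    rw [map_inv₀, map_inv₀, (h.three rs hrs).2]

variable (χ : ℕ → K) (hχ : ChainChar D K χ) (hT : TwChar K φ L1 L2 L3 χ)

include hD in
theorem diagGL_conj_wordGL (w : List (ℕ × K)) :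
    diagGL D K χ hχ * wordGL D hD K w * (diagGL D K χ hχ)⁻¹ =
      wordGL D hD K (w.map fun p => (p.1, χ p.1 * p.2)) := by
  unfold wordGL
  rw [conj_list_prod, List.map_map, List.map_map]
  congr 1
  apply List.map_congr_left
  intro p _
  exact diagGL_conj_xGL D hD K χ hχ p.1 p.2

include hT in
theorem scale_mem_twWords (w : List (ℕ × K)) (hw : w ∈ twWords K φ L1 L2 L3) :
    (w.map fun p => (p.1, χ p.1 * p.2)) ∈ twWords K φ L1 L2 L3 := by
  rcases hw with (⟨t, ht, r, hr, rfl⟩ | ⟨t, rs, hrs, rfl⟩) | ⟨t, rs, hrs, rfl⟩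
  · left; left
    exact ⟨χ r * t, by rw [map_mul, ht, hT.one r hr], r, hr, rfl⟩
  · left; right
    refine ⟨χ rs.1 * t, rs, hrs, ?_⟩
    simp [hT.two rs hrs]
  · right
    refine ⟨χ rs.1 * t, rs, hrs, ?_⟩
    simp [(hT.three rs hrs).1, (hT.three rs hrs).2]

include hD hT in
theorem twGroup_conj_diag_le :
    (D.genSubgroup K (twWords K φ L1 L2 L3)).map (MulAut.conj (diagGL D K χ hχ)).toMonoidHom ≤
      D.genSubgroup K (twWords K φ L1 L2 L3) := by
  unfold ChevalleyDatum.genSubgroup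
  rw [MonoidHom.map_closure, Subgroup.closure_le]
  rintro _ ⟨g, ⟨w, hw, hg⟩, rfl⟩
  have hg' : g = wordGL D hD K w := Units.ext (by rw [hg, coe_wordGL])
  apply Subgroup.subset_closure
  refine ⟨w.map fun p => (p.1, χ p.1 * p.2), scale_mem_twWords K φ L1 L2 L3 χ hT w hw, ?_⟩
  rw [hg']
  show ((diagGL D K χ hχ * wordGL D hD K w * (diagGL D K χ hχ)⁻¹ : GL D.Idx K) :
    Matrix D.Idx D.Idx K) = _
  rw [diagGL_conj_wordGL D hD K χ hχ w, coe_wordGL]

include hD hT in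
theorem twGroup_conj_diag_eq :
    (D.genSubgroup K (twWords K φ L1 L2 L3)).map (MulAut.conj (diagGL D K χ hχ)).toMonoidHom =
      D.genSubgroup K (twWords K φ L1 L2 L3) := by
  apply le_antisymm (twGroup_conj_diag_le D hD K φ L1 L2 L3 χ hχ hT)
  intro g hg
  refine ⟨(diagGL D K χ hχ)⁻¹ * g * diagGL D K χ hχ, ?_, ?_⟩
  · have := twGroup_conj_diag_le D hD K φ L1 L2 L3 _ hχ.inv hT.inv ⟨g, hg, rfl⟩
    rw [← diagGL_inv] at this
    simpa using this
  · show diagGL D K χ hχ * ((diagGL D K χ hχ)⁻¹ * g * diagGL D K χ hχ) * (diagGL D K χ hχ)⁻¹ = g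
    group

/-- the diagonal automorphism of the twisted group induced by the character `χ` -/
noncomputable def twDiagAut :
    ↥(D.genSubgroup K (twWords K φ L1 L2 L3)) ≃* ↥(D.genSubgroup K (twWords K φ L1 L2 L3)) :=
  ((MulAut.conj (diagGL D K χ hχ)).subgroupMap (D.genSubgroup K (twWords K φ L1 L2 L3))).trans
    (MulEquiv.subgroupCongr (twGroup_conj_diag_eq D hD K φ L1 L2 L3 χ hχ hT))

theorem coe_twDiagAut (g : ↥(D.genSubgroup K (twWords K φ L1 L2 L3))) :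
    ((twDiagAut D hD K φ L1 L2 L3 χ hχ hT g : ↥(D.genSubgroup K (twWords K φ L1 L2 L3))) : GL D.Idx K) =
      diagGL D K χ hχ * (g : GL D.Idx K) * (diagGL D K χ hχ)⁻¹ := rfl

include hD in
theorem twDiagAut_stb_pos : Stb (twDiagAut D hD K φ L1 L2 L3 χ hχ hT) (D.posUnipotent K) := by
  intro g
  rw [coe_twDiagAut]
  constructor
  · intro h
    have h1 := diagChar_conj_mem_posUnipotent D hD K (diagGL D K χ hχ)⁻¹ _ hχ.inv
      (by rw [diagGL_inv]; rfl) _ h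
    have : (diagGL D K χ hχ)⁻¹ * (diagGL D K χ hχ * (g : GL D.Idx K) * (diagGL D K χ hχ)⁻¹) *
        (diagGL D K χ hχ)⁻¹⁻¹ = (g : GL D.Idx K) := by group
    rwa [this] at h1
  · intro h
    exact diagChar_conj_mem_posUnipotent D hD K _ χ hχ (coe_diagGL D K χ hχ) _ h

include hD in
theorem twDiagAut_stb_neg : Stb (twDiagAut D hD K φ L1 L2 L3 χ hχ hT) (D.negUnipotent K) := by
  intro g
  rw [coe_twDiagAut]
  constructor
  · intro h
    have h1 := diagChar_conj_mem_negUnipotent D hD K (diagGL D K χ hχ)⁻¹ _ hχ.inv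
      (by rw [diagGL_inv]; rfl) _ h
    have : (diagGL D K χ hχ)⁻¹ * (diagGL D K χ hχ * (g : GL D.Idx K) * (diagGL D K χ hχ)⁻¹) *
        (diagGL D K χ hχ)⁻¹⁻¹ = (g : GL D.Idx K) := by group
    rwa [this] at h1
  · intro h
    exact diagChar_conj_mem_negUnipotent D hD K _ χ hχ (coe_diagGL D K χ hχ) _ h

end

end Cfsg.Agent.Lib.Lead.TwStein
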