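import Cfsg.Agent.Lib.Lead.TwSteinU
import Cfsg.Agent.Lib.Helper7.ChevTwistOrderE6
import Cfsg.Agent.Lib.Helper7.ChevTwistTorusE6d

/-! The twisted groups `²E₆(q)`: the four rank one homomorphisms and the Sylow subgroup (lead). -/

set_option autoImplicit false
set_option maxRecDepth 100000

namespace Cfsg.Agent.Lib.Lead.TwStein

open Cfsg Cfsg.Lie Matrix Cfsg.Agent.Lib.Helper7 Cfsg.Agent.Lib.Helper3.BN
open Cfsg.Agent.Lib.Lead.Stein Cfsg.Agent.Lib.Helper11.SL2Hom Cfsg.Agent.Lib.Helper11.ChevSL2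

theorem hopp_E6 : ∀ J ∈ twSimpIdx_E6,
    (∀ r ∈ J.map chevE6.simple,
      reflWord chevE6 twLongJs_E6.flatten (reflWord chevE6 J r) ∈ J.map chevE6.simple) ∧
    (∀ r ∈ J.map chevE6.simple,
      reflWord chevE6 J.reverse (reflWord chevE6 twLongJs_E6.flatten.reverse r) ∈ J.map chevE6.simple) := by
  decide +kernel

/-- the class `[1]` -/
def eJ0 : Fin twSimpIdx_E6.length := ⟨0, by decide⟩
/-- the class `[3]` -/
def eJ1 : Fin twSimpIdx_E6.length := ⟨1, by decide⟩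
/-- the class `[0, 5]` -/
def eJ2 : Fin twSimpIdx_E6.length := ⟨2, by decide⟩
/-- the class `[2, 4]` -/
def eJ3 : Fin twSimpIdx_E6.length := ⟨3, by decide⟩

theorem eJ0_map : (twSimpIdx_E6.get eJ0).map chevE6.simple = [46] := by decide
theorem eJ1_map : (twSimpIdx_E6.get eJ1).map chevE6.simple = [39] := by decide
theorem eJ2_map : (twSimpIdx_E6.get eJ2).map chevE6.simple = [56, 36] := by decide
theorem eJ3_map : (twSimpIdx_E6.get eJ3).map chevE6.simple = [42, 37] := by decide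
theorem eJ_cases (J : Fin twSimpIdx_E6.length) : J = eJ0 ∨ J = eJ1 ∨ J = eJ2 ∨ J = eJ3 := by
  have : ∀ J : Fin twSimpIdx_E6.length, J = eJ0 ∨ J = eJ1 ∨ J = eJ2 ∨ J = eJ3 := by decide
  exact this J

section
variable (K : Type*) [Field K] (φ : K ≃+* K)

/-- the parameter embeddings of a class of two nodes, the first root being `a` -/
def sigP (a : ℕ) : ℕ → K →+* K := fun r => if r = a then RingHom.id K else (φ : K →+* K)

theorem sigP_self (a : ℕ) (t : K) : sigP K φ a a t = t := by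
  unfold sigP; rw [if_pos rfl]; rfl

theorem sigP_ne (a r : ℕ) (h : r ≠ a) (t : K) : sigP K φ a r t = φ t := by
  unfold sigP; rw [if_neg h]; rfl

theorem sigS_compat (J : Fin twSimpIdx_E6.length) (a : ℕ)
    (hJ : (twSimpIdx_E6.get J).map chevE6.simple = [a]) (h1 : grRhoInv_E6_1.getD a 0 = a)
    (h2 : grEps_E6_1.getD a 0 = 1) (t : ↥(fixField K φ)) :
    ∀ r ∈ (twSimpIdx_E6.get J).map chevE6.simple,
    sig0 K φ r t = twistFn (fun r => grRhoInv_E6_1.getD r 0) (fun r => grEps_E6_1.getD r 0) K φ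
      (fun r => sig0 K φ r t) r := by
  rw [hJ]
  intro r hr
  rw [List.mem_singleton] at hr
  subst hr
  unfold twistFn
  beta_reduce
  rw [h1, h2]
  show (t : K) = ((1 : ℤ) : K) * φ (t : K)
  rw [(mem_fixField K φ _).mp t.2]
  simp

theorem sigS_surj (J : Fin twSimpIdx_E6.length) (a : ℕ)
    (hJ : (twSimpIdx_E6.get J).map chevE6.simple = [a]) (h1 : grRhoInv_E6_1.getD a 0 = a)
    (h2 : grEps_E6_1.getD a 0 = 1) (u : ℕ → K)
    (hu : ∀ r ∈ (twSimpIdx_E6.get J).map chevE6.simple,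
      u r = twistFn (fun r => grRhoInv_E6_1.getD r 0) (fun r => grEps_E6_1.getD r 0) K φ u r) :
    ∃ t : ↥(fixField K φ), ∀ r ∈ (twSimpIdx_E6.get J).map chevE6.simple, u r = sig0 K φ r t := by
  rw [hJ] at hu ⊢
  have h := hu a (by simp)
  unfold twistFn at h
  beta_reduce at h
  rw [h1, h2] at h
  have h' : φ (u a) = u a := by
    rw [Int.cast_one, one_mul] at h
    exact h.symm
  refine ⟨⟨u a, (mem_fixField K φ _).mpr h'⟩, ?_⟩
  intro r hr
  rw [List.mem_singleton] at hr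
  subst hr
  rfl

variable (hφ : ∀ a, φ^[2] a = a)

include hφ in
theorem sigP_compat (J : Fin twSimpIdx_E6.length) (a b : ℕ) (hab : b ≠ a)
    (hJ : (twSimpIdx_E6.get J).map chevE6.simple = [a, b]) (h1 : grRhoInv_E6_1.getD a 0 = b)
    (h1' : grRhoInv_E6_1.getD b 0 = a)
    (h2 : grEps_E6_1.getD a 0 = 1) (h2' : grEps_E6_1.getD b 0 = 1) (t : K) :
    ∀ r ∈ (twSimpIdx_E6.get J).map chevE6.simple,
    sigP K φ a r t = twistFn (fun r => grRhoInv_E6_1.getD r 0) (fun r => grEps_E6_1.getD r 0) K φ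
      (fun r => sigP K φ a r t) r := by
  rw [hJ]
  intro r hr
  simp only [List.mem_cons, List.not_mem_nil, or_false] at hr
  unfold twistFn
  beta_reduce
  rcases hr with rfl | rfl
  · rw [h1, h2', sigP_self, sigP_ne K φ _ _ hab]
    have := hφ t
    simp only [Function.iterate_succ, Function.iterate_zero, Function.comp, id] at this
    rw [this]; simp
  · rw [h1', h2, sigP_self, sigP_ne K φ _ _ hab]; simp

theorem sigP_surj (J : Fin twSimpIdx_E6.length) (a b : ℕ) (hab : b ≠ a)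
    (hJ : (twSimpIdx_E6.get J).map chevE6.simple = [a, b])
    (h1' : grRhoInv_E6_1.getD b 0 = a) (h2 : grEps_E6_1.getD a 0 = 1) (u : ℕ → K)
    (hu : ∀ r ∈ (twSimpIdx_E6.get J).map chevE6.simple,
      u r = twistFn (fun r => grRhoInv_E6_1.getD r 0) (fun r => grEps_E6_1.getD r 0) K φ u r) :
    ∃ t : K, ∀ r ∈ (twSimpIdx_E6.get J).map chevE6.simple, u r = sigP K φ a r t := by
  rw [hJ] at hu ⊢
  have hb := hu b (by simp)
  unfold twistFn at hb
  beta_reduce at hb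
  rw [h1', h2] at hb
  have hb' : u b = φ (u a) := by rw [hb]; simp
  refine ⟨u a, ?_⟩
  intro r hr
  simp only [List.mem_cons, List.not_mem_nil, or_false] at hr
  rcases hr with rfl | rfl
  · rw [sigP_self]
  · rw [sigP_ne K φ _ _ hab, hb']

end

section
variable (K : Type*) [Field K] (φ : K ≃+* K) (hφ : ∀ a, φ^[2] a = a)

/-- the rank one homomorphism of the node `1`, `SL₂(k) → ²E₆(q)` -/
noncomputable def ePsi0 : SpecialLinearGroup (Fin 2) ↥(fixField K φ) →* GL chevE6.Idx K :=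
  clsHom chevE6 chevE6_mem K twSimpIdx_E6 twSimpCls_E6
    (twistBNFacts_of_tab2 chevE6 _ _ _ twSimpIdx_E6 twSimpCls_E6 twistTab2_E6) eJ0 (sig0 K φ)

/-- the rank one homomorphism of the node `3`, `SL₂(k) → ²E₆(q)` -/
noncomputable def ePsi1 : SpecialLinearGroup (Fin 2) ↥(fixField K φ) →* GL chevE6.Idx K :=
  clsHom chevE6 chevE6_mem K twSimpIdx_E6 twSimpCls_E6
    (twistBNFacts_of_tab2 chevE6 _ _ _ twSimpIdx_E6 twSimpCls_E6 twistTab2_E6) eJ1 (sig0 K φ)

/-- the rank one homomorphism of the nodes `0, 5`, `SL₂(K) → ²E₆(q)` -/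
noncomputable def ePsi2 : SpecialLinearGroup (Fin 2) K →* GL chevE6.Idx K :=
  clsHom chevE6 chevE6_mem K twSimpIdx_E6 twSimpCls_E6
    (twistBNFacts_of_tab2 chevE6 _ _ _ twSimpIdx_E6 twSimpCls_E6 twistTab2_E6) eJ2 (sigP K φ 56)

/-- the rank one homomorphism of the nodes `2, 4`, `SL₂(K) → ²E₆(q)` -/
noncomputable def ePsi3 : SpecialLinearGroup (Fin 2) K →* GL chevE6.Idx K :=
  clsHom chevE6 chevE6_mem K twSimpIdx_E6 twSimpCls_E6
    (twistBNFacts_of_tab2 chevE6 _ _ _ twSimpIdx_E6 twSimpCls_E6 twistTab2_E6) eJ3 (sigP K φ 42)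

local notation "G1E6" => chevE6.genSubgroup K (twWords K φ [e6p2, e6m2, e6p4, e6m4]
  [(e6p1, e6p6), (e6m1, e6m6), (e6p3, e6p5), (e6m3, e6m5)] [])

local notation "hGE6" => graphFacts_of_graphOKB chevE6 grPv_E6_1 grPvInv_E6_1 grRho_E6_1 grRhoInv_E6_1
  grEps_E6_1 twistTab_E6.graph

include hφ in
theorem eR0 : RankOneHom G1E6 (chevE6.negUnipotent K) (chevE6.borelSubgroup K)
    (clsX chevE6 _ _ _ _ _ hGE6 K φ twSimpIdx_E6 eJ0)
    (clsY chevE6 chevE6_mem _ _ _ _ _ hGE6 K φ twSimpIdx_E6 eJ0) (ePsi0 K φ) :=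
  tw_rankOneHom chevE6 chevE6_mem _ _ _ _ _ _ _ _ _ _ _ _ _ _ twistTab_E6 twistTab2_E6 K φ hφ eJ0
    (sig0 K φ) (sigS_compat K φ eJ0 46 eJ0_map (by decide) (by decide))
    (sigS_surj K φ eJ0 46 eJ0_map (by decide) (by decide)) (by decide)

include hφ in
theorem eR1 : RankOneHom G1E6 (chevE6.negUnipotent K) (chevE6.borelSubgroup K)
    (clsX chevE6 _ _ _ _ _ hGE6 K φ twSimpIdx_E6 eJ1)
    (clsY chevE6 chevE6_mem _ _ _ _ _ hGE6 K φ twSimpIdx_E6 eJ1) (ePsi1 K φ) :=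
  tw_rankOneHom chevE6 chevE6_mem _ _ _ _ _ _ _ _ _ _ _ _ _ _ twistTab_E6 twistTab2_E6 K φ hφ eJ1
    (sig0 K φ) (sigS_compat K φ eJ1 39 eJ1_map (by decide) (by decide))
    (sigS_surj K φ eJ1 39 eJ1_map (by decide) (by decide)) (by decide)

include hφ in
theorem eR2 : RankOneHom G1E6 (chevE6.negUnipotent K) (chevE6.borelSubgroup K)
    (clsX chevE6 _ _ _ _ _ hGE6 K φ twSimpIdx_E6 eJ2)
    (clsY chevE6 chevE6_mem _ _ _ _ _ hGE6 K φ twSimpIdx_E6 eJ2) (ePsi2 K φ) :=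
  tw_rankOneHom chevE6 chevE6_mem _ _ _ _ _ _ _ _ _ _ _ _ _ _ twistTab_E6 twistTab2_E6 K φ hφ eJ2
    (sigP K φ 56) (sigP_compat K φ hφ eJ2 56 36 (by decide) eJ2_map (by decide) (by decide) (by decide)
      (by decide))
    (sigP_surj K φ eJ2 56 36 (by decide) eJ2_map (by decide) (by decide)) (by decide)

include hφ in
theorem eR3 : RankOneHom G1E6 (chevE6.negUnipotent K) (chevE6.borelSubgroup K)
    (clsX chevE6 _ _ _ _ _ hGE6 K φ twSimpIdx_E6 eJ3)
    (clsY chevE6 chevE6_mem _ _ _ _ _ hGE6 K φ twSimpIdx_E6 eJ3) (ePsi3 K φ) :=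
  tw_rankOneHom chevE6 chevE6_mem _ _ _ _ _ _ _ _ _ _ _ _ _ _ twistTab_E6 twistTab2_E6 K φ hφ eJ3
    (sigP K φ 42) (sigP_compat K φ hφ eJ3 42 37 (by decide) eJ3_map (by decide) (by decide) (by decide)
      (by decide))
    (sigP_surj K φ eJ3 42 37 (by decide) eJ3_map (by decide) (by decide)) (by decide)

include hφ in
theorem ePsi0_mem (g : SpecialLinearGroup (Fin 2) ↥(fixField K φ)) : ePsi0 K φ g ∈ G1E6 :=
  (eR0 K φ hφ).mem g

include hφ in
theorem ePsi1_mem (g : SpecialLinearGroup (Fin 2) ↥(fixField K φ)) : ePsi1 K φ g ∈ G1E6 :=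
  (eR1 K φ hφ).mem g

include hφ in
theorem ePsi2_mem (g : SpecialLinearGroup (Fin 2) K) : ePsi2 K φ g ∈ G1E6 :=
  (eR2 K φ hφ).mem g

include hφ in
theorem ePsi3_mem (g : SpecialLinearGroup (Fin 2) K) : ePsi3 K φ g ∈ G1E6 :=
  (eR3 K φ hφ).mem g

end

section
variable (K : Type*) [Field K] [Fintype K] (φ : K ≃+* K) (hφ : ∀ a, φ^[2] a = a)
variable (p f : ℕ) [Fact p.Prime] (hf : 1 ≤ f)
variable (hK : Fintype.card K = (p ^ f) ^ 2) (hfix : Nat.card {a : K // φ a = a} = p ^ f)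
variable (hφq : ∀ a, φ a = a ^ (p ^ f))

local notation "G1E6" => chevE6.genSubgroup K (twWords K φ [e6p2, e6m2, e6p4, e6m4]
  [(e6p1, e6p6), (e6m1, e6m6), (e6p3, e6p5), (e6m3, e6m5)] [])

include hφ hf hK hfix hφq in
/-- `U ∩ ²E₆(q)` is a Sylow `p`-subgroup -/
theorem e6_sylow : ∃ P0 : Sylow p ↥G1E6,
    (P0 : Subgroup ↥G1E6) = (chevE6.posUnipotent K).subgroupOf G1E6 := by
  have hp : p.Prime := Fact.out
  set q := p ^ f with hq
  have hq0 : 0 < q := pow_pos hp.pos f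
  have hpq : p ∣ q := dvd_pow_self p (by omega)
  have hcK : Nat.card K = q ^ 2 := by rw [Nat.card_eq_fintype_card, hK]
  have hcU := card_posUnipotent_inf_twGroup chevE6 chevE6_mem _ _ _ _ _ _ _ _ _ _ _ _ _ _ twistTab_E6 K φ q
    hcK hfix hφ
  rw [twCls_E6_length] at hcU
  have hcG := card_twE6 K φ q hq0 hK hφq hφ hfix
  have hcU' : Nat.card ↥((chevE6.posUnipotent K).subgroupOf G1E6) = q ^ 36 := by
    rw [← Subgroup.inf_subgroupOf_right, Nat.card_congr (Subgroup.subgroupOfEquivOfLe inf_le_right).toEquiv]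
    exact hcU
  have hP : IsPGroup p ↥((chevE6.posUnipotent K).subgroupOf G1E6) := by
    apply IsPGroup.of_card (n := f * 36)
    rw [hcU', hq, pow_mul]
  have hidx : Nat.gcd 3 (q + 1) * ((chevE6.posUnipotent K).subgroupOf G1E6).index =
      (q ^ 2 - 1) * (q ^ 5 + 1) * (q ^ 6 - 1) * (q ^ 8 - 1) * (q ^ 9 + 1) * (q ^ 12 - 1) := by
    have h1 := Subgroup.card_mul_index ((chevE6.posUnipotent K).subgroupOf G1E6)
    rw [hcU'] at h1
    rw [← h1] at hcG
    have h2 : q ^ 36 * (Nat.gcd 3 (q + 1) * ((chevE6.posUnipotent K).subgroupOf G1E6).index) =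
        q ^ 36 * ((q ^ 2 - 1) * (q ^ 5 + 1) * (q ^ 6 - 1) * (q ^ 8 - 1) * (q ^ 9 + 1) * (q ^ 12 - 1)) := by
      calc q ^ 36 * (Nat.gcd 3 (q + 1) * ((chevE6.posUnipotent K).subgroupOf G1E6).index)
          = Nat.gcd 3 (q + 1) * (q ^ 36 * ((chevE6.posUnipotent K).subgroupOf G1E6).index) := by ring
        _ = q ^ 36 * (q ^ 2 - 1) * (q ^ 5 + 1) * (q ^ 6 - 1) * (q ^ 8 - 1) * (q ^ 9 + 1) * (q ^ 12 - 1) :=
            hcG
        _ = _ := by ring
    exact Nat.eq_of_mul_eq_mul_left (pow_pos hq0 36) h2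
  have hplus : ∀ k, 0 < k → ¬ p ∣ q ^ k + 1 := by
    intro k hk h
    have h1 : p ∣ q ^ k := dvd_pow hpq hk.ne'
    have : p ∣ 1 := (Nat.dvd_add_right h1).mp h
    exact hp.one_lt.ne' (Nat.dvd_one.mp this)
  have hnd : ¬ p ∣ ((chevE6.posUnipotent K).subgroupOf G1E6).index := by
    intro h
    have h' : p ∣ (q ^ 2 - 1) * (q ^ 5 + 1) * (q ^ 6 - 1) * (q ^ 8 - 1) * (q ^ 9 + 1) * (q ^ 12 - 1) := by
      rw [← hidx]; exact Dvd.dvd.mul_left h _
    rcases (Nat.Prime.dvd_mul hp).mp h' with h | h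
    · rcases (Nat.Prime.dvd_mul hp).mp h with h | h
      · rcases (Nat.Prime.dvd_mul hp).mp h with h | h
        · rcases (Nat.Prime.dvd_mul hp).mp h with h | h
          · rcases (Nat.Prime.dvd_mul hp).mp h with h | h
            · exact not_dvd_pow_sub_one p q hp hpq hq0 2 (by norm_num) h
            · exact hplus 5 (by norm_num) h
          · exact not_dvd_pow_sub_one p q hp hpq hq0 6 (by norm_num) h
        · exact not_dvd_pow_sub_one p q hp hpq hq0 8 (by norm_num) h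
      · exact hplus 9 (by norm_num) h
    · exact not_dvd_pow_sub_one p q hp hpq hq0 12 (by norm_num) h
  exact ⟨hP.toSylow hnd, IsPGroup.toSylow_coe hP hnd⟩

end

end Cfsg.Agent.Lib.Lead.TwStein
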