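import Cfsg.Agent.Lib.Lead.TwE6A

/-! The twisted groups `²E₆(q)`: formulas for the four rank one homomorphisms (lead). -/

set_option autoImplicit false
set_option maxRecDepth 100000

namespace Cfsg.Agent.Lib.Lead.TwStein

open Cfsg Cfsg.Lie Matrix Cfsg.Agent.Lib.Helper7 Cfsg.Agent.Lib.Helper3.BN
open Cfsg.Agent.Lib.Lead.Stein Cfsg.Agent.Lib.Helper11.SL2Hom Cfsg.Agent.Lib.Helper11.ChevSL2

section
variable (D : ChevalleyDatum) (hD : D ∈ [chevG2, chevB2, chevD4, chevF4, chevE6, chevE7, chevE8])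
variable (K : Type*) [Field K]
variable (Jidx : List ℕ) (hC : SimpClassFacts D Jidx) (Jidx' : List ℕ) (hC' : SimpClassFacts D Jidx')
variable {F : Type*} [Field F] (σ : ℕ → F →+* K) {F' : Type*} [Field F'] (σ' : ℕ → F' →+* K)

/-- `h_J(s) x_{J'}(u) h_J(s)⁻¹ = x_{J'}(κ u)` -/
theorem classHom_hS_conj_classHom_xS (s : F) (hs : s ≠ 0) (κ : F')
    (hκ : ∀ r ∈ Jidx'.map D.simple,
      (Jidx.map fun i => (σ (D.simple i) s) ^ (D.cartan i r)).prod = σ' r κ) (u : F') :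
    classHom D hD K Jidx hC σ (hS s hs) * classHom D hD K Jidx' hC' σ' (xS u) *
      (classHom D hD K Jidx hC σ (hS s hs))⁻¹ = classHom D hD K Jidx' hC' σ' (xS (κ * u)) := by
  rw [classHom_xS, classHom_xS]
  rw [conj_ordProd_of D hD K _
    (fun r => (Jidx.map fun i => (σ (D.simple i) s) ^ (D.cartan i r)).prod) (Jidx'.map D.simple)
    (fun r _ t => classHom_hS_conj_xGL D hD K Jidx hC σ s hs r t)]
  apply ordProd_congr
  intro r hr
  rw [hκ r hr, map_mul]

end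

theorem e6BN : TwistBNFacts chevE6 twSimpIdx_E6 twSimpCls_E6 :=
  twistBNFacts_of_tab2 chevE6 [e6p2, e6m2, e6p4, e6m4]
    [(e6p1, e6p6), (e6m1, e6m6), (e6p3, e6p5), (e6m3, e6m5)] [] twSimpIdx_E6 twSimpCls_E6 twistTab2_E6

section
variable (K : Type*) [Field K] (φ : K ≃+* K)

theorem ePsi0_xS (t : ↥(fixField K φ)) :
    ePsi0 K φ (xS t) = xGL chevE6 chevE6_mem K 46 (t : K) := by
  have h := classHom_xS chevE6 chevE6_mem K (twSimpIdx_E6.get eJ0) (e6BN.facts _ (List.get_mem _ eJ0))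
    (sig0 K φ) t
  rw [eJ0_map, ordProd_cons, ordProd_nil, mul_one] at h
  exact h

theorem ePsi1_xS (t : ↥(fixField K φ)) :
    ePsi1 K φ (xS t) = xGL chevE6 chevE6_mem K 39 (t : K) := by
  have h := classHom_xS chevE6 chevE6_mem K (twSimpIdx_E6.get eJ1) (e6BN.facts _ (List.get_mem _ eJ1))
    (sig0 K φ) t
  rw [eJ1_map, ordProd_cons, ordProd_nil, mul_one] at h
  exact h

theorem ePsi2_xS (u : K) :
    ePsi2 K φ (xS u) = ordProd chevE6 chevE6_mem K [56, 36] (fun r => sigP K φ 56 r u) := by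
  have h := classHom_xS chevE6 chevE6_mem K (twSimpIdx_E6.get eJ2) (e6BN.facts _ (List.get_mem _ eJ2))
    (sigP K φ 56) u
  rw [eJ2_map] at h
  exact h

theorem ePsi3_xS (u : K) :
    ePsi3 K φ (xS u) = ordProd chevE6 chevE6_mem K [42, 37] (fun r => sigP K φ 42 r u) := by
  have h := classHom_xS chevE6 chevE6_mem K (twSimpIdx_E6.get eJ3) (e6BN.facts _ (List.get_mem _ eJ3))
    (sigP K φ 42) u
  rw [eJ3_map] at h
  exact h

theorem sigP_56_36 (u : K) : sigP K φ 56 36 u = φ u := sigP_ne K φ 56 36 (by decide) u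
theorem sigP_42_37 (u : K) : sigP K φ 42 37 u = φ u := sigP_ne K φ 42 37 (by decide) u

theorem ePsi2_xS' (u : K) :
    ePsi2 K φ (xS u) = xGL chevE6 chevE6_mem K 56 u * xGL chevE6 chevE6_mem K 36 (φ u) := by
  rw [ePsi2_xS, ordProd_cons, ordProd_cons, ordProd_nil, mul_one, sigP_self, sigP_56_36]

theorem ePsi3_xS' (u : K) :
    ePsi3 K φ (xS u) = xGL chevE6 chevE6_mem K 42 u * xGL chevE6 chevE6_mem K 37 (φ u) := by
  rw [ePsi3_xS, ordProd_cons, ordProd_cons, ordProd_nil, mul_one, sigP_self, sigP_42_37]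

theorem ePsi0_yS (t : ↥(fixField K φ)) :
    ePsi0 K φ (yS t) = xGL chevE6 chevE6_mem K 25 (t : K) := by
  have h := classHom_yS chevE6 chevE6_mem K (twSimpIdx_E6.get eJ0) (e6BN.facts _ (List.get_mem _ eJ0))
    (sig0 K φ) t
  rw [eJ0_map] at h
  simp only [List.map_cons, List.map_nil, List.prod_cons, List.prod_nil, mul_one] at h
  have e : chevE6.neg 46 = 25 := by decide
  rw [e] at h
  exact h

theorem ePsi1_yS (t : ↥(fixField K φ)) :
    ePsi1 K φ (yS t) = xGL chevE6 chevE6_mem K 32 (t : K) := by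
  have h := classHom_yS chevE6 chevE6_mem K (twSimpIdx_E6.get eJ1) (e6BN.facts _ (List.get_mem _ eJ1))
    (sig0 K φ) t
  rw [eJ1_map] at h
  simp only [List.map_cons, List.map_nil, List.prod_cons, List.prod_nil, mul_one] at h
  have e : chevE6.neg 39 = 32 := by decide
  rw [e] at h
  exact h

theorem ePsi2_yS (u : K) :
    ePsi2 K φ (yS u) = xGL chevE6 chevE6_mem K 15 u * xGL chevE6 chevE6_mem K 35 (φ u) := by
  have h := classHom_yS chevE6 chevE6_mem K (twSimpIdx_E6.get eJ2) (e6BN.facts _ (List.get_mem _ eJ2))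
    (sigP K φ 56) u
  rw [eJ2_map] at h
  simp only [List.map_cons, List.map_nil, List.prod_cons, List.prod_nil, mul_one] at h
  have e1 : chevE6.neg 56 = 15 := by decide
  have e2 : chevE6.neg 36 = 35 := by decide
  rw [e1, e2, sigP_self, sigP_56_36] at h
  exact h

theorem ePsi3_yS (u : K) :
    ePsi3 K φ (yS u) = xGL chevE6 chevE6_mem K 29 u * xGL chevE6 chevE6_mem K 34 (φ u) := by
  have h := classHom_yS chevE6 chevE6_mem K (twSimpIdx_E6.get eJ3) (e6BN.facts _ (List.get_mem _ eJ3))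
    (sigP K φ 42) u
  rw [eJ3_map] at h
  simp only [List.map_cons, List.map_nil, List.prod_cons, List.prod_nil, mul_one] at h
  have e1 : chevE6.neg 42 = 29 := by decide
  have e2 : chevE6.neg 37 = 34 := by decide
  rw [e1, e2, sigP_self, sigP_42_37] at h
  exact h

/-- `h_{[2,4]}(s) x_{[0,5]}(u) h_{[2,4]}(s)⁻¹ = x_{[0,5]}(s⁻¹ u)` -/
theorem ePsi3_hS_conj_ePsi2 (s : K) (hs : s ≠ 0) (u : K) :
    ePsi3 K φ (hS s hs) * ePsi2 K φ (xS u) * (ePsi3 K φ (hS s hs))⁻¹ = ePsi2 K φ (xS (s⁻¹ * u)) := by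
  apply classHom_hS_conj_classHom_xS chevE6 chevE6_mem K (twSimpIdx_E6.get eJ3)
    (e6BN.facts _ (List.get_mem _ eJ3)) (twSimpIdx_E6.get eJ2) (e6BN.facts _ (List.get_mem _ eJ2))
    (sigP K φ 42) (sigP K φ 56) s hs s⁻¹
  rw [eJ2_map]
  have e : twSimpIdx_E6.get eJ3 = [2, 4] := by decide
  rw [e]
  have s2 : chevE6.simple 2 = 42 := by decide
  have s4 : chevE6.simple 4 = 37 := by decide
  have c1 : chevE6.cartan 2 56 = -1 := by decide +kernel
  have c2 : chevE6.cartan 4 56 = 0 := by decide +kernel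
  have c3 : chevE6.cartan 2 36 = 0 := by decide +kernel
  have c4 : chevE6.cartan 4 36 = -1 := by decide +kernel
  intro r hr
  simp only [List.mem_cons, List.not_mem_nil, or_false] at hr
  simp only [List.map_cons, List.map_nil, List.prod_cons, List.prod_nil, mul_one]
  rcases hr with rfl | rfl
  · rw [s2, s4, c1, c2, sigP_self, sigP_self, _root_.zpow_neg_one, zpow_zero, mul_one]
  · rw [s2, s4, c3, c4, sigP_self, sigP_42_37, sigP_56_36, _root_.zpow_neg_one, zpow_zero, one_mul,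
      map_inv₀]

/-- `h_{[3]}(s) x_{[2,4]}(u) h_{[3]}(s)⁻¹ = x_{[2,4]}(s⁻¹ u)` -/
theorem ePsi1_hS_conj_ePsi3 (s : ↥(fixField K φ)) (hs : s ≠ 0) (u : K) :
    ePsi1 K φ (hS s hs) * ePsi3 K φ (xS u) * (ePsi1 K φ (hS s hs))⁻¹ =
      ePsi3 K φ (xS ((s : K)⁻¹ * u)) := by
  have hfix : φ (s : K) = (s : K) := (mem_fixField K φ _).mp s.2
  apply classHom_hS_conj_classHom_xS chevE6 chevE6_mem K (twSimpIdx_E6.get eJ1)
    (e6BN.facts _ (List.get_mem _ eJ1)) (twSimpIdx_E6.get eJ3) (e6BN.facts _ (List.get_mem _ eJ3))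
    (sig0 K φ) (sigP K φ 42) s hs (s : K)⁻¹
  rw [eJ3_map]
  have e : twSimpIdx_E6.get eJ1 = [3] := by decide
  rw [e]
  have c1 : chevE6.cartan 3 42 = -1 := by decide +kernel
  have c2 : chevE6.cartan 3 37 = -1 := by decide +kernel
  intro r hr
  simp only [List.mem_cons, List.not_mem_nil, or_false] at hr
  simp only [List.map_cons, List.map_nil, List.prod_cons, List.prod_nil, mul_one]
  rcases hr with rfl | rfl
  · rw [c1, sigP_self, _root_.zpow_neg_one]; rfl
  · rw [c2, sigP_42_37, _root_.zpow_neg_one, map_inv₀, hfix]; rfl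

/-- `h_{[1]}(s) x_{[3]}(t) h_{[1]}(s)⁻¹ = x_{[3]}(s⁻¹ t)` -/
theorem ePsi0_hS_conj_ePsi1 (s : ↥(fixField K φ)) (hs : s ≠ 0) (t : ↥(fixField K φ)) :
    ePsi0 K φ (hS s hs) * ePsi1 K φ (xS t) * (ePsi0 K φ (hS s hs))⁻¹ = ePsi1 K φ (xS (s⁻¹ * t)) := by
  apply classHom_hS_conj_classHom_xS chevE6 chevE6_mem K (twSimpIdx_E6.get eJ0)
    (e6BN.facts _ (List.get_mem _ eJ0)) (twSimpIdx_E6.get eJ1) (e6BN.facts _ (List.get_mem _ eJ1))
    (sig0 K φ) (sig0 K φ) s hs s⁻¹
  rw [eJ1_map]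
  have e : twSimpIdx_E6.get eJ0 = [1] := by decide
  rw [e]
  have c1 : chevE6.cartan 1 39 = -1 := by decide +kernel
  intro r hr
  simp only [List.mem_cons, List.not_mem_nil, or_false] at hr
  simp only [List.map_cons, List.map_nil, List.prod_cons, List.prod_nil, mul_one]
  subst hr
  rw [c1, _root_.zpow_neg_one]
  show ((s : K))⁻¹ = ((s⁻¹ : ↥(fixField K φ)) : K)
  rfl

variable (α : K ≃+* K) (hα : ∀ a, α (φ a) = φ (α a))

include hα in
/-- the field automorphism on `X_{[0,5]}` -/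
theorem glMapEquiv_ePsi2_xS (u : K) :
    glMapEquiv chevE6.Idx α (ePsi2 K φ (xS u)) = ePsi2 K φ (xS (α u)) := by
  rw [ePsi2_xS', ePsi2_xS', map_mul, glMapEquiv_xGL chevE6 chevE6_mem K α,
    glMapEquiv_xGL chevE6 chevE6_mem K α, hα]

include hα in
/-- the field automorphism on `X_{[2,4]}` -/
theorem glMapEquiv_ePsi3_xS (u : K) :
    glMapEquiv chevE6.Idx α (ePsi3 K φ (xS u)) = ePsi3 K φ (xS (α u)) := by
  rw [ePsi3_xS', ePsi3_xS', map_mul, glMapEquiv_xGL chevE6 chevE6_mem K α,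
    glMapEquiv_xGL chevE6 chevE6_mem K α, hα]

/-- the field automorphism on `X_{[1]}` -/
theorem glMapEquiv_ePsi0_xS (t t' : ↥(fixField K φ)) (ht : (t' : K) = α (t : K)) :
    glMapEquiv chevE6.Idx α (ePsi0 K φ (xS t)) = ePsi0 K φ (xS t') := by
  rw [ePsi0_xS, ePsi0_xS, glMapEquiv_xGL chevE6 chevE6_mem K α, ht]

/-- the field automorphism on `X_{[3]}` -/
theorem glMapEquiv_ePsi1_xS (t t' : ↥(fixField K φ)) (ht : (t' : K) = α (t : K)) :
    glMapEquiv chevE6.Idx α (ePsi1 K φ (xS t)) = ePsi1 K φ (xS t') := by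
  rw [ePsi1_xS, ePsi1_xS, glMapEquiv_xGL chevE6 chevE6_mem K α, ht]

/-- the generators of `²E₆(q)` are values of the four rank one homomorphisms -/
theorem e6_gen_cases (w : List (ℕ × K))
    (hw : w ∈ twWords K φ [e6p2, e6m2, e6p4, e6m4]
      [(e6p1, e6p6), (e6m1, e6m6), (e6p3, e6p5), (e6m3, e6m5)] []) :
    (∃ t, wordGL chevE6 chevE6_mem K w = ePsi0 K φ (xS t)) ∨
    (∃ t, wordGL chevE6 chevE6_mem K w = ePsi0 K φ (yS t)) ∨
    (∃ t, wordGL chevE6 chevE6_mem K w = ePsi1 K φ (xS t)) ∨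
    (∃ t, wordGL chevE6 chevE6_mem K w = ePsi1 K φ (yS t)) ∨
    (∃ t, wordGL chevE6 chevE6_mem K w = ePsi2 K φ (xS t)) ∨
    (∃ t, wordGL chevE6 chevE6_mem K w = ePsi2 K φ (yS t)) ∨
    (∃ t, wordGL chevE6 chevE6_mem K w = ePsi3 K φ (xS t)) ∨
    (∃ t, wordGL chevE6 chevE6_mem K w = ePsi3 K φ (yS t)) := by
  rcases hw with (⟨t, ht, r, hr, rfl⟩ | ⟨t, rs, hrs, rfl⟩) | ⟨t, rs, hrs, rfl⟩
  · simp only [List.mem_cons, List.not_mem_nil, or_false] at hr
    rcases hr with rfl | rfl | rfl | rfl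
    · left
      refine ⟨⟨t, (mem_fixField K φ t).mpr ht⟩, ?_⟩
      rw [ePsi0_xS]
      unfold wordGL
      simp [e6p2]
    · right; left
      refine ⟨⟨t, (mem_fixField K φ t).mpr ht⟩, ?_⟩
      rw [ePsi0_yS]
      unfold wordGL
      simp [e6m2]
    · right; right; left
      refine ⟨⟨t, (mem_fixField K φ t).mpr ht⟩, ?_⟩
      rw [ePsi1_xS]
      unfold wordGL
      simp [e6p4]
    · right; right; right; left
      refine ⟨⟨t, (mem_fixField K φ t).mpr ht⟩, ?_⟩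
      rw [ePsi1_yS]
      unfold wordGL
      simp [e6m4]
  · simp only [List.mem_cons, List.not_mem_nil, or_false] at hrs
    rcases hrs with rfl | rfl | rfl | rfl
    · right; right; right; right; left
      refine ⟨t, ?_⟩
      rw [ePsi2_xS']
      unfold wordGL
      simp [e6p1, e6p6]
    · right; right; right; right; right; left
      refine ⟨t, ?_⟩
      rw [ePsi2_yS]
      unfold wordGL
      simp [e6m1, e6m6]
    · right; right; right; right; right; right; left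
      refine ⟨t, ?_⟩
      rw [ePsi3_xS']
      unfold wordGL
      simp [e6p3, e6p5]
    · right; right; right; right; right; right; right
      refine ⟨t, ?_⟩
      rw [ePsi3_yS]
      unfold wordGL
      simp [e6m3, e6m5]
  · simp at hrs

end

end Cfsg.Agent.Lib.Lead.TwStein
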