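import Cfsg.Agent.Lib.Lead.TwE6B

/-! The twisted groups `²E₆(q)`: an automorphism stabilising `U` and `V` stabilises the four simple rank one
groups (lead). -/

set_option autoImplicit false
set_option maxRecDepth 100000

namespace Cfsg.Agent.Lib.Lead.TwStein

open Cfsg Cfsg.Lie Matrix Cfsg.Agent.Lib.Helper7 Cfsg.Agent.Lib.Helper3.BN
open Cfsg.Agent.Lib.Lead.Stein Cfsg.Agent.Lib.Helper11.SL2Hom Cfsg.Agent.Lib.Helper11.ChevSL2

section
variable {Γ : Type*} [Group Γ] {G : Subgroup Γ}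

/-- two subgroups commuting elementwise -/
def CommS (A B : Subgroup Γ) : Prop := ∀ a ∈ A, ∀ b ∈ B, a * b = b * a

theorem CommS.of_mps {θ : ↥G ≃* ↥G} {A A' B B' : Subgroup Γ} (hA' : A' ≤ G) (hB' : B' ≤ G)
    (hA : Mps θ A A') (hB : Mps θ B B') (h : CommS A B) : CommS A' B' := by
  intro a' ha' b' hb'
  have e1 : ((θ (θ.symm ⟨a', hA' ha'⟩) : ↥G) : Γ) = a' := by rw [MulEquiv.apply_symm_apply]
  have e2 : ((θ (θ.symm ⟨b', hB' hb'⟩) : ↥G) : Γ) = b' := by rw [MulEquiv.apply_symm_apply]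
  have h1 : ((θ.symm ⟨a', hA' ha'⟩ : ↥G) : Γ) ∈ A := (hA _).mp (by rw [e1]; exact ha')
  have h2 : ((θ.symm ⟨b', hB' hb'⟩ : ↥G) : Γ) ∈ B := (hB _).mp (by rw [e2]; exact hb')
  have h3 := h _ h1 _ h2
  have h4 : θ.symm ⟨a', hA' ha'⟩ * θ.symm ⟨b', hB' hb'⟩ = θ.symm ⟨b', hB' hb'⟩ * θ.symm ⟨a', hA' ha'⟩ :=
    Subtype.ext h3
  have h5 := congrArg (fun g : ↥G => ((θ g : ↥G) : Γ)) h4
  simp only [map_mul, MulEquiv.apply_symm_apply, Subgroup.coe_mul] at h5
  exact h5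

theorem CommS.of_mps_symm {θ : ↥G ≃* ↥G} {A A' B B' : Subgroup Γ} (hA0 : A ≤ G) (hB0 : B ≤ G)
    (hA : Mps θ A A') (hB : Mps θ B B') (h : CommS A' B') : CommS A B :=
  CommS.of_mps hA0 hB0 hA.symm hB.symm h

variable {F F' : Type*} [Field F] [Field F'] {V B X Y X' Y' : Subgroup Γ}
  {ψ : SpecialLinearGroup (Fin 2) F →* Γ} {ψ' : SpecialLinearGroup (Fin 2) F' →* Γ}

theorem RankOneHom.commS_X (R : RankOneHom G V B X Y ψ) (R' : RankOneHom G V B X' Y' ψ') :
    CommS X X' ↔ ∀ t u, Commute (ψ (xS t)) (ψ' (xS u)) := by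
  constructor
  · intro h t u
    exact h _ ((R.memX _).mpr ⟨t, rfl⟩) _ ((R'.memX _).mpr ⟨u, rfl⟩)
  · intro h a ha b hb
    obtain ⟨t, rfl⟩ := (R.memX _).mp ha
    obtain ⟨u, rfl⟩ := (R'.memX _).mp hb
    exact h t u

theorem RankOneHom.commS_Y (R : RankOneHom G V B X Y ψ) (R' : RankOneHom G V B X' Y' ψ') :
    CommS Y Y' ↔ ∀ t u, Commute (ψ (yS t)) (ψ' (yS u)) := by
  constructor
  · intro h t u
    exact h _ ((R.memY _).mpr ⟨t, rfl⟩) _ ((R'.memY _).mpr ⟨u, rfl⟩)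
  · intro h a ha b hb
    obtain ⟨t, rfl⟩ := (R.memY _).mp ha
    obtain ⟨u, rfl⟩ := (R'.memY _).mp hb
    exact h t u

end

/-- a combinatorial lemma: a map of the four classes preserving the sizes and the commutation is trivial -/
theorem e6_perm_trivial (C : Fin 4 → Fin 4 → Prop) (π : Fin 4 → Fin 4)
    (h03 : C 0 3) (h02 : C 0 2) (h12 : C 1 2) (h13 : ¬ C 1 3)
    (hπ : ∀ i j, C i j ↔ C (π i) (π j))
    (hs0 : π 0 = 0 ∨ π 0 = 1) (hs1 : π 1 = 0 ∨ π 1 = 1) (hs2 : π 2 = 2 ∨ π 2 = 3)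
    (hs3 : π 3 = 2 ∨ π 3 = 3) : ∀ i, π i = i := by
  have k03 := (hπ 0 3).mp h03
  have k02 := (hπ 0 2).mp h02
  have k12 := (hπ 1 2).mp h12
  have k13 : ¬ C (π 1) (π 3) := fun h => h13 ((hπ 1 3).mpr h)
  have a0 : π 0 = 0 := by
    rcases hs0 with h | h
    · exact h
    · exfalso
      rw [h] at k03 k02
      have d2 : π 3 = 2 := by
        rcases hs3 with h' | h'
        · exact h'
        · rw [h'] at k03; exact absurd k03 h13
      rw [d2] at k13
      rcases hs1 with h' | h'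
      · rw [h'] at k13; exact k13 h02
      · rw [h'] at k13; exact k13 h12
  have a1 : π 1 = 1 := by
    rcases hs1 with h | h
    · exfalso
      rw [h] at k13
      rcases hs3 with h' | h'
      · rw [h'] at k13; exact k13 h02
      · rw [h'] at k13; exact k13 h03
    · exact h
  rw [a1] at k13 k12
  have a3 : π 3 = 3 := by
    rcases hs3 with h | h
    · rw [h] at k13; exact absurd h12 k13
    · exact h
  have a2 : π 2 = 2 := by
    rcases hs2 with h | h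
    · exact h
    · rw [h] at k12; exact absurd k12 h13
  intro i
  fin_cases i
  · exact a0
  · exact a1
  · exact a2
  · exact a3

section
variable (K : Type*) [Field K] (φ : K ≃+* K)

/-- the commutation facts between the simple rank one groups of `²E₆(q)` -/
structure E6CommFacts : Prop where
  x03 : ∀ t u, Commute (ePsi0 K φ (xS t)) (ePsi3 K φ (xS u))
  x02 : ∀ t u, Commute (ePsi0 K φ (xS t)) (ePsi2 K φ (xS u))
  x12 : ∀ t u, Commute (ePsi1 K φ (xS t)) (ePsi2 K φ (xS u))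
  nx13 : ¬ ∀ t u, Commute (ePsi1 K φ (xS t)) (ePsi3 K φ (xS u))
  y03 : ∀ t u, Commute (ePsi0 K φ (yS t)) (ePsi3 K φ (yS u))
  y02 : ∀ t u, Commute (ePsi0 K φ (yS t)) (ePsi2 K φ (yS u))
  y12 : ∀ t u, Commute (ePsi1 K φ (yS t)) (ePsi2 K φ (yS u))
  ny13 : ¬ ∀ t u, Commute (ePsi1 K φ (yS t)) (ePsi3 K φ (yS u))

end

section
variable (K : Type*) [Field K] [Fintype K] (φ : K ≃+* K) (hφ : ∀ a, φ^[2] a = a)
variable (q : ℕ) (hK : Fintype.card K = q ^ 2) (hfix : Nat.card {a : K // φ a = a} = q)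
variable (hC : E6CommFacts K φ)

local notation "G1E6" => chevE6.genSubgroup K (twWords K φ [e6p2, e6m2, e6p4, e6m4]
  [(e6p1, e6p6), (e6m1, e6m6), (e6p3, e6p5), (e6m3, e6m5)] [])

local notation "hGE6" => graphFacts_of_graphOKB chevE6 grPv_E6_1 grPvInv_E6_1 grRho_E6_1 grRhoInv_E6_1
  grEps_E6_1 twistTab_E6.graph

include hK in
theorem e6_q_gt : 1 < q := by
  by_contra h
  have hq : q = 0 ∨ q = 1 := by omega
  have h2 : 1 < Fintype.card K := Fintype.one_lt_card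
  rcases hq with rfl | rfl
  · rw [hK] at h2; norm_num at h2
  · rw [hK] at h2; norm_num at h2

/-- the four classes as a function of `Fin 4` -/
def eJ : Fin 4 → Fin twSimpIdx_E6.length := fun i => ⟨i.val, i.isLt⟩

theorem eJ_surj (J : Fin twSimpIdx_E6.length) : ∃ i, eJ i = J := ⟨⟨J.val, J.isLt⟩, rfl⟩

include hφ hK hfix hC in
/-- an automorphism stabilising `U` and `V` stabilises the four rank one groups `X_J` and `Y_J` -/
theorem e6_stb_cls (θ : ↥G1E6 ≃* ↥G1E6) (hU : Stb θ (chevE6.posUnipotent K))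
    (hV : Stb θ (chevE6.negUnipotent K)) (J : Fin twSimpIdx_E6.length) :
    Mps θ (clsX chevE6 _ _ _ _ _ hGE6 K φ twSimpIdx_E6 J) (clsX chevE6 _ _ _ _ _ hGE6 K φ twSimpIdx_E6 J) ∧
    Mps θ (clsY chevE6 chevE6_mem _ _ _ _ _ hGE6 K φ twSimpIdx_E6 J)
      (clsY chevE6 chevE6_mem _ _ _ _ _ hGE6 K φ twSimpIdx_E6 J) := by
  have hq := e6_q_gt K q hK
  have R0 := eR0 K φ hφ
  have R1 := eR1 K φ hφ
  have R2 := eR2 K φ hφ
  have R3 := eR3 K φ hφ
  have hcK : Nat.card K = q ^ 2 := by rw [Nat.card_eq_fintype_card, hK]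
  have hck := card_fixField K φ q hfix
  have hne : q ≠ q ^ 2 := by
    intro h
    have : q ^ 1 < q ^ 2 := Nat.pow_lt_pow_right hq (by norm_num)
    rw [pow_one] at this
    omega
  have hmap := fun J => tw_cls_map chevE6 chevE6_mem _ _ _ _ _ _ _ _ _ _ _ _ _ _ twistTab_E6
    twistTab2_E6 K φ hφ twLongJs_E6 twLongJs_E6_mem (longFacts_of_longB _ _ twLongB_E6) hopp_E6 θ hU hV J
  have hXle : ∀ i : Fin 4, clsX chevE6 _ _ _ _ _ hGE6 K φ twSimpIdx_E6 (eJ i) ≤ G1E6 := by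
    intro i
    fin_cases i
    · exact R0.le_X
    · exact R1.le_X
    · exact R2.le_X
    · exact R3.le_X
  have hYle : ∀ i : Fin 4, clsY chevE6 chevE6_mem _ _ _ _ _ hGE6 K φ twSimpIdx_E6 (eJ i) ≤ G1E6 := by
    intro i
    fin_cases i
    · exact R0.le_Y
    · exact R1.le_Y
    · exact R2.le_Y
    · exact R3.le_Y
  have hXc : ∀ i : Fin 4, Nat.card ↥(clsX chevE6 _ _ _ _ _ hGE6 K φ twSimpIdx_E6 (eJ i)) =
      if i.val < 2 then q else q ^ 2 := by
    intro i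
    fin_cases i
    · exact R0.card_X.trans hck
    · exact R1.card_X.trans hck
    · exact R2.card_X.trans hcK
    · exact R3.card_X.trans hcK
  have hYc : ∀ i : Fin 4, Nat.card ↥(clsY chevE6 chevE6_mem _ _ _ _ _ hGE6 K φ twSimpIdx_E6 (eJ i)) =
      if i.val < 2 then q else q ^ 2 := by
    intro i
    fin_cases i
    · exact R0.card_Y.trans hck
    · exact R1.card_Y.trans hck
    · exact R2.card_Y.trans hcK
    · exact R3.card_Y.trans hcK
  -- the permutations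
  have hX : ∀ i : Fin 4, ∃ j : Fin 4, Mps θ (clsX chevE6 _ _ _ _ _ hGE6 K φ twSimpIdx_E6 (eJ i))
      (clsX chevE6 _ _ _ _ _ hGE6 K φ twSimpIdx_E6 (eJ j)) := by
    intro i
    obtain ⟨J', hJ'⟩ := (hmap (eJ i)).1
    obtain ⟨j, rfl⟩ := eJ_surj J'
    exact ⟨j, hJ'⟩
  have hY : ∀ i : Fin 4, ∃ j : Fin 4, Mps θ (clsY chevE6 chevE6_mem _ _ _ _ _ hGE6 K φ twSimpIdx_E6 (eJ i))
      (clsY chevE6 chevE6_mem _ _ _ _ _ hGE6 K φ twSimpIdx_E6 (eJ j)) := by
    intro i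
    obtain ⟨J', hJ'⟩ := (hmap (eJ i)).2
    obtain ⟨j, rfl⟩ := eJ_surj J'
    exact ⟨j, hJ'⟩
  choose π hπ using hX
  choose π' hπ' using hY
  have hsize : ∀ i : Fin 4, (i.val < 2 ↔ (π i).val < 2) := by
    intro i
    have h1 := card_eq_of_mps (hXle i) (hXle (π i)) (hπ i)
    rw [hXc, hXc] at h1
    by_cases h : i.val < 2 <;> by_cases h' : (π i).val < 2
    · exact ⟨fun _ => h', fun _ => h⟩
    · rw [if_pos h, if_neg h'] at h1; exact absurd h1 hne
    · rw [if_neg h, if_pos h'] at h1; exact absurd h1.symm hne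
    · exact ⟨fun a => absurd a h, fun a => absurd a h'⟩
  have hsize' : ∀ i : Fin 4, (i.val < 2 ↔ (π' i).val < 2) := by
    intro i
    have h1 := card_eq_of_mps (hYle i) (hYle (π' i)) (hπ' i)
    rw [hYc, hYc] at h1
    by_cases h : i.val < 2 <;> by_cases h' : (π' i).val < 2
    · exact ⟨fun _ => h', fun _ => h⟩
    · rw [if_pos h, if_neg h'] at h1; exact absurd h1 hne
    · rw [if_neg h, if_pos h'] at h1; exact absurd h1.symm hne
    · exact ⟨fun a => absurd a h, fun a => absurd a h'⟩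
  have small : ∀ j : Fin 4, j.val < 2 → j = 0 ∨ j = 1 := by decide
  have big : ∀ j : Fin 4, ¬ j.val < 2 → j = 2 ∨ j = 3 := by decide
  have eπ : ∀ i, π i = i := by
    apply e6_perm_trivial (fun i j => CommS (clsX chevE6 _ _ _ _ _ hGE6 K φ twSimpIdx_E6 (eJ i))
      (clsX chevE6 _ _ _ _ _ hGE6 K φ twSimpIdx_E6 (eJ j))) π
    · exact (R0.commS_X R3).mpr hC.x03
    · exact (R0.commS_X R2).mpr hC.x02
    · exact (R1.commS_X R2).mpr hC.x12
    · exact fun h => hC.nx13 ((R1.commS_X R3).mp h)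
    · intro i j
      exact ⟨CommS.of_mps (hXle _) (hXle _) (hπ i) (hπ j),
        CommS.of_mps_symm (hXle _) (hXle _) (hπ i) (hπ j)⟩
    · exact small _ ((hsize 0).mp (by decide))
    · exact small _ ((hsize 1).mp (by decide))
    · exact big _ (fun h => absurd ((hsize 2).mpr h) (by decide))
    · exact big _ (fun h => absurd ((hsize 3).mpr h) (by decide))
  have eπ' : ∀ i, π' i = i := by
    apply e6_perm_trivial (fun i j => CommS (clsY chevE6 chevE6_mem _ _ _ _ _ hGE6 K φ twSimpIdx_E6 (eJ i))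
      (clsY chevE6 chevE6_mem _ _ _ _ _ hGE6 K φ twSimpIdx_E6 (eJ j))) π'
    · exact (R0.commS_Y R3).mpr hC.y03
    · exact (R0.commS_Y R2).mpr hC.y02
    · exact (R1.commS_Y R2).mpr hC.y12
    · exact fun h => hC.ny13 ((R1.commS_Y R3).mp h)
    · intro i j
      exact ⟨CommS.of_mps (hYle _) (hYle _) (hπ' i) (hπ' j),
        CommS.of_mps_symm (hYle _) (hYle _) (hπ' i) (hπ' j)⟩
    · exact small _ ((hsize' 0).mp (by decide))
    · exact small _ ((hsize' 1).mp (by decide))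
    · exact big _ (fun h => absurd ((hsize' 2).mpr h) (by decide))
    · exact big _ (fun h => absurd ((hsize' 3).mpr h) (by decide))
  obtain ⟨i, rfl⟩ := eJ_surj J
  have h1 := hπ i
  have h2 := hπ' i
  rw [eπ i] at h1
  rw [eπ' i] at h2
  exact ⟨h1, h2⟩

end

end Cfsg.Agent.Lib.Lead.TwStein
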