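import Cfsg.Agent.Lib.Lead.TwE6C

/-! The twisted groups `²E₆(q)`: the parameters of an automorphism stabilising `U` and `V` (lead). -/

set_option autoImplicit false
set_option maxRecDepth 100000

namespace Cfsg.Agent.Lib.Lead.TwStein

open Cfsg Cfsg.Lie Matrix Cfsg.Agent.Lib.Helper7 Cfsg.Agent.Lib.Helper3.BN
open Cfsg.Agent.Lib.Lead.Stein Cfsg.Agent.Lib.Helper11.SL2Hom Cfsg.Agent.Lib.Helper11.ChevSL2

section
variable {Γ : Type*} [Group Γ] {G : Subgroup Γ}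
variable {F F' : Type*} [Field F] [Field F'] {V B X Y X' Y' : Subgroup Γ}
  {ψ : SpecialLinearGroup (Fin 2) F →* Γ} {ψ' : SpecialLinearGroup (Fin 2) F' →* Γ}

/-- two rank one groups linked by the action of the torus of the first on the second: the field
automorphisms of an automorphism are compatible -/
theorem RankOneHom.link (R : RankOneHom G V B X Y ψ) (R' : RankOneHom G V B X' Y' ψ') (ι : F →+* F')
    (hconj : ∀ (s : F) (hs : s ≠ 0) (u : F'),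
      ψ (hS s hs) * ψ' (xS u) * (ψ (hS s hs))⁻¹ = ψ' (xS ((ι s)⁻¹ * u)))
    (θ : ↥G ≃* ↥G) (c : F) (α : F ≃+* F) (hc : c ≠ 0)
    (h1 : ∀ t, ((θ ⟨ψ (xS t), R.mem _⟩ : ↥G) : Γ) = ψ (xS (c * α t)))
    (h2 : ∀ t, ((θ ⟨ψ (yS t), R.mem _⟩ : ↥G) : Γ) = ψ (yS (c⁻¹ * α t)))
    (c' : F') (α' : F' ≃+* F') (hc' : c' ≠ 0)
    (h1' : ∀ t, ((θ ⟨ψ' (xS t), R'.mem _⟩ : ↥G) : Γ) = ψ' (xS (c' * α' t))) (s : F) :
    ι (α s) = α' (ι s) := by
  by_cases hs : s = 0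
  · rw [hs, map_zero, map_zero, map_zero]
  have hαs : α s ≠ 0 := (map_ne_zero α).mpr hs
  have hhS := R.map_hS θ c α hc h1 h2 s hs
  have e1 := hconj s hs 1
  set A : ↥G := ⟨ψ (hS s hs), R.mem _⟩ with hA
  set X1 : ↥G := ⟨ψ' (xS 1), R'.mem _⟩ with hX1
  have e2 : (⟨ψ' (xS ((ι s)⁻¹ * 1)), R'.mem _⟩ : ↥G) = A * X1 * A⁻¹ := Subtype.ext e1.symm
  have e3 := congrArg (fun g : ↥G => ((θ g : ↥G) : Γ)) e2
  beta_reduce at e3
  rw [map_mul, map_mul, map_inv] at e3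
  simp only [Subgroup.coe_mul, Subgroup.coe_inv] at e3
  rw [h1', hA, hX1, h1', hhS, hconj (α s) hαs] at e3
  have e4 := R'.injX _ _ e3
  rw [map_one, mul_one, mul_one, map_inv₀] at e4
  have e5 : (α' (ι s))⁻¹ = (ι (α s))⁻¹ := by
    have := mul_left_cancel₀ hc' (e4.trans (mul_comm _ _))
    exact this
  exact (inv_injective e5).symm

end

section
variable (K : Type*) [Field K] [Fintype K] (φ : K ≃+* K) (hφ : ∀ a, φ^[2] a = a)
variable (q : ℕ) (hK : Fintype.card K = q ^ 2) (hfix : Nat.card {a : K // φ a = a} = q)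
variable (hC : E6CommFacts K φ)

local notation "G1E6" => chevE6.genSubgroup K (twWords K φ [e6p2, e6m2, e6p4, e6m4]
  [(e6p1, e6p6), (e6m1, e6m6), (e6p3, e6p5), (e6m3, e6m5)] [])

local notation "hGE6" => graphFacts_of_graphOKB chevE6 grPv_E6_1 grPvInv_E6_1 grRho_E6_1 grRhoInv_E6_1
  grEps_E6_1 twistTab_E6.graph

include hK hfix hC in
/-- the parameters of an automorphism stabilising `U` and `V` -/
theorem e6_params (θ : ↥G1E6 ≃* ↥G1E6) (hU : Stb θ (chevE6.posUnipotent K))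
    (hV : Stb θ (chevE6.negUnipotent K)) :
    ∃ (c0 c1 : ↥(fixField K φ)) (c2 c3 : K) (α0 α1 : ↥(fixField K φ) ≃+* ↥(fixField K φ)) (α : K ≃+* K),
      c0 ≠ 0 ∧ c1 ≠ 0 ∧ c2 ≠ 0 ∧ c3 ≠ 0 ∧
      (∀ t, ((θ ⟨ePsi0 K φ (xS t), ePsi0_mem K φ hφ _⟩ : ↥G1E6) : GL chevE6.Idx K) =
        ePsi0 K φ (xS (c0 * α0 t))) ∧
      (∀ t, ((θ ⟨ePsi1 K φ (xS t), ePsi1_mem K φ hφ _⟩ : ↥G1E6) : GL chevE6.Idx K) =
        ePsi1 K φ (xS (c1 * α1 t))) ∧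
      (∀ t, ((θ ⟨ePsi2 K φ (xS t), ePsi2_mem K φ hφ _⟩ : ↥G1E6) : GL chevE6.Idx K) =
        ePsi2 K φ (xS (c2 * α t))) ∧
      (∀ t, ((θ ⟨ePsi3 K φ (xS t), ePsi3_mem K φ hφ _⟩ : ↥G1E6) : GL chevE6.Idx K) =
        ePsi3 K φ (xS (c3 * α t))) ∧
      (∀ s : ↥(fixField K φ), ((α0 s : ↥(fixField K φ)) : K) = α (s : K)) ∧
      (∀ s : ↥(fixField K φ), ((α1 s : ↥(fixField K φ)) : K) = α (s : K)) := by
  have R0 := eR0 K φ hφ
  have R1 := eR1 K φ hφ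
  have R2 := eR2 K φ hφ
  have R3 := eR3 K φ hφ
  have hB := (tw_stb_borel chevE6 chevE6_mem _ _ _ _ _ _ _ _ _ _ _ _ _ _ twistTab_E6
    twistTab2_E6 K φ hφ twLongJs_E6 twLongJs_E6_mem (longFacts_of_longB _ _ twLongB_E6) θ hU hV).1
  have hc0 := e6_stb_cls K φ hφ q hK hfix hC θ hU hV eJ0
  have hc1 := e6_stb_cls K φ hφ q hK hfix hC θ hU hV eJ1
  have hc2 := e6_stb_cls K φ hφ q hK hfix hC θ hU hV eJ2
  have hc3 := e6_stb_cls K φ hφ q hK hfix hC θ hU hV eJ3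
  have : Finite ↥(fixField K φ) := inferInstance
  obtain ⟨c0, α0, hc0', h0x, h0y⟩ := R0.exists_field θ hV hB hc0.1 hc0.2
  obtain ⟨c1, α1, hc1', h1x, h1y⟩ := R1.exists_field θ hV hB hc1.1 hc1.2
  obtain ⟨c2, α2, hc2', h2x, h2y⟩ := R2.exists_field θ hV hB hc2.1 hc2.2
  obtain ⟨c3, α3, hc3', h3x, h3y⟩ := R3.exists_field θ hV hB hc3.1 hc3.2
  -- `[2,4]` acts on `[0,5]`
  have l32 := R3.link R2 (RingHom.id K) (fun s hs u => ePsi3_hS_conj_ePsi2 K φ s hs u) θ c3 α3 hc3' h3x h3y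
    c2 α2 hc2' h2x
  -- `[3]` acts on `[2,4]`
  have l13 := R1.link R3 (fixField K φ).subtype (fun s hs u => ePsi1_hS_conj_ePsi3 K φ s hs u) θ c1 α1 hc1'
    h1x h1y c3 α3 hc3' h3x
  -- `[1]` acts on `[3]`
  have l01 := R0.link R1 (RingHom.id _) (fun s hs u => ePsi0_hS_conj_ePsi1 K φ s hs u) θ c0 α0 hc0' h0x h0y
    c1 α1 hc1' h1x
  have e23 : ∀ t, α2 t = α3 t := fun t => (l32 t).symm
  refine ⟨c0, c1, c2, c3, α0, α1, α3, hc0', hc1', hc2', hc3', h0x, h1x, ?_, h3x, ?_, ?_⟩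
  · intro t
    rw [h2x, e23]
  · intro s
    have h1 := l01 s
    simp only [RingHom.id_apply] at h1
    rw [h1]
    exact l13 s
  · intro s
    exact l13 s

end

end Cfsg.Agent.Lib.Lead.TwStein
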