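import Cfsg.Agent.Lib.Lead.TwE6D

/-! The twisted groups `²E₆(q)`: an automorphism stabilising `U` and `V` and fixing the four positive rank one
groups elementwise is trivial (lead). -/

set_option autoImplicit false
set_option maxRecDepth 100000

namespace Cfsg.Agent.Lib.Lead.TwStein

open Cfsg Cfsg.Lie Matrix Cfsg.Agent.Lib.Helper7 Cfsg.Agent.Lib.Helper3.BN
open Cfsg.Agent.Lib.Lead.Stein Cfsg.Agent.Lib.Helper11.SL2Hom Cfsg.Agent.Lib.Helper11.ChevSL2

section
variable (K : Type*) [Field K] [Fintype K] (φ : K ≃+* K) (hφ : ∀ a, φ^[2] a = a)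
variable (q : ℕ) (hK : Fintype.card K = q ^ 2) (hfix : Nat.card {a : K // φ a = a} = q)
variable (hC : E6CommFacts K φ)

local notation "G1E6" => chevE6.genSubgroup K (twWords K φ [e6p2, e6m2, e6p4, e6m4]
  [(e6p1, e6p6), (e6m1, e6m6), (e6p3, e6p5), (e6m3, e6m5)] [])

include hK hfix hC in
/-- rigidity: an automorphism stabilising `U` and `V` and fixing the four groups `X_J` elementwise is
trivial -/
theorem e6_rigid (θ : ↥G1E6 ≃* ↥G1E6) (hU : Stb θ (chevE6.posUnipotent K))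
    (hV : Stb θ (chevE6.negUnipotent K))
    (h0 : ∀ t, ((θ ⟨ePsi0 K φ (xS t), ePsi0_mem K φ hφ _⟩ : ↥G1E6) : GL chevE6.Idx K) = ePsi0 K φ (xS t))
    (h1 : ∀ t, ((θ ⟨ePsi1 K φ (xS t), ePsi1_mem K φ hφ _⟩ : ↥G1E6) : GL chevE6.Idx K) = ePsi1 K φ (xS t))
    (h2 : ∀ t, ((θ ⟨ePsi2 K φ (xS t), ePsi2_mem K φ hφ _⟩ : ↥G1E6) : GL chevE6.Idx K) = ePsi2 K φ (xS t))
    (h3 : ∀ t, ((θ ⟨ePsi3 K φ (xS t), ePsi3_mem K φ hφ _⟩ : ↥G1E6) : GL chevE6.Idx K) = ePsi3 K φ (xS t))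
    (g : ↥G1E6) : θ g = g := by
  have R0 := eR0 K φ hφ
  have R1 := eR1 K φ hφ
  have R2 := eR2 K φ hφ
  have R3 := eR3 K φ hφ
  have hB := (tw_stb_borel chevE6 chevE6_mem _ _ _ _ _ _ _ _ _ _ _ _ _ _ twistTab_E6
    twistTab2_E6 K φ hφ twLongJs_E6 twLongJs_E6_mem (longFacts_of_longB _ _ twLongB_E6) θ hU hV).1
  have hc0 := e6_stb_cls K φ hφ q hK hfix hC θ hU hV eJ0
  have hc1 := e6_stb_cls K φ hφ q hK hfix hC θ hU hV eJ1
  have hc2 := e6_stb_cls K φ hφ q hK hfix hC θ hU hV eJ2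
  have hc3 := e6_stb_cls K φ hφ q hK hfix hC θ hU hV eJ3
  have : Finite ↥(fixField K φ) := inferInstance
  have h0y := R0.of_scalar θ hV hB hc0.1 hc0.2 1 (fun t => by rw [one_mul]; exact h0 t)
  have h1y := R1.of_scalar θ hV hB hc1.1 hc1.2 1 (fun t => by rw [one_mul]; exact h1 t)
  have h2y := R2.of_scalar θ hV hB hc2.1 hc2.2 1 (fun t => by rw [one_mul]; exact h2 t)
  have h3y := R3.of_scalar θ hV hB hc3.1 hc3.2 1 (fun t => by rw [one_mul]; exact h3 t)
  simp only [inv_one, one_mul] at h0y h1y h2y h3y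
  obtain ⟨g, hg⟩ := g
  have key : ∀ (x : GL chevE6.Idx K) (hx : x ∈ G1E6), θ ⟨x, hx⟩ = ⟨x, hx⟩ := by
    intro x hx
    unfold ChevalleyDatum.genSubgroup at hx
    induction hx using Subgroup.closure_induction with
    | mem x hx' =>
      obtain ⟨w, hw, hxw⟩ := hx'
      have hxe : x = wordGL chevE6 chevE6_mem K w := Units.ext (by rw [hxw, coe_wordGL])
      apply Subtype.ext
      rcases e6_gen_cases K φ w hw with ⟨t, ht⟩ | ⟨t, ht⟩ | ⟨t, ht⟩ | ⟨t, ht⟩ | ⟨t, ht⟩ | ⟨t, ht⟩ |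
        ⟨t, ht⟩ | ⟨t, ht⟩
      · have e : x = ePsi0 K φ (xS t) := hxe.trans ht
        subst e
        exact h0 t
      · have e : x = ePsi0 K φ (yS t) := hxe.trans ht
        subst e
        exact h0y t
      · have e : x = ePsi1 K φ (xS t) := hxe.trans ht
        subst e
        exact h1 t
      · have e : x = ePsi1 K φ (yS t) := hxe.trans ht
        subst e
        exact h1y t
      · have e : x = ePsi2 K φ (xS t) := hxe.trans ht
        subst e
        exact h2 t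
      · have e : x = ePsi2 K φ (yS t) := hxe.trans ht
        subst e
        exact h2y t
      · have e : x = ePsi3 K φ (xS t) := hxe.trans ht
        subst e
        exact h3 t
      · have e : x = ePsi3 K φ (yS t) := hxe.trans ht
        subst e
        exact h3y t
    | one => exact map_one θ
    | mul a b ha hb iha ihb =>
      have : (⟨a * b, Subgroup.mul_mem _ ha hb⟩ : ↥G1E6) = ⟨a, ha⟩ * ⟨b, hb⟩ := rfl
      rw [this, map_mul, iha, ihb]
    | inv a ha iha =>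
      have : (⟨a⁻¹, Subgroup.inv_mem _ ha⟩ : ↥G1E6) = ⟨a, ha⟩⁻¹ := rfl
      rw [this, map_inv, iha]
  exact key g hg

end

end Cfsg.Agent.Lib.Lead.TwStein
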