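import Cfsg.Agent.Lib.Lead.TwE6E

/-! The twisted groups `²E₆(q)`: the torus `H ∩ ²E₆(q)` acts faithfully (lead). -/

set_option autoImplicit false
set_option maxRecDepth 100000

namespace Cfsg.Agent.Lib.Lead.TwStein

open Cfsg Cfsg.Lie Matrix Cfsg.Agent.Lib.Helper7 Cfsg.Agent.Lib.Helper3.BN
open Cfsg.Agent.Lib.Lead.Stein Cfsg.Agent.Lib.Helper11.SL2Hom Cfsg.Agent.Lib.Helper11.ChevSL2

section
variable (K : Type*) [Field K] (φ : K ≃+* K) (hφ : ∀ a, φ^[2] a = a)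

local notation "G1E6" => chevE6.genSubgroup K (twWords K φ [e6p2, e6m2, e6p4, e6m4]
  [(e6p1, e6p6), (e6m1, e6m6), (e6p3, e6p5), (e6m3, e6m5)] [])

/-- the values on the fundamental roots of a character whose diagonal element acts on the four rank one
groups through given scalars -/
theorem e6_char_vals (h : GL chevE6.Idx K) (χ : ℕ → K) (hχ : ChainChar chevE6 K χ)
    (hm : (h : Matrix chevE6.Idx chevE6.Idx K) = diagChar chevE6 K χ)
    (c0 c1 : ↥(fixField K φ)) (c2 c3 : K)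
    (h0 : h * ePsi0 K φ (xS 1) * h⁻¹ = ePsi0 K φ (xS c0))
    (h1 : h * ePsi1 K φ (xS 1) * h⁻¹ = ePsi1 K φ (xS c1))
    (h2 : h * ePsi2 K φ (xS 1) * h⁻¹ = ePsi2 K φ (xS c2))
    (h3 : h * ePsi3 K φ (xS 1) * h⁻¹ = ePsi3 K φ (xS c3)) :
    χ 46 = (c0 : K) ∧ χ 39 = (c1 : K) ∧ χ 56 = c2 ∧ χ 36 = φ c2 ∧ χ 42 = c3 ∧ χ 37 = φ c3 := by
  obtain ⟨hTw, hpos⟩ := twistFacts_of_twistOKB chevE6 grRho_E6_1 grRhoInv_E6_1 twW_E6 twCls_E6
    twistTab_E6.twist
  have hA := chainAdd_linF chevE6 chevE6_mem twW_E6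
  have hO : PosFacts chevE6 (linF chevE6 twW_E6) := ⟨hpos, twistTab_E6.prim⟩
  have key : ∀ (r : ℕ) (t : K), h * xGL chevE6 chevE6_mem K r t * h⁻¹ = xGL chevE6 chevE6_mem K r (χ r * t) := by
    intro r t
    rw [diagGL_xGL_comm chevE6 chevE6_mem K h χ hχ hm r t, mul_assoc, mul_inv_cancel, mul_one]
  have a0 : χ 46 = (c0 : K) := by
    rw [ePsi0_xS, ePsi0_xS, key] at h0
    have := xGL_param_inj chevE6 chevE6_mem K 46 (by decide) _ _ h0
    rw [← this]
    show χ 46 = χ 46 * ((1 : ↥(fixField K φ)) : K)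
    simp
  have a1 : χ 39 = (c1 : K) := by
    rw [ePsi1_xS, ePsi1_xS, key] at h1
    have := xGL_param_inj chevE6 chevE6_mem K 39 (by decide) _ _ h1
    rw [← this]
    show χ 39 = χ 39 * ((1 : ↥(fixField K φ)) : K)
    simp
  have a2 : ∀ r ∈ [56, 36], χ r * sigP K φ 56 r 1 = sigP K φ 56 r c2 := by
    rw [ePsi2_xS, ePsi2_xS, diagGL_conj_ordProd chevE6 chevE6_mem K _ χ hχ hm] at h2
    exact ordProd_class_inj chevE6 chevE6_mem _ _ K (linF chevE6 twW_E6) hA hO twCls_E6 hTw [56, 36]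
      (by decide) _ _ h2
  have a3 : ∀ r ∈ [42, 37], χ r * sigP K φ 42 r 1 = sigP K φ 42 r c3 := by
    rw [ePsi3_xS, ePsi3_xS, diagGL_conj_ordProd chevE6 chevE6_mem K _ χ hχ hm] at h3
    exact ordProd_class_inj chevE6 chevE6_mem _ _ K (linF chevE6 twW_E6) hA hO twCls_E6 hTw [42, 37]
      (by decide) _ _ h3
  refine ⟨a0, a1, ?_, ?_, ?_, ?_⟩
  · have := a2 56 (by simp)
    rw [map_one, mul_one, sigP_self] at this
    exact this
  · have := a2 36 (by simp)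
    rw [map_one, mul_one, sigP_56_36] at this
    exact this
  · have := a3 42 (by simp)
    rw [map_one, mul_one, sigP_self] at this
    exact this
  · have := a3 37 (by simp)
    rw [map_one, mul_one, sigP_42_37] at this
    exact this

include hφ in
/-- an element of `H ∩ ²E₆(q)` centralising the group is trivial -/
theorem e6_faith (h : ↥G1E6) (hh : (h : GL chevE6.Idx K) ∈ chevE6.diagonalSubgroup K)
    (hc : ∀ g : ↥G1E6, h * g = g * h) : h = 1 := by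
  obtain ⟨χ, hχ, hm⟩ := mem_diagonalSubgroup_char chevE6 chevE6_mem K _ hh
  have hcomm : ∀ (x : GL chevE6.Idx K), x ∈ G1E6 → (h : GL chevE6.Idx K) * x * (h : GL chevE6.Idx K)⁻¹ = x := by
    intro x hx
    have := congrArg (fun g : ↥G1E6 => (g : GL chevE6.Idx K)) (hc ⟨x, hx⟩)
    simp only [Subgroup.coe_mul] at this
    rw [this]; group
  obtain ⟨e0, e1, e2, e3, e4, e5⟩ := e6_char_vals K φ (h : GL chevE6.Idx K) χ hχ hm 1 1 1 1
    (hcomm _ (ePsi0_mem K φ hφ _)) (hcomm _ (ePsi1_mem K φ hφ _)) (hcomm _ (ePsi2_mem K φ hφ _))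
    (hcomm _ (ePsi3_mem K φ hφ _))
  apply Subtype.ext
  apply diagonal_eq_one_of_simple chevE6 chevE6_mem K hcA_E6 hcR_E6 rootCoefOKB_E6 _ hh χ hm
  intro i hi
  have hi6 : i < 6 := hi
  interval_cases i
  · show χ 56 = 1
    exact e2
  · show χ 46 = 1
    rw [e0]; rfl
  · show χ 42 = 1
    exact e4
  · show χ 39 = 1
    rw [e1]; rfl
  · show χ 37 = 1
    rw [e5, map_one]
  · show χ 36 = 1
    rw [e3, map_one]

end

end Cfsg.Agent.Lib.Lead.TwStein
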