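import Cfsg.Agent.Lib.Lead.TwE6F
import Cfsg.Agent.Lib.Lead.TwDiag
import Cfsg.Agent.Lib.Lead.SteinN

/-! The twisted groups `²E₆(q)`: the diagonal automorphisms (lead). -/

set_option autoImplicit false
set_option maxRecDepth 100000

namespace Cfsg.Agent.Lib.Lead.TwStein

open Cfsg Cfsg.Lie Matrix Cfsg.Agent.Lib.Helper7 Cfsg.Agent.Lib.Helper3.BN
open Cfsg.Agent.Lib.Lead.Stein Cfsg.Agent.Lib.Helper11.SL2Hom Cfsg.Agent.Lib.Helper11.ChevSL2

section
variable (K : Type*) [Field K] (φ : K ≃+* K) (hφ : ∀ a, φ^[2] a = a)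

local notation "G1E6" => chevE6.genSubgroup K (twWords K φ [e6p2, e6m2, e6p4, e6m4]
  [(e6p1, e6p6), (e6m1, e6m6), (e6p3, e6p5), (e6m3, e6m5)] [])

/-- the units attached to a parameter family -/
noncomputable def e6Units (a : ParE6 K φ) : Fin chevE6.rank → Kˣ :=
  fun k => Units.mk0 (cE6 K φ a k.val) (cE6_ne_zero K φ a k.val)

/-- the character of the root lattice with given values `(μ₁, μ₃, λ₀, λ₂)` on the fundamental roots -/
noncomputable def e6Chi (a : ParE6 K φ) : ℕ → K := chiOf chevE6 chevE6_mem K (e6Units K φ a)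

theorem e6Chi_chainChar (a : ParE6 K φ) : ChainChar chevE6 K (e6Chi K φ a) :=
  chiOf_chainChar chevE6 chevE6_mem K _

theorem e6Chi_simple (a : ParE6 K φ) (k : ℕ) (hk : k < 6) :
    e6Chi K φ a (chevE6.simple k) = cE6 K φ a k :=
  chiOf_simple chevE6 chevE6_mem K _ k hk

theorem e6Chi_neg_simple (a : ParE6 K φ) (k : ℕ) (hk : k < 6) :
    e6Chi K φ a (chevE6.neg (chevE6.simple k)) = (cE6 K φ a k)⁻¹ :=
  chiOf_neg_simple chevE6 chevE6_mem K _ k hk

theorem e6Chi_56 (a : ParE6 K φ) : e6Chi K φ a 56 = (a.2.2.1 : K) := by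
  have e : chevE6.simple 0 = 56 := by decide
  have := e6Chi_simple K φ a 0 (by decide)
  rw [e] at this
  simpa [cE6] using this

theorem e6Chi_46 (a : ParE6 K φ) : e6Chi K φ a 46 = ((a.1 : Kˣ) : K) := by
  have e : chevE6.simple 1 = 46 := by decide
  have := e6Chi_simple K φ a 1 (by decide)
  rw [e] at this
  simpa [cE6] using this

theorem e6Chi_42 (a : ParE6 K φ) : e6Chi K φ a 42 = (a.2.2.2 : K) := by
  have e : chevE6.simple 2 = 42 := by decide
  have := e6Chi_simple K φ a 2 (by decide)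
  rw [e] at this
  simpa [cE6] using this

theorem e6Chi_39 (a : ParE6 K φ) : e6Chi K φ a 39 = ((a.2.1 : Kˣ) : K) := by
  have e : chevE6.simple 3 = 39 := by decide
  have := e6Chi_simple K φ a 3 (by decide)
  rw [e] at this
  simpa [cE6] using this

theorem e6Chi_37 (a : ParE6 K φ) : e6Chi K φ a 37 = φ (a.2.2.2 : K) := by
  have e : chevE6.simple 4 = 37 := by decide
  have := e6Chi_simple K φ a 4 (by decide)
  rw [e] at this
  simpa [cE6] using this

theorem e6Chi_36 (a : ParE6 K φ) : e6Chi K φ a 36 = φ (a.2.2.1 : K) := by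
  have e : chevE6.simple 5 = 36 := by decide
  have := e6Chi_simple K φ a 5 (by decide)
  rw [e] at this
  simpa [cE6] using this

theorem e6Chi_15 (a : ParE6 K φ) : e6Chi K φ a 15 = (a.2.2.1 : K)⁻¹ := by
  have e : chevE6.neg (chevE6.simple 0) = 15 := by decide
  have := e6Chi_neg_simple K φ a 0 (by decide)
  rw [e] at this
  simpa [cE6] using this

theorem e6Chi_25 (a : ParE6 K φ) : e6Chi K φ a 25 = (((a.1 : Kˣ) : K))⁻¹ := by
  have e : chevE6.neg (chevE6.simple 1) = 25 := by decide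
  have := e6Chi_neg_simple K φ a 1 (by decide)
  rw [e] at this
  simpa [cE6] using this

theorem e6Chi_29 (a : ParE6 K φ) : e6Chi K φ a 29 = (a.2.2.2 : K)⁻¹ := by
  have e : chevE6.neg (chevE6.simple 2) = 29 := by decide
  have := e6Chi_neg_simple K φ a 2 (by decide)
  rw [e] at this
  simpa [cE6] using this

theorem e6Chi_32 (a : ParE6 K φ) : e6Chi K φ a 32 = (((a.2.1 : Kˣ) : K))⁻¹ := by
  have e : chevE6.neg (chevE6.simple 3) = 32 := by decide
  have := e6Chi_neg_simple K φ a 3 (by decide)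
  rw [e] at this
  simpa [cE6] using this

theorem e6Chi_34 (a : ParE6 K φ) : e6Chi K φ a 34 = (φ (a.2.2.2 : K))⁻¹ := by
  have e : chevE6.neg (chevE6.simple 4) = 34 := by decide
  have := e6Chi_neg_simple K φ a 4 (by decide)
  rw [e] at this
  simpa [cE6] using this

theorem e6Chi_35 (a : ParE6 K φ) : e6Chi K φ a 35 = (φ (a.2.2.1 : K))⁻¹ := by
  have e : chevE6.neg (chevE6.simple 5) = 35 := by decide
  have := e6Chi_neg_simple K φ a 5 (by decide)
  rw [e] at this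
  simpa [cE6] using this

theorem e6Chi_twChar (a : ParE6 K φ) :
    TwChar K φ [e6p2, e6m2, e6p4, e6m4] [(e6p1, e6p6), (e6m1, e6m6), (e6p3, e6p5), (e6m3, e6m5)] []
      (e6Chi K φ a) := by
  have f1 : φ ((a.1 : Kˣ) : K) = ((a.1 : Kˣ) : K) := a.1.2
  have f3 : φ ((a.2.1 : Kˣ) : K) = ((a.2.1 : Kˣ) : K) := a.2.1.2
  refine ⟨fun r hr => ?_, fun rs hrs => ?_, fun rs hrs => ?_⟩
  · simp only [List.mem_cons, List.not_mem_nil, or_false] at hr
    rcases hr with rfl | rfl | rfl | rfl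
    · show φ (e6Chi K φ a 46) = e6Chi K φ a 46
      rw [e6Chi_46, f1]
    · show φ (e6Chi K φ a 25) = e6Chi K φ a 25
      rw [e6Chi_25, map_inv₀, f1]
    · show φ (e6Chi K φ a 39) = e6Chi K φ a 39
      rw [e6Chi_39, f3]
    · show φ (e6Chi K φ a 32) = e6Chi K φ a 32
      rw [e6Chi_32, map_inv₀, f3]
  · simp only [List.mem_cons, List.not_mem_nil, or_false] at hrs
    rcases hrs with rfl | rfl | rfl | rfl
    · show e6Chi K φ a 36 = φ (e6Chi K φ a 56)
      rw [e6Chi_36, e6Chi_56]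
    · show e6Chi K φ a 35 = φ (e6Chi K φ a 15)
      rw [e6Chi_35, e6Chi_15, map_inv₀]
    · show e6Chi K φ a 37 = φ (e6Chi K φ a 42)
      rw [e6Chi_37, e6Chi_42]
    · show e6Chi K φ a 34 = φ (e6Chi K φ a 29)
      rw [e6Chi_34, e6Chi_29, map_inv₀]
  · simp at hrs

/-- the diagonal automorphism of `²E₆(q)` with the parameters `a` -/
noncomputable def e6Diag (a : ParE6 K φ) : ↥G1E6 ≃* ↥G1E6 :=
  twDiagAut chevE6 chevE6_mem K φ _ _ _ (e6Chi K φ a) (e6Chi_chainChar K φ a) (e6Chi_twChar K φ a)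

theorem coe_e6Diag (a : ParE6 K φ) (g : ↥G1E6) :
    ((e6Diag K φ a g : ↥G1E6) : GL chevE6.Idx K) =
      diagGL chevE6 K (e6Chi K φ a) (e6Chi_chainChar K φ a) * (g : GL chevE6.Idx K) *
        (diagGL chevE6 K (e6Chi K φ a) (e6Chi_chainChar K φ a))⁻¹ := rfl

theorem e6Diag_stb_pos (a : ParE6 K φ) : Stb (e6Diag K φ a) (chevE6.posUnipotent K) :=
  twDiagAut_stb_pos chevE6 chevE6_mem K φ _ _ _ _ _ _

theorem e6Diag_stb_neg (a : ParE6 K φ) : Stb (e6Diag K φ a) (chevE6.negUnipotent K) :=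
  twDiagAut_stb_neg chevE6 chevE6_mem K φ _ _ _ _ _ _

/-- the scalars of the diagonal automorphism on the fixed field, as elements of the fixed field -/
def e6c0 (a : ParE6 K φ) : ↥(fixField K φ) := ⟨((a.1 : Kˣ) : K), (mem_fixField K φ _).mpr a.1.2⟩

def e6c1 (a : ParE6 K φ) : ↥(fixField K φ) := ⟨((a.2.1 : Kˣ) : K), (mem_fixField K φ _).mpr a.2.1.2⟩

theorem diag_conj_ePsi0 (a : ParE6 K φ) (t : ↥(fixField K φ)) :
    diagGL chevE6 K (e6Chi K φ a) (e6Chi_chainChar K φ a) * ePsi0 K φ (xS t) *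
      (diagGL chevE6 K (e6Chi K φ a) (e6Chi_chainChar K φ a))⁻¹ = ePsi0 K φ (xS (e6c0 K φ a * t)) := by
  rw [ePsi0_xS, ePsi0_xS, diagGL_conj_xGL chevE6 chevE6_mem K, e6Chi_46]
  rfl

theorem diag_conj_ePsi1 (a : ParE6 K φ) (t : ↥(fixField K φ)) :
    diagGL chevE6 K (e6Chi K φ a) (e6Chi_chainChar K φ a) * ePsi1 K φ (xS t) *
      (diagGL chevE6 K (e6Chi K φ a) (e6Chi_chainChar K φ a))⁻¹ = ePsi1 K φ (xS (e6c1 K φ a * t)) := by
  rw [ePsi1_xS, ePsi1_xS, diagGL_conj_xGL chevE6 chevE6_mem K, e6Chi_39]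
  rfl

theorem diag_conj_ePsi2 (a : ParE6 K φ) (u : K) :
    diagGL chevE6 K (e6Chi K φ a) (e6Chi_chainChar K φ a) * ePsi2 K φ (xS u) *
      (diagGL chevE6 K (e6Chi K φ a) (e6Chi_chainChar K φ a))⁻¹ =
      ePsi2 K φ (xS ((a.2.2.1 : K) * u)) := by
  have e : ∀ d x y : GL chevE6.Idx K, d * (x * y) * d⁻¹ = (d * x * d⁻¹) * (d * y * d⁻¹) := by
    intro d x y; group
  rw [ePsi2_xS', ePsi2_xS', e, diagGL_conj_xGL chevE6 chevE6_mem K, diagGL_conj_xGL chevE6 chevE6_mem K,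
    e6Chi_56, e6Chi_36, map_mul]

theorem diag_conj_ePsi3 (a : ParE6 K φ) (u : K) :
    diagGL chevE6 K (e6Chi K φ a) (e6Chi_chainChar K φ a) * ePsi3 K φ (xS u) *
      (diagGL chevE6 K (e6Chi K φ a) (e6Chi_chainChar K φ a))⁻¹ =
      ePsi3 K φ (xS ((a.2.2.2 : K) * u)) := by
  have e : ∀ d x y : GL chevE6.Idx K, d * (x * y) * d⁻¹ = (d * x * d⁻¹) * (d * y * d⁻¹) := by
    intro d x y; group
  rw [ePsi3_xS', ePsi3_xS', e, diagGL_conj_xGL chevE6 chevE6_mem K, diagGL_conj_xGL chevE6 chevE6_mem K,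
    e6Chi_42, e6Chi_37, map_mul]

end

end Cfsg.Agent.Lib.Lead.TwStein
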