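import Cfsg.Agent.Lib.Lead.TwE6G

/-! The twisted groups `²E₆(q)`: an automorphism stabilising `U` and `V` is the product of a diagonal and a
field automorphism (lead). -/

set_option autoImplicit false
set_option maxRecDepth 100000

namespace Cfsg.Agent.Lib.Lead.TwStein

open Cfsg Cfsg.Lie Matrix Cfsg.Agent.Lib.Helper7 Cfsg.Agent.Lib.Helper3.BN
open Cfsg.Agent.Lib.Lead.Stein Cfsg.Agent.Lib.Helper11.SL2Hom Cfsg.Agent.Lib.Helper11.ChevSL2

section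
variable (K : Type*) [Field K] (φ : K ≃+* K) (hφ : ∀ a, φ^[2] a = a)
variable (hcomm : ∀ (α : K ≃+* K) (a : K), α (φ a) = φ (α a))

local notation "G1E6" => chevE6.genSubgroup K (twWords K φ [e6p2, e6m2, e6p4, e6m4]
  [(e6p1, e6p6), (e6m1, e6m6), (e6p3, e6p5), (e6m3, e6m5)] [])

/-- the field automorphism of `²E₆(q)` induced by `α` -/
noncomputable def e6Phi (α : K ≃+* K) : ↥G1E6 ≃* ↥G1E6 :=
  twFieldAut chevE6 chevE6_mem K φ α (hcomm α) [e6p2, e6m2, e6p4, e6m4]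
    [(e6p1, e6p6), (e6m1, e6m6), (e6p3, e6p5), (e6m3, e6m5)] []

theorem coe_e6Phi (α : K ≃+* K) (g : ↥G1E6) :
    ((e6Phi K φ hcomm α g : ↥G1E6) : GL chevE6.Idx K) = glMapEquiv chevE6.Idx α (g : GL chevE6.Idx K) := rfl

theorem e6Phi_stb_pos (α : K ≃+* K) : Stb (e6Phi K φ hcomm α) (chevE6.posUnipotent K) :=
  twFieldAut_stb_pos chevE6 chevE6_mem K φ α (hcomm α) _ _ _

theorem e6Phi_stb_neg (α : K ≃+* K) : Stb (e6Phi K φ hcomm α) (chevE6.negUnipotent K) :=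
  twFieldAut_stb_neg chevE6 chevE6_mem K φ α (hcomm α) _ _ _

include hcomm in
theorem fix_map_mem (α : K ≃+* K) (t : ↥(fixField K φ)) : α (t : K) ∈ fixField K φ := by
  rw [mem_fixField]
  have := hcomm α (t : K)
  rw [(mem_fixField K φ _).mp t.2] at this
  exact this.symm

/-- the product of a diagonal and a field automorphism -/
noncomputable def e6Prod (x : ParE6 K φ × (K ≃+* K)) : ↥G1E6 ≃* ↥G1E6 :=
  (e6Phi K φ hcomm x.2).trans (e6Diag K φ x.1)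

theorem e6Prod_stb_pos (x : ParE6 K φ × (K ≃+* K)) : Stb (e6Prod K φ hcomm x) (chevE6.posUnipotent K) :=
  (e6Phi_stb_pos K φ hcomm x.2).trans (e6Diag_stb_pos K φ x.1)

theorem e6Prod_stb_neg (x : ParE6 K φ × (K ≃+* K)) : Stb (e6Prod K φ hcomm x) (chevE6.negUnipotent K) :=
  (e6Phi_stb_neg K φ hcomm x.2).trans (e6Diag_stb_neg K φ x.1)

include hφ in
theorem e6Prod_ePsi0 (x : ParE6 K φ × (K ≃+* K)) (t : ↥(fixField K φ)) :
    ((e6Prod K φ hcomm x ⟨ePsi0 K φ (xS t), ePsi0_mem K φ hφ _⟩ : ↥G1E6) : GL chevE6.Idx K) =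
      ePsi0 K φ (xS (e6c0 K φ x.1 * ⟨x.2 (t : K), fix_map_mem K φ hcomm x.2 t⟩)) := by
  unfold e6Prod
  rw [MulEquiv.trans_apply, coe_e6Diag, coe_e6Phi]
  show diagGL chevE6 K _ _ * glMapEquiv chevE6.Idx x.2 (ePsi0 K φ (xS t)) * _ = _
  rw [glMapEquiv_ePsi0_xS K φ x.2 t ⟨x.2 (t : K), fix_map_mem K φ hcomm x.2 t⟩ rfl, diag_conj_ePsi0]

include hφ in
theorem e6Prod_ePsi1 (x : ParE6 K φ × (K ≃+* K)) (t : ↥(fixField K φ)) :
    ((e6Prod K φ hcomm x ⟨ePsi1 K φ (xS t), ePsi1_mem K φ hφ _⟩ : ↥G1E6) : GL chevE6.Idx K) =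
      ePsi1 K φ (xS (e6c1 K φ x.1 * ⟨x.2 (t : K), fix_map_mem K φ hcomm x.2 t⟩)) := by
  unfold e6Prod
  rw [MulEquiv.trans_apply, coe_e6Diag, coe_e6Phi]
  show diagGL chevE6 K _ _ * glMapEquiv chevE6.Idx x.2 (ePsi1 K φ (xS t)) * _ = _
  rw [glMapEquiv_ePsi1_xS K φ x.2 t ⟨x.2 (t : K), fix_map_mem K φ hcomm x.2 t⟩ rfl, diag_conj_ePsi1]

include hφ in
theorem e6Prod_ePsi2 (x : ParE6 K φ × (K ≃+* K)) (u : K) :
    ((e6Prod K φ hcomm x ⟨ePsi2 K φ (xS u), ePsi2_mem K φ hφ _⟩ : ↥G1E6) : GL chevE6.Idx K) =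
      ePsi2 K φ (xS ((x.1.2.2.1 : K) * x.2 u)) := by
  unfold e6Prod
  rw [MulEquiv.trans_apply, coe_e6Diag, coe_e6Phi]
  show diagGL chevE6 K _ _ * glMapEquiv chevE6.Idx x.2 (ePsi2 K φ (xS u)) * _ = _
  rw [glMapEquiv_ePsi2_xS K φ x.2 (hcomm x.2), diag_conj_ePsi2]

include hφ in
theorem e6Prod_ePsi3 (x : ParE6 K φ × (K ≃+* K)) (u : K) :
    ((e6Prod K φ hcomm x ⟨ePsi3 K φ (xS u), ePsi3_mem K φ hφ _⟩ : ↥G1E6) : GL chevE6.Idx K) =
      ePsi3 K φ (xS ((x.1.2.2.2 : K) * x.2 u)) := by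
  unfold e6Prod
  rw [MulEquiv.trans_apply, coe_e6Diag, coe_e6Phi]
  show diagGL chevE6 K _ _ * glMapEquiv chevE6.Idx x.2 (ePsi3 K φ (xS u)) * _ = _
  rw [glMapEquiv_ePsi3_xS K φ x.2 (hcomm x.2), diag_conj_ePsi3]

include hφ in
/-- the product map is injective -/
theorem e6Prod_injective : Function.Injective (e6Prod K φ hcomm) := by
  rintro ⟨a, α⟩ ⟨a', α'⟩ he
  have R0 := eR0 K φ hφ
  have R1 := eR1 K φ hφ
  have R2 := eR2 K φ hφ
  have R3 := eR3 K φ hφ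
  have k2 : ∀ u : K, (a.2.2.1 : K) * α u = (a'.2.2.1 : K) * α' u := by
    intro u
    apply R2.injX
    have h1 := e6Prod_ePsi2 K φ hφ hcomm (a, α) u
    have h2 := e6Prod_ePsi2 K φ hφ hcomm (a', α') u
    rw [he] at h1
    exact h1.symm.trans h2
  have k3 : ∀ u : K, (a.2.2.2 : K) * α u = (a'.2.2.2 : K) * α' u := by
    intro u
    apply R3.injX
    have h1 := e6Prod_ePsi3 K φ hφ hcomm (a, α) u
    have h2 := e6Prod_ePsi3 K φ hφ hcomm (a', α') u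
    rw [he] at h1
    exact h1.symm.trans h2
  have k0 : e6c0 K φ a = e6c0 K φ a' := by
    have h1 := e6Prod_ePsi0 K φ hφ hcomm (a, α) 1
    have h2 := e6Prod_ePsi0 K φ hφ hcomm (a', α') 1
    rw [he] at h1
    have h3 := R0.injX _ _ (h1.symm.trans h2)
    have e1 : (⟨α ((1 : ↥(fixField K φ)) : K), fix_map_mem K φ hcomm α 1⟩ : ↥(fixField K φ)) = 1 :=
      Subtype.ext (by simp)
    have e2 : (⟨α' ((1 : ↥(fixField K φ)) : K), fix_map_mem K φ hcomm α' 1⟩ : ↥(fixField K φ)) = 1 :=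
      Subtype.ext (by simp)
    simp only [] at h3
    rw [e1, e2, mul_one, mul_one] at h3
    exact h3
  have k1 : e6c1 K φ a = e6c1 K φ a' := by
    have h1 := e6Prod_ePsi1 K φ hφ hcomm (a, α) 1
    have h2 := e6Prod_ePsi1 K φ hφ hcomm (a', α') 1
    rw [he] at h1
    have h3 := R1.injX _ _ (h1.symm.trans h2)
    have e1 : (⟨α ((1 : ↥(fixField K φ)) : K), fix_map_mem K φ hcomm α 1⟩ : ↥(fixField K φ)) = 1 :=
      Subtype.ext (by simp)
    have e2 : (⟨α' ((1 : ↥(fixField K φ)) : K), fix_map_mem K φ hcomm α' 1⟩ : ↥(fixField K φ)) = 1 :=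
      Subtype.ext (by simp)
    simp only [] at h3
    rw [e1, e2, mul_one, mul_one] at h3
    exact h3
  have c2 : (a.2.2.1 : K) = (a'.2.2.1 : K) := by
    have := k2 1
    rwa [map_one, map_one, mul_one, mul_one] at this
  have c3 : (a.2.2.2 : K) = (a'.2.2.2 : K) := by
    have := k3 1
    rwa [map_one, map_one, mul_one, mul_one] at this
  have hα : α = α' := by
    ext u
    have := k2 u
    rw [c2] at this
    exact mul_left_cancel₀ (Units.ne_zero _) this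
  have ha : a = a' := by
    apply Prod.ext
    · exact Subtype.ext (Units.ext (congrArg Subtype.val k0))
    apply Prod.ext
    · exact Subtype.ext (Units.ext (congrArg Subtype.val k1))
    apply Prod.ext
    · exact Units.ext c2
    · exact Units.ext c3
  rw [ha, hα]

end

section
variable (K : Type*) [Field K] [Fintype K] (φ : K ≃+* K) (hφ : ∀ a, φ^[2] a = a)
variable (q : ℕ) (hK : Fintype.card K = q ^ 2) (hfix : Nat.card {a : K // φ a = a} = q)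
variable (hC : E6CommFacts K φ)
variable (hcomm : ∀ (α : K ≃+* K) (a : K), α (φ a) = φ (α a))

local notation "G1E6" => chevE6.genSubgroup K (twWords K φ [e6p2, e6m2, e6p4, e6m4]
  [(e6p1, e6p6), (e6m1, e6m6), (e6p3, e6p5), (e6m3, e6m5)] [])

include hφ hK hfix hC in
/-- an automorphism stabilising `U` and `V` is the product of a diagonal and a field automorphism -/
theorem e6_main (θ : ↥G1E6 ≃* ↥G1E6) (hU : Stb θ (chevE6.posUnipotent K))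
    (hV : Stb θ (chevE6.negUnipotent K)) : ∃ x : ParE6 K φ × (K ≃+* K), e6Prod K φ hcomm x = θ := by
  obtain ⟨c0, c1, c2, c3, α0, α1, α, hc0, hc1, hc2, hc3, h0x, h1x, h2x, h3x, l0, l1⟩ :=
    e6_params K φ hφ q hK hfix hC θ hU hV
  have hc0' : (c0 : K) ≠ 0 := fun h => hc0 (Subtype.ext h)
  have hc1' : (c1 : K) ≠ 0 := fun h => hc1 (Subtype.ext h)
  set a : ParE6 K φ := (⟨Units.mk0 (c0 : K) hc0', (mem_fixField K φ _).mp c0.2⟩,
    ⟨Units.mk0 (c1 : K) hc1', (mem_fixField K φ _).mp c1.2⟩, Units.mk0 c2 hc2, Units.mk0 c3 hc3) with ha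
  refine ⟨(a, α), ?_⟩
  set Ψ := e6Prod K φ hcomm (a, α) with hΨ
  -- `θ₃ = Ψ⁻¹ ∘ θ` fixes the four groups `X_J`
  set θ3 : ↥G1E6 ≃* ↥G1E6 := θ.trans Ψ.symm with hθ3
  have hΨU := e6Prod_stb_pos K φ hcomm (a, α)
  have hΨV := e6Prod_stb_neg K φ hcomm (a, α)
  have hθ3U : Stb θ3 (chevE6.posUnipotent K) := hU.trans hΨU.symm
  have hθ3V : Stb θ3 (chevE6.negUnipotent K) := hV.trans hΨV.symm
  have e0 : e6c0 K φ a = c0 := Subtype.ext rfl
  have e1 : e6c1 K φ a = c1 := Subtype.ext rfl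
  have h30 : ∀ t, ((θ3 ⟨ePsi0 K φ (xS t), ePsi0_mem K φ hφ _⟩ : ↥G1E6) : GL chevE6.Idx K) =
      ePsi0 K φ (xS t) := by
    intro t
    have h1 : θ ⟨ePsi0 K φ (xS t), ePsi0_mem K φ hφ _⟩ = Ψ ⟨ePsi0 K φ (xS t), ePsi0_mem K φ hφ _⟩ := by
      apply Subtype.ext
      rw [h0x, hΨ, e6Prod_ePsi0 K φ hφ hcomm (a, α) t, e0]
      congr 3
      exact Subtype.ext (l0 t)
    rw [hθ3, MulEquiv.trans_apply, h1, MulEquiv.symm_apply_apply]
  have h31 : ∀ t, ((θ3 ⟨ePsi1 K φ (xS t), ePsi1_mem K φ hφ _⟩ : ↥G1E6) : GL chevE6.Idx K) =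
      ePsi1 K φ (xS t) := by
    intro t
    have h1 : θ ⟨ePsi1 K φ (xS t), ePsi1_mem K φ hφ _⟩ = Ψ ⟨ePsi1 K φ (xS t), ePsi1_mem K φ hφ _⟩ := by
      apply Subtype.ext
      rw [h1x, hΨ, e6Prod_ePsi1 K φ hφ hcomm (a, α) t, e1]
      congr 3
      exact Subtype.ext (l1 t)
    rw [hθ3, MulEquiv.trans_apply, h1, MulEquiv.symm_apply_apply]
  have h32 : ∀ t, ((θ3 ⟨ePsi2 K φ (xS t), ePsi2_mem K φ hφ _⟩ : ↥G1E6) : GL chevE6.Idx K) =
      ePsi2 K φ (xS t) := by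
    intro t
    have h1 : θ ⟨ePsi2 K φ (xS t), ePsi2_mem K φ hφ _⟩ = Ψ ⟨ePsi2 K φ (xS t), ePsi2_mem K φ hφ _⟩ := by
      apply Subtype.ext
      rw [h2x, hΨ, e6Prod_ePsi2 K φ hφ hcomm (a, α) t]
      rfl
    rw [hθ3, MulEquiv.trans_apply, h1, MulEquiv.symm_apply_apply]
  have h33 : ∀ t, ((θ3 ⟨ePsi3 K φ (xS t), ePsi3_mem K φ hφ _⟩ : ↥G1E6) : GL chevE6.Idx K) =
      ePsi3 K φ (xS t) := by
    intro t
    have h1 : θ ⟨ePsi3 K φ (xS t), ePsi3_mem K φ hφ _⟩ = Ψ ⟨ePsi3 K φ (xS t), ePsi3_mem K φ hφ _⟩ := by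
      apply Subtype.ext
      rw [h3x, hΨ, e6Prod_ePsi3 K φ hφ hcomm (a, α) t]
      rfl
    rw [hθ3, MulEquiv.trans_apply, h1, MulEquiv.symm_apply_apply]
  have hrig := e6_rigid K φ hφ q hK hfix hC θ3 hθ3U hθ3V h30 h31 h32 h33
  ext g
  have := hrig g
  rw [hθ3, MulEquiv.trans_apply, MulEquiv.symm_apply_eq] at this
  rw [← this]

end

end Cfsg.Agent.Lib.Lead.TwStein
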