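import Cfsg.Agent.Lib.Lead.TwE6H
import Cfsg.Agent.Lib.Lead.TwAutStb

/-! The twisted groups `²E₆(q)`: the order of the outer automorphism group (lead). -/

set_option autoImplicit false
set_option maxRecDepth 100000

namespace Cfsg.Agent.Lib.Lead.TwStein

open Cfsg Cfsg.Lie Matrix Cfsg.Agent.Lib.Helper7 Cfsg.Agent.Lib.Helper3.BN
open Cfsg.Agent.Lib.Lead.Stein Cfsg.Agent.Lib.Helper11.SL2Hom Cfsg.Agent.Lib.Helper11.ChevSL2

section
variable (K : Type*) [Field K] [Fintype K] (φ : K ≃+* K) (hφ : ∀ a, φ^[2] a = a)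
variable (p f : ℕ) [Fact p.Prime] (hf : 1 ≤ f)
variable (hK : Fintype.card K = (p ^ f) ^ 2) (hfix : Nat.card {a : K // φ a = a} = p ^ f)
variable (hφq : ∀ a, φ a = a ^ (p ^ f))
variable (hC : E6CommFacts K φ)
variable (hcomm : ∀ (α : K ≃+* K) (a : K), α (φ a) = φ (α a))

local notation "G1E6" => chevE6.genSubgroup K (twWords K φ [e6p2, e6m2, e6p4, e6m4]
  [(e6p1, e6p6), (e6m1, e6m6), (e6p3, e6p5), (e6m3, e6m5)] [])

include hφ hf hK hfix hφq hC hcomm in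
/-- `|Out(²E₆(q))| |H ∩ ²E₆(q)| = (q - 1)² (q² - 1)² |Aut(K)|` -/
theorem e6_card_out_mul :
    Nat.card (Cfsg.Out ↥G1E6) * Nat.card ↥((chevE6.diagonalSubgroup K).subgroupOf G1E6) =
      Nat.card (ParE6 K φ) * Nat.card (K ≃+* K) := by
  have hstb : ∀ θ : ↥G1E6 ≃* ↥G1E6, ∃ x : ↥G1E6,
      Stb (θ.trans (MulAut.conj x)) (chevE6.posUnipotent K) ∧
      Stb (θ.trans (MulAut.conj x)) (chevE6.negUnipotent K) :=
    fun θ => tw_inner_stb chevE6 chevE6_mem _ _ _ _ _ _ _ _ _ _ _ _ _ _ twistTab_E6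
      twistTab2_E6 K φ hφ twLongJs_E6 twLongJs_E6_mem (longFacts_of_longB _ _ twLongB_E6) p
      (e6_sylow K φ hφ p f hf hK hfix hφq) θ
  have h1 : ∀ z : ↥G1E6, Stb (MulAut.conj z) (chevE6.posUnipotent K) →
      Stb (MulAut.conj z) (chevE6.negUnipotent K) → (z : GL chevE6.Idx K) ∈ chevE6.diagonalSubgroup K :=
    fun z hU hV => tw_mem_diagonal_of_stb_conj chevE6 chevE6_mem _ _ _ _ _ _ _ _ _ _ _ _ _ _ twistTab_E6
      twistTab2_E6 K φ hφ twLongJs_E6 twLongJs_E6_mem (longFacts_of_longB _ _ twLongB_E6) z hU hV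
  have h2 : ∀ z : ↥G1E6, (z : GL chevE6.Idx K) ∈ chevE6.diagonalSubgroup K →
      Stb (MulAut.conj z) (chevE6.posUnipotent K) ∧ Stb (MulAut.conj z) (chevE6.negUnipotent K) :=
    fun z hz => ⟨stb_conj _ _ (diagonalSubgroup_le_normalizer_posUnipotent chevE6 chevE6_mem K hz),
      stb_conj _ _ (diagonalSubgroup_le_normalizer_negUnipotent chevE6 chevE6_mem K hz)⟩
  rw [← card_autStb G1E6 (chevE6.posUnipotent K) (chevE6.negUnipotent K) (chevE6.diagonalSubgroup K)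
    hstb h1 h2 (e6_faith K φ hφ), ← Nat.card_prod]
  symm
  apply Nat.card_congr
  let Φ : ParE6 K φ × (K ≃+* K) → ↥(autStb G1E6 (chevE6.posUnipotent K) (chevE6.negUnipotent K)) :=
    fun x => ⟨e6Prod K φ hcomm x, e6Prod_stb_pos K φ hcomm x, e6Prod_stb_neg K φ hcomm x⟩
  refine Equiv.ofBijective Φ ⟨?_, ?_⟩
  · intro x y hxy
    exact e6Prod_injective K φ hφ hcomm (congrArg Subtype.val hxy)
  · rintro ⟨θ, hU, hV⟩
    obtain ⟨x, hx⟩ := e6_main K φ hφ (p ^ f) hK hfix hC hcomm θ hU hV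
    exact ⟨x, Subtype.ext hx⟩

include hφ hf hK hfix hφq hC hcomm in
/-- `|Out(²E₆(q))| = gcd(3, q + 1) |Aut(K)|` -/
theorem e6_card_out :
    Nat.card (Cfsg.Out ↥G1E6) = Nat.gcd 3 (p ^ f + 1) * Nat.card (K ≃+* K) := by
  have hp : p.Prime := Fact.out
  set q := p ^ f with hq
  have hq0 : 0 < q := pow_pos hp.pos f
  have h1 := e6_card_out_mul K φ hφ p f hf hK hfix hφq hC hcomm
  have hφ2 : ∀ a, φ (φ a) = a := fun a => hφ a
  have h2 := card_twTorus_E6 K φ q hq0 hK hφq hφ2 hfix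
  have h3 : Nat.card ↥((chevE6.diagonalSubgroup K).subgroupOf G1E6) =
      Nat.card ↥(twTorus chevE6 chevE6_mem K (fun j => grPv_E6_1.getD j 0) φ) := by
    rw [← diag_inf_twE6_eq K φ hφ, ← Subgroup.inf_subgroupOf_right]
    exact Nat.card_congr (Subgroup.subgroupOfEquivOfLe inf_le_right).toEquiv
  have hcard : Nat.card Kˣ = q ^ 2 - 1 := by
    classical
    rw [Nat.card_eq_fintype_card, Fintype.card_units, hK]
  have h4 : Nat.card (ParE6 K φ) = (q - 1) ^ 4 * (q + 1) ^ 2 := by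
    rw [Nat.card_prod, Nat.card_prod, Nat.card_prod, card_fixUE6 K φ q hfix, hcard]
    have e : q ^ 2 - 1 = (q + 1) * (q - 1) := by
      obtain ⟨n, hn⟩ : ∃ n, q = n + 1 := ⟨q - 1, by omega⟩
      rw [hn, Nat.add_sub_cancel]
      apply Nat.sub_eq_of_eq_add; ring
    rw [e]; ring
  rw [h3] at h1
  rw [h4, ← h2] at h1
  have hT : 0 < Nat.card ↥(twTorus chevE6 chevE6_mem K (fun j => grPv_E6_1.getD j 0) φ) :=
    Nat.card_pos
  have h5 : Nat.card (Cfsg.Out ↥G1E6) * Nat.card ↥(twTorus chevE6 chevE6_mem K (fun j => grPv_E6_1.getD j 0) φ) =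
      (Nat.gcd 3 (q + 1) * Nat.card (K ≃+* K)) *
        Nat.card ↥(twTorus chevE6 chevE6_mem K (fun j => grPv_E6_1.getD j 0) φ) := by
    rw [h1]; ring
  exact Nat.eq_of_mul_eq_mul_right hT h5

end

end Cfsg.Agent.Lib.Lead.TwStein
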