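import Cfsg.Agent.Lib.Lead.TwE6C

/-! The twisted groups `²E₆(q)`: commutation of the simple rank one groups (lead). -/

set_option autoImplicit false
set_option maxRecDepth 100000

namespace Cfsg.Agent.Lib.Lead.TwStein

open Cfsg Cfsg.Lie Matrix Cfsg.Agent.Lib.Helper7 Cfsg.Agent.Lib.Helper3.BN
open Cfsg.Agent.Lib.Lead.Stein Cfsg.Agent.Lib.Helper11.SL2Hom Cfsg.Agent.Lib.Helper11.ChevSL2

section
variable (K : Type*) [Field K] (φ : K ≃+* K)

theorem e6_comm_one_two (r a b : ℕ) (h1 : NC chevE6 r a) (h2 : NC chevE6 r b) (t u v : K) :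
    Commute (xGL chevE6 chevE6_mem K r t) (xGL chevE6 chevE6_mem K a u * xGL chevE6 chevE6_mem K b v) :=
  (h1.commute chevE6 chevE6_mem K t u).mul_right (h2.commute chevE6 chevE6_mem K t v)

theorem e6_x03 (t : ↥(fixField K φ)) (u : K) : Commute (ePsi0 K φ (xS t)) (ePsi3 K φ (xS u)) := by
  rw [ePsi0_xS, ePsi3_xS']
  exact e6_comm_one_two K 46 42 37 (by decide +kernel) (by decide +kernel) _ _ _

theorem e6_x02 (t : ↥(fixField K φ)) (u : K) : Commute (ePsi0 K φ (xS t)) (ePsi2 K φ (xS u)) := by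
  rw [ePsi0_xS, ePsi2_xS']
  exact e6_comm_one_two K 46 56 36 (by decide +kernel) (by decide +kernel) _ _ _

theorem e6_x12 (t : ↥(fixField K φ)) (u : K) : Commute (ePsi1 K φ (xS t)) (ePsi2 K φ (xS u)) := by
  rw [ePsi1_xS, ePsi2_xS']
  exact e6_comm_one_two K 39 56 36 (by decide +kernel) (by decide +kernel) _ _ _

theorem e6_y03 (t : ↥(fixField K φ)) (u : K) : Commute (ePsi0 K φ (yS t)) (ePsi3 K φ (yS u)) := by
  rw [ePsi0_yS, ePsi3_yS]
  exact e6_comm_one_two K 25 29 34 (by decide +kernel) (by decide +kernel) _ _ _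

theorem e6_y02 (t : ↥(fixField K φ)) (u : K) : Commute (ePsi0 K φ (yS t)) (ePsi2 K φ (yS u)) := by
  rw [ePsi0_yS, ePsi2_yS]
  exact e6_comm_one_two K 25 15 35 (by decide +kernel) (by decide +kernel) _ _ _

theorem e6_y12 (t : ↥(fixField K φ)) (u : K) : Commute (ePsi1 K φ (yS t)) (ePsi2 K φ (yS u)) := by
  rw [ePsi1_yS, ePsi2_yS]
  exact e6_comm_one_two K 32 15 35 (by decide +kernel) (by decide +kernel) _ _ _

/-- `x_{α₃}(t)` commutes with `Y_{[2,4]}` -/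
theorem e6_x1_y3 (t : ↥(fixField K φ)) (u : K) : Commute (ePsi1 K φ (xS t)) (ePsi3 K φ (yS u)) := by
  rw [ePsi1_xS, ePsi3_yS]
  exact e6_comm_one_two K 39 29 34 (by decide +kernel) (by decide +kernel) _ _ _

/-- `x_{-α₃}(t)` commutes with `X_{[2,4]}` -/
theorem e6_y1_x3 (t : ↥(fixField K φ)) (u : K) : Commute (ePsi1 K φ (yS t)) (ePsi3 K φ (xS u)) := by
  rw [ePsi1_yS, ePsi3_xS']
  exact e6_comm_one_two K 32 42 37 (by decide +kernel) (by decide +kernel) _ _ _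

theorem ePsi3_wS : ePsi3 K φ wS = nWordGL chevE6 chevE6_mem K [2, 4] := by
  have h := clsHom_wS chevE6 chevE6_mem K twSimpIdx_E6 twSimpCls_E6
    (twistBNFacts_of_tab2 chevE6 _ _ _ twSimpIdx_E6 twSimpCls_E6 twistTab2_E6) eJ3 (sigP K φ 42)
  exact h

/-- a root element `x_r(1)` commuting with `X_{[2,4]}` and `Y_{[2,4]}` has `r` fixed by `w_{[2,4]}` -/
theorem e6_fixed_of_commute (r : ℕ) (hr : r < chevE6.nroots)
    (hx : Commute (xGL chevE6 chevE6_mem K r 1) (ePsi3 K φ (xS 1)))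
    (hy : Commute (xGL chevE6 chevE6_mem K r 1) (ePsi3 K φ (yS (-1)))) :
    reflWord chevE6 [2, 4] r = r := by
  have hw : Commute (xGL chevE6 chevE6_mem K r 1) (ePsi3 K φ wS) := by
    rw [wS_eq, map_mul, map_mul]
    exact (hx.mul_right hy).mul_right hx
  rw [ePsi3_wS] at hw
  obtain ⟨hlt, c, hc, hact⟩ := actsAs_nWordGL chevE6 chevE6_mem K [2, 4] (by decide) r hr
  have h1 := hact 1
  have h2 : nWordGL chevE6 chevE6_mem K [2, 4] * xGL chevE6 chevE6_mem K r 1 *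
      (nWordGL chevE6 chevE6_mem K [2, 4])⁻¹ = xGL chevE6 chevE6_mem K r 1 := by
    rw [← hw.eq, mul_assoc, mul_inv_cancel, mul_one]
  rw [h2] at h1
  exact (xGL_root_inj chevE6 chevE6_mem K r _ hr hlt 1 (c * 1) one_ne_zero h1).symm

/-- `X_{[3]}` and `X_{[2,4]}` do not commute -/
theorem e6_nx13 : ¬ ∀ (t : ↥(fixField K φ)) (u : K), Commute (ePsi1 K φ (xS t)) (ePsi3 K φ (xS u)) := by
  intro h
  have h1 := h 1 1
  have h2 := e6_x1_y3 K φ 1 (-1)
  rw [ePsi1_xS] at h1 h2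
  have e : ((1 : ↥(fixField K φ)) : K) = 1 := rfl
  rw [e] at h1 h2
  have := e6_fixed_of_commute K φ 39 (by decide) h1 h2
  revert this
  decide +kernel

/-- `Y_{[3]}` and `Y_{[2,4]}` do not commute -/
theorem e6_ny13 : ¬ ∀ (t : ↥(fixField K φ)) (u : K), Commute (ePsi1 K φ (yS t)) (ePsi3 K φ (yS u)) := by
  intro h
  have h1 := h 1 (-1)
  have h2 := e6_y1_x3 K φ 1 1
  rw [ePsi1_yS] at h1 h2
  have e : ((1 : ↥(fixField K φ)) : K) = 1 := rfl
  rw [e] at h1 h2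
  have := e6_fixed_of_commute K φ 32 (by decide) h2 h1
  revert this
  decide +kernel

/-- the commutation facts between the simple rank one groups of `²E₆(q)` -/
theorem e6CommFacts : E6CommFacts K φ :=
  ⟨e6_x03 K φ, e6_x02 K φ, e6_x12 K φ, e6_nx13 K φ, e6_y03 K φ, e6_y02 K φ, e6_y12 K φ, e6_ny13 K φ⟩

end

end Cfsg.Agent.Lib.Lead.TwStein
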