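import Mathlib

/-! Automorphisms of a subgroup `G` of an ambient group `Γ` stabilising subgroups of `Γ`: calculus of
stabilised subgroups, and the normalisation "every automorphism can be composed with an inner one so
that it stabilises `U` and `V`" from a Sylow hypothesis and a Bruhat-type normal form (lead). -/

set_option autoImplicit false

namespace Cfsg.Agent.Lib.Lead.TwStein

section
variable {Γ : Type*} [Group Γ] {G : Subgroup Γ}

/-- the automorphism `θ` of `G` stabilises the subgroup `A` of the ambient group -/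
def Stb (θ : ↥G ≃* ↥G) (A : Subgroup Γ) : Prop :=
  ∀ g : ↥G, (θ g : Γ) ∈ A ↔ (g : Γ) ∈ A

/-- the automorphism `θ` of `G` maps `A ∩ G` onto `A' ∩ G` -/
def Mps (θ : ↥G ≃* ↥G) (A A' : Subgroup Γ) : Prop :=
  ∀ g : ↥G, (θ g : Γ) ∈ A' ↔ (g : Γ) ∈ A

theorem Stb.symm {θ : ↥G ≃* ↥G} {A : Subgroup Γ} (h : Stb θ A) : Stb θ.symm A := by
  intro g
  have := h (θ.symm g)
  rw [MulEquiv.apply_symm_apply] at this
  exact this.symm

theorem Stb.inf {θ : ↥G ≃* ↥G} {A A' : Subgroup Γ} (h : Stb θ A) (h' : Stb θ A') :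
    Stb θ (A ⊓ A') := by
  intro g
  rw [Subgroup.mem_inf, Subgroup.mem_inf, h g, h' g]

theorem Stb.trans {θ θ' : ↥G ≃* ↥G} {A : Subgroup Γ} (h : Stb θ A) (h' : Stb θ' A) :
    Stb (θ.trans θ') A := by
  intro g
  rw [MulEquiv.trans_apply, h' (θ g), h g]

theorem Mps.trans {θ θ' : ↥G ≃* ↥G} {A B C : Subgroup Γ} (h : Mps θ A B) (h' : Mps θ' B C) :
    Mps (θ.trans θ') A C := by
  intro g
  rw [MulEquiv.trans_apply, h' (θ g), h g]

theorem Mps.symm {θ : ↥G ≃* ↥G} {A B : Subgroup Γ} (h : Mps θ A B) : Mps θ.symm B A := by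
  intro g
  have := h (θ.symm g)
  rw [MulEquiv.apply_symm_apply] at this
  exact this.symm

theorem Stb.toMps {θ : ↥G ≃* ↥G} {A : Subgroup Γ} (h : Stb θ A) : Mps θ A A := h

theorem Mps.toStb {θ : ↥G ≃* ↥G} {A : Subgroup Γ} (h : Mps θ A A) : Stb θ A := h

theorem stb_inf_self {θ : ↥G ≃* ↥G} {A : Subgroup Γ} (h : Stb θ A) : Stb θ (A ⊓ G) := by
  intro g
  rw [Subgroup.mem_inf, Subgroup.mem_inf, h g]
  exact ⟨fun ⟨a, _⟩ => ⟨a, g.2⟩, fun ⟨a, _⟩ => ⟨a, (θ g).2⟩⟩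

theorem stb_of_inf_self {θ : ↥G ≃* ↥G} {A : Subgroup Γ} (h : Stb θ (A ⊓ G)) : Stb θ A := by
  intro g
  have := h g
  rw [Subgroup.mem_inf, Subgroup.mem_inf] at this
  exact ⟨fun a => (this.mp ⟨a, (θ g).2⟩).1, fun a => (this.mpr ⟨a, g.2⟩).1⟩

/-- conjugation by `x ∈ G` maps `A` to `x A x⁻¹` -/
theorem mps_conj (x : ↥G) (A : Subgroup Γ) :
    Mps (MulAut.conj x) A (A.map (MulAut.conj (x : Γ)).toMonoidHom) := by
  intro g
  rw [MulAut.conj_apply]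
  constructor
  · rintro ⟨a, ha, he⟩
    simp only [MulEquiv.coe_toMonoidHom, MulAut.conj_apply] at he
    have : a = (g : Γ) := by
      have h2 : a = (x : Γ)⁻¹ * ((x : Γ) * a * (x : Γ)⁻¹) * (x : Γ) := by group
      rw [h2, he]
      simp only [Subgroup.coe_mul, Subgroup.coe_inv]
      group
    rw [← this]; exact ha
  · intro hg
    exact ⟨(g : Γ), hg, rfl⟩

/-- `θ` stabilises the normaliser in `G` of a stabilised subgroup of `G` -/
theorem Stb.normalizer {θ : ↥G ≃* ↥G} {A : Subgroup Γ} (hA : A ≤ G) (h : Stb θ A) :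
    Stb θ (Subgroup.normalizer (A : Set Γ) ⊓ G) := by
  have key : ∀ θ : ↥G ≃* ↥G, Stb θ A → ∀ g : ↥G,
      (g : Γ) ∈ Subgroup.normalizer (A : Set Γ) → (θ g : Γ) ∈ Subgroup.normalizer (A : Set Γ) := by
    intro θ h g hg
    rw [Subgroup.mem_set_normalizer_iff] at hg ⊢
    have one : ∀ g : ↥G, (∀ a : Γ, a ∈ A → (g : Γ) * a * (g : Γ)⁻¹ ∈ A) →
        ∀ a : Γ, a ∈ A → (θ g : Γ) * a * (θ g : Γ)⁻¹ ∈ A := by
      intro g hg a ha
      have haG : a ∈ G := hA ha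
      have ha' : ((θ.symm ⟨a, haG⟩ : ↥G) : Γ) ∈ A := (h.symm ⟨a, haG⟩).mpr ha
      have h1 := hg _ ha'
      have h2 : ((g * θ.symm ⟨a, haG⟩ * g⁻¹ : ↥G) : Γ) ∈ A := h1
      rw [← h (g * θ.symm ⟨a, haG⟩ * g⁻¹)] at h2
      rw [map_mul, map_mul, map_inv, MulEquiv.apply_symm_apply] at h2
      exact h2
    intro a
    constructor
    · exact one g (fun a ha => (hg a).mp ha) a
    · intro ha
      have h3 := one g⁻¹ (fun a ha => by
        have := (hg ((g : Γ)⁻¹ * a * (g : Γ))).mpr (by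
          have e : (g : Γ) * ((g : Γ)⁻¹ * a * (g : Γ)) * (g : Γ)⁻¹ = a := by group
          rw [e]; exact ha)
        simpa using this) _ ha
      have e : ((θ g⁻¹ : ↥G) : Γ) * ((θ g : Γ) * a * (θ g : Γ)⁻¹) * ((θ g⁻¹ : ↥G) : Γ)⁻¹ = a := by
        rw [map_inv]
        simp only [Subgroup.coe_inv]
        group
      rwa [e] at h3
  intro g
  rw [Subgroup.mem_inf, Subgroup.mem_inf]
  constructor
  · rintro ⟨h1, -⟩
    refine ⟨?_, g.2⟩
    have := key θ.symm h.symm (θ g) h1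
    rwa [MulEquiv.symm_apply_apply] at this
  · rintro ⟨h1, -⟩
    exact ⟨key θ h g h1, (θ g).2⟩

theorem stb_of_map_eq (ψ : ↥G ≃* ↥G) (A : Subgroup Γ)
    (h : (A.subgroupOf G).map ψ.toMonoidHom = A.subgroupOf G) : Stb ψ A := by
  intro g
  constructor
  · intro hg
    have : ψ g ∈ (A.subgroupOf G).map ψ.toMonoidHom := by
      rw [h]; exact Subgroup.mem_subgroupOf.mpr hg
    obtain ⟨g', hg', he⟩ := this
    have : g' = g := ψ.injective he
    rw [← this]; exact Subgroup.mem_subgroupOf.mp hg'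
  · intro hg
    have : ψ g ∈ (A.subgroupOf G).map ψ.toMonoidHom :=
      ⟨g, Subgroup.mem_subgroupOf.mpr hg, rfl⟩
    rw [h] at this
    exact Subgroup.mem_subgroupOf.mp this

theorem map_eq_of_stb (ψ : ↥G ≃* ↥G) (A : Subgroup Γ) (h : Stb ψ A) :
    (A.subgroupOf G).map ψ.toMonoidHom = A.subgroupOf G := by
  ext g
  constructor
  · rintro ⟨g', hg', rfl⟩
    exact Subgroup.mem_subgroupOf.mpr ((h g').mpr (Subgroup.mem_subgroupOf.mp hg'))
  · intro hg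
    refine ⟨ψ.symm g, ?_, by simp⟩
    exact Subgroup.mem_subgroupOf.mpr ((h.symm g).mpr (Subgroup.mem_subgroupOf.mp hg))

/-- conjugation by an element of `G` normalising `A` stabilises `A` -/
theorem stb_conj (x : ↥G) (A : Subgroup Γ) (hx : (x : Γ) ∈ Subgroup.normalizer (A : Set Γ)) :
    Stb (MulAut.conj x) A := by
  intro g
  rw [Subgroup.mem_set_normalizer_iff] at hx
  rw [MulAut.conj_apply]
  exact (hx g).symm

theorem mem_normalizer_of_stb_conj {A : Subgroup Γ} (hA : A ≤ G) (z : ↥G)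
    (h : Stb (MulAut.conj z) A) : (z : Γ) ∈ Subgroup.normalizer (A : Set Γ) := by
  rw [Subgroup.mem_set_normalizer_iff]
  intro g
  constructor
  · intro hg
    exact (h ⟨g, hA hg⟩).mpr hg
  · intro hg
    have hgG : g ∈ G := by
      have h1 := hA hg
      have h2 : g = (z : Γ)⁻¹ * ((z : Γ) * g * (z : Γ)⁻¹) * (z : Γ) := by group
      rw [h2]
      exact Subgroup.mul_mem _ (Subgroup.mul_mem _ (Subgroup.inv_mem _ z.2) h1) z.2
    exact (h ⟨g, hgG⟩).mp hg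

end

section
variable {Γ : Type*} [Group Γ] (G U V : Subgroup Γ) [Finite ↥G]

/-- after composing with an inner automorphism, `θ` stabilises the Sylow subgroup `U ∩ G` -/
theorem exists_stb_sylow (p : ℕ) [Fact p.Prime]
    (hSyl : ∃ P0 : Sylow p ↥G, (P0 : Subgroup ↥G) = U.subgroupOf G) (θ : ↥G ≃* ↥G) :
    ∃ x : ↥G, Stb (θ.trans (MulAut.conj x)) U := by
  classical
  obtain ⟨P0, hP0⟩ := hSyl
  set Q : Sylow p ↥G := P0.mapSurjective (f := θ.toMonoidHom) θ.surjective with hQ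
  obtain ⟨x, hx⟩ := MulAction.exists_smul_eq ↥G Q P0
  refine ⟨x, ?_⟩
  apply stb_of_map_eq
  have h1 : ((x • Q : Sylow p ↥G) : Subgroup ↥G) =
      (Q : Subgroup ↥G).map (MulAut.conj x).toMonoidHom := by
    rw [Sylow.coe_subgroup_smul]
    rfl
  rw [hx, hP0] at h1
  have h2 : (Q : Subgroup ↥G) = (U.subgroupOf G).map θ.toMonoidHom := by
    rw [← hP0]; rfl
  have h3 : (θ.trans (MulAut.conj x)).toMonoidHom =
      (MulAut.conj x).toMonoidHom.comp θ.toMonoidHom := rfl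
  rw [h3, ← Subgroup.map_map, ← h2]
  exact h1.symm

/-- after composing with an inner automorphism, `θ` stabilises `U` and `V` -/
theorem exists_stb_pair (p : ℕ) [Fact p.Prime]
    (hSyl : ∃ P0 : Sylow p ↥G, (P0 : Subgroup ↥G) = U.subgroupOf G)
    (n₀ : Γ) (hn₀ : n₀ ∈ G) (hUV : U.map (MulAut.conj n₀).toMonoidHom = V)
    (hinf : U ⊓ V = ⊥)
    (N : Subgroup Γ)
    (hcanon : ∀ y ∈ G, ∃ b ∈ G, b ∈ Subgroup.normalizer (U : Set Γ) ∧ ∃ n ∈ N ⊓ G, ∃ u ∈ U ⊓ G,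
      y = b * n * u)
    (hN : ∀ n ∈ N ⊓ G, (∀ u ∈ U ⊓ G, n * u * n⁻¹ ∈ U → u = 1) →
      U.map (MulAut.conj n).toMonoidHom = V)
    (θ : ↥G ≃* ↥G) :
    ∃ x : ↥G, Stb (θ.trans (MulAut.conj x)) U ∧ Stb (θ.trans (MulAut.conj x)) V := by
  obtain ⟨x₁, hx₁⟩ := exists_stb_sylow G U p hSyl θ
  set θ₁ := θ.trans (MulAut.conj x₁) with hθ₁
  set y : Γ := ((θ₁ ⟨n₀, hn₀⟩ : ↥G) : Γ) with hy
  obtain ⟨b, hbG, hbN, n, hn, u, hu, hbnu⟩ := hcanon y (θ₁ ⟨n₀, hn₀⟩).2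
  have huU : u ∈ U := (Subgroup.mem_inf.mp hu).1
  have huG : u ∈ G := (Subgroup.mem_inf.mp hu).2
  have hnG : n ∈ G := (Subgroup.mem_inf.mp hn).2
  -- `θ₁ (V) ∩ U = 1`
  have hV1 : ∀ v : ↥G, (v : Γ) ∈ V → (θ₁ v : Γ) ∈ U → v = 1 := by
    intro v hv hv'
    have h2 := (hx₁ v).mp hv'
    have : (v : Γ) ∈ U ⊓ V := Subgroup.mem_inf.mpr ⟨h2, hv⟩
    rw [hinf, Subgroup.mem_bot] at this
    exact Subtype.ext this
  have hconj : ∀ u' ∈ U ⊓ G, n * u' * n⁻¹ ∈ U → u' = 1 := by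
    intro u' hu' hnu
    have hu'U : u' ∈ U := (Subgroup.mem_inf.mp hu').1
    have hu'G : u' ∈ G := (Subgroup.mem_inf.mp hu').2
    set u'' : Γ := u⁻¹ * u' * u with hu''
    have hu''U : u'' ∈ U := Subgroup.mul_mem _ (Subgroup.mul_mem _ (Subgroup.inv_mem _ huU) hu'U) huU
    have hu''G : u'' ∈ G := Subgroup.mul_mem _ (Subgroup.mul_mem _ (Subgroup.inv_mem _ huG) hu'G) huG
    set z : ↥G := θ₁.symm ⟨u'', hu''G⟩ with hz
    have hzU : (z : Γ) ∈ U := (hx₁.symm ⟨u'', hu''G⟩).mpr hu''U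
    set v : ↥G := ⟨n₀, hn₀⟩ * z * ⟨n₀, hn₀⟩⁻¹ with hv
    have hvV : (v : Γ) ∈ V := by
      rw [← hUV]
      exact ⟨(z : Γ), hzU, rfl⟩
    have hθv : (θ₁ v : Γ) = b * (n * u' * n⁻¹) * b⁻¹ := by
      rw [hv, map_mul, map_mul, map_inv, hz, MulEquiv.apply_symm_apply]
      show y * u'' * y⁻¹ = _
      rw [hbnu, hu'']; group
    have hθvU : (θ₁ v : Γ) ∈ U := by
      rw [hθv]
      rw [Subgroup.mem_set_normalizer_iff] at hbN
      exact (hbN _).mp hnu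
    have hv1 := hV1 v hvV hθvU
    have hz1 : z = 1 := by
      have : ⟨n₀, hn₀⟩⁻¹ * v * ⟨n₀, hn₀⟩ = z := by rw [hv]; group
      rw [← this, hv1]; group
    have hu''1 : u'' = 1 := by
      have := congrArg θ₁ hz1
      rw [hz, MulEquiv.apply_symm_apply, map_one] at this
      exact congrArg Subtype.val this
    have : u' = u * u'' * u⁻¹ := by rw [hu'']; group
    rw [this, hu''1]; group
  have hnV := hN n hn hconj
  -- `θ₁ V = b n U n⁻¹ b⁻¹`, so conjugating by `b⁻¹` gives `V`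
  refine ⟨⟨b, hbG⟩⁻¹ * x₁, ?_, ?_⟩
  · have e : θ.trans (MulAut.conj (⟨b, hbG⟩⁻¹ * x₁)) = θ₁.trans (MulAut.conj (⟨b, hbG⟩⁻¹ : ↥G)) := by
      ext g
      simp [hθ₁, MulAut.conj_apply, mul_assoc]
    rw [e]
    apply hx₁.trans
    apply stb_conj
    show (b⁻¹ : Γ) ∈ _
    exact Subgroup.inv_mem _ hbN
  · have e : θ.trans (MulAut.conj (⟨b, hbG⟩⁻¹ * x₁)) = θ₁.trans (MulAut.conj (⟨b, hbG⟩⁻¹ : ↥G)) := by
      ext g
      simp [hθ₁, MulAut.conj_apply, mul_assoc]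
    rw [e]
    -- for `g ∈ G`: `b⁻¹ θ₁(g) b ∈ V ↔ g ∈ V`
    intro g
    rw [MulEquiv.trans_apply, MulAut.conj_apply]
    -- write `g = n₀ g' n₀⁻¹`
    set g' : ↥G := ⟨n₀, hn₀⟩⁻¹ * g * ⟨n₀, hn₀⟩ with hg'
    have hgg' : g = ⟨n₀, hn₀⟩ * g' * ⟨n₀, hn₀⟩⁻¹ := by rw [hg']; group
    have h1 : (g : Γ) ∈ V ↔ (g' : Γ) ∈ U := by
      rw [← hUV]
      constructor
      · rintro ⟨a, ha, he⟩
        simp only [MulEquiv.coe_toMonoidHom, MulAut.conj_apply] at he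
        have : (g' : Γ) = a := by
          rw [hg']
          simp only [Subgroup.coe_mul, Subgroup.coe_inv]
          rw [← he]; group
        rw [this]; exact ha
      · intro ha
        refine ⟨(g' : Γ), ha, ?_⟩
        simp only [MulEquiv.coe_toMonoidHom, MulAut.conj_apply]
        rw [hg']
        simp only [Subgroup.coe_mul, Subgroup.coe_inv]
        group
    rw [h1, ← hx₁ g']
    -- `b⁻¹ θ₁(g) b = n u θ₁(g') u⁻¹ n⁻¹`
    have h2 : (((⟨b, hbG⟩⁻¹ : ↥G) * θ₁ g * (⟨b, hbG⟩⁻¹ : ↥G)⁻¹ : ↥G) : Γ) =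
        n * (u * (θ₁ g' : Γ) * u⁻¹) * n⁻¹ := by
      rw [hgg', map_mul, map_mul, map_inv]
      simp only [Subgroup.coe_mul, Subgroup.coe_inv]
      show b⁻¹ * (y * (θ₁ g' : Γ) * y⁻¹) * b⁻¹⁻¹ = _
      rw [hbnu]; group
    rw [h2, ← hnV]
    constructor
    · rintro ⟨a, ha, he⟩
      simp only [MulEquiv.coe_toMonoidHom, MulAut.conj_apply] at he
      have : u * (θ₁ g' : Γ) * u⁻¹ = a := by
        have e2 : u * (θ₁ g' : Γ) * u⁻¹ = n⁻¹ * (n * (u * (θ₁ g' : Γ) * u⁻¹) * n⁻¹) * n := by group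
        rw [e2, ← he]; group
      have h3 : (θ₁ g' : Γ) = u⁻¹ * a * u := by rw [← this]; group
      rw [h3]
      exact Subgroup.mul_mem _ (Subgroup.mul_mem _ (Subgroup.inv_mem _ huU) ha) huU
    · intro ha
      exact ⟨u * (θ₁ g' : Γ) * u⁻¹,
        Subgroup.mul_mem _ (Subgroup.mul_mem _ huU ha) (Subgroup.inv_mem _ huU), rfl⟩

end

end Cfsg.Agent.Lib.Lead.TwStein
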