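import Cfsg.Agent.Lib.Helper7.ChevTwistBN10
import Cfsg.Agent.Lib.Helper7.ChevLongCent
import Cfsg.Agent.Lib.Lead.TwSteinS

/-! Twisted groups `G¹` (helper7's framework): nontrivial fixed elements in every class, the
decomposition of `B ∩ G¹`, the normal form `g = b n u` inside `G¹`, and the characterisation of the
elements of `N ∩ G¹` that move `U ∩ G¹` off itself (lead). -/

set_option autoImplicit false

namespace Cfsg.Agent.Lib.Lead.TwStein

open Cfsg Cfsg.Lie Matrix Cfsg.Agent.Lib.Helper7 Cfsg.Agent.Lib.Helper3.BN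

section
variable (D : ChevalleyDatum) (hD : D ∈ [chevG2, chevB2, chevD4, chevF4, chevE6, chevE7, chevE8])
variable (pv pv' ρ ρ' : ℕ → ℕ) (ε : ℕ → ℤ) (hG : GraphFacts D pv pv' ρ ρ' ε)
variable (K : Type*) [Field K] (φ : K ≃+* K)
variable (A : ℕ → ℤ) (hA : ChainAdd D A) (hO : PosFacts D A) (cls : List (List ℕ))
variable (hT : TwistFacts D ρ ρ' A cls)
include hD hA hO hT

/-- every class carries a nontrivial `σ`-fixed element -/
theorem exists_class_fixed (m : ℕ) (S : List ℕ) (hS : S ∈ cls) (hsh : ClassShape ρ' ε m S) :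
    ∃ x ∈ Subgroup.closure (gensL D K S) ⊓ fixSigma D pv pv' ρ ρ' ε hG K φ, x ≠ 1 := by
  have hpos := class_pos D hD ρ ρ' A hA hO cls hT S hS
  suffices h : ∃ t : ℕ → K, (∀ r ∈ S, t r = twistFn ρ' ε K φ t r) ∧ ∃ r ∈ S, t r ≠ 0 by
    obtain ⟨t, ht, r, hr, hr0⟩ := h
    refine ⟨ordProd D hD K S t, Subgroup.mem_inf.mpr ⟨ordProd_mem D hD K S t, ?_⟩, ?_⟩
    · rw [mem_fixSigma, sigmaGL_ordProd_class D hD pv pv' ρ ρ' ε hG K φ S hpos (hT.perm S hS)
        (hT.comm S hS) ⟨A, hA, hO⟩]
      exact ordProd_congr D hD K S _ _ (fun r hr => (ht r hr).symm)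
    · intro h1
      have h0 : ordProd D hD K S (fun _ => (0 : K)) = 1 := ordProd_eq_one D hD K _ _ (fun _ _ => rfl)
      rw [← h0] at h1
      exact hr0 (ordProd_class_inj D hD ρ ρ' K A hA hO cls hT S hS _ _ h1 r hr)
  have hcast : ∀ a b : ℤ, a * b = 1 → ((a : ℤ) : K) * ((b : ℤ) : K) = 1 := by
    intro a b hab
    rw [← Int.cast_mul, hab, Int.cast_one]
  rcases hsh with ⟨r, rfl, h1, h2⟩ | ⟨-, r, s, rfl, hrs, h1, h2, h3⟩ |
    ⟨-, r, s, v, rfl, hrs, hrv, hsv, h, h3⟩
  · refine ⟨fun _ => 1, ?_, r, by simp, one_ne_zero⟩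
    intro x hx
    rw [List.mem_singleton] at hx
    rw [hx]
    unfold twistFn
    rw [h1, h2, map_one]; simp
  · refine ⟨fun x => if x = r then 1 else ((ε r : ℤ) : K), ?_, r, by simp, by simp⟩
    intro x hx
    simp only [List.mem_cons, List.not_mem_nil, or_false] at hx
    unfold twistFn
    rcases hx with hx | hx <;> rw [hx] <;> beta_reduce
    · rw [h1, if_pos rfl, if_neg (Ne.symm hrs), map_intCast]
      exact (hcast _ _ (by rw [mul_comm]; exact h3)).symm
    · rw [h2, if_neg (Ne.symm hrs), if_pos rfl, map_one, mul_one]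
  · rcases h with ⟨h1, h2, h4⟩ | ⟨h1, h2, h4⟩
    · -- `ρ' r = v, ρ' s = r, ρ' v = s`: `t r = 1, t s = ε r, t v = ε s ε r`
      refine ⟨fun x => if x = r then 1 else if x = s then ((ε r : ℤ) : K) else
        ((ε s : ℤ) : K) * ((ε r : ℤ) : K), ?_, r, by simp, by simp⟩
      intro x hx
      simp only [List.mem_cons, List.not_mem_nil, or_false] at hx
      unfold twistFn
      rcases hx with hx | hx | hx <;> rw [hx] <;> beta_reduce
      · rw [h1, if_pos rfl, if_neg (Ne.symm hrv), if_neg (Ne.symm hsv), map_mul, map_intCast, map_intCast]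
        rw [← Int.cast_mul, ← Int.cast_mul]
        have : ε v * (ε s * ε r) = 1 := by rw [← h3]; ring
        rw [this, Int.cast_one]
      · rw [h2, if_neg (Ne.symm hrs), if_pos rfl, if_pos rfl, map_one, mul_one]
      · rw [h4, if_neg (Ne.symm hrv), if_neg (Ne.symm hsv), if_neg (Ne.symm hrs), if_pos rfl, map_intCast]
    · -- `ρ' r = s, ρ' s = v, ρ' v = r`: `t r = 1, t v = ε r, t s = ε v ε r`
      refine ⟨fun x => if x = r then 1 else if x = v then ((ε r : ℤ) : K) else
        ((ε v : ℤ) : K) * ((ε r : ℤ) : K), ?_, r, by simp, by simp⟩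
      intro x hx
      simp only [List.mem_cons, List.not_mem_nil, or_false] at hx
      unfold twistFn
      rcases hx with hx | hx | hx <;> rw [hx] <;> beta_reduce
      · rw [h1, if_pos rfl, if_neg (Ne.symm hrs), if_neg hsv, map_mul, map_intCast, map_intCast]
        rw [← Int.cast_mul, ← Int.cast_mul]
        have : ε s * (ε v * ε r) = 1 := by rw [← h3]; ring
        rw [this, Int.cast_one]
      · rw [h2, if_neg (Ne.symm hrs), if_neg hsv, if_neg (Ne.symm hrv), if_pos rfl, map_intCast]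
      · rw [h4, if_neg (Ne.symm hrv), if_pos rfl, if_pos rfl, map_one, mul_one]

end

section
variable (D : ChevalleyDatum) (hD : D ∈ [chevG2, chevB2, chevD4, chevF4, chevE6, chevE7, chevE8])
variable (F : Type*) [Field F]
include hD

omit F in
/-- a root is not both positive and negative -/
theorem not_pos_and_neg (s : ℕ) (hp : D.IsPosRoot s) (hn : D.IsNegRoot s) : False := by
  have h1 : xGL D hD ℚ s 1 ∈ D.posUnipotent ℚ ⊓ D.negUnipotent ℚ :=
    Subgroup.mem_inf.mpr ⟨xGL_pos_mem D hD ℚ s hp 1, xGL_neg_mem D hD ℚ s hn 1⟩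
  rw [posUnipotent_inf_negUnipotent D hD ℚ, Subgroup.mem_bot] at h1
  exact xGL_one_ne_one D hD ℚ s hp.1 h1

/-- if `n ∈ N` maps every positive root to a negative root then `n U n⁻¹ = V` -/
theorem conj_monomial_eq_neg' (n : GL D.Idx F) (hn : n ∈ D.monomialSubgroup F)
    (h : ∀ s, D.IsPosRoot s → ∀ a < D.nroots, ∀ c : F, c ≠ 0 →
      (∀ t : F, n * xGL D hD F s t * n⁻¹ = xGL D hD F a (c * t)) → D.IsNegRoot a) :
    (D.posUnipotent F).map (MulAut.conj n).toMonoidHom = D.negUnipotent F := by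
  have hRC := monomial_le_rootConj D hD F hn
  have hPN := posNegOK_of_mem D hD
  have hNI := negInvOK_of_mem D hD
  apply le_antisymm
  · unfold ChevalleyDatum.posUnipotent
    rw [MonoidHom.map_closure, Subgroup.closure_le]
    rintro _ ⟨g, ⟨s, t, hs, hg⟩, rfl⟩
    have hg' : g = xGL D hD F s t := Units.ext (by rw [hg, coe_xGL])
    obtain ⟨a, ha, c, hc, h1, -⟩ := hRC.2 s hs.1
    have h1' : ∀ t : F, n * xGL D hD F s t * n⁻¹ = xGL D hD F a (c * t) := by
      intro t; have := h1 t; rwa [inv_inv] at this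
    show n * g * n⁻¹ ∈ D.negUnipotent F
    rw [hg', h1']
    exact xGL_neg_mem D hD F a (h s hs a ha c hc h1') _
  · unfold ChevalleyDatum.negUnipotent
    rw [Subgroup.closure_le]
    rintro g ⟨r, t, hr, hg⟩
    have hg' : g = xGL D hD F r t := Units.ext (by rw [hg, coe_xGL])
    obtain ⟨a, ha, c, hc, h1, h2⟩ := hRC.1 r hr.1
    have hnr : D.IsPosRoot (D.neg r) := (hNI r hr.1).2.2 hr
    have hpa : D.IsPosRoot a := by
      rcases posOrNeg_of_mem D hD a ha with hp | hneg
      · exact hp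
      · exfalso
        have hna : D.IsPosRoot (D.neg a) := (hNI a ha).2.2 hneg
        have e : ∀ t : F, n * xGL D hD F (D.neg a) t * n⁻¹ = xGL D hD F (D.neg r) (c * t) := by
          intro t
          have h3 := h2 (c * t)
          rw [← mul_assoc, inv_mul_cancel₀ hc, one_mul] at h3
          rw [← h3]; group
        have := h (D.neg a) hna (D.neg r) hnr.1 c hc e
        exact not_pos_and_neg D hD (D.neg r) hnr this
    refine ⟨xGL D hD F a (c * t), xGL_pos_mem D hD F a hpa _, ?_⟩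
    show n * xGL D hD F a (c * t) * n⁻¹ = g
    rw [← h1 t, hg']; group

end

end Cfsg.Agent.Lib.Lead.TwStein
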