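import Cfsg.Agent.Lib.Lead.TwSteinA
import Cfsg.Agent.Lib.Helper11.ChevDiagMem

/-! Twisted groups `G¹`: decomposition of `B ∩ G¹`, normal form, the elements of `N ∩ G¹` moving
`U ∩ G¹` off itself, and `N_{G¹}(U ∩ G¹) = B ∩ G¹` (lead). -/

set_option autoImplicit false

namespace Cfsg.Agent.Lib.Lead.TwStein

open Cfsg Cfsg.Lie Matrix Cfsg.Agent.Lib.Helper7 Cfsg.Agent.Lib.Helper3.BN
open Cfsg.Agent.Lib.Helper11.ChevDiagMem

section
variable (D : ChevalleyDatum) (hD : D ∈ [chevG2, chevB2, chevD4, chevF4, chevE6, chevE7, chevE8])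
variable (pv pv' ρ ρ' : ℕ → ℕ) (ε : ℕ → ℤ) (hG : GraphFacts D pv pv' ρ ρ' ε)
variable (K : Type*) [Field K] (φ : K ≃+* K)
variable (A : ℕ → ℤ) (hA : ChainAdd D A) (hO : PosFacts D A) (cls : List (List ℕ))
variable (hT : TwistFacts D ρ ρ' A cls)
variable (G1 : Subgroup (GL D.Idx K)) (simpIdx simpCls : List (List ℕ))
variable (hF : TwistGroupFacts D hD pv pv' ρ ρ' ε hG K φ cls G1 simpIdx simpCls)
variable (m : ℕ) (hsh : ∀ S ∈ cls, ClassShape ρ' ε m S)
variable (hB : TwistBNFacts D simpIdx simpCls)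
  (hinv : ∀ J ∈ simpIdx, ∀ s < D.nroots, reflWord D J (reflWord D J s) = s)
  (hgen : G1 ≤ Subgroup.closure (((D.borelSubgroup K ⊓ G1 : Subgroup (GL D.Idx K)) : Set (GL D.Idx K)) ∪
      Set.range (clsRep D hD K simpIdx)))
variable (cert : List (List ℕ × ℕ)) (hcert : certOKB D simpIdx simpCls cls cert = true)

include hD hA hO hT hF hcert in
/-- `B ∩ G¹ = (H ∩ G¹)(U ∩ G¹)` -/
theorem borel_twisted_decomp (b : GL D.Idx K) (hb : b ∈ D.borelSubgroup K ⊓ G1) :
    ∃ h ∈ D.diagonalSubgroup K ⊓ G1, ∃ u ∈ D.posUnipotent K ⊓ G1, b = h * u := by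
  rw [Subgroup.mem_inf] at hb
  obtain ⟨hbB, hbG⟩ := hb
  have hbB' : b ∈ ((D.borelSubgroup K : Subgroup (GL D.Idx K)) : Set (GL D.Idx K)) := hbB
  rw [borel_eq_mul D hD K] at hbB'
  obtain ⟨h, hh, u, hu, rfl⟩ := Set.mem_mul.mp hbB'
  have hρpos := rho_pos_of_twistFacts D ρ ρ' A cls hT
  obtain ⟨hhf, huf⟩ := fixed_borel D hD pv pv' ρ ρ' ε hG K φ hρpos h u hh hu (hF.le_fix hbG)
  have huG : u ∈ G1 :=
    posUnipotent_inf_fixSigma_le D hD pv pv' ρ ρ' ε hG K φ A hA hO cls hT G1 simpIdx simpCls hF cert hcert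
      (Subgroup.mem_inf.mpr ⟨hu, huf⟩)
  have hhG : h ∈ G1 := by
    have : h = h * u * u⁻¹ := by group
    rw [this]
    exact Subgroup.mul_mem _ hbG (Subgroup.inv_mem _ huG)
  exact ⟨h, Subgroup.mem_inf.mpr ⟨hh, hhG⟩, u, Subgroup.mem_inf.mpr ⟨hu, huG⟩, rfl⟩

include hD hA hO hT hF hsh hB hinv hgen hcert in
/-- the normal form `g = b n u` inside `G¹` -/
theorem canon_twisted (g : GL D.Idx K) (hg : g ∈ G1) :
    ∃ b ∈ D.borelSubgroup K ⊓ G1, ∃ n ∈ D.monomialSubgroup K ⊓ G1, ∃ u ∈ D.posUnipotent K ⊓ G1,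
      g = b * n * u := by
  obtain ⟨L, b, hb, b', hb', rfl⟩ := twisted_cells' D hD pv pv' ρ ρ' ε hG K φ A hA hO cls hT G1 simpIdx
    simpCls hF m hsh hB hinv hgen g hg
  obtain ⟨h, hh, u, hu, rfl⟩ := borel_twisted_decomp D hD pv pv' ρ ρ' ε hG K φ A hA hO cls hT G1 simpIdx
    simpCls hF cert hcert b' hb'
  obtain ⟨n, hn⟩ : ∃ n, n = TwBN.nW (clsRep D hD K simpIdx) L := ⟨_, rfl⟩
  rw [← hn]
  have hnN : n ∈ D.monomialSubgroup K := by
    rw [hn]; exact nW_mem_monomial D hD pv pv' ρ ρ' ε hG K φ A hA hO cls hT G1 simpIdx simpCls hF hB L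
  have hnG : n ∈ G1 := by
    rw [hn]; exact nW_mem_G1 D hD pv pv' ρ ρ' ε hG K φ cls G1 simpIdx simpCls hF hB L
  have hdn := monomialSubgroup_le_normalizer_diagonal D hD K hnN
  rw [Subgroup.mem_set_normalizer_iff] at hdn
  have hh' : n * h * n⁻¹ ∈ D.diagonalSubgroup K ⊓ G1 := by
    rw [Subgroup.mem_inf] at hh ⊢
    exact ⟨(hdn h).mp hh.1, Subgroup.mul_mem _ (Subgroup.mul_mem _ hnG hh.2) (Subgroup.inv_mem _ hnG)⟩
  refine ⟨b * (n * h * n⁻¹), ?_, n, Subgroup.mem_inf.mpr ⟨hnN, hnG⟩, u, hu, by group⟩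
  rw [Subgroup.mem_inf] at hb hh' ⊢
  exact ⟨Subgroup.mul_mem _ hb.1 (diagonal_le_borel D hD K hh'.1), Subgroup.mul_mem _ hb.2 hh'.2⟩

include hD hA hO hT hF hsh hcert in
/-- an element of `N ∩ G¹` that moves `U ∩ G¹` off `U` conjugates `U` onto `V` -/
theorem conj_monomial_twisted (n : GL D.Idx K) (hn : n ∈ D.monomialSubgroup K ⊓ G1)
    (h : ∀ u ∈ D.posUnipotent K ⊓ G1, n * u * n⁻¹ ∈ D.posUnipotent K → u = 1) :
    (D.posUnipotent K).map (MulAut.conj n).toMonoidHom = D.negUnipotent K := by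
  rw [Subgroup.mem_inf] at hn
  obtain ⟨hnN, hnG⟩ := hn
  apply conj_monomial_eq_neg' D hD K n hnN
  intro s hs a ha c hc hconj
  rcases posOrNeg_of_mem D hD a ha with hp | hneg
  swap
  · exact hneg
  exfalso
  obtain ⟨L, hL, hact⟩ := exists_actsAs D hD K n hnN
  have hgs : reflWord D L s = a := by
    obtain ⟨hlt, c', hc', h1⟩ := hact s hs.1
    have := (h1 1).symm.trans (hconj 1)
    exact xGL_root_inj D hD K _ _ hlt ha _ _ (by simpa using hc') this
  have hρpos := rho_pos_of_twistFacts D ρ ρ' A cls hT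
  -- the class of `s`
  obtain ⟨S, hS, hsS⟩ := List.mem_flatten.mp (hT.all s hs)
  have hSpos := class_pos D hD ρ ρ' A hA hO cls hT S hS
  have hdich := sign_dichotomy D hD pv pv' ρ ρ' ε hG K φ hρpos n (hF.le_fix hnG) _ hact m S
    (fun r hr => (hSpos r hr).1) (hsh S hS)
  have hallpos : ∀ r ∈ S, D.IsPosRoot (reflWord D L r) := by
    rcases hdich with h1 | h1
    · exact h1
    · exfalso
      have := h1 s hsS
      rw [hgs] at this
      exact not_pos_and_neg D hD a hp this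
  obtain ⟨x, hx, hx1⟩ := exists_class_fixed D hD pv pv' ρ ρ' ε hG K φ A hA hO cls hT m S hS (hsh S hS)
  rw [Subgroup.mem_inf] at hx
  have hxU : x ∈ D.posUnipotent K := by
    have hle : Subgroup.closure (gensL D K S) ≤ D.posUnipotent K := by
      rw [Subgroup.closure_le]
      rintro g ⟨r, hr, t, hg⟩
      apply Subgroup.subset_closure
      exact ⟨r, t, hSpos r hr, hg⟩
    exact hle hx.1
  have hxG : x ∈ G1 :=
    posUnipotent_inf_fixSigma_le D hD pv pv' ρ ρ' ε hG K φ A hA hO cls hT G1 simpIdx simpCls hF cert hcert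
      (Subgroup.mem_inf.mpr ⟨hxU, hx.2⟩)
  have hconjU : n * x * n⁻¹ ∈ D.posUnipotent K := by
    have h1 := conj_closure_gensL D hD K n _ hact S (fun r hr => (hSpos r hr).1) x hx.1
    have hle : Subgroup.closure (gensL D K (S.map (reflWord D L))) ≤ D.posUnipotent K := by
      rw [Subgroup.closure_le]
      rintro g ⟨r, hr, t, hg⟩
      rw [List.mem_map] at hr
      obtain ⟨r', hr', rfl⟩ := hr
      apply Subgroup.subset_closure
      exact ⟨_, t, hallpos r' hr', hg⟩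
    exact hle h1
  exact hx1 (h x (Subgroup.mem_inf.mpr ⟨hxU, hxG⟩) hconjU)

include hD hA hO hT hF hsh hB hinv hgen hcert in
/-- `N_{G¹}(U ∩ G¹) = B ∩ G¹` -/
theorem normalizer_posUnipotent_twisted (n₀ : GL D.Idx K) (hn₀ : n₀ ∈ D.monomialSubgroup K ⊓ G1)
    (hUV : (D.posUnipotent K).map (MulAut.conj n₀).toMonoidHom = D.negUnipotent K)
    (hle : G1 ≤ D.group K) :
    Subgroup.normalizer ((D.posUnipotent K ⊓ G1 : Subgroup (GL D.Idx K)) : Set (GL D.Idx K)) ⊓ G1 =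
      D.borelSubgroup K ⊓ G1 := by
  have hBnorm : D.borelSubgroup K ⊓ G1 ≤
      Subgroup.normalizer ((D.posUnipotent K ⊓ G1 : Subgroup (GL D.Idx K)) : Set (GL D.Idx K)) := by
    intro b hb
    rw [Subgroup.mem_inf] at hb
    have hbN : b ∈ Subgroup.normalizer (D.posUnipotent K : Set (GL D.Idx K)) := by
      have hle : D.borelSubgroup K ≤ Subgroup.normalizer (D.posUnipotent K : Set (GL D.Idx K)) := by
        unfold ChevalleyDatum.borelSubgroup
        exact sup_le Subgroup.le_normalizer (diagonalSubgroup_le_normalizer_posUnipotent D hD K)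
      exact hle hb.1
    rw [Subgroup.mem_set_normalizer_iff] at hbN ⊢
    intro u
    rw [SetLike.mem_coe, SetLike.mem_coe, Subgroup.mem_inf, Subgroup.mem_inf]
    constructor
    · rintro ⟨h1, h2⟩
      exact ⟨(hbN u).mp h1, Subgroup.mul_mem _ (Subgroup.mul_mem _ hb.2 h2) (Subgroup.inv_mem _ hb.2)⟩
    · rintro ⟨h1, h2⟩
      refine ⟨(hbN u).mpr h1, ?_⟩
      have : u = b⁻¹ * (b * u * b⁻¹) * b := by group
      rw [this]
      exact Subgroup.mul_mem _ (Subgroup.mul_mem _ (Subgroup.inv_mem _ hb.2) h2) hb.2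
  apply le_antisymm
  · intro g hg
    rw [Subgroup.mem_inf] at hg
    obtain ⟨hgN, hgG⟩ := hg
    obtain ⟨b, hb, n, hn, u, hu, rfl⟩ := canon_twisted D hD pv pv' ρ ρ' ε hG K φ A hA hO cls hT G1 simpIdx
      simpCls hF m hsh hB hinv hgen cert hcert g hgG
    have huB : u ∈ D.borelSubgroup K ⊓ G1 := by
      rw [Subgroup.mem_inf] at hu ⊢
      exact ⟨posUnipotent_le_borel D hD K hu.1, hu.2⟩
    -- `n` normalises `U ∩ G¹`
    have hnN : n ∈ Subgroup.normalizer
        ((D.posUnipotent K ⊓ G1 : Subgroup (GL D.Idx K)) : Set (GL D.Idx K)) := by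
      have : n = b⁻¹ * (b * n * u) * u⁻¹ := by group
      rw [this]
      exact Subgroup.mul_mem _ (Subgroup.mul_mem _ (Subgroup.inv_mem _ (hBnorm hb)) hgN)
        (Subgroup.inv_mem _ (hBnorm huB))
    rw [Subgroup.mem_set_normalizer_iff] at hnN
    have hn₀' := Subgroup.mem_inf.mp hn₀
    have hn' := Subgroup.mem_inf.mp hn
    -- `n₀ n` moves `U ∩ G¹` off `U`
    have hmove : ∀ u' ∈ D.posUnipotent K ⊓ G1, (n₀ * n) * u' * (n₀ * n)⁻¹ ∈ D.posUnipotent K → u' = 1 := by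
      intro u' hu' hc
      have h1 : n * u' * n⁻¹ ∈ D.posUnipotent K ⊓ G1 := (hnN u').mp hu'
      have h2 : n₀ * (n * u' * n⁻¹) * n₀⁻¹ ∈ D.negUnipotent K := by
        rw [← hUV]
        exact ⟨_, (Subgroup.mem_inf.mp h1).1, rfl⟩
      have h3 : n₀ * (n * u' * n⁻¹) * n₀⁻¹ ∈ D.posUnipotent K ⊓ D.negUnipotent K := by
        refine Subgroup.mem_inf.mpr ⟨?_, h2⟩
        have e : n₀ * (n * u' * n⁻¹) * n₀⁻¹ = (n₀ * n) * u' * (n₀ * n)⁻¹ := by group
        rw [e]; exact hc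
      rw [posUnipotent_inf_negUnipotent D hD K, Subgroup.mem_bot] at h3
      have : u' = (n₀ * n)⁻¹ * (n₀ * (n * u' * n⁻¹) * n₀⁻¹) * (n₀ * n) := by group
      rw [this, h3]; group
    have hconj := conj_monomial_twisted D hD pv pv' ρ ρ' ε hG K φ A hA hO cls hT G1 simpIdx simpCls hF m hsh
      cert hcert (n₀ * n)
      (Subgroup.mem_inf.mpr ⟨Subgroup.mul_mem _ hn₀'.1 hn'.1, Subgroup.mul_mem _ hn₀'.2 hn'.2⟩) hmove
    -- hence `n U n⁻¹ = U`
    have hnU : (D.posUnipotent K).map (MulAut.conj n).toMonoidHom = D.posUnipotent K := by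
      have e : (MulAut.conj (n₀ * n)).toMonoidHom =
          (MulAut.conj n₀).toMonoidHom.comp (MulAut.conj n).toMonoidHom := by
        ext x; simp [MulAut.conj_apply, mul_assoc]
      rw [e, ← Subgroup.map_map, ← hUV] at hconj
      exact Subgroup.map_injective (MulAut.conj n₀).injective hconj
    have hnB : n ∈ D.borelSubgroup K := by
      rw [← normalizer_posUnipotent_inf_group D hD K]
      refine Subgroup.mem_inf.mpr ⟨?_, hle hn'.2⟩
      rw [Subgroup.mem_set_normalizer_iff]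
      intro x
      constructor
      · intro hx
        rw [← hnU]
        exact ⟨x, hx, rfl⟩
      · intro hx
        rw [← hnU] at hx
        obtain ⟨x', hx', he⟩ := hx
        simp only [MulEquiv.coe_toMonoidHom, MulAut.conj_apply] at he
        have : x' = x := by
          have e2 : x' = n⁻¹ * (n * x' * n⁻¹) * n := by group
          rw [e2, he]; group
        rw [← this]; exact hx'
    rw [Subgroup.mem_inf] at hb hu ⊢
    exact ⟨Subgroup.mul_mem _ (Subgroup.mul_mem _ hb.1 hnB) (posUnipotent_le_borel D hD K hu.1),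
      Subgroup.mul_mem _ (Subgroup.mul_mem _ hb.2 hn'.2) hu.2⟩
  · exact le_inf hBnorm inf_le_right

end

end Cfsg.Agent.Lib.Lead.TwStein
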