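import Cfsg.Agent.Lib.Lead.TwSteinB
import Cfsg.Agent.Lib.Lead.SteinA
import Cfsg.Agent.Lib.Helper7.ChevCore
import Cfsg.Agent.Lib.Helper7.ChevLong

/-! Twisted groups `G¹`: monomial elements in the big cell, minimal parabolic subgroups, and
`V ∩ P_J = n_J X_J n_J⁻¹` (lead). -/

set_option autoImplicit false

namespace Cfsg.Agent.Lib.Lead.TwStein

open Cfsg Cfsg.Lie Matrix Cfsg.Agent.Lib.Helper7 Cfsg.Agent.Lib.Helper3.BN

section
variable (D : ChevalleyDatum) (hD : D ∈ [chevG2, chevB2, chevD4, chevF4, chevE6, chevE7, chevE8])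
variable (F : Type*) [Field F]
include hD

/-- a monomial element of the big cell `V B` lies in `B` -/
theorem monomial_mem_borel_of_big (n v b : GL D.Idx F) (hn : n ∈ D.monomialSubgroup F)
    (hv : v ∈ D.negUnipotent F) (hb : b ∈ D.borelSubgroup F) (he : n = v * b) :
    n ∈ D.borelSubgroup F := by
  obtain ⟨w, hL⟩ := exists_longFacts_of_mem D hD
  set n₀ := nLongGL D hD F w with hn₀
  have hn₀G : n₀ ∈ D.group F := nLongGL_mem_group D hD F w
  have hn₀N : n₀ ∈ D.monomialSubgroup F := nLongGL_mem_monomial D hD F w hL.lt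
  have hUV := conj_posUnipotent_eq D hD F w hL
  rw [← hn₀] at hUV
  rw [← hUV] at hv
  obtain ⟨u, hu, huv⟩ := hv
  simp only [MulEquiv.coe_toMonoidHom, MulAut.conj_apply] at huv
  obtain ⟨P, hP⟩ : ∃ P, P = chevBNPair D hD F := ⟨_, rfl⟩
  have hPB : ∀ g : ↥(D.group F), g ∈ P.B ↔ (g : GL D.Idx F) ∈ D.borelSubgroup F := by
    rw [hP]; exact mem_B_iff D hD F
  have hPN : ∀ g : ↥(D.group F), g ∈ P.N ↔ (g : GL D.Idx F) ∈ D.monomialSubgroup F := by
    rw [hP]; exact mem_N_iff D hD F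
  have huB : u ∈ D.borelSubgroup F := posUnipotent_le_borel D hD F hu
  have hnG : n ∈ D.group F := monomial_le_group D hD F hn
  set a : ↥(D.group F) := ⟨n₀, hn₀G⟩⁻¹ * ⟨n, hnG⟩ with ha
  set a' : ↥(D.group F) := ⟨n₀, hn₀G⟩⁻¹ with ha'
  have haN : a ∈ P.N := by
    rw [hPN]
    exact Subgroup.mul_mem _ (Subgroup.inv_mem _ hn₀N) hn
  have ha'N : a' ∈ P.N := by
    rw [hPN]
    exact Subgroup.inv_mem _ hn₀N
  have h1 : a ∈ dc P a := self_mem_dc P a
  have h2 : a ∈ dc P a' := by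
    rw [mem_dc]
    refine ⟨⟨u, borel_le_group D hD F huB⟩, (hPB _).mpr huB, ⟨b, borel_le_group D hD F hb⟩,
      (hPB _).mpr hb, ?_⟩
    apply Subtype.ext
    show n₀⁻¹ * n = u * n₀⁻¹ * b
    rw [he, ← huv]; group
  have h3 := dc_eq_of_common P h1 h2
  rw [dc_eq_iff P haN ha'N] at h3
  rw [hPB] at h3
  have e : ((a⁻¹ * a' : ↥(D.group F)) : GL D.Idx F) = n⁻¹ := by
    show (n₀⁻¹ * n)⁻¹ * n₀⁻¹ = _
    group
  rw [e] at h3
  have := Subgroup.inv_mem _ h3
  rwa [inv_inv] at this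

end

section abstract
variable {G : Type*} [Group G] (P : Cfsg.BNPair G)

/-- powers of a distinguished generator lie in `B ∪ s B` -/
theorem zpow_mem_B_or {s : G} (hs : s ∈ P.S) (k : ℤ) : s ^ k ∈ P.B ∨ ∃ b ∈ P.B, s ^ k = s * b := by
  have hsq : s * s ∈ P.B := P.sq_mem s hs
  have hsq' : s ^ (2 : ℤ) ∈ P.B := by
    have : s ^ (2 : ℤ) = s * s := by rw [zpow_ofNat, pow_two]
    rw [this]; exact hsq
  rcases Int.even_or_odd' k with ⟨j, hj | hj⟩
  · left
    rw [hj, _root_.zpow_mul]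
    exact Subgroup.zpow_mem _ hsq' j
  · right
    refine ⟨(s ^ (2 : ℤ)) ^ j, Subgroup.zpow_mem _ hsq' j, ?_⟩
    rw [hj, _root_.zpow_add, zpow_one, _root_.zpow_mul]
    exact ((Commute.refl s).zpow_left 2 |>.zpow_left j).eq

/-- the minimal parabolic subgroup `⟨B, s⟩` is `B ∪ B s B` -/
theorem mem_parabolic_singleton {s : G} (hs : s ∈ P.S) (g : G) (hg : g ∈ P.parabolic {s}) :
    g ∈ P.B ∨ ∃ b ∈ P.B, ∃ b' ∈ P.B, g = b * s * b' := by
  obtain ⟨n, hn, hgn⟩ := (mem_parabolic_iff P (Set.singleton_subset_iff.mpr hs) g).mp hg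
  rw [Subgroup.mem_closure_singleton] at hn
  obtain ⟨k, rfl⟩ := hn
  rw [mem_dc] at hgn
  obtain ⟨b, hb, b', hb', rfl⟩ := hgn
  rcases zpow_mem_B_or P hs k with h | ⟨c, hc, h⟩
  · left
    exact Subgroup.mul_mem _ (Subgroup.mul_mem _ hb h) hb'
  · right
    refine ⟨b, hb, c * b', Subgroup.mul_mem _ hc hb', ?_⟩
    rw [h]; group

end abstract

section
variable (D : ChevalleyDatum) (hD : D ∈ [chevG2, chevB2, chevD4, chevF4, chevE6, chevE7, chevE8])
variable (pv pv' ρ ρ' : ℕ → ℕ) (ε : ℕ → ℤ) (hG : GraphFacts D pv pv' ρ ρ' ε)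
variable (K : Type*) [Field K] [Finite K] (φ : K ≃+* K)
variable (A : ℕ → ℤ) (hA : ChainAdd D A) (hO : PosFacts D A) (cls : List (List ℕ))
variable (hT : TwistFacts D ρ ρ' A cls)
variable (G1 : Subgroup (GL D.Idx K)) (simpIdx simpCls : List (List ℕ))
variable (hF : TwistGroupFacts D hD pv pv' ρ ρ' ε hG K φ cls G1 simpIdx simpCls)
variable (m : ℕ) (hsh : ∀ S ∈ cls, ClassShape ρ' ε m S)
variable (hB : TwistBNFacts D simpIdx simpCls)
  (hinv : ∀ J ∈ simpIdx, ∀ s < D.nroots, reflWord D J (reflWord D J s) = s)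
variable (J : Fin simpIdx.length)

omit [Finite K] in
include hD hA hO hT hF hsh hB in
/-- `n_J` does not lie in `B` -/
theorem clsRep_not_mem_borel : clsRep D hD K simpIdx J ∉ D.borelSubgroup K := by
  intro hn
  have hJ := List.get_mem simpIdx J
  have hC := hB.facts _ hJ
  have hJS : (simpIdx.get J).map D.simple ∈ simpCls := by
    rw [hB.cls_eq]; exact List.mem_map_of_mem hJ
  have hScls := hF.simple_cls _ hJS
  obtain ⟨x, hx, hx1⟩ := exists_class_fixed D hD pv pv' ρ ρ' ε hG K φ A hA hO cls hT m _ hScls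
    (hsh _ hScls)
  rw [Subgroup.mem_inf] at hx
  have h1 := conj_simple_class_mem_neg D hD K _ hC x hx.1
  have hxU : x ∈ D.posUnipotent K := by
    have hle : Subgroup.closure (gensL D K ((simpIdx.get J).map D.simple)) ≤ D.posUnipotent K := by
      rw [Subgroup.closure_le]
      rintro g ⟨r, hr, t, hg⟩
      apply Subgroup.subset_closure
      exact ⟨r, t, simple_class_pos D hD _ hC r hr, hg⟩
    exact hle hx.1
  have h2 : clsRep D hD K simpIdx J * x * (clsRep D hD K simpIdx J)⁻¹ ∈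
      D.borelSubgroup K ⊓ D.negUnipotent K := by
    refine Subgroup.mem_inf.mpr ⟨?_, h1⟩
    exact Subgroup.mul_mem _ (Subgroup.mul_mem _ hn (posUnipotent_le_borel D hD K hxU))
      (Subgroup.inv_mem _ hn)
  rw [borel_inf_negUnipotent D hD K, Subgroup.mem_bot] at h2
  apply hx1
  have : x = (clsRep D hD K simpIdx J)⁻¹ *
      (clsRep D hD K simpIdx J * x * (clsRep D hD K simpIdx J)⁻¹) * clsRep D hD K simpIdx J := by group
  rw [this, h2]; group

include hD hA hO hT hF hsh hB hinv in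
/-- the elements of `V ∩ B¹ n_J B¹` are the conjugates `n_J x n_J⁻¹`, `x ∈ X_J` -/
theorem neg_inf_cell (y b b' : GL D.Idx K) (hy' : y ∈ D.negUnipotent K)
    (hb : b ∈ D.borelSubgroup K ⊓ G1) (hb' : b' ∈ D.borelSubgroup K ⊓ G1)
    (he : y = b * clsRep D hD K simpIdx J * b') :
    ∃ x ∈ clsX D pv pv' ρ ρ' ε hG K φ simpIdx J,
      y = clsRep D hD K simpIdx J * x * (clsRep D hD K simpIdx J)⁻¹ := by
  classical
  have hJ := List.get_mem simpIdx J
  have hC := hB.facts _ hJ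
  have hJS : (simpIdx.get J).map D.simple ∈ simpCls := by
    rw [hB.cls_eq]; exact List.mem_map_of_mem hJ
  have hScls := hF.simple_cls _ hJS
  obtain ⟨n, hn⟩ : ∃ n, n = clsRep D hD K simpIdx J := ⟨_, rfl⟩
  have hnB : n ∉ D.borelSubgroup K := by
    rw [hn]
    exact clsRep_not_mem_borel D hD pv pv' ρ ρ' ε hG K φ A hA hO cls hT G1 simpIdx simpCls hF m hsh hB J
  have hnN : n ∈ D.monomialSubgroup K := by
    rw [hn]; exact nWordGL_mem_monomial D hD K _ hC.lt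
  have hnG : n ∈ G1 := by rw [hn]; exact hF.n_mem _ hJ
  have hBV := borel_inf_negUnipotent D hD K
  obtain ⟨X, hX⟩ : ∃ X, X = clsX D pv pv' ρ ρ' ε hG K φ simpIdx J := ⟨_, rfl⟩
  have hXV : ∀ x ∈ X, n * x * n⁻¹ ∈ D.negUnipotent K := by
    intro x hx
    rw [hX] at hx
    rw [hn]
    exact conj_simple_class_mem_neg D hD K _ hC x (Subgroup.mem_inf.mp hx).1
  have hXG : ∀ x ∈ X, x ∈ G1 := by
    intro x hx
    rw [hX] at hx
    exact class_fixed_le D hD pv pv' ρ ρ' ε hG K φ A hA hO cls hT G1 simpIdx simpCls hF _ hJS x hx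
  have hXU : ∀ x ∈ X, x ∈ D.borelSubgroup K := by
    intro x hx
    rw [hX] at hx
    have hle : Subgroup.closure (gensL D K ((simpIdx.get J).map D.simple)) ≤ D.posUnipotent K := by
      rw [Subgroup.closure_le]
      rintro g ⟨r, hr, t, hg⟩
      apply Subgroup.subset_closure
      exact ⟨r, t, simple_class_pos D hD _ hC r hr, hg⟩
    exact posUnipotent_le_borel D hD K (hle (Subgroup.mem_inf.mp hx).1)
  -- the rank one relation on `X \ {1}`
  have hrank : ∀ x ∈ X, x ≠ 1 → ∃ x₂ ∈ X, x₂ ≠ 1 ∧ ∃ b₁ ∈ D.borelSubgroup K ⊓ G1,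
      n * x * n⁻¹ = b₁ * n * x₂ := by
    intro x hx hx1
    rw [hX] at hx
    obtain ⟨b₁, hb₁, x₂, hx₂, h1⟩ := rank_one_class D hD pv pv' ρ ρ' ε hG K φ A hA hO cls hT G1 simpIdx
      simpCls hF m hsh _ hC hJ hJS x hx hx1
    have hn' : n = nWordGL D hD K (simpIdx.get J) := hn
    rw [← hn'] at h1
    refine ⟨x₂, by rw [hX]; exact hx₂, ?_, b₁, hb₁, h1⟩
    rintro rfl
    rw [mul_one] at h1
    -- `n x = b₁ n n`, and `n n ∈ B`
    have hsq : n * n ∈ D.borelSubgroup K := by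
      have := (twisted_closureData D hD pv pv' ρ ρ' ε hG K φ A hA hO cls hT G1 simpIdx simpCls hF m hsh hB
        hinv).sq J
      rw [← hn] at this
      exact (Subgroup.mem_inf.mp this).1
    apply hnB
    have e : n = b₁ * (n * n) * x⁻¹ := by
      have : n * x = b₁ * n * n := by
        have e2 : n * x = (n * x * n⁻¹) * n := by group
        rw [e2, h1]
      calc n = (n * x) * x⁻¹ := by group
        _ = b₁ * (n * n) * x⁻¹ := by rw [this]; group
    rw [e]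
    have hxX : x ∈ X := by rw [hX]; exact hx
    exact Subgroup.mul_mem _ (Subgroup.mul_mem _ (Subgroup.mem_inf.mp hb₁).1 hsq)
      (Subgroup.inv_mem _ (hXU x hxX))
  -- reduce `y` to the form `b₃ n x`
  obtain ⟨c, hc, x, hx, hb'e, hcn⟩ := borel_decomp_class D hD pv pv' ρ ρ' ε hG K φ A hA hO cls hT G1 simpIdx
    simpCls hF _ hC hJ hJS b' hb'
  have hn' : n = nWordGL D hD K (simpIdx.get J) := hn
  rw [← hn'] at hcn
  have hxX : x ∈ X := by rw [hX]; exact hx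
  obtain ⟨b₃, hb₃⟩ : ∃ b₃, b₃ = b * (n * c * n⁻¹) := ⟨_, rfl⟩
  have hb₃B : b₃ ∈ D.borelSubgroup K ⊓ G1 := by
    rw [hb₃]; exact Subgroup.mul_mem _ hb hcn
  have hy : y = b₃ * n * x := by
    rw [he, ← hn, hb'e, hb₃]; group
  by_cases hx1 : x = 1
  · exfalso
    rw [hx1, mul_one] at hy
    apply hnB
    have h1 : n⁻¹ ∈ D.borelSubgroup K := by
      apply monomial_mem_borel_of_big D hD K n⁻¹ y⁻¹ b₃ (Subgroup.inv_mem _ hnN) (Subgroup.inv_mem _ hy')
        (Subgroup.mem_inf.mp hb₃B).1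
      rw [hy]; group
    have := Subgroup.inv_mem _ h1
    rwa [inv_inv] at this
  · -- surjectivity of the rank one map on `X \ {1}`
    have hfinGL : Finite (GL D.Idx K) := by
      have : Finite (Matrix D.Idx D.Idx K) := inferInstance
      exact Finite.of_injective (fun g : GL D.Idx K => (g : Matrix D.Idx D.Idx K)) Units.val_injective
    have hfinT : Finite {x : GL D.Idx K // x ∈ X ∧ x ≠ 1} := Subtype.finite
    have hch : ∀ t : {x : GL D.Idx K // x ∈ X ∧ x ≠ 1}, ∃ t' : {x : GL D.Idx K // x ∈ X ∧ x ≠ 1},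
        ∃ b₁ ∈ D.borelSubgroup K ⊓ G1, n * t.1 * n⁻¹ = b₁ * n * t'.1 := by
      rintro ⟨t, ht, ht1⟩
      obtain ⟨x₂, hx₂, hx₂1, b₁, hb₁, h1⟩ := hrank t ht ht1
      exact ⟨⟨x₂, hx₂, hx₂1⟩, b₁, hb₁, h1⟩
    choose f hf using hch
    have hinj : Function.Injective f := by
      intro t t' htt
      obtain ⟨b₁, hb₁, h1⟩ := hf t
      obtain ⟨b₁', hb₁', h1'⟩ := hf t'
      rw [htt] at h1
      have e : n * (t.1 * t'.1⁻¹) * n⁻¹ = b₁ * b₁'⁻¹ := by
        have : n * (t.1 * t'.1⁻¹) * n⁻¹ = (n * t.1 * n⁻¹) * (n * t'.1 * n⁻¹)⁻¹ := by group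
        rw [this, h1, h1']; group
      have h2 : n * (t.1 * t'.1⁻¹) * n⁻¹ ∈ D.borelSubgroup K ⊓ D.negUnipotent K := by
        refine Subgroup.mem_inf.mpr ⟨?_, hXV _ (Subgroup.mul_mem _ t.2.1 (Subgroup.inv_mem _ t'.2.1))⟩
        rw [e]
        exact Subgroup.mul_mem _ (Subgroup.mem_inf.mp hb₁).1 (Subgroup.inv_mem _ (Subgroup.mem_inf.mp hb₁').1)
      rw [hBV, Subgroup.mem_bot] at h2
      have h3 : t.1 * t'.1⁻¹ = 1 := by
        have : t.1 * t'.1⁻¹ = n⁻¹ * (n * (t.1 * t'.1⁻¹) * n⁻¹) * n := by group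
        rw [this, h2]; group
      exact Subtype.ext (mul_inv_eq_one.mp h3)
    have hsurj := Finite.surjective_of_injective hinj
    obtain ⟨t, ht⟩ := hsurj ⟨x, hxX, hx1⟩
    obtain ⟨b₁, hb₁, h1⟩ := hf t
    rw [ht] at h1
    refine ⟨t.1, by rw [← hX]; exact t.2.1, ?_⟩
    rw [← hn]
    have e : y = (b₃ * b₁⁻¹) * (n * t.1 * n⁻¹) := by
      rw [hy, h1]; group
    have h2 : b₃ * b₁⁻¹ ∈ D.borelSubgroup K ⊓ D.negUnipotent K := by
      refine Subgroup.mem_inf.mpr ⟨Subgroup.mul_mem _ (Subgroup.mem_inf.mp hb₃B).1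
        (Subgroup.inv_mem _ (Subgroup.mem_inf.mp hb₁).1), ?_⟩
      have : b₃ * b₁⁻¹ = y * (n * t.1 * n⁻¹)⁻¹ := by rw [e]; group
      rw [this]
      exact Subgroup.mul_mem _ hy' (Subgroup.inv_mem _ (hXV _ t.2.1))
    rw [hBV, Subgroup.mem_bot] at h2
    rw [e, h2, one_mul]

end

end Cfsg.Agent.Lib.Lead.TwStein
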