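import Cfsg.Agent.Lib.Lead.TwSteinC
import Cfsg.Agent.Lib.Lead.SteinE
import Cfsg.Agent.Lib.Helper7.ChevTwistCore

/-! Twisted groups `G¹`: an automorphism stabilising `U` and `V` stabilises `B`, `V H` and `H`, and
permutes the groups `n_J X_J n_J⁻¹` (lead). -/

set_option autoImplicit false

namespace Cfsg.Agent.Lib.Lead.TwStein

open Cfsg Cfsg.Lie Matrix Cfsg.Agent.Lib.Helper7 Cfsg.Agent.Lib.Helper3.BN
open Cfsg.Agent.Lib.Lead.Stein

section
variable (D : ChevalleyDatum) (hD : D ∈ [chevG2, chevB2, chevD4, chevF4, chevE6, chevE7, chevE8])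
variable (pv pv' ρ ρ' : ℕ → ℕ) (ε : ℕ → ℤ) (hG : GraphFacts D pv pv' ρ ρ' ε)
variable (K : Type*) [Field K] [Finite K] (φ : K ≃+* K)
variable (A : ℕ → ℤ) (hA : ChainAdd D A) (hO : PosFacts D A) (cls : List (List ℕ))
variable (hT : TwistFacts D ρ ρ' A cls)
variable (G1 : Subgroup (GL D.Idx K)) (simpIdx simpCls : List (List ℕ))
variable (hF : TwistGroupFacts D hD pv pv' ρ ρ' ε hG K φ cls G1 simpIdx simpCls)
variable (m : ℕ) (hsh : ∀ S ∈ cls, ClassShape ρ' ε m S)
variable (hB : TwistBNFacts D simpIdx simpCls)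
  (hinv : ∀ J ∈ simpIdx, ∀ s < D.nroots, reflWord D J (reflWord D J s) = s)
  (hgen : G1 ≤ Subgroup.closure (((D.borelSubgroup K ⊓ G1 : Subgroup (GL D.Idx K)) : Set (GL D.Idx K)) ∪
      Set.range (clsRep D hD K simpIdx)))
  (hne : ∀ J : Fin simpIdx.length, ∃ x ∈ clsX D pv pv' ρ ρ' ε hG K φ simpIdx J, x ≠ 1)
  (hinj : ∀ J J' : Fin simpIdx.length,
    (∀ s < D.nroots, reflWord D (simpIdx.get J) s = reflWord D (simpIdx.get J') s) → J = J')
variable (cert : List (List ℕ × ℕ)) (hcert : certOKB D simpIdx simpCls cls cert = true)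
variable (Js : List (List ℕ)) (hJs : ∀ J ∈ Js, J ∈ simpIdx) (hL : LongFacts D Js.flatten)
variable (hle : G1 ≤ D.group K)

/-- the longest element, as an element of `G¹` -/
noncomputable def nLong1 : GL D.Idx K := nWordGL D hD K Js.flatten

include hF hJs in
omit [Finite K] in
theorem nLong1_mem : nLong1 D hD K Js ∈ G1 :=
  nWordGL_flatten_mem D hD K G1 Js (fun J hJ => hF.n_mem J (hJs J hJ))

include hL in
omit [Finite K] in
theorem nLong1_mem_monomial : nLong1 D hD K Js ∈ D.monomialSubgroup K :=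
  nWordGL_mem_monomial D hD K _ hL.lt

include hL in
omit [Finite K] in
theorem nLong1_conj_pos :
    (D.posUnipotent K).map (MulAut.conj (nLong1 D hD K Js)).toMonoidHom = D.negUnipotent K :=
  conj_posUnipotent_eq D hD K _ hL

include hL in
omit [Finite K] in
theorem nLong1_conj_neg :
    (D.negUnipotent K).map (MulAut.conj (nLong1 D hD K Js)).toMonoidHom = D.posUnipotent K :=
  conj_negUnipotent_eq D hD K _ hL

include hL in
omit [Finite K] in
theorem nLong1_conj_borel :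
    (D.borelSubgroup K).map (MulAut.conj (nLong1 D hD K Js)).toMonoidHom = negBorel D K :=
  conj_borel_eq D hD K _ hL

include hD hA hO hT hF hsh hB hinv hgen hcert hJs hL hle in
omit [Finite K] in
/-- an automorphism stabilising `U` stabilises `B` -/
theorem stb_borel (θ : ↥G1 ≃* ↥G1) (hU : Stb θ (D.posUnipotent K)) : Stb θ (D.borelSubgroup K) := by
  have h1 := (stb_inf_self hU).normalizer (inf_le_right)
  rw [normalizer_posUnipotent_twisted D hD pv pv' ρ ρ' ε hG K φ A hA hO cls hT G1 simpIdx simpCls hF m hsh hB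
    hinv hgen cert hcert (nLong1 D hD K Js)
    (Subgroup.mem_inf.mpr ⟨nLong1_mem_monomial D hD K Js hL,
      nLong1_mem D hD pv pv' ρ ρ' ε hG K φ cls G1 simpIdx simpCls hF Js hJs⟩)
    (nLong1_conj_pos D hD K Js hL) hle] at h1
  exact stb_of_inf_self h1

include hD hA hO hT hF hsh hB hinv hgen hcert hJs hL hle in
omit [Finite K] in
/-- an automorphism stabilising `U` and `V` stabilises `V H` -/
theorem stb_negBorel (θ : ↥G1 ≃* ↥G1) (hU : Stb θ (D.posUnipotent K))
    (hV : Stb θ (D.negUnipotent K)) : Stb θ (negBorel D K) := by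
  have hn₀ := nLong1_mem D hD pv pv' ρ ρ' ε hG K φ cls G1 simpIdx simpCls hF Js hJs
  set n₀ : ↥G1 := ⟨nLong1 D hD K Js, hn₀⟩ with hn₀d
  set c : ↥G1 ≃* ↥G1 := MulAut.conj n₀ with hc
  have hcU : Mps c (D.posUnipotent K) (D.negUnipotent K) := by
    have := mps_conj n₀ (D.posUnipotent K)
    rwa [show ((n₀ : ↥G1) : GL D.Idx K) = nLong1 D hD K Js from rfl, nLong1_conj_pos D hD K Js hL] at this
  have hcB : Mps c (D.borelSubgroup K) (negBorel D K) := by
    have := mps_conj n₀ (D.borelSubgroup K)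
    rwa [show ((n₀ : ↥G1) : GL D.Idx K) = nLong1 D hD K Js from rfl, nLong1_conj_borel D hD K Js hL] at this
  set ψ : ↥G1 ≃* ↥G1 := c.trans (θ.trans c.symm) with hψ
  have hψU : Stb ψ (D.posUnipotent K) := (hcU.trans (hV.toMps.trans hcU.symm)).toStb
  have hψB := stb_borel D hD pv pv' ρ ρ' ε hG K φ A hA hO cls hT G1 simpIdx simpCls hF m hsh hB hinv hgen cert
    hcert Js hJs hL hle ψ hψU
  have hθ : θ = c.symm.trans (ψ.trans c) := by
    ext g
    simp [hψ]
  rw [hθ]
  exact (hcB.symm.trans (hψB.toMps.trans hcB)).toStb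

include hD hA hO hT hF hsh hB hinv hgen hcert hJs hL hle in
omit [Finite K] in
/-- an automorphism stabilising `U` and `V` stabilises `H` -/
theorem stb_diagonal (θ : ↥G1 ≃* ↥G1) (hU : Stb θ (D.posUnipotent K))
    (hV : Stb θ (D.negUnipotent K)) : Stb θ (D.diagonalSubgroup K) := by
  have := (stb_borel D hD pv pv' ρ ρ' ε hG K φ A hA hO cls hT G1 simpIdx simpCls hF m hsh hB hinv hgen cert
    hcert Js hJs hL hle θ hU).inf (stb_negBorel D hD pv pv' ρ ρ' ε hG K φ A hA hO cls hT G1 simpIdx simpCls hF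
    m hsh hB hinv hgen cert hcert Js hJs hL hle θ hU hV)
  rwa [Stein.borel_inf_negBorel D hD K] at this

/-- the negative rank one group `Y_J = n_J X_J n_J⁻¹` -/
noncomputable def clsY (J : Fin simpIdx.length) : Subgroup (GL D.Idx K) :=
  (clsX D pv pv' ρ ρ' ε hG K φ simpIdx J).map (MulAut.conj (clsRep D hD K simpIdx J)).toMonoidHom

include hF in
omit [Finite K] in
theorem clsRep_mem (J : Fin simpIdx.length) : clsRep D hD K simpIdx J ∈ G1 :=
  hF.n_mem _ (List.get_mem simpIdx J)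

/-- the distinguished generator `s_J` of the twisted `(B,N)`-pair -/
noncomputable def clsS (J : Fin simpIdx.length) : ↥G1 :=
  ⟨clsRep D hD K simpIdx J, clsRep_mem D hD pv pv' ρ ρ' ε hG K φ cls G1 simpIdx simpCls hF J⟩

include hD hA hO hT hF hsh hB hinv hgen hne hinj in
/-- membership in `Y_J`: the elements of `V` in the minimal parabolic subgroup `P_J` -/
theorem mem_clsY_iff (J : Fin simpIdx.length) (g : ↥G1) :
    (g : GL D.Idx K) ∈ clsY D hD pv pv' ρ ρ' ε hG K φ simpIdx J ↔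
      (g : GL D.Idx K) ∈ D.negUnipotent K ∧
        g ∈ (twistedBNPair D hD pv pv' ρ ρ' ε hG K φ A hA hO cls hT G1 simpIdx simpCls hF m hsh hB hinv hgen
          hne hinj).parabolic {clsS D hD pv pv' ρ ρ' ε hG K φ cls G1 simpIdx simpCls hF J} := by
  obtain ⟨P, hP⟩ : ∃ P, P = twistedBNPair D hD pv pv' ρ ρ' ε hG K φ A hA hO cls hT G1 simpIdx simpCls hF m
    hsh hB hinv hgen hne hinj := ⟨_, rfl⟩
  rw [← hP]
  obtain ⟨s, hs⟩ : ∃ s, s = clsS D hD pv pv' ρ ρ' ε hG K φ cls G1 simpIdx simpCls hF J := ⟨_, rfl⟩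
  rw [← hs]
  have hsS : s ∈ P.S := by
    rw [hP, hs]; exact ⟨J, rfl⟩
  have hPB : ∀ x : ↥G1, x ∈ P.B ↔ (x : GL D.Idx K) ∈ D.borelSubgroup K ⊓ G1 := by
    intro x; rw [hP]; exact Subgroup.mem_subgroupOf
  have hJ := List.get_mem simpIdx J
  have hC := hB.facts _ hJ
  have hJS : (simpIdx.get J).map D.simple ∈ simpCls := by
    rw [hB.cls_eq]; exact List.mem_map_of_mem hJ
  constructor
  · rintro ⟨x, hx, he⟩
    simp only [MulEquiv.coe_toMonoidHom, MulAut.conj_apply] at he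
    have hxc : x ∈ Subgroup.closure (gensL D K ((simpIdx.get J).map D.simple)) :=
      (Subgroup.mem_inf.mp hx).1
    have hxG : x ∈ G1 :=
      class_fixed_le D hD pv pv' ρ ρ' ε hG K φ A hA hO cls hT G1 simpIdx simpCls hF _ hJS x hx
    refine ⟨?_, ?_⟩
    · rw [← he]
      exact conj_simple_class_mem_neg D hD K _ hC x hxc
    · have hxB : x ∈ D.borelSubgroup K := by
        have hle : Subgroup.closure (gensL D K ((simpIdx.get J).map D.simple)) ≤ D.posUnipotent K := by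
          rw [Subgroup.closure_le]
          rintro g ⟨r, hr, t, hg⟩
          apply Subgroup.subset_closure
          exact ⟨r, t, simple_class_pos D hD _ hC r hr, hg⟩
        exact posUnipotent_le_borel D hD K (hle hxc)
      have hgs : g = s * ⟨x, hxG⟩ * s⁻¹ := by
        apply Subtype.ext
        rw [hs]
        exact he.symm
      rw [hgs]
      have h1 : s ∈ P.parabolic {s} :=
        (le_sup_right : Subgroup.closure _ ≤ _) (Subgroup.subset_closure rfl)
      have h2 : (⟨x, hxG⟩ : ↥G1) ∈ P.parabolic {s} :=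
        (le_sup_left : P.B ≤ _) ((hPB _).mpr (Subgroup.mem_inf.mpr ⟨hxB, hxG⟩))
      exact Subgroup.mul_mem _ (Subgroup.mul_mem _ h1 h2) (Subgroup.inv_mem _ h1)
  · rintro ⟨hgV, hgP⟩
    rcases mem_parabolic_singleton P hsS g hgP with hgB | ⟨b, hb, b', hb', he⟩
    · have h1 : (g : GL D.Idx K) ∈ D.borelSubgroup K ⊓ D.negUnipotent K :=
        Subgroup.mem_inf.mpr ⟨(Subgroup.mem_inf.mp ((hPB g).mp hgB)).1, hgV⟩
      rw [borel_inf_negUnipotent D hD K, Subgroup.mem_bot] at h1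
      rw [h1]; exact Subgroup.one_mem _
    · obtain ⟨x, hx, hxe⟩ := neg_inf_cell D hD pv pv' ρ ρ' ε hG K φ A hA hO cls hT G1 simpIdx simpCls hF m hsh
        hB hinv J (g : GL D.Idx K) (b : GL D.Idx K) (b' : GL D.Idx K) hgV ((hPB b).mp hb) ((hPB b').mp hb')
        (by rw [he, hs]; rfl)
      exact ⟨x, hx, hxe.symm⟩

include hD hA hO hT hF hsh hB hinv hgen hne hinj hcert hJs hL hle in
/-- an automorphism stabilising `U` and `V` permutes the groups `Y_J` -/
theorem exists_clsY_map (θ : ↥G1 ≃* ↥G1) (hU : Stb θ (D.posUnipotent K))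
    (hV : Stb θ (D.negUnipotent K)) (J : Fin simpIdx.length) :
    ∃ J' : Fin simpIdx.length, Mps θ (clsY D hD pv pv' ρ ρ' ε hG K φ simpIdx J)
      (clsY D hD pv pv' ρ ρ' ε hG K φ simpIdx J') := by
  obtain ⟨P, hP⟩ : ∃ P, P = twistedBNPair D hD pv pv' ρ ρ' ε hG K φ A hA hO cls hT G1 simpIdx simpCls hF m
    hsh hB hinv hgen hne hinj := ⟨_, rfl⟩
  have hBst := stb_borel D hD pv pv' ρ ρ' ε hG K φ A hA hO cls hT G1 simpIdx simpCls hF m hsh hB hinv hgen cert
    hcert Js hJs hL hle θ hU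
  have hB' : P.B.map θ.toMonoidHom = P.B := by
    rw [hP]
    exact map_eq_of_stb θ _ (stb_inf_self hBst)
  have hsS : clsS D hD pv pv' ρ ρ' ε hG K φ cls G1 simpIdx simpCls hF J ∈ P.S := by
    rw [hP]; exact ⟨J, rfl⟩
  obtain ⟨s', hs', hmap⟩ := exists_parabolic_map P θ hB' hsS
  rw [hP] at hs'
  obtain ⟨J', hJ'⟩ := hs'
  have hs'e : s' = clsS D hD pv pv' ρ ρ' ε hG K φ cls G1 simpIdx simpCls hF J' := Subtype.ext hJ'
  refine ⟨J', ?_⟩
  intro g
  rw [mem_clsY_iff D hD pv pv' ρ ρ' ε hG K φ A hA hO cls hT G1 simpIdx simpCls hF m hsh hB hinv hgen hne hinj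
    J' (θ g), mem_clsY_iff D hD pv pv' ρ ρ' ε hG K φ A hA hO cls hT G1 simpIdx simpCls hF m hsh hB hinv hgen
    hne hinj J g, hV g, ← hP, ← hs'e, ← hmap]
  constructor
  · rintro ⟨h1, g', hg', he⟩
    have : g' = g := θ.injective he
    rw [this] at hg'; exact ⟨h1, hg'⟩
  · rintro ⟨h1, h2⟩
    exact ⟨h1, g, h2, rfl⟩

end

end Cfsg.Agent.Lib.Lead.TwStein
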