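import Mathlib

/-! A pair of additive maps `f`, `g` of a finite field with `f(s) g(-s⁻¹) = -1` is a field automorphism up to
a scalar (Hua's identity) (lead). -/

set_option autoImplicit false

namespace Cfsg.Agent.Lib.Lead.TwStein

section
variable {F : Type*} [Field F]

/-- Hua's identity -/
theorem hua_identity (a b : F) (ha : a ≠ 0) (hb : b ≠ 0) (hab : a * b ≠ 1) :
    a - (a⁻¹ + (b⁻¹ - a)⁻¹)⁻¹ = a * b * a := by
  have h1 : 1 - a * b ≠ 0 := fun h => hab (by linear_combination -h)
  have h2 : b⁻¹ - a ≠ 0 := by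
    intro h
    apply h1
    have : b⁻¹ = a := by linear_combination h
    rw [← this]; field_simp; ring
  have h3 : (b⁻¹ - a)⁻¹ = b / (1 - a * b) := by
    rw [inv_eq_iff_eq_inv]
    field_simp
  have h4 : a⁻¹ + b / (1 - a * b) = (a * (1 - a * b))⁻¹ := by
    field_simp
    ring
  rw [h3, h4, inv_inv]
  ring

/-- the normalised version: `f 1 = 1` -/
theorem hua_pair_normalised [Finite F] (f g : F → F)
    (hf : ∀ a b, f (a + b) = f a + f b) (hg : ∀ a b, g (a + b) = g a + g b)
    (h : ∀ s : F, s ≠ 0 → f s * g (-s⁻¹) = -1) (h1 : f 1 = 1) :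
    ∃ α : F ≃+* F, (∀ t, f t = α t) ∧ (∀ t, g t = α t) := by
  have f0 : f 0 = 0 := by have := hf 0 0; rw [add_zero] at this; exact left_eq_add.mp this
  have g0 : g 0 = 0 := by have := hg 0 0; rw [add_zero] at this; exact left_eq_add.mp this
  have fneg : ∀ a, f (-a) = -f a := by
    intro a
    have := hf a (-a)
    rw [add_neg_cancel, f0] at this
    exact (neg_eq_of_add_eq_zero_right this.symm).symm
  have gneg : ∀ a, g (-a) = -g a := by
    intro a
    have := hg a (-a)
    rw [add_neg_cancel, g0] at this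
    exact (neg_eq_of_add_eq_zero_right this.symm).symm
  have fsub : ∀ a b, f (a - b) = f a - f b := by
    intro a b; rw [sub_eq_add_neg, hf, fneg, ← sub_eq_add_neg]
  -- `f(s) g(s⁻¹) = 1`
  have hfg : ∀ s : F, s ≠ 0 → f s * g s⁻¹ = 1 := by
    intro s hs
    have := h s hs
    rw [gneg, mul_neg] at this
    exact neg_injective this
  have fne : ∀ s : F, s ≠ 0 → f s ≠ 0 := by
    intro s hs h0
    have := hfg s hs
    rw [h0, zero_mul] at this
    exact zero_ne_one this
  have gne : ∀ s : F, s ≠ 0 → g s ≠ 0 := by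
    intro s hs h0
    have := hfg s⁻¹ (inv_ne_zero hs)
    rw [inv_inv, h0, mul_zero] at this
    exact zero_ne_one this
  have finj : Function.Injective f := by
    intro a b hab
    by_contra hne
    exact fne (a - b) (sub_ne_zero.mpr hne) (by rw [fsub, hab, sub_self])
  have ginj : Function.Injective g := by
    intro a b hab
    by_contra hne
    apply gne (a - b) (sub_ne_zero.mpr hne)
    rw [sub_eq_add_neg, hg, gneg, hab, add_neg_cancel]
  -- `g(s⁻¹) = f(s)⁻¹` and `f(s⁻¹) = g(s)⁻¹`
  have gi : ∀ s : F, s ≠ 0 → g s⁻¹ = (f s)⁻¹ := by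
    intro s hs
    exact eq_inv_of_mul_eq_one_right (hfg s hs)
  have fi : ∀ s : F, s ≠ 0 → f s⁻¹ = (g s)⁻¹ := by
    intro s hs
    have := hfg s⁻¹ (inv_ne_zero hs)
    rw [inv_inv] at this
    exact eq_inv_of_mul_eq_one_left this
  have g1 : g 1 = 1 := by
    have := gi 1 one_ne_zero
    rwa [inv_one, h1, inv_one] at this
  -- the main identity
  have key : ∀ a b : F, a ≠ 0 → b ≠ 0 → a * b ≠ 1 → f (a * b * a) = f a * g b * f a := by
    intro a b ha hb hab
    have hA := fne a ha
    have hB := gne b hb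
    have hAB : f a * g b ≠ 1 := by
      intro h'
      have e1 : g b = (f a)⁻¹ := eq_inv_of_mul_eq_one_right h'
      rw [← gi a ha] at e1
      have := ginj e1
      apply hab
      rw [this, mul_inv_cancel₀ ha]
    have h1' : 1 - a * b ≠ 0 := fun h' => hab (by linear_combination -h')
    have h2 : b⁻¹ - a ≠ 0 := by
      intro h'
      apply h1'
      have : b⁻¹ = a := by linear_combination h'
      rw [← this]; field_simp; ring
    have h3 : a⁻¹ + (b⁻¹ - a)⁻¹ ≠ 0 := by
      have e : a⁻¹ + (b⁻¹ - a)⁻¹ = (a * (1 - a * b))⁻¹ := by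
        have : (b⁻¹ - a)⁻¹ = b / (1 - a * b) := by
          rw [inv_eq_iff_eq_inv]
          field_simp
        rw [this]
        field_simp
        ring
      rw [e]
      exact inv_ne_zero (mul_ne_zero ha h1')
    rw [← hua_identity a b ha hb hab, fsub, fi _ h3, hg, gi a ha, gi _ h2, fsub, fi b hb,
      hua_identity (f a) (g b) hA hB hAB]
  have fsq : ∀ a : F, f (a * a) = f a * f a := by
    intro a
    by_cases ha : a = 0
    · rw [ha, mul_zero, f0, mul_zero]
    by_cases ha1 : a = 1
    · rw [ha1, mul_one, h1, mul_one]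
    have := key a 1 ha one_ne_zero (by rwa [mul_one])
    rwa [mul_one, g1, mul_one] at this
  have fg : ∀ b : F, f b = g b := by
    intro b
    by_cases hb : b = 0
    · rw [hb, f0, g0]
    by_cases hb1 : b = 1
    · rw [hb1, h1, g1]
    have := key 1 b one_ne_zero hb (by rwa [one_mul])
    rwa [one_mul, mul_one, h1, one_mul, mul_one] at this
  have key2 : ∀ a b : F, f (a * a * b) = f (a * a) * f b := by
    intro a b
    by_cases ha : a = 0
    · rw [ha, mul_zero, zero_mul, f0, zero_mul]
    by_cases hb : b = 0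
    · rw [hb, mul_zero, f0, mul_zero]
    by_cases hab : a * b = 1
    · have e : a * a * b = a := by rw [mul_assoc, hab, mul_one]
      have hb' : b = a⁻¹ := eq_inv_of_mul_eq_one_right hab
      rw [e, fsq, hb', fi a ha, ← fg a, mul_assoc, mul_inv_cancel₀ (fne a ha), mul_one]
    · have := key a b ha hb hab
      rw [show a * b * a = a * a * b by ring] at this
      rw [this, fsq, ← fg b]; ring
  have fmul : ∀ a b : F, f (a * b) = f a * f b := by
    intro a b
    by_cases h2 : (2 : F) = 0
    · -- characteristic two: every element is a square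
      have hch : CharP F 2 := by
        refine (CharP.charP_iff_prime_eq_zero Nat.prime_two).mpr ?_
        exact_mod_cast h2
      obtain ⟨c, hc⟩ : ∃ c : F, c * c = a := by
        have hF2 : Fact (Nat.Prime 2) := ⟨Nat.prime_two⟩
        have hE : ExpChar F 2 := ExpChar.prime Nat.prime_two
        have hP : PerfectRing F 2 := PerfectRing.ofFiniteOfIsReduced 2 F
        obtain ⟨c, hc⟩ := (bijective_frobenius F 2).2 a
        exact ⟨c, by rw [← hc, frobenius_def, pow_two]⟩
      rw [← hc, key2]
    · have e1 := key2 (a + 1) b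
      have e2 := key2 a b
      have e3 : (a + 1) * (a + 1) * b = a * a * b + (a * b + a * b) + b := by ring
      have e4 : (a + 1) * (a + 1) = a * a + (a + a) + 1 := by ring
      rw [e3, e4, hf, hf, hf, hf, hf, hf, h1, e2] at e1
      have e5 : (2 : F) * f (a * b) = 2 * (f a * f b) := by linear_combination e1
      exact mul_left_cancel₀ h2 e5
  have fbij : Function.Bijective f := Finite.injective_iff_bijective.mp finj
  refine ⟨RingEquiv.ofBijective
    ({ toFun := f, map_one' := h1, map_mul' := fmul, map_zero' := f0, map_add' := hf } : F →+* F) fbij,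
    fun t => rfl, fun t => (fg t).symm⟩

/-- a pair of additive maps `f`, `g` of a finite field with `f(s) g(-s⁻¹) = -1` for all `s ≠ 0` is a field
automorphism up to a scalar -/
theorem hua_pair [Finite F] (f g : F → F)
    (hf : ∀ a b, f (a + b) = f a + f b) (hg : ∀ a b, g (a + b) = g a + g b)
    (h : ∀ s : F, s ≠ 0 → f s * g (-s⁻¹) = -1) :
    ∃ (c : F) (α : F ≃+* F), c ≠ 0 ∧ (∀ t, f t = c * α t) ∧ (∀ t, g t = c⁻¹ * α t) := by
  have hc : f 1 ≠ 0 := by
    intro h0
    have := h 1 one_ne_zero
    rw [h0, zero_mul] at this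
    exact zero_ne_one (neg_eq_zero.mp this.symm).symm
  obtain ⟨α, h1, h2⟩ := hua_pair_normalised (fun t => (f 1)⁻¹ * f t) (fun t => f 1 * g t)
    (fun a b => by simp only [hf]; ring) (fun a b => by simp only [hg]; ring)
    (fun s hs => by
      have := h s hs
      calc (f 1)⁻¹ * f s * (f 1 * g (-s⁻¹)) = ((f 1)⁻¹ * f 1) * (f s * g (-s⁻¹)) := by ring
        _ = -1 := by rw [inv_mul_cancel₀ hc, one_mul, this])
    (inv_mul_cancel₀ hc)
  refine ⟨f 1, α, hc, fun t => ?_, fun t => ?_⟩
  · rw [← h1 t, ← mul_assoc, mul_inv_cancel₀ hc, one_mul]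
  · rw [← h2 t, ← mul_assoc, inv_mul_cancel₀ hc, one_mul]

end

end Cfsg.Agent.Lib.Lead.TwStein
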