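import Cfsg.Agent.Lib.Lead.TwSteinS
import Cfsg.Agent.Lib.Lead.TwSteinF
import Cfsg.Agent.Lib.Helper11.SL2Hom

/-! Rank one analysis: an automorphism of `G ≤ Γ` stabilising `V`, `B` and the images `X`, `Y` of the
unitriangular subgroups under a homomorphism `ψ : SL₂(F) → Γ` acts on them through a field automorphism
and a scalar (lead). -/

set_option autoImplicit false

namespace Cfsg.Agent.Lib.Lead.TwStein

open Matrix Cfsg.Agent.Lib.Helper11.SL2Hom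

section
variable {F : Type*} [Field F]

theorem hS_mul_wS (s : F) (hs : s ≠ 0) :
    hS s hs * (wS : SpecialLinearGroup (Fin 2) F) = xS s * yS (-s⁻¹) * xS s := by
  apply Matrix.SpecialLinearGroup.ext
  intro i j
  show ((hS s hs * wS : SpecialLinearGroup (Fin 2) F) : Matrix (Fin 2) (Fin 2) F) i j =
    ((xS s * yS (-s⁻¹) * xS s : SpecialLinearGroup (Fin 2) F) : Matrix (Fin 2) (Fin 2) F) i j
  fin_cases i <;> fin_cases j <;>
    simp [coe_xS, coe_yS, coe_wS, coe_hS, Matrix.mul_apply, Fin.sum_univ_two, hs]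

theorem wS_eq : (wS : SpecialLinearGroup (Fin 2) F) = xS 1 * yS (-1) * xS 1 := by
  apply Matrix.SpecialLinearGroup.ext
  intro i j
  show ((wS : SpecialLinearGroup (Fin 2) F) : Matrix (Fin 2) (Fin 2) F) i j =
    ((xS 1 * yS (-1) * xS 1 : SpecialLinearGroup (Fin 2) F) : Matrix (Fin 2) (Fin 2) F) i j
  fin_cases i <;> fin_cases j <;>
    simp [coe_xS, coe_yS, coe_wS, Matrix.mul_apply, Fin.sum_univ_two]

theorem xS_mul_yS (a b : F) (h : 1 + a * b ≠ 0) :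
    xS a * yS b = yS (b / (1 + a * b)) * hS (1 + a * b) h * xS (a / (1 + a * b)) := by
  apply Matrix.SpecialLinearGroup.ext
  intro i j
  show ((xS a * yS b : SpecialLinearGroup (Fin 2) F) : Matrix (Fin 2) (Fin 2) F) i j =
    ((yS (b / (1 + a * b)) * hS (1 + a * b) h * xS (a / (1 + a * b)) :
      SpecialLinearGroup (Fin 2) F) : Matrix (Fin 2) (Fin 2) F) i j
  have h' : 1 + b * a ≠ 0 := by rwa [mul_comm]
  fin_cases i <;> fin_cases j <;>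
    simp [coe_xS, coe_yS, coe_hS, Matrix.mul_apply, Fin.sum_univ_two] <;> field_simp <;> ring

theorem xS_add (a b : F) : (xS (a + b) : SpecialLinearGroup (Fin 2) F) = xS a * xS b := by
  apply Matrix.SpecialLinearGroup.ext
  intro i j
  show ((xS (a + b) : SpecialLinearGroup (Fin 2) F) : Matrix (Fin 2) (Fin 2) F) i j =
    ((xS a * xS b : SpecialLinearGroup (Fin 2) F) : Matrix (Fin 2) (Fin 2) F) i j
  fin_cases i <;> fin_cases j <;>
    simp [coe_xS, Matrix.mul_apply, Fin.sum_univ_two, add_comm]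

theorem yS_add (a b : F) : (yS (a + b) : SpecialLinearGroup (Fin 2) F) = yS a * yS b := by
  apply Matrix.SpecialLinearGroup.ext
  intro i j
  show ((yS (a + b) : SpecialLinearGroup (Fin 2) F) : Matrix (Fin 2) (Fin 2) F) i j =
    ((yS a * yS b : SpecialLinearGroup (Fin 2) F) : Matrix (Fin 2) (Fin 2) F) i j
  fin_cases i <;> fin_cases j <;>
    simp [coe_yS, Matrix.mul_apply, Fin.sum_univ_two, add_comm]

theorem xS_neg_mul (a : F) : (xS (-a) : SpecialLinearGroup (Fin 2) F) * xS a = 1 := by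
  rw [← xS_add, neg_add_cancel]
  apply Matrix.SpecialLinearGroup.ext
  intro i j
  fin_cases i <;> fin_cases j <;> simp [coe_xS]

theorem hS_mul (s s' : F) (hs : s ≠ 0) (hs' : s' ≠ 0) :
    hS (s * s') (mul_ne_zero hs hs') = hS s hs * hS s' hs' := by
  apply Matrix.SpecialLinearGroup.ext
  intro i j
  show ((hS (s * s') (mul_ne_zero hs hs') : SpecialLinearGroup (Fin 2) F) : Matrix (Fin 2) (Fin 2) F) i j =
    ((hS s hs * hS s' hs' : SpecialLinearGroup (Fin 2) F) : Matrix (Fin 2) (Fin 2) F) i j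
  fin_cases i <;> fin_cases j <;>
    simp [coe_hS, Matrix.mul_apply, Fin.sum_univ_two, mul_comm]

end

section
variable {Γ : Type*} [Group Γ] {G : Subgroup Γ} {F : Type*} [Field F]

/-- the hypotheses on a rank one homomorphism `ψ : SL₂(F) → Γ` -/
structure RankOneHom (G V B X Y : Subgroup Γ) (ψ : SpecialLinearGroup (Fin 2) F →* Γ) : Prop where
  mem : ∀ g, ψ g ∈ G
  memX : ∀ x, x ∈ X ↔ ∃ t, x = ψ (xS t)
  memY : ∀ y, y ∈ Y ↔ ∃ t, y = ψ (yS t)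
  injX : ∀ t t', ψ (xS t) = ψ (xS t') → t = t'
  injY : ∀ t t', ψ (yS t) = ψ (yS t') → t = t'
  leXB : X ≤ B
  leYV : Y ≤ V
  hB : ∀ s hs, ψ (hS s hs) ∈ B
  hV : ∀ s hs, ∀ v ∈ V, (ψ (hS s hs))⁻¹ * v * ψ (hS s hs) ∈ V
  w : ∀ v ∈ V, ∀ b ∈ B, ψ wS ≠ v * b

variable {V B X Y : Subgroup Γ} {ψ : SpecialLinearGroup (Fin 2) F →* Γ}

/-- the parameter functions of an automorphism on `X` and `Y` -/
theorem RankOneHom.exists_param (R : RankOneHom G V B X Y ψ) (θ : ↥G ≃* ↥G)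
    (hθX : Mps θ X X) (hθY : Mps θ Y Y) :
    ∃ f g : F → F, (∀ t, ((θ ⟨ψ (xS t), R.mem _⟩ : ↥G) : Γ) = ψ (xS (f t))) ∧
      (∀ t, ((θ ⟨ψ (yS t), R.mem _⟩ : ↥G) : Γ) = ψ (yS (g t))) := by
  have h1 : ∀ t, ∃ t', ((θ ⟨ψ (xS t), R.mem _⟩ : ↥G) : Γ) = ψ (xS t') := by
    intro t
    exact (R.memX _).mp ((hθX ⟨ψ (xS t), R.mem _⟩).mpr ((R.memX _).mpr ⟨t, rfl⟩))
  have h2 : ∀ t, ∃ t', ((θ ⟨ψ (yS t), R.mem _⟩ : ↥G) : Γ) = ψ (yS t') := by
    intro t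
    exact (R.memY _).mp ((hθY ⟨ψ (yS t), R.mem _⟩).mpr ((R.memY _).mpr ⟨t, rfl⟩))
  choose f hf using h1
  choose g hg using h2
  exact ⟨f, g, hf, hg⟩

/-- the image under `θ` of `ψ` of a product -/
theorem RankOneHom.map_mul' (R : RankOneHom G V B X Y ψ) (θ : ↥G ≃* ↥G)
    (a b : SpecialLinearGroup (Fin 2) F) :
    ((θ ⟨ψ (a * b), R.mem _⟩ : ↥G) : Γ) =
      ((θ ⟨ψ a, R.mem _⟩ : ↥G) : Γ) * ((θ ⟨ψ b, R.mem _⟩ : ↥G) : Γ) := by
  have : (⟨ψ (a * b), R.mem _⟩ : ↥G) = ⟨ψ a, R.mem _⟩ * ⟨ψ b, R.mem _⟩ := by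
    apply Subtype.ext
    simp
  rw [this, map_mul]
  rfl

/-- the relation between the parameter functions on `X` and `Y` -/
theorem RankOneHom.rel (R : RankOneHom G V B X Y ψ) (θ : ↥G ≃* ↥G) (hθV : Stb θ V) (hθB : Stb θ B)
    (f g : F → F) (hf : ∀ t, ((θ ⟨ψ (xS t), R.mem _⟩ : ↥G) : Γ) = ψ (xS (f t)))
    (hg : ∀ t, ((θ ⟨ψ (yS t), R.mem _⟩ : ↥G) : Γ) = ψ (yS (g t))) (s : F) (hs : s ≠ 0) :
    f s * g (-s⁻¹) = -1 := by
  by_contra hne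
  have hne' : 1 + f s * g (-s⁻¹) ≠ 0 := fun h => hne (by linear_combination h)
  -- the image of `x(s) y(-s⁻¹)` lies in `V B`
  have h1 : ((θ ⟨ψ (xS s * yS (-s⁻¹)), R.mem _⟩ : ↥G) : Γ) =
      ψ (yS (g (-s⁻¹) / (1 + f s * g (-s⁻¹)))) *
        (ψ (hS (1 + f s * g (-s⁻¹)) hne') * ψ (xS (f s / (1 + f s * g (-s⁻¹))))) := by
    rw [R.map_mul', hf, hg, ← map_mul, xS_mul_yS _ _ hne', map_mul, map_mul, mul_assoc]
  set v : ↥G := ⟨ψ (yS (g (-s⁻¹) / (1 + f s * g (-s⁻¹)))), R.mem _⟩ with hv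
  set b : ↥G := ⟨ψ (hS (1 + f s * g (-s⁻¹)) hne') * ψ (xS (f s / (1 + f s * g (-s⁻¹)))),
    G.mul_mem (R.mem _) (R.mem _)⟩ with hb
  have hvV : (v : Γ) ∈ V := R.leYV ((R.memY _).mpr ⟨_, rfl⟩)
  have hbB : (b : Γ) ∈ B := B.mul_mem (R.hB _ _) (R.leXB ((R.memX _).mpr ⟨_, rfl⟩))
  have h2 : θ ⟨ψ (xS s * yS (-s⁻¹)), R.mem _⟩ = v * b := Subtype.ext h1
  have h3 : (⟨ψ (xS s * yS (-s⁻¹)), R.mem _⟩ : ↥G) = θ.symm v * θ.symm b := by
    rw [← map_mul, ← h2, MulEquiv.symm_apply_apply]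
  have hv' : ((θ.symm v : ↥G) : Γ) ∈ V := (hθV.symm v).mpr hvV
  have hb' : ((θ.symm b : ↥G) : Γ) ∈ B := (hθB.symm b).mpr hbB
  have h4 : ψ (xS s * yS (-s⁻¹)) = ((θ.symm v : ↥G) : Γ) * ((θ.symm b : ↥G) : Γ) := by
    have := congrArg (fun x : ↥G => (x : Γ)) h3
    exact this
  -- but `x(s) y(-s⁻¹) = h(s) w x(-s)`
  have e : xS s * yS (-s⁻¹) = hS s hs * wS * xS (-s) := by
    rw [hS_mul_wS, mul_assoc (xS s * yS (-s⁻¹)), ← xS_add, add_neg_cancel]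
    have : (xS (0 : F) : SpecialLinearGroup (Fin 2) F) = 1 := by
      have := xS_neg_mul (0 : F)
      rw [neg_zero, ← xS_add, add_zero] at this
      exact this
    rw [this, mul_one]
  rw [e, map_mul, map_mul] at h4
  apply R.w ((ψ (hS s hs))⁻¹ * ((θ.symm v : ↥G) : Γ) * ψ (hS s hs)) (R.hV s hs _ hv')
    ((ψ (hS s hs))⁻¹ * ((θ.symm b : ↥G) : Γ) * ψ (xS s))
    (B.mul_mem (B.mul_mem (B.inv_mem (R.hB s hs)) hb') (R.leXB ((R.memX _).mpr ⟨_, rfl⟩)))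
  have e2 : ψ (xS (-s)) * ψ (xS s) = 1 := by rw [← map_mul, xS_neg_mul, map_one]
  calc ψ wS = ψ wS * (ψ (xS (-s)) * ψ (xS s)) := by rw [e2, mul_one]
    _ = (ψ (hS s hs))⁻¹ * (ψ (hS s hs) * ψ wS * ψ (xS (-s))) * ψ (xS s) := by group
    _ = _ := by rw [h4]; group

/-- an automorphism stabilising `V`, `B`, `X` and `Y` acts on `X` and `Y` through a scalar and a field
automorphism -/
theorem RankOneHom.exists_field [Finite F] (R : RankOneHom G V B X Y ψ) (θ : ↥G ≃* ↥G)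
    (hθV : Stb θ V) (hθB : Stb θ B) (hθX : Mps θ X X) (hθY : Mps θ Y Y) :
    ∃ (c : F) (α : F ≃+* F), c ≠ 0 ∧
      (∀ t, ((θ ⟨ψ (xS t), R.mem _⟩ : ↥G) : Γ) = ψ (xS (c * α t))) ∧
      (∀ t, ((θ ⟨ψ (yS t), R.mem _⟩ : ↥G) : Γ) = ψ (yS (c⁻¹ * α t))) := by
  obtain ⟨f, g, hf, hg⟩ := R.exists_param θ hθX hθY
  have hfadd : ∀ a b, f (a + b) = f a + f b := by
    intro a b
    apply R.injX
    rw [← hf, xS_add, R.map_mul', hf, hf, ← map_mul, ← xS_add]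
  have hgadd : ∀ a b, g (a + b) = g a + g b := by
    intro a b
    apply R.injY
    rw [← hg, yS_add, R.map_mul', hg, hg, ← map_mul, ← yS_add]
  obtain ⟨c, α, hc, h1, h2⟩ := hua_pair f g hfadd hgadd (R.rel θ hθV hθB f g hf hg)
  refine ⟨c, α, hc, fun t => ?_, fun t => ?_⟩
  · rw [hf, h1]
  · rw [hg, h2]

/-- the action on the diagonal elements -/
theorem RankOneHom.map_hS (R : RankOneHom G V B X Y ψ) (θ : ↥G ≃* ↥G) (c : F) (α : F ≃+* F) (hc : c ≠ 0)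
    (h1 : ∀ t, ((θ ⟨ψ (xS t), R.mem _⟩ : ↥G) : Γ) = ψ (xS (c * α t)))
    (h2 : ∀ t, ((θ ⟨ψ (yS t), R.mem _⟩ : ↥G) : Γ) = ψ (yS (c⁻¹ * α t))) (s : F) (hs : s ≠ 0) :
    ((θ ⟨ψ (hS s hs), R.mem _⟩ : ↥G) : Γ) = ψ (hS (α s) ((map_ne_zero α).mpr hs)) := by
  have hαs : α s ≠ 0 := (map_ne_zero α).mpr hs
  -- the image of `h(s) w`
  have key : ∀ (s : F) (hs : s ≠ 0), ((θ ⟨ψ (hS s hs * wS), R.mem _⟩ : ↥G) : Γ) =
      ψ (hS (c * α s) (mul_ne_zero hc ((map_ne_zero α).mpr hs)) * wS) := by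
    intro s hs
    rw [hS_mul_wS, R.map_mul', R.map_mul', h1, h2, ← map_mul, ← map_mul, hS_mul_wS]
    congr 3
    rw [map_neg, map_inv₀, _root_.mul_inv_rev, mul_neg, mul_comm]
  have e : hS s hs = (hS s hs * wS) * (hS 1 one_ne_zero * wS)⁻¹ := by
    have : hS (1 : F) one_ne_zero = 1 := by
      apply Matrix.SpecialLinearGroup.ext
      intro i j
      fin_cases i <;> fin_cases j <;> simp [coe_hS]
    rw [this]; group
  have h3 : (⟨ψ (hS s hs), R.mem _⟩ : ↥G) =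
      ⟨ψ (hS s hs * wS), R.mem _⟩ * (⟨ψ (hS 1 one_ne_zero * wS), R.mem _⟩ : ↥G)⁻¹ := by
    apply Subtype.ext
    show ψ (hS s hs) = ψ (hS s hs * wS) * (ψ (hS 1 one_ne_zero * wS))⁻¹
    rw [← map_inv, ← map_mul, ← e]
  rw [h3, map_mul, map_inv]
  show ((θ ⟨ψ (hS s hs * wS), R.mem _⟩ : ↥G) : Γ) *
    ((θ ⟨ψ (hS 1 one_ne_zero * wS), R.mem _⟩ : ↥G) : Γ)⁻¹ = _
  rw [key s hs, key 1 one_ne_zero, ← map_inv, ← map_mul]
  congr 1
  have e1 : hS (c * α s) (mul_ne_zero hc hαs) = hS (α s) hαs * hS c hc := by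
    rw [← hS_mul]
    congr 1
    exact mul_comm _ _
  have e2 : hS (c * α 1) (mul_ne_zero hc ((map_ne_zero α).mpr one_ne_zero)) = hS c hc := by
    congr 1
    rw [map_one, mul_one]
  rw [e1, e2]
  group

end

end Cfsg.Agent.Lib.Lead.TwStein
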