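import Cfsg.Agent.Lib.Lead.TwSteinG
import Cfsg.Agent.Lib.Helper11.ChevSL2
import Cfsg.Agent.Lib.Helper7.ChevTwistBN0

/-! The homomorphism `SL₂(F) → ⟨X_r, X_{-r} : r ∈ J⟩` of a class `J` of mutually orthogonal fundamental
roots, twisted by ring homomorphisms `σ_r : F → K` (lead). -/

set_option autoImplicit false

namespace Cfsg.Agent.Lib.Lead.TwStein

open Cfsg Cfsg.Lie Matrix Cfsg.Agent.Lib.Helper7 Cfsg.Agent.Lib.Helper11.SL2Hom
open Cfsg.Agent.Lib.Helper11.ChevSL2

section
variable {F K : Type*} [Field F] [Field K] (σ : F →+* K)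

theorem slMap_xS (t : F) : Matrix.SpecialLinearGroup.map σ (xS t) = xS (σ t) := by
  apply Matrix.SpecialLinearGroup.ext
  intro i j
  fin_cases i <;> fin_cases j <;> simp [coe_xS, Matrix.SpecialLinearGroup.map_apply_coe]

theorem slMap_yS (t : F) : Matrix.SpecialLinearGroup.map σ (yS t) = yS (σ t) := by
  apply Matrix.SpecialLinearGroup.ext
  intro i j
  fin_cases i <;> fin_cases j <;> simp [coe_yS, Matrix.SpecialLinearGroup.map_apply_coe]

theorem slMap_wS : Matrix.SpecialLinearGroup.map σ (wS : SpecialLinearGroup (Fin 2) F) = wS := by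
  apply Matrix.SpecialLinearGroup.ext
  intro i j
  fin_cases i <;> fin_cases j <;> simp [coe_wS, Matrix.SpecialLinearGroup.map_apply_coe]

theorem slMap_hS (s : F) (hs : s ≠ 0) :
    Matrix.SpecialLinearGroup.map σ (hS s hs) = hS (σ s) ((map_ne_zero σ).mpr hs) := by
  apply Matrix.SpecialLinearGroup.ext
  intro i j
  fin_cases i <;> fin_cases j <;> simp [coe_hS, Matrix.SpecialLinearGroup.map_apply_coe]

end

section
variable (D : ChevalleyDatum) (hD : D ∈ [chevG2, chevB2, chevD4, chevF4, chevE6, chevE7, chevE8])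
variable (K : Type*) [Field K]

/-- the rank one homomorphism `SL₂(K) → ⟨X_r, X_{-r}⟩` of the root `r` -/
noncomputable def rootHom (r : ℕ) : SpecialLinearGroup (Fin 2) K →* GL D.Idx K :=
  if hr : r < D.nroots then Classical.choose (exists_sl2_hom D hD K r hr) else 1

theorem rootHom_xS (r : ℕ) (hr : r < D.nroots) (t : K) : rootHom D hD K r (xS t) = xGL D hD K r t := by
  unfold rootHom
  rw [dif_pos hr]
  exact (Classical.choose_spec (exists_sl2_hom D hD K r hr)).2.1 t

theorem rootHom_yS (r : ℕ) (hr : r < D.nroots) (t : K) :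
    rootHom D hD K r (yS t) = xGL D hD K (D.neg r) t := by
  unfold rootHom
  rw [dif_pos hr]
  exact (Classical.choose_spec (exists_sl2_hom D hD K r hr)).2.2 t

theorem rootHom_wS (r : ℕ) (hr : r < D.nroots) :
    rootHom D hD K r wS = wordGL D hD K (D.nWord r 1) := by
  rw [wS_eq, map_mul, map_mul, rootHom_xS D hD K r hr, rootHom_yS D hD K r hr, nGL_eq, inv_one]

theorem rootHom_hS (r : ℕ) (hr : r < D.nroots) (c : K) (hc : c ≠ 0) :
    rootHom D hD K r (hS c hc) = wordGL D hD K (D.hWord r c) := by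
  have h := congrArg (rootHom D hD K r) (hS_mul_wS c hc)
  rw [map_mul, map_mul, map_mul, rootHom_xS D hD K r hr, rootHom_yS D hD K r hr, rootHom_wS D hD K r hr,
    ← nGL_eq, nGL_eq_hGL_mul D hD K r c] at h
  exact mul_right_cancel h

theorem rootHom_mem_rk1 (r : ℕ) (hr : r < D.nroots) (g : SpecialLinearGroup (Fin 2) K) :
    rootHom D hD K r g ∈ rk1 D K r := by
  have hg : g ∈ Subgroup.closure (Set.range (xS : K → SpecialLinearGroup (Fin 2) K) ∪ Set.range yS) := by
    rw [closure_xS_yS]; trivial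
  induction hg using Subgroup.closure_induction with
  | mem x hx =>
    rcases hx with ⟨t, rfl⟩ | ⟨t, rfl⟩
    · rw [rootHom_xS D hD K r hr]; exact xGL_mem_rk1 D K hD r t
    · rw [rootHom_yS D hD K r hr]; exact xGL_neg_mem_rk1 D K hD r t
  | one => rw [map_one]; exact Subgroup.one_mem _
  | mul a b _ _ iha ihb => rw [map_mul]; exact Subgroup.mul_mem _ iha ihb
  | inv a _ iha => rw [map_inv]; exact Subgroup.inv_mem _ iha

variable (Jidx : List ℕ) (hC : SimpClassFacts D Jidx)

include hD

include hC in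
/-- the rank one groups of different roots of a class commute -/
theorem rk1_commute (a : ℕ) (ha : a ∈ Jidx.map D.simple) (b : ℕ) (hb : b ∈ Jidx.map D.simple) (hab : a ≠ b)
    (x : GL D.Idx K) (hx : x ∈ rk1 D K a) (y : GL D.Idx K) (hy : y ∈ rk1 D K b) : Commute x y := by
  rw [List.mem_map] at ha hb
  obtain ⟨i, hi, rfl⟩ := ha
  obtain ⟨j, hj, rfl⟩ := hb
  have hij : i ≠ j := by rintro rfl; exact hab rfl
  have h1 := hC.nc i hi j hj hij
  have h2 := hC.nc j hj i hi (Ne.symm hij)
  apply commute_of_mem_closure _ _ _ x hx y hy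
  rintro a ⟨r', hr', ta, ham⟩ b ⟨s', hs', tb, hbm⟩
  have ha : a = xGL D hD K r' ta := Units.ext (by rw [ham, coe_xGL])
  have hb : b = xGL D hD K s' tb := Units.ext (by rw [hbm, coe_xGL])
  rw [ha, hb]
  simp only [List.mem_cons, List.not_mem_nil, or_false] at hr' hs'
  rcases hr' with rfl | rfl <;> rcases hs' with rfl | rfl
  · exact h1.1.commute D hD K _ _
  · exact h1.2.1.commute D hD K _ _
  · exact (h2.2.1.commute D hD K _ _).symm
  · exact h1.2.2.commute D hD K _ _

variable {F : Type*} [Field F] (σ : ℕ → F →+* K)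

/-- the homomorphism `SL₂(F) → ∏_{r ∈ J} ⟨X_r, X_{-r}⟩`, `g ↦ ∏ φ_r(σ_r(g))` -/
noncomputable def classHom : SpecialLinearGroup (Fin 2) F →* GL D.Idx K where
  toFun g := ((Jidx.map D.simple).map fun r =>
    rootHom D hD K r (Matrix.SpecialLinearGroup.map (σ r) g)).prod
  map_one' := by
    simp only [map_one]
    induction (Jidx.map D.simple) with
    | nil => rfl
    | cons a l ih => rw [List.map_cons, List.prod_cons, ih, one_mul]
  map_mul' g g' := by
    simp only [map_mul]
    apply prod_map_mul_of_commute _ _ _ hC.nodup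
    intro a ha b hb hab
    exact rk1_commute D hD K Jidx hC a ha b hb hab _
      (rootHom_mem_rk1 D hD K a (simple_class_lt D hD Jidx hC a ha) _) _
      (rootHom_mem_rk1 D hD K b (simple_class_lt D hD Jidx hC b hb) _)

theorem classHom_apply (g : SpecialLinearGroup (Fin 2) F) :
    classHom D hD K Jidx hC σ g = ((Jidx.map D.simple).map fun r =>
      rootHom D hD K r (Matrix.SpecialLinearGroup.map (σ r) g)).prod := rfl

theorem classHom_xS (t : F) :
    classHom D hD K Jidx hC σ (xS t) = ordProd D hD K (Jidx.map D.simple) (fun r => σ r t) := by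
  rw [classHom_apply, ordProd_eq_prod]
  congr 1
  apply List.map_congr_left
  intro r hr
  rw [slMap_xS, rootHom_xS D hD K r (simple_class_lt D hD Jidx hC r hr)]

theorem classHom_yS (t : F) :
    classHom D hD K Jidx hC σ (yS t) =
      ((Jidx.map D.simple).map fun r => xGL D hD K (D.neg r) (σ r t)).prod := by
  rw [classHom_apply]
  congr 1
  apply List.map_congr_left
  intro r hr
  rw [slMap_yS, rootHom_yS D hD K r (simple_class_lt D hD Jidx hC r hr)]

theorem classHom_wS : classHom D hD K Jidx hC σ wS = nWordGL D hD K Jidx := by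
  rw [classHom_apply]
  unfold nWordGL
  rw [List.map_map]
  congr 1
  apply List.map_congr_left
  intro i hi
  have hr : D.simple i ∈ Jidx.map D.simple := List.mem_map_of_mem hi
  show rootHom D hD K (D.simple i) (Matrix.SpecialLinearGroup.map (σ (D.simple i)) wS) = nFund D hD K i
  rw [slMap_wS, rootHom_wS D hD K _ (simple_class_lt D hD Jidx hC _ hr)]
  rfl

theorem classHom_hS (s : F) (hs : s ≠ 0) :
    classHom D hD K Jidx hC σ (hS s hs) =
      ((Jidx.map D.simple).map fun r => wordGL D hD K (D.hWord r (σ r s))).prod := by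
  rw [classHom_apply]
  congr 1
  apply List.map_congr_left
  intro r hr
  rw [slMap_hS, rootHom_hS D hD K r (simple_class_lt D hD Jidx hC r hr)]

theorem classHom_hS_mem (s : F) (hs : s ≠ 0) :
    classHom D hD K Jidx hC σ (hS s hs) ∈ D.diagonalSubgroup K := by
  rw [classHom_hS]
  apply Subgroup.list_prod_mem
  intro g hg
  rw [List.mem_map] at hg
  obtain ⟨r, hr, rfl⟩ := hg
  exact hGL_mem_diagonalSubgroup D hD K r (simple_class_lt D hD Jidx hC r hr) _ ((map_ne_zero (σ r)).mpr hs)

/-- `ψ(y(t)) = n_J ψ(x(-t)) n_J⁻¹` -/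
theorem classHom_yS_eq (t : F) :
    classHom D hD K Jidx hC σ (yS t) =
      nWordGL D hD K Jidx * classHom D hD K Jidx hC σ (xS (-t)) * (nWordGL D hD K Jidx)⁻¹ := by
  have h := congrArg (classHom D hD K Jidx hC σ) (RankOnePre.yS_mul_wS t)
  rw [map_mul, map_mul, classHom_wS] at h
  rw [← h]; group

end

end Cfsg.Agent.Lib.Lead.TwStein
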