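import Cfsg.Agent.Lib.Lead.TwSteinE
import Cfsg.Agent.Lib.Lead.TwSteinH

/-! Twisted groups `G¹`: the class homomorphism `SL₂(F) → G¹` of a simple class satisfies the hypotheses of
the rank one analysis (lead). -/

set_option autoImplicit false

namespace Cfsg.Agent.Lib.Lead.TwStein

open Cfsg Cfsg.Lie Matrix Cfsg.Agent.Lib.Helper7 Cfsg.Agent.Lib.Helper3.BN
open Cfsg.Agent.Lib.Lead.Stein Cfsg.Agent.Lib.Helper11.SL2Hom

section
variable (D : ChevalleyDatum) (hD : D ∈ [chevG2, chevB2, chevD4, chevF4, chevE6, chevE7, chevE8])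
variable (pv pv' ρ ρ' : ℕ → ℕ) (ε : ℕ → ℤ) (hG : GraphFacts D pv pv' ρ ρ' ε)
variable (K : Type*) [Field K] (φ : K ≃+* K)
variable (A : ℕ → ℤ) (hA : ChainAdd D A) (hO : PosFacts D A) (cls : List (List ℕ))
variable (hT : TwistFacts D ρ ρ' A cls)
variable (G1 : Subgroup (GL D.Idx K)) (simpIdx simpCls : List (List ℕ))
variable (hF : TwistGroupFacts D hD pv pv' ρ ρ' ε hG K φ cls G1 simpIdx simpCls)
variable (m : ℕ) (hsh : ∀ S ∈ cls, ClassShape ρ' ε m S)
variable (hB : TwistBNFacts D simpIdx simpCls)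
variable (J : Fin simpIdx.length) {F : Type*} [Field F] (σ : ℕ → F →+* K)
  (hσ1 : ∀ t : F, ∀ r ∈ (simpIdx.get J).map D.simple,
    σ r t = twistFn ρ' ε K φ (fun r => σ r t) r)
  (hσ2 : ∀ u : ℕ → K, (∀ r ∈ (simpIdx.get J).map D.simple, u r = twistFn ρ' ε K φ u r) →
    ∃ t : F, ∀ r ∈ (simpIdx.get J).map D.simple, u r = σ r t)
  (hne0 : simpIdx.get J ≠ [])

/-- the class homomorphism of the simple class `J` -/
noncomputable def clsHom : SpecialLinearGroup (Fin 2) F →* GL D.Idx K :=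
  classHom D hD K (simpIdx.get J) (hB.facts _ (List.get_mem simpIdx J)) σ

theorem clsHom_wS : clsHom D hD K simpIdx simpCls hB J σ wS = clsRep D hD K simpIdx J :=
  classHom_wS D hD K _ _ σ

include hD hA hO hT hF hsh hσ1 hσ2 hne0 in
theorem rankOneHom_class :
    RankOneHom G1 (D.negUnipotent K) (D.borelSubgroup K) (clsX D pv pv' ρ ρ' ε hG K φ simpIdx J)
      (clsY D hD pv pv' ρ ρ' ε hG K φ simpIdx J) (clsHom D hD K simpIdx simpCls hB J σ) := by
  have hJ := List.get_mem simpIdx J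
  have hC := hB.facts _ hJ
  have hJS : (simpIdx.get J).map D.simple ∈ simpCls := by
    rw [hB.cls_eq]; exact List.mem_map_of_mem hJ
  have hScls := hF.simple_cls _ hJS
  have hpos := class_pos D hD ρ ρ' A hA hO cls hT _ hScls
  have hnG : nWordGL D hD K (simpIdx.get J) ∈ G1 := hF.n_mem _ hJ
  have hnN : nWordGL D hD K (simpIdx.get J) ∈ D.monomialSubgroup K := nWordGL_mem_monomial D hD K _ hC.lt
  set ψ := clsHom D hD K simpIdx simpCls hB J σ with hψ
  have hx : ∀ t : F, ψ (xS t) = ordProd D hD K ((simpIdx.get J).map D.simple) (fun r => σ r t) :=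
    fun t => classHom_xS D hD K _ hC σ t
  have hy : ∀ t : F, ψ (yS t) = nWordGL D hD K (simpIdx.get J) * ψ (xS (-t)) *
      (nWordGL D hD K (simpIdx.get J))⁻¹ := fun t => classHom_yS_eq D hD K _ hC σ t
  have hxX : ∀ t : F, ψ (xS t) ∈ clsX D pv pv' ρ ρ' ε hG K φ simpIdx J := by
    intro t
    rw [hx]
    refine Subgroup.mem_inf.mpr ⟨ordProd_mem D hD K _ _, ?_⟩
    rw [mem_fixSigma, sigmaGL_ordProd_class D hD pv pv' ρ ρ' ε hG K φ _ hpos (hT.perm _ hScls)
      (hT.comm _ hScls) ⟨A, hA, hO⟩]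
    exact ordProd_congr D hD K _ _ _ (fun r hr => (hσ1 t r hr).symm)
  have hxG : ∀ t : F, ψ (xS t) ∈ G1 := by
    intro t
    rw [hx]
    exact hF.simple_mem _ hJS _ (hσ1 t)
  have hXU : clsX D pv pv' ρ ρ' ε hG K φ simpIdx J ≤ D.posUnipotent K := by
    intro x hx'
    have hle : Subgroup.closure (gensL D K ((simpIdx.get J).map D.simple)) ≤ D.posUnipotent K := by
      rw [Subgroup.closure_le]
      rintro g ⟨r, hr, t, hg⟩
      apply Subgroup.subset_closure
      exact ⟨r, t, simple_class_pos D hD _ hC r hr, hg⟩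
    exact hle (Subgroup.mem_inf.mp hx').1
  have hinj : ∀ t t' : F, ψ (xS t) = ψ (xS t') → t = t' := by
    intro t t' h
    rw [hx, hx] at h
    obtain ⟨i, hi⟩ := List.exists_mem_of_ne_nil _ hne0
    have := ordProd_class_inj D hD ρ ρ' K A hA hO cls hT _ hScls _ _ h (D.simple i) (List.mem_map_of_mem hi)
    exact (σ (D.simple i)).injective this
  refine ⟨?_, ?_, ?_, hinj, ?_, ?_, ?_, ?_, ?_, ?_⟩
  · -- `ψ g ∈ G¹`
    intro g
    have hg : g ∈ Subgroup.closure (Set.range (xS : F → SpecialLinearGroup (Fin 2) F) ∪ Set.range yS) := by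
      rw [closure_xS_yS]; trivial
    induction hg using Subgroup.closure_induction with
    | mem x hx' =>
      rcases hx' with ⟨t, rfl⟩ | ⟨t, rfl⟩
      · exact hxG t
      · rw [hy]
        exact Subgroup.mul_mem _ (Subgroup.mul_mem _ hnG (hxG _)) (Subgroup.inv_mem _ hnG)
    | one => rw [map_one]; exact Subgroup.one_mem _
    | mul a b _ _ iha ihb => rw [map_mul]; exact Subgroup.mul_mem _ iha ihb
    | inv a _ iha => rw [map_inv]; exact Subgroup.inv_mem _ iha
  · -- `X_J`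
    intro x
    constructor
    · intro hx'
      obtain ⟨u, hu, hcompat⟩ := class_fixed_param D hD pv pv' ρ ρ' ε hG K φ A hA hO cls hT _ hScls x hx'
      obtain ⟨t, ht⟩ := hσ2 u hcompat
      refine ⟨t, ?_⟩
      rw [hu, hx]
      exact ordProd_congr D hD K _ _ _ ht
    · rintro ⟨t, rfl⟩
      exact hxX t
  · -- `Y_J`
    intro y
    constructor
    · rintro ⟨x, hx', rfl⟩
      obtain ⟨u, hu, hcompat⟩ := class_fixed_param D hD pv pv' ρ ρ' ε hG K φ A hA hO cls hT _ hScls x hx'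
      obtain ⟨t, ht⟩ := hσ2 u hcompat
      refine ⟨-t, ?_⟩
      rw [hy, neg_neg, hx, hu]
      simp only [MulEquiv.coe_toMonoidHom, MulAut.conj_apply]
      rw [ordProd_congr D hD K _ _ _ ht]
      rfl
    · rintro ⟨t, rfl⟩
      rw [hy]
      exact ⟨_, hxX (-t), rfl⟩
  · -- injectivity on `Y`
    intro t t' h
    rw [hy, hy] at h
    have h' : ψ (xS (-t)) = ψ (xS (-t')) := by
      have := congrArg (fun g => (nWordGL D hD K (simpIdx.get J))⁻¹ * g * nWordGL D hD K (simpIdx.get J)) h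
      beta_reduce at this
      have e : ∀ z : GL D.Idx K, (nWordGL D hD K (simpIdx.get J))⁻¹ *
          (nWordGL D hD K (simpIdx.get J) * z * (nWordGL D hD K (simpIdx.get J))⁻¹) *
          nWordGL D hD K (simpIdx.get J) = z := fun z => by group
      rwa [e, e] at this
    exact neg_injective (hinj _ _ h')
  · -- `X_J ≤ B`
    exact fun x hx' => posUnipotent_le_borel D hD K (hXU hx')
  · -- `Y_J ≤ V`
    rintro y ⟨x, hx', rfl⟩
    simp only [MulEquiv.coe_toMonoidHom, MulAut.conj_apply]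
    exact conj_simple_class_mem_neg D hD K _ hC x (Subgroup.mem_inf.mp hx').1
  · -- `ψ(h) ∈ B`
    intro s hs
    exact diagonal_le_borel D hD K (classHom_hS_mem D hD K _ hC σ s hs)
  · -- `ψ(h)` normalises `V`
    intro s hs v hv
    have hh : (ψ (hS s hs))⁻¹ ∈ D.diagonalSubgroup K :=
      Subgroup.inv_mem _ (classHom_hS_mem D hD K _ hC σ s hs)
    have hN := diagonalSubgroup_le_normalizer_negUnipotent D hD K hh
    rw [Subgroup.mem_set_normalizer_iff] at hN
    have := (hN v).mp hv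
    rwa [inv_inv] at this
  · -- `ψ(w) ∉ V B`
    intro v hv b hb he
    rw [hψ, clsHom_wS] at he
    exact clsRep_not_mem_borel D hD pv pv' ρ ρ' ε hG K φ A hA hO cls hT G1 simpIdx simpCls hF m hsh hB J
      (monomial_mem_borel_of_big D hD K _ v b hnN hv hb he)

end

end Cfsg.Agent.Lib.Lead.TwStein
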