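import Cfsg.Agent.Lib.Lead.TwSteinI

/-! Twisted groups `G¹`: every automorphism stabilises `U` and `V` after composition with an inner
automorphism (lead). -/

set_option autoImplicit false

namespace Cfsg.Agent.Lib.Lead.TwStein

open Cfsg Cfsg.Lie Matrix Cfsg.Agent.Lib.Helper7 Cfsg.Agent.Lib.Helper3.BN
open Cfsg.Agent.Lib.Lead.Stein

section
variable (D : ChevalleyDatum) (hD : D ∈ [chevG2, chevB2, chevD4, chevF4, chevE6, chevE7, chevE8])
variable (pv pv' ρ ρ' : ℕ → ℕ) (ε : ℕ → ℤ) (hG : GraphFacts D pv pv' ρ ρ' ε)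
variable (K : Type*) [Field K] [Finite K] (φ : K ≃+* K)
variable (A : ℕ → ℤ) (hA : ChainAdd D A) (hO : PosFacts D A) (cls : List (List ℕ))
variable (hT : TwistFacts D ρ ρ' A cls)
variable (G1 : Subgroup (GL D.Idx K)) (simpIdx simpCls : List (List ℕ))
variable (hF : TwistGroupFacts D hD pv pv' ρ ρ' ε hG K φ cls G1 simpIdx simpCls)
variable (m : ℕ) (hsh : ∀ S ∈ cls, ClassShape ρ' ε m S)
variable (hB : TwistBNFacts D simpIdx simpCls)
  (hinv : ∀ J ∈ simpIdx, ∀ s < D.nroots, reflWord D J (reflWord D J s) = s)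
  (hgen : G1 ≤ Subgroup.closure (((D.borelSubgroup K ⊓ G1 : Subgroup (GL D.Idx K)) : Set (GL D.Idx K)) ∪
      Set.range (clsRep D hD K simpIdx)))
variable (cert : List (List ℕ × ℕ)) (hcert : certOKB D simpIdx simpCls cls cert = true)
variable (Js : List (List ℕ)) (hJs : ∀ J ∈ Js, J ∈ simpIdx) (hL : LongFacts D Js.flatten)

include hD hA hO hT hF hsh hB hinv hgen hcert hJs hL in
/-- every automorphism of `G¹` stabilises `U` and `V` after composition with an inner automorphism -/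
theorem exists_inner_stb (p : ℕ) [Fact p.Prime]
    (hSyl : ∃ P0 : Sylow p ↥G1, (P0 : Subgroup ↥G1) = (D.posUnipotent K).subgroupOf G1)
    (θ : ↥G1 ≃* ↥G1) :
    ∃ x : ↥G1, Stb (θ.trans (MulAut.conj x)) (D.posUnipotent K) ∧
      Stb (θ.trans (MulAut.conj x)) (D.negUnipotent K) := by
  have hfin : Finite ↥G1 := inferInstance
  have hn₀ := nLong1_mem D hD pv pv' ρ ρ' ε hG K φ cls G1 simpIdx simpCls hF Js hJs
  apply exists_stb_pair G1 (D.posUnipotent K) (D.negUnipotent K) p hSyl (nLong1 D hD K Js) hn₀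
    (nLong1_conj_pos D hD K Js hL) (posUnipotent_inf_negUnipotent D hD K) (D.monomialSubgroup K)
  · intro y hy
    obtain ⟨b, hb, n, hn, u, hu, rfl⟩ := canon_twisted D hD pv pv' ρ ρ' ε hG K φ A hA hO cls hT G1 simpIdx
      simpCls hF m hsh hB hinv hgen cert hcert y hy
    rw [Subgroup.mem_inf] at hb
    refine ⟨b, hb.2, ?_, n, hn, u, hu, rfl⟩
    have hle : D.borelSubgroup K ≤ Subgroup.normalizer (D.posUnipotent K : Set (GL D.Idx K)) := by
      unfold ChevalleyDatum.borelSubgroup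
      exact sup_le Subgroup.le_normalizer (diagonalSubgroup_le_normalizer_posUnipotent D hD K)
    exact hle hb.1
  · intro n hn h
    exact conj_monomial_twisted D hD pv pv' ρ ρ' ε hG K φ A hA hO cls hT G1 simpIdx simpCls hF m hsh
      cert hcert n hn h

end

end Cfsg.Agent.Lib.Lead.TwStein
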