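import Cfsg.Agent.Lib.Lead.TwSteinJ

/-! Twisted groups generated by `twWords` (helper7's tables): the normalisation of automorphisms and the
rank one homomorphisms, at the level of the tables (lead). -/

set_option autoImplicit false

namespace Cfsg.Agent.Lib.Lead.TwStein

open Cfsg Cfsg.Lie Matrix Cfsg.Agent.Lib.Helper7 Cfsg.Agent.Lib.Helper3.BN
open Cfsg.Agent.Lib.Lead.Stein Cfsg.Agent.Lib.Helper11.SL2Hom

section
variable (D : ChevalleyDatum) (hD : D ∈ [chevG2, chevB2, chevD4, chevF4, chevE6, chevE7, chevE8])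
variable (K : Type*) [Field K]

include hD in
theorem genSubgroup_le_group' (W : Set (List (ℕ × K))) : D.genSubgroup K W ≤ D.group K := by
  unfold ChevalleyDatum.genSubgroup
  rw [Subgroup.closure_le]
  rintro g ⟨wd, -, hg⟩
  have : g = wordGL D hD K wd := Units.ext (by rw [hg, coe_wordGL])
  rw [this]
  exact wordGL_mem_group D hD K wd

end

section
variable (D : ChevalleyDatum) (hD : D ∈ [chevG2, chevB2, chevD4, chevF4, chevE6, chevE7, chevE8])
variable (pv pv' ρ ρ' : List ℕ) (ε : List ℤ) (w : List ℤ) (cls : List (List ℕ)) (m : ℕ)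
variable (L1 : List ℕ) (L2 : List (ℕ × ℕ)) (L3 : List (ℕ × ℕ × ℕ)) (simpIdx simpCls : List (List ℕ))
variable (cert : List (List ℕ × ℕ))
variable (hT : TwistTab D pv pv' ρ ρ' ε w cls m L1 L2 L3 simpIdx simpCls cert)
variable (hT2 : TwistTab2 D L1 L2 L3 simpIdx simpCls)
variable (K : Type*) [Field K] [Finite K] (φ : K ≃+* K) (hφ : ∀ a, φ^[m] a = a)
variable (Js : List (List ℕ)) (hJs : ∀ J ∈ Js, J ∈ simpIdx) (hL : LongFacts D Js.flatten)
variable (hopp : ∀ J ∈ simpIdx,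
  (∀ r ∈ J.map D.simple, reflWord D Js.flatten (reflWord D J r) ∈ J.map D.simple) ∧
  (∀ r ∈ J.map D.simple, reflWord D J.reverse (reflWord D Js.flatten.reverse r) ∈ J.map D.simple))

include hD hT hT2 hφ hJs hL

/-- every automorphism stabilises `U` and `V` after composition with an inner automorphism -/
theorem tw_inner_stb (p : ℕ) [Fact p.Prime]
    (hSyl : ∃ P0 : Sylow p ↥(D.genSubgroup K (twWords K φ L1 L2 L3)),
      (P0 : Subgroup ↥(D.genSubgroup K (twWords K φ L1 L2 L3))) =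
        (D.posUnipotent K).subgroupOf (D.genSubgroup K (twWords K φ L1 L2 L3)))
    (θ : ↥(D.genSubgroup K (twWords K φ L1 L2 L3)) ≃* ↥(D.genSubgroup K (twWords K φ L1 L2 L3))) :
    ∃ x : ↥(D.genSubgroup K (twWords K φ L1 L2 L3)),
      Stb (θ.trans (MulAut.conj x)) (D.posUnipotent K) ∧
      Stb (θ.trans (MulAut.conj x)) (D.negUnipotent K) := by
  have hG := graphFacts_of_graphOKB D pv pv' ρ ρ' ε hT.graph
  obtain ⟨hTw, hpos⟩ := twistFacts_of_twistOKB D ρ ρ' w cls hT.twist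
  have hA := chainAdd_linF D hD w
  have hO : PosFacts D (linF D w) := ⟨hpos, hT.prim⟩
  have hF := twistGroupFacts_of_tab D hD pv pv' ρ ρ' ε w cls m L1 L2 L3 simpIdx simpCls cert hT K φ hφ
  have hB := twistBNFacts_of_tab2 D L1 L2 L3 simpIdx simpCls hT2
  have hsh : ∀ S ∈ cls, ClassShape (fun r => ρ'.getD r 0) (fun r => ε.getD r 0) m S := by
    intro S hS
    exact classShape_of_classShapeB ρ' ε m S (List.all_eq_true.mp hT.shape S hS)
  exact exists_inner_stb D hD _ _ _ _ _ hG K φ (linF D w) hA hO cls hTw _ simpIdx simpCls hF m hsh hB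
    (tw_inv_of_tab2 D L1 L2 L3 simpIdx simpCls hT2)
    (twGroup_le_closure D hD pv pv' ρ ρ' ε w cls m L1 L2 L3 simpIdx simpCls cert hT hT2 K φ hφ)
    cert hT.cert Js hJs hL p hSyl θ

/-- an automorphism stabilising `U` and `V` stabilises `B` and `H` -/
theorem tw_stb_borel
    (θ : ↥(D.genSubgroup K (twWords K φ L1 L2 L3)) ≃* ↥(D.genSubgroup K (twWords K φ L1 L2 L3)))
    (hU : Stb θ (D.posUnipotent K)) (hV : Stb θ (D.negUnipotent K)) :
    Stb θ (D.borelSubgroup K) ∧ Stb θ (D.diagonalSubgroup K) := by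
  have hG := graphFacts_of_graphOKB D pv pv' ρ ρ' ε hT.graph
  obtain ⟨hTw, hpos⟩ := twistFacts_of_twistOKB D ρ ρ' w cls hT.twist
  have hA := chainAdd_linF D hD w
  have hO : PosFacts D (linF D w) := ⟨hpos, hT.prim⟩
  have hF := twistGroupFacts_of_tab D hD pv pv' ρ ρ' ε w cls m L1 L2 L3 simpIdx simpCls cert hT K φ hφ
  have hB := twistBNFacts_of_tab2 D L1 L2 L3 simpIdx simpCls hT2
  have hsh : ∀ S ∈ cls, ClassShape (fun r => ρ'.getD r 0) (fun r => ε.getD r 0) m S := by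
    intro S hS
    exact classShape_of_classShapeB ρ' ε m S (List.all_eq_true.mp hT.shape S hS)
  have hle := genSubgroup_le_group' D hD K (twWords K φ L1 L2 L3)
  exact ⟨stb_borel D hD _ _ _ _ _ hG K φ (linF D w) hA hO cls hTw _ simpIdx simpCls hF m hsh hB
    (tw_inv_of_tab2 D L1 L2 L3 simpIdx simpCls hT2)
    (twGroup_le_closure D hD pv pv' ρ ρ' ε w cls m L1 L2 L3 simpIdx simpCls cert hT hT2 K φ hφ)
    cert hT.cert Js hJs hL hle θ hU,
    stb_diagonal D hD _ _ _ _ _ hG K φ (linF D w) hA hO cls hTw _ simpIdx simpCls hF m hsh hB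
    (tw_inv_of_tab2 D L1 L2 L3 simpIdx simpCls hT2)
    (twGroup_le_closure D hD pv pv' ρ ρ' ε w cls m L1 L2 L3 simpIdx simpCls cert hT hT2 K φ hφ)
    cert hT.cert Js hJs hL hle θ hU hV⟩

include hopp in
/-- an automorphism stabilising `U` and `V` permutes the groups `X_J` and the groups `Y_J` -/
theorem tw_cls_map
    (θ : ↥(D.genSubgroup K (twWords K φ L1 L2 L3)) ≃* ↥(D.genSubgroup K (twWords K φ L1 L2 L3)))
    (hU : Stb θ (D.posUnipotent K)) (hV : Stb θ (D.negUnipotent K)) (J : Fin simpIdx.length) :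
    (∃ J' : Fin simpIdx.length,
      Mps θ (clsX D _ _ _ _ _ (graphFacts_of_graphOKB D pv pv' ρ ρ' ε hT.graph) K φ simpIdx J)
        (clsX D _ _ _ _ _ (graphFacts_of_graphOKB D pv pv' ρ ρ' ε hT.graph) K φ simpIdx J')) ∧
    (∃ J' : Fin simpIdx.length,
      Mps θ (clsY D hD _ _ _ _ _ (graphFacts_of_graphOKB D pv pv' ρ ρ' ε hT.graph) K φ simpIdx J)
        (clsY D hD _ _ _ _ _ (graphFacts_of_graphOKB D pv pv' ρ ρ' ε hT.graph) K φ simpIdx J')) := by
  have hG := graphFacts_of_graphOKB D pv pv' ρ ρ' ε hT.graph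
  obtain ⟨hTw, hpos⟩ := twistFacts_of_twistOKB D ρ ρ' w cls hT.twist
  have hA := chainAdd_linF D hD w
  have hO : PosFacts D (linF D w) := ⟨hpos, hT.prim⟩
  have hF := twistGroupFacts_of_tab D hD pv pv' ρ ρ' ε w cls m L1 L2 L3 simpIdx simpCls cert hT K φ hφ
  have hB := twistBNFacts_of_tab2 D L1 L2 L3 simpIdx simpCls hT2
  have hsh : ∀ S ∈ cls, ClassShape (fun r => ρ'.getD r 0) (fun r => ε.getD r 0) m S := by
    intro S hS
    exact classShape_of_classShapeB ρ' ε m S (List.all_eq_true.mp hT.shape S hS)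
  have hle := genSubgroup_le_group' D hD K (twWords K φ L1 L2 L3)
  exact ⟨exists_clsX_map D hD _ _ _ _ _ hG K φ (linF D w) hA hO cls hTw _ simpIdx simpCls hF m hsh hB
    (tw_inv_of_tab2 D L1 L2 L3 simpIdx simpCls hT2)
    (twGroup_le_closure D hD pv pv' ρ ρ' ε w cls m L1 L2 L3 simpIdx simpCls cert hT hT2 K φ hφ)
    (clsX_ne_bot D hD pv pv' ρ ρ' ε w cls m L1 L2 L3 simpIdx simpCls cert hT hT2 K φ hφ)
    (tw_inj_of_tab2 D L1 L2 L3 simpIdx simpCls hT2)
    cert hT.cert Js hJs hL hle hopp θ hU hV J,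
    exists_clsY_map D hD _ _ _ _ _ hG K φ (linF D w) hA hO cls hTw _ simpIdx simpCls hF m hsh hB
    (tw_inv_of_tab2 D L1 L2 L3 simpIdx simpCls hT2)
    (twGroup_le_closure D hD pv pv' ρ ρ' ε w cls m L1 L2 L3 simpIdx simpCls cert hT hT2 K φ hφ)
    (clsX_ne_bot D hD pv pv' ρ ρ' ε w cls m L1 L2 L3 simpIdx simpCls cert hT hT2 K φ hφ)
    (tw_inj_of_tab2 D L1 L2 L3 simpIdx simpCls hT2)
    cert hT.cert Js hJs hL hle θ hU hV J⟩

omit [Finite K] hJs hL in
/-- the rank one homomorphism of a simple class -/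
theorem tw_rankOneHom (J : Fin simpIdx.length) {F : Type*} [Field F] (σ : ℕ → F →+* K)
    (hσ1 : ∀ t : F, ∀ r ∈ (simpIdx.get J).map D.simple,
      σ r t = twistFn (fun r => ρ'.getD r 0) (fun r => ε.getD r 0) K φ (fun r => σ r t) r)
    (hσ2 : ∀ u : ℕ → K, (∀ r ∈ (simpIdx.get J).map D.simple,
      u r = twistFn (fun r => ρ'.getD r 0) (fun r => ε.getD r 0) K φ u r) →
      ∃ t : F, ∀ r ∈ (simpIdx.get J).map D.simple, u r = σ r t)
    (hne0 : simpIdx.get J ≠ []) :
    RankOneHom (D.genSubgroup K (twWords K φ L1 L2 L3)) (D.negUnipotent K) (D.borelSubgroup K)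
      (clsX D _ _ _ _ _ (graphFacts_of_graphOKB D pv pv' ρ ρ' ε hT.graph) K φ simpIdx J)
      (clsY D hD _ _ _ _ _ (graphFacts_of_graphOKB D pv pv' ρ ρ' ε hT.graph) K φ simpIdx J)
      (clsHom D hD K simpIdx simpCls (twistBNFacts_of_tab2 D L1 L2 L3 simpIdx simpCls hT2) J σ) := by
  have hG := graphFacts_of_graphOKB D pv pv' ρ ρ' ε hT.graph
  obtain ⟨hTw, hpos⟩ := twistFacts_of_twistOKB D ρ ρ' w cls hT.twist
  have hA := chainAdd_linF D hD w
  have hO : PosFacts D (linF D w) := ⟨hpos, hT.prim⟩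
  have hF := twistGroupFacts_of_tab D hD pv pv' ρ ρ' ε w cls m L1 L2 L3 simpIdx simpCls cert hT K φ hφ
  have hsh : ∀ S ∈ cls, ClassShape (fun r => ρ'.getD r 0) (fun r => ε.getD r 0) m S := by
    intro S hS
    exact classShape_of_classShapeB ρ' ε m S (List.all_eq_true.mp hT.shape S hS)
  exact rankOneHom_class D hD _ _ _ _ _ hG K φ (linF D w) hA hO cls hTw _ simpIdx simpCls hF m hsh
    (twistBNFacts_of_tab2 D L1 L2 L3 simpIdx simpCls hT2) J σ hσ1 hσ2 hne0

end

end Cfsg.Agent.Lib.Lead.TwStein
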