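import Cfsg.Agent.Lib.Lead.TwSteinL
import Cfsg.Agent.Lib.Helper7.ChevTwistOrderD4
import Cfsg.Agent.Lib.Helper7.ChevTwistCoreTab

/-! The triality twisted groups `³D₄(q)`: the two rank one homomorphisms (lead). -/

set_option autoImplicit false
set_option maxRecDepth 100000

namespace Cfsg.Agent.Lib.Lead.TwStein

open Cfsg Cfsg.Lie Matrix Cfsg.Agent.Lib.Helper7 Cfsg.Agent.Lib.Helper3.BN
open Cfsg.Agent.Lib.Lead.Stein Cfsg.Agent.Lib.Helper11.SL2Hom Cfsg.Agent.Lib.Helper11.ChevSL2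

theorem hopp_D4 : ∀ J ∈ twSimpIdx_D4,
    (∀ r ∈ J.map chevD4.simple,
      reflWord chevD4 twLongJs_D4.flatten (reflWord chevD4 J r) ∈ J.map chevD4.simple) ∧
    (∀ r ∈ J.map chevD4.simple,
      reflWord chevD4 J.reverse (reflWord chevD4 twLongJs_D4.flatten.reverse r) ∈ J.map chevD4.simple) := by
  decide +kernel

/-- the class of the central node -/
def dJ0 : Fin twSimpIdx_D4.length := ⟨0, by decide⟩

/-- the class of the three outer nodes -/
def dJ1 : Fin twSimpIdx_D4.length := ⟨1, by decide⟩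

theorem dJ0_map : (twSimpIdx_D4.get dJ0).map chevD4.simple = [14] := by decide
theorem dJ1_map : (twSimpIdx_D4.get dJ1).map chevD4.simple = [18, 13, 12] := by decide
theorem dJ_cases (J : Fin twSimpIdx_D4.length) : J = dJ0 ∨ J = dJ1 := by
  have : ∀ J : Fin twSimpIdx_D4.length, J = dJ0 ∨ J = dJ1 := by decide
  exact this J

section
variable (K : Type*) [Field K] (φ : K ≃+* K)

/-- the fixed field of `φ` -/
def fixField : Subfield K := RingHom.eqLocusField (φ : K →+* K) (RingHom.id K)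

theorem mem_fixField (a : K) : a ∈ fixField K φ ↔ φ a = a := Iff.rfl

/-- the parameter embeddings of the class of the central node -/
def sig0 : ℕ → ↥(fixField K φ) →+* K := fun _ => (fixField K φ).subtype

/-- the parameter embeddings of the class of the outer nodes -/
def sig1 : ℕ → K →+* K := fun r =>
  if r = 18 then RingHom.id K else if r = 13 then (φ : K →+* K) else (φ : K →+* K).comp (φ : K →+* K)

theorem sig1_18 (t : K) : sig1 K φ 18 t = t := rfl
theorem sig1_13 (t : K) : sig1 K φ 13 t = φ t := rfl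
theorem sig1_12 (t : K) : sig1 K φ 12 t = φ (φ t) := rfl

theorem sig0_compat (t : ↥(fixField K φ)) : ∀ r ∈ (twSimpIdx_D4.get dJ0).map chevD4.simple,
    sig0 K φ r t = twistFn (fun r => grRhoInv_D4_1.getD r 0) (fun r => grEps_D4_1.getD r 0) K φ
      (fun r => sig0 K φ r t) r := by
  rw [dJ0_map]
  intro r hr
  rw [List.mem_singleton] at hr
  subst hr
  unfold twistFn
  beta_reduce
  have e1 : grRhoInv_D4_1.getD 14 0 = 14 := by decide
  have e2 : grEps_D4_1.getD 14 0 = 1 := by decide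
  rw [e1, e2]
  show (t : K) = ((1 : ℤ) : K) * φ (t : K)
  rw [(mem_fixField K φ _).mp t.2]
  simp

theorem sig0_surj (u : ℕ → K) (hu : ∀ r ∈ (twSimpIdx_D4.get dJ0).map chevD4.simple,
    u r = twistFn (fun r => grRhoInv_D4_1.getD r 0) (fun r => grEps_D4_1.getD r 0) K φ u r) :
    ∃ t : ↥(fixField K φ), ∀ r ∈ (twSimpIdx_D4.get dJ0).map chevD4.simple, u r = sig0 K φ r t := by
  rw [dJ0_map] at hu ⊢
  have h := hu 14 (by simp)
  unfold twistFn at h
  beta_reduce at h
  have e1 : grRhoInv_D4_1.getD 14 0 = 14 := by decide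
  have e2 : grEps_D4_1.getD 14 0 = 1 := by decide
  rw [e1, e2] at h
  have h' : φ (u 14) = u 14 := by
    rw [Int.cast_one, one_mul] at h
    exact h.symm
  refine ⟨⟨u 14, (mem_fixField K φ _).mpr h'⟩, ?_⟩
  intro r hr
  rw [List.mem_singleton] at hr
  subst hr
  rfl

variable (hφ : ∀ a, φ^[3] a = a)

include hφ in
theorem sig1_compat (t : K) : ∀ r ∈ (twSimpIdx_D4.get dJ1).map chevD4.simple,
    sig1 K φ r t = twistFn (fun r => grRhoInv_D4_1.getD r 0) (fun r => grEps_D4_1.getD r 0) K φ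
      (fun r => sig1 K φ r t) r := by
  rw [dJ1_map]
  intro r hr
  simp only [List.mem_cons, List.not_mem_nil, or_false] at hr
  unfold twistFn
  beta_reduce
  have a1 : grRhoInv_D4_1.getD 18 0 = 12 := by decide
  have a2 : grRhoInv_D4_1.getD 13 0 = 18 := by decide
  have a3 : grRhoInv_D4_1.getD 12 0 = 13 := by decide
  have b1 : grEps_D4_1.getD 18 0 = 1 := by decide
  have b2 : grEps_D4_1.getD 13 0 = 1 := by decide
  have b3 : grEps_D4_1.getD 12 0 = 1 := by decide
  rcases hr with rfl | rfl | rfl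
  · rw [a1, b3, sig1_18, sig1_12]
    have := hφ t
    simp only [Function.iterate_succ, Function.iterate_zero, Function.comp, id] at this
    rw [this]; simp
  · rw [a2, b1, sig1_13, sig1_18]; simp
  · rw [a3, b2, sig1_12, sig1_13]; simp

theorem sig1_surj (u : ℕ → K) (hu : ∀ r ∈ (twSimpIdx_D4.get dJ1).map chevD4.simple,
    u r = twistFn (fun r => grRhoInv_D4_1.getD r 0) (fun r => grEps_D4_1.getD r 0) K φ u r) :
    ∃ t : K, ∀ r ∈ (twSimpIdx_D4.get dJ1).map chevD4.simple, u r = sig1 K φ r t := by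
  rw [dJ1_map] at hu ⊢
  have a2 : grRhoInv_D4_1.getD 13 0 = 18 := by decide
  have a3 : grRhoInv_D4_1.getD 12 0 = 13 := by decide
  have b1 : grEps_D4_1.getD 18 0 = 1 := by decide
  have b2 : grEps_D4_1.getD 13 0 = 1 := by decide
  have h13 := hu 13 (by simp)
  have h12 := hu 12 (by simp)
  unfold twistFn at h13 h12
  beta_reduce at h13 h12
  rw [a2, b1] at h13
  rw [a3, b2] at h12
  have h13' : u 13 = φ (u 18) := by rw [h13]; simp
  have h12' : u 12 = φ (φ (u 18)) := by rw [h12, h13']; simp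
  refine ⟨u 18, ?_⟩
  intro r hr
  simp only [List.mem_cons, List.not_mem_nil, or_false] at hr
  rcases hr with rfl | rfl | rfl
  · rfl
  · rw [sig1_13, h13']
  · rw [sig1_12, h12']

end

section
variable (K : Type*) [Field K] (φ : K ≃+* K) (hφ : ∀ a, φ^[3] a = a)

/-- the rank one homomorphism of the central node, `SL₂(k) → ³D₄(q)` -/
noncomputable def dPsi0 : SpecialLinearGroup (Fin 2) ↥(fixField K φ) →* GL chevD4.Idx K :=
  clsHom chevD4 chevD4_mem K twSimpIdx_D4 twSimpCls_D4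
    (twistBNFacts_of_tab2 chevD4 _ _ _ twSimpIdx_D4 twSimpCls_D4 twistTab2_D4) dJ0 (sig0 K φ)

/-- the rank one homomorphism of the outer nodes, `SL₂(K) → ³D₄(q)` -/
noncomputable def dPsi1 : SpecialLinearGroup (Fin 2) K →* GL chevD4.Idx K :=
  clsHom chevD4 chevD4_mem K twSimpIdx_D4 twSimpCls_D4
    (twistBNFacts_of_tab2 chevD4 _ _ _ twSimpIdx_D4 twSimpCls_D4 twistTab2_D4) dJ1 (sig1 K φ)

local notation "G1D4" => chevD4.genSubgroup K (twWords K φ [d4p2, d4m2] []
  [(d4p1, d4p3, d4p4), (d4m1, d4m3, d4m4)])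

local notation "hGD4" => graphFacts_of_graphOKB chevD4 grPv_D4_1 grPvInv_D4_1 grRho_D4_1 grRhoInv_D4_1
  grEps_D4_1 twistTab_D4.graph

include hφ in
theorem dR0 : RankOneHom G1D4 (chevD4.negUnipotent K) (chevD4.borelSubgroup K)
    (clsX chevD4 _ _ _ _ _ hGD4 K φ twSimpIdx_D4 dJ0)
    (clsY chevD4 chevD4_mem _ _ _ _ _ hGD4 K φ twSimpIdx_D4 dJ0) (dPsi0 K φ) :=
  tw_rankOneHom chevD4 chevD4_mem _ _ _ _ _ _ _ _ _ _ _ _ _ _ twistTab_D4 twistTab2_D4 K φ hφ dJ0
    (sig0 K φ) (sig0_compat K φ) (sig0_surj K φ) (by decide)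

include hφ in
theorem dR1 : RankOneHom G1D4 (chevD4.negUnipotent K) (chevD4.borelSubgroup K)
    (clsX chevD4 _ _ _ _ _ hGD4 K φ twSimpIdx_D4 dJ1)
    (clsY chevD4 chevD4_mem _ _ _ _ _ hGD4 K φ twSimpIdx_D4 dJ1) (dPsi1 K φ) :=
  tw_rankOneHom chevD4 chevD4_mem _ _ _ _ _ _ _ _ _ _ _ _ _ _ twistTab_D4 twistTab2_D4 K φ hφ dJ1
    (sig1 K φ) (sig1_compat K φ hφ) (sig1_surj K φ) (by decide)

end

end Cfsg.Agent.Lib.Lead.TwStein
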