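import Cfsg.Agent.Lib.Lead.TwSteinM

/-! The triality twisted groups `³D₄(q)`: an automorphism stabilising `U` and `V` acts on the two rank one
groups through scalars and compatible field automorphisms (lead). -/

set_option autoImplicit false
set_option maxRecDepth 100000

namespace Cfsg.Agent.Lib.Lead.TwStein

open Cfsg Cfsg.Lie Matrix Cfsg.Agent.Lib.Helper7 Cfsg.Agent.Lib.Helper3.BN
open Cfsg.Agent.Lib.Lead.Stein Cfsg.Agent.Lib.Helper11.SL2Hom Cfsg.Agent.Lib.Helper11.ChevSL2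

section
variable {F : Type*} [Field F]

theorem hS_mul_xS (s : F) (hs : s ≠ 0) (t : F) : hS s hs * xS t = xS (s ^ 2 * t) * hS s hs := by
  apply Matrix.SpecialLinearGroup.ext
  intro i j
  show ((hS s hs * xS t : SpecialLinearGroup (Fin 2) F) : Matrix (Fin 2) (Fin 2) F) i j =
    ((xS (s ^ 2 * t) * hS s hs : SpecialLinearGroup (Fin 2) F) : Matrix (Fin 2) (Fin 2) F) i j
  fin_cases i <;> fin_cases j <;>
    simp [coe_xS, coe_hS, Matrix.mul_apply, Fin.sum_univ_two] <;> field_simp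

end

theorem d4BN : TwistBNFacts chevD4 twSimpIdx_D4 twSimpCls_D4 :=
  twistBNFacts_of_tab2 chevD4 [d4p2, d4m2] [] [(d4p1, d4p3, d4p4), (d4m1, d4m3, d4m4)] twSimpIdx_D4
    twSimpCls_D4 twistTab2_D4

section
variable (K : Type*) [Field K] (φ : K ≃+* K)

local notation "G1D4" => chevD4.genSubgroup K (twWords K φ [d4p2, d4m2] []
  [(d4p1, d4p3, d4p4), (d4m1, d4m3, d4m4)])

local notation "hGD4" => graphFacts_of_graphOKB chevD4 grPv_D4_1 grPvInv_D4_1 grRho_D4_1 grRhoInv_D4_1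
  grEps_D4_1 twistTab_D4.graph


theorem dPsi0_xS (t : ↥(fixField K φ)) :
    dPsi0 K φ (xS t) = xGL chevD4 chevD4_mem K 14 (t : K) := by
  have h := classHom_xS chevD4 chevD4_mem K (twSimpIdx_D4.get dJ0) (d4BN.facts _ (List.get_mem _ dJ0))
    (sig0 K φ) t
  rw [dJ0_map, ordProd_cons, ordProd_nil, mul_one] at h
  exact h

theorem dPsi1_xS (u : K) :
    dPsi1 K φ (xS u) = ordProd chevD4 chevD4_mem K [18, 13, 12] (fun r => sig1 K φ r u) := by
  have h := classHom_xS chevD4 chevD4_mem K (twSimpIdx_D4.get dJ1) (d4BN.facts _ (List.get_mem _ dJ1))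
    (sig1 K φ) u
  rw [dJ1_map] at h
  exact h

theorem dPsi0_yS (t : ↥(fixField K φ)) :
    dPsi0 K φ (yS t) = xGL chevD4 chevD4_mem K 9 (t : K) := by
  have h := classHom_yS chevD4 chevD4_mem K (twSimpIdx_D4.get dJ0) (d4BN.facts _ (List.get_mem _ dJ0))
    (sig0 K φ) t
  rw [dJ0_map] at h
  simp only [List.map_cons, List.map_nil, List.prod_cons, List.prod_nil, mul_one] at h
  have e : chevD4.neg 14 = 9 := by decide
  rw [e] at h
  exact h

theorem dPsi1_yS (u : K) :
    dPsi1 K φ (yS u) = xGL chevD4 chevD4_mem K 5 u * (xGL chevD4 chevD4_mem K 10 (φ u) *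
      xGL chevD4 chevD4_mem K 11 (φ (φ u))) := by
  have h := classHom_yS chevD4 chevD4_mem K (twSimpIdx_D4.get dJ1) (d4BN.facts _ (List.get_mem _ dJ1))
    (sig1 K φ) u
  rw [dJ1_map] at h
  simp only [List.map_cons, List.map_nil, List.prod_cons, List.prod_nil, mul_one] at h
  have e1 : chevD4.neg 18 = 5 := by decide
  have e2 : chevD4.neg 13 = 10 := by decide
  have e3 : chevD4.neg 12 = 11 := by decide
  rw [e1, e2, e3, sig1_18, sig1_13, sig1_12] at h
  exact h

/-- `h_a(s) x_b(u) h_a(s)⁻¹ = x_b(s⁻¹ u)` -/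
theorem dPsi0_hS_conj_dPsi1 (s : ↥(fixField K φ)) (hs : s ≠ 0) (u : K) :
    dPsi0 K φ (hS s hs) * dPsi1 K φ (xS u) * (dPsi0 K φ (hS s hs))⁻¹ =
      dPsi1 K φ (xS ((s : K)⁻¹ * u)) := by
  rw [dPsi1_xS, dPsi1_xS]
  have hfix : φ (s : K) = (s : K) := (mem_fixField K φ _).mp s.2
  have key : ∀ r ∈ [18, 13, 12], ∀ t : K, dPsi0 K φ (hS s hs) * xGL chevD4 chevD4_mem K r t *
      (dPsi0 K φ (hS s hs))⁻¹ = xGL chevD4 chevD4_mem K r ((s : K)⁻¹ * t) := by
    intro r hr t
    have h := classHom_hS_conj_xGL chevD4 chevD4_mem K (twSimpIdx_D4.get dJ0)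
      (d4BN.facts _ (List.get_mem _ dJ0)) (sig0 K φ) s hs r t
    have e : twSimpIdx_D4.get dJ0 = [1] := by decide
    have e2 : ((twSimpIdx_D4.get dJ0).map fun i =>
        (sig0 K φ (chevD4.simple i)) s ^ chevD4.cartan i r).prod =
        (sig0 K φ (chevD4.simple 1)) s ^ chevD4.cartan 1 r := by
      rw [e]
      simp only [List.map_cons, List.map_nil, List.prod_cons, List.prod_nil, mul_one]
    rw [e2] at h
    have c1 : chevD4.cartan 1 18 = -1 := by decide +kernel
    have c2 : chevD4.cartan 1 13 = -1 := by decide +kernel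
    have c3 : chevD4.cartan 1 12 = -1 := by decide +kernel
    have hc : chevD4.cartan 1 r = -1 := by
      simp only [List.mem_cons, List.not_mem_nil, or_false] at hr
      rcases hr with rfl | rfl | rfl
      · exact c1
      · exact c2
      · exact c3
    rw [hc, _root_.zpow_neg_one] at h
    exact h
  rw [conj_ordProd_of chevD4 chevD4_mem K _ (fun _ => (s : K)⁻¹) [18, 13, 12] key]
  apply ordProd_congr
  intro r hr
  simp only [List.mem_cons, List.not_mem_nil, or_false] at hr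
  rcases hr with rfl | rfl | rfl
  · rw [sig1_18, sig1_18]
  · rw [sig1_13, sig1_13, map_mul, map_inv₀, hfix]
  · rw [sig1_12, sig1_12, map_mul, map_mul, map_inv₀, map_inv₀, hfix, hfix]

/-- `h_b(λ) x_a(t) h_b(λ)⁻¹ = x_a((λ φλ φ²λ)⁻¹ t)` -/
theorem dPsi1_hS_conj_xGL (lam : K) (hl : lam ≠ 0) (t : K) :
    dPsi1 K φ (hS lam hl) * xGL chevD4 chevD4_mem K 14 t * (dPsi1 K φ (hS lam hl))⁻¹ =
      xGL chevD4 chevD4_mem K 14 ((lam * (φ lam * φ (φ lam)))⁻¹ * t) := by
  have h := classHom_hS_conj_xGL chevD4 chevD4_mem K (twSimpIdx_D4.get dJ1)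
    (d4BN.facts _ (List.get_mem _ dJ1)) (sig1 K φ) lam hl 14 t
  have e : twSimpIdx_D4.get dJ1 = [0, 2, 3] := by decide
  have e2 : ((twSimpIdx_D4.get dJ1).map fun i =>
      (sig1 K φ (chevD4.simple i)) lam ^ chevD4.cartan i 14).prod =
      (sig1 K φ (chevD4.simple 0)) lam ^ chevD4.cartan 0 14 *
        ((sig1 K φ (chevD4.simple 2)) lam ^ chevD4.cartan 2 14 *
          (sig1 K φ (chevD4.simple 3)) lam ^ chevD4.cartan 3 14) := by
    rw [e]
    simp only [List.map_cons, List.map_nil, List.prod_cons, List.prod_nil, mul_one]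
  rw [e2] at h
  have c0 : chevD4.cartan 0 14 = -1 := by decide +kernel
  have c2 : chevD4.cartan 2 14 = -1 := by decide +kernel
  have c3 : chevD4.cartan 3 14 = -1 := by decide +kernel
  have s0 : chevD4.simple 0 = 18 := by decide
  have s2 : chevD4.simple 2 = 13 := by decide
  have s3 : chevD4.simple 3 = 12 := by decide
  rw [c0, c2, c3, s0, s2, s3, sig1_18, sig1_13, sig1_12, _root_.zpow_neg_one, _root_.zpow_neg_one,
    _root_.zpow_neg_one] at h
  rw [_root_.mul_inv_rev, _root_.mul_inv_rev]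
  rw [show (φ (φ lam))⁻¹ * (φ lam)⁻¹ * lam⁻¹ = lam⁻¹ * ((φ lam)⁻¹ * (φ (φ lam))⁻¹) by ring]
  exact h

end

end Cfsg.Agent.Lib.Lead.TwStein
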