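import Cfsg.Agent.Lib.Lead.TwSteinN

/-! The triality twisted groups `³D₄(q)`: the parameters of an automorphism stabilising `U` and `V`
(lead). -/

set_option autoImplicit false
set_option maxRecDepth 100000

namespace Cfsg.Agent.Lib.Lead.TwStein

open Cfsg Cfsg.Lie Matrix Cfsg.Agent.Lib.Helper7 Cfsg.Agent.Lib.Helper3.BN
open Cfsg.Agent.Lib.Lead.Stein Cfsg.Agent.Lib.Helper11.SL2Hom Cfsg.Agent.Lib.Helper11.ChevSL2

section
variable {Γ : Type*} [Group Γ] {G : Subgroup Γ}
variable {F : Type*} [Field F] {V B X Y : Subgroup Γ} {ψ : SpecialLinearGroup (Fin 2) F →* Γ}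

/-- `Y` has as many elements as the field -/
theorem RankOneHom.card_Y (R : RankOneHom G V B X Y ψ) : Nat.card ↥Y = Nat.card F := by
  symm
  apply Nat.card_congr
  refine Equiv.ofBijective (fun t => (⟨ψ (yS t), (R.memY _).mpr ⟨t, rfl⟩⟩ : ↥Y)) ⟨?_, ?_⟩
  · intro t t' h
    exact R.injY t t' (congrArg Subtype.val h)
  · rintro ⟨x, hx⟩
    obtain ⟨t, rfl⟩ := (R.memY x).mp hx
    exact ⟨t, rfl⟩

/-- an automorphism acting on `X` through a scalar and a field automorphism acts on `Y` through the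
inverse scalar and the same automorphism -/
theorem RankOneHom.of_field [Finite F] (R : RankOneHom G V B X Y ψ) (θ : ↥G ≃* ↥G)
    (hθV : Stb θ V) (hθB : Stb θ B) (hθX : Mps θ X X) (hθY : Mps θ Y Y) (c : F) (α : F ≃+* F)
    (hx : ∀ t, ((θ ⟨ψ (xS t), R.mem _⟩ : ↥G) : Γ) = ψ (xS (c * α t))) :
    ∀ t, ((θ ⟨ψ (yS t), R.mem _⟩ : ↥G) : Γ) = ψ (yS (c⁻¹ * α t)) := by
  obtain ⟨c', α', hc', h1, h2⟩ := R.exists_field θ hθV hθB hθX hθY
  have e : ∀ t, c * α t = c' * α' t := by
    intro t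
    apply R.injX
    rw [← hx, h1]
  have ec : c = c' := by
    have := e 1
    rwa [map_one, map_one, mul_one, mul_one] at this
  have eα : ∀ t, α' t = α t := by
    intro t
    have := e t
    rw [ec] at this
    exact (mul_left_cancel₀ hc' this).symm
  intro t
  rw [h2, ec, eα]

end

section
variable (K : Type*) [Field K] [Fintype K] (φ : K ≃+* K) (hφ : ∀ a, φ^[3] a = a)
variable (q : ℕ) (hK : Fintype.card K = q ^ 3) (hfix : Nat.card {a : K // φ a = a} = q)

local notation "G1D4" => chevD4.genSubgroup K (twWords K φ [d4p2, d4m2] []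
  [(d4p1, d4p3, d4p4), (d4m1, d4m3, d4m4)])

local notation "hGD4" => graphFacts_of_graphOKB chevD4 grPv_D4_1 grPvInv_D4_1 grRho_D4_1 grRhoInv_D4_1
  grEps_D4_1 twistTab_D4.graph

include hK in
theorem d4_q_gt : 1 < q := by
  by_contra h
  have hq : q = 0 ∨ q = 1 := by omega
  have h2 : 1 < Fintype.card K := Fintype.one_lt_card
  rcases hq with rfl | rfl
  · rw [hK] at h2; norm_num at h2
  · rw [hK] at h2; norm_num at h2

include hfix in
omit [Fintype K] in
theorem card_fixField : Nat.card ↥(fixField K φ) = q := by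
  rw [← hfix]
  exact Nat.card_congr (Equiv.subtypeEquivRight (fun a => mem_fixField K φ a))

include hφ hK hfix in
/-- an automorphism stabilising `U` and `V` stabilises the two rank one groups `X_J` and `Y_J` -/
theorem d4_stb_cls (θ : ↥G1D4 ≃* ↥G1D4) (hU : Stb θ (chevD4.posUnipotent K))
    (hV : Stb θ (chevD4.negUnipotent K)) (J : Fin twSimpIdx_D4.length) :
    Mps θ (clsX chevD4 _ _ _ _ _ hGD4 K φ twSimpIdx_D4 J) (clsX chevD4 _ _ _ _ _ hGD4 K φ twSimpIdx_D4 J) ∧
    Mps θ (clsY chevD4 chevD4_mem _ _ _ _ _ hGD4 K φ twSimpIdx_D4 J)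
      (clsY chevD4 chevD4_mem _ _ _ _ _ hGD4 K φ twSimpIdx_D4 J) := by
  have hq := d4_q_gt K q hK
  have R0 := dR0 K φ hφ
  have R1 := dR1 K φ hφ
  have hcK : Nat.card K = q ^ 3 := by rw [Nat.card_eq_fintype_card, hK]
  have hck := card_fixField K φ q hfix
  have hne : q ≠ q ^ 3 := by
    intro h
    have : q ^ 1 < q ^ 3 := Nat.pow_lt_pow_right hq (by norm_num)
    rw [pow_one] at this
    omega
  obtain ⟨⟨J', hJ'⟩, ⟨J'', hJ''⟩⟩ := tw_cls_map chevD4 chevD4_mem _ _ _ _ _ _ _ _ _ _ _ _ _ _ twistTab_D4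
    twistTab2_D4 K φ hφ twLongJs_D4 twLongJs_D4_mem (longFacts_of_longB _ _ twLongB_D4) hopp_D4 θ hU hV J
  have hXle : ∀ J : Fin twSimpIdx_D4.length, clsX chevD4 _ _ _ _ _ hGD4 K φ twSimpIdx_D4 J ≤ G1D4 := by
    intro J
    rcases dJ_cases J with rfl | rfl
    · exact R0.le_X
    · exact R1.le_X
  have hYle : ∀ J : Fin twSimpIdx_D4.length,
      clsY chevD4 chevD4_mem _ _ _ _ _ hGD4 K φ twSimpIdx_D4 J ≤ G1D4 := by
    intro J
    rcases dJ_cases J with rfl | rfl
    · exact R0.le_Y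
    · exact R1.le_Y
  have h1 := card_eq_of_mps (hXle J) (hXle J') hJ'
  have h2 := card_eq_of_mps (hYle J) (hYle J'') hJ''
  have c0 := R0.card_X
  have c1 := R1.card_X
  have d0 := R0.card_Y
  have d1 := R1.card_Y
  rw [hck] at c0 d0
  rw [hcK] at c1 d1
  have e1 : J' = J := by
    rcases dJ_cases J with rfl | rfl <;> rcases dJ_cases J' with rfl | rfl
    · rfl
    · rw [c0, c1] at h1; exact absurd h1 hne
    · rw [c0, c1] at h1; exact absurd h1.symm hne
    · rfl
  have e2 : J'' = J := by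
    rcases dJ_cases J with rfl | rfl <;> rcases dJ_cases J'' with rfl | rfl
    · rfl
    · rw [d0, d1] at h2; exact absurd h2 hne
    · rw [d0, d1] at h2; exact absurd h2.symm hne
    · rfl
  rw [e1] at hJ'
  rw [e2] at hJ''
  exact ⟨hJ', hJ''⟩

end

end Cfsg.Agent.Lib.Lead.TwStein
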