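import Cfsg.Agent.Lib.Lead.TwSteinO

/-! The triality twisted groups `³D₄(q)`: parameters of an automorphism stabilising `U` and `V`, and
rigidity (lead). -/

set_option autoImplicit false
set_option maxRecDepth 100000

namespace Cfsg.Agent.Lib.Lead.TwStein

open Cfsg Cfsg.Lie Matrix Cfsg.Agent.Lib.Helper7 Cfsg.Agent.Lib.Helper3.BN
open Cfsg.Agent.Lib.Lead.Stein Cfsg.Agent.Lib.Helper11.SL2Hom Cfsg.Agent.Lib.Helper11.ChevSL2

section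
variable (K : Type*) [Field K] [Fintype K] (φ : K ≃+* K) (hφ : ∀ a, φ^[3] a = a)
variable (q : ℕ) (hK : Fintype.card K = q ^ 3) (hfix : Nat.card {a : K // φ a = a} = q)

local notation "G1D4" => chevD4.genSubgroup K (twWords K φ [d4p2, d4m2] []
  [(d4p1, d4p3, d4p4), (d4m1, d4m3, d4m4)])

local notation "hGD4" => graphFacts_of_graphOKB chevD4 grPv_D4_1 grPvInv_D4_1 grRho_D4_1 grRhoInv_D4_1
  grEps_D4_1 twistTab_D4.graph

include hφ in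
omit [Fintype K] in
theorem dPsi0_mem (g : SpecialLinearGroup (Fin 2) ↥(fixField K φ)) : dPsi0 K φ g ∈ G1D4 :=
  (dR0 K φ hφ).mem g

include hφ in
omit [Fintype K] in
theorem dPsi1_mem (g : SpecialLinearGroup (Fin 2) K) : dPsi1 K φ g ∈ G1D4 :=
  (dR1 K φ hφ).mem g

include hK hfix in
/-- the parameters of an automorphism stabilising `U` and `V` -/
theorem d4_params (θ : ↥G1D4 ≃* ↥G1D4) (hU : Stb θ (chevD4.posUnipotent K))
    (hV : Stb θ (chevD4.negUnipotent K)) :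
    ∃ (c0 : ↥(fixField K φ)) (α0 : ↥(fixField K φ) ≃+* ↥(fixField K φ)) (c1 : K) (α1 : K ≃+* K),
      c0 ≠ 0 ∧ c1 ≠ 0 ∧
      (∀ t, ((θ ⟨dPsi0 K φ (xS t), dPsi0_mem K φ hφ _⟩ : ↥G1D4) : GL chevD4.Idx K) =
        dPsi0 K φ (xS (c0 * α0 t))) ∧
      (∀ t, ((θ ⟨dPsi1 K φ (xS t), dPsi1_mem K φ hφ _⟩ : ↥G1D4) : GL chevD4.Idx K) =
        dPsi1 K φ (xS (c1 * α1 t))) ∧
      (∀ s : ↥(fixField K φ), ((α0 s : ↥(fixField K φ)) : K) = α1 (s : K)) := by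
  have R0 := dR0 K φ hφ
  have R1 := dR1 K φ hφ
  have hB := (tw_stb_borel chevD4 chevD4_mem _ _ _ _ _ _ _ _ _ _ _ _ _ _ twistTab_D4
    twistTab2_D4 K φ hφ twLongJs_D4 twLongJs_D4_mem (longFacts_of_longB _ _ twLongB_D4) θ hU hV).1
  have hc0 := d4_stb_cls K φ hφ q hK hfix θ hU hV dJ0
  have hc1 := d4_stb_cls K φ hφ q hK hfix θ hU hV dJ1
  haveI : Finite ↥(fixField K φ) := inferInstance
  obtain ⟨c0, α0, hc0', h0x, h0y⟩ := R0.exists_field θ hV hB hc0.1 hc0.2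
  obtain ⟨c1, α1, hc1', h1x, h1y⟩ := R1.exists_field θ hV hB hc1.1 hc1.2
  refine ⟨c0, α0, c1, α1, hc0', hc1', h0x, h1x, ?_⟩
  intro s
  by_cases hs : s = 0
  · rw [hs, map_zero]; simp
  have hαs : α0 s ≠ 0 := (map_ne_zero α0).mpr hs
  have hhS := R0.map_hS θ c0 α0 hc0' h0x h0y s hs
  -- apply `θ` to `h_a(s) x_b(1) h_a(s)⁻¹ = x_b(s⁻¹)`
  have e1 := dPsi0_hS_conj_dPsi1 K φ s hs 1
  set A : ↥G1D4 := ⟨dPsi0 K φ (hS s hs), dPsi0_mem K φ hφ _⟩ with hA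
  set X1 : ↥G1D4 := ⟨dPsi1 K φ (xS 1), dPsi1_mem K φ hφ _⟩ with hX1
  have e2 : (⟨dPsi1 K φ (xS ((s : K)⁻¹ * 1)), dPsi1_mem K φ hφ _⟩ : ↥G1D4) = A * X1 * A⁻¹ :=
    Subtype.ext e1.symm
  have e3 := congrArg (fun g : ↥G1D4 => ((θ g : ↥G1D4) : GL chevD4.Idx K)) e2
  beta_reduce at e3
  rw [map_mul, map_mul, map_inv] at e3
  simp only [Subgroup.coe_mul, Subgroup.coe_inv] at e3
  rw [h1x, hA, hX1, h1x, hhS, dPsi0_hS_conj_dPsi1 K φ (α0 s) hαs] at e3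
  have e4 := R1.injX _ _ e3
  rw [map_one, mul_one, mul_one, map_inv₀] at e4
  have e5 : (α1 (s : K))⁻¹ = ((α0 s : ↥(fixField K φ)) : K)⁻¹ := by
    have := mul_left_cancel₀ hc1' (e4.trans (mul_comm _ _))
    exact this
  exact (inv_injective e5).symm

end

end Cfsg.Agent.Lib.Lead.TwStein
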