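import Cfsg.Agent.Lib.Lead.TwSteinP

/-! The triality twisted groups `³D₄(q)`: an automorphism stabilising `U` and `V` and fixing the two positive
rank one groups is trivial (lead). -/

set_option autoImplicit false
set_option maxRecDepth 100000

namespace Cfsg.Agent.Lib.Lead.TwStein

open Cfsg Cfsg.Lie Matrix Cfsg.Agent.Lib.Helper7 Cfsg.Agent.Lib.Helper3.BN
open Cfsg.Agent.Lib.Lead.Stein Cfsg.Agent.Lib.Helper11.SL2Hom Cfsg.Agent.Lib.Helper11.ChevSL2

section
variable (K : Type*) [Field K] [Fintype K] (φ : K ≃+* K) (hφ : ∀ a, φ^[3] a = a)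
variable (q : ℕ) (hK : Fintype.card K = q ^ 3) (hfix : Nat.card {a : K // φ a = a} = q)

local notation "G1D4" => chevD4.genSubgroup K (twWords K φ [d4p2, d4m2] []
  [(d4p1, d4p3, d4p4), (d4m1, d4m3, d4m4)])

/-- the generators of `³D₄(q)` are values of the two rank one homomorphisms -/
theorem d4_gen_cases (w : List (ℕ × K))
    (hw : w ∈ twWords K φ [d4p2, d4m2] [] [(d4p1, d4p3, d4p4), (d4m1, d4m3, d4m4)]) :
    (∃ t, wordGL chevD4 chevD4_mem K w = dPsi0 K φ (xS t)) ∨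
    (∃ t, wordGL chevD4 chevD4_mem K w = dPsi0 K φ (yS t)) ∨
    (∃ t, wordGL chevD4 chevD4_mem K w = dPsi1 K φ (xS t)) ∨
    (∃ t, wordGL chevD4 chevD4_mem K w = dPsi1 K φ (yS t)) := by
  rcases hw with (⟨t, ht, r, hr, rfl⟩ | ⟨t, rs, hrs, rfl⟩) | ⟨t, rs, hrs, rfl⟩
  · simp only [List.mem_cons, List.not_mem_nil, or_false] at hr
    rcases hr with rfl | rfl
    · left
      refine ⟨⟨t, (mem_fixField K φ t).mpr ht⟩, ?_⟩
      rw [dPsi0_xS]
      unfold wordGL
      simp [d4p2]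
    · right; left
      refine ⟨⟨t, (mem_fixField K φ t).mpr ht⟩, ?_⟩
      rw [dPsi0_yS]
      unfold wordGL
      simp [d4m2]
  · simp at hrs
  · simp only [List.mem_cons, List.not_mem_nil, or_false] at hrs
    rcases hrs with rfl | rfl
    · right; right; left
      refine ⟨t, ?_⟩
      rw [dPsi1_xS]
      unfold ordProd
      simp only [List.map_cons, List.map_nil, sig1_18, sig1_13, sig1_12]
      rfl
    · right; right; right
      refine ⟨t, ?_⟩
      rw [dPsi1_yS]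
      unfold wordGL
      simp [d4m1, d4m3, d4m4]

include hφ hK hfix in
/-- rigidity: an automorphism stabilising `U` and `V` and fixing `X_a` and `X_b` elementwise is trivial -/
theorem d4_rigid (θ : ↥G1D4 ≃* ↥G1D4) (hU : Stb θ (chevD4.posUnipotent K))
    (hV : Stb θ (chevD4.negUnipotent K))
    (h0 : ∀ t, ((θ ⟨dPsi0 K φ (xS t), dPsi0_mem K φ hφ _⟩ : ↥G1D4) : GL chevD4.Idx K) = dPsi0 K φ (xS t))
    (h1 : ∀ t, ((θ ⟨dPsi1 K φ (xS t), dPsi1_mem K φ hφ _⟩ : ↥G1D4) : GL chevD4.Idx K) = dPsi1 K φ (xS t))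
    (g : ↥G1D4) : θ g = g := by
  have R0 := dR0 K φ hφ
  have R1 := dR1 K φ hφ
  have hB := (tw_stb_borel chevD4 chevD4_mem _ _ _ _ _ _ _ _ _ _ _ _ _ _ twistTab_D4
    twistTab2_D4 K φ hφ twLongJs_D4 twLongJs_D4_mem (longFacts_of_longB _ _ twLongB_D4) θ hU hV).1
  have hc0 := d4_stb_cls K φ hφ q hK hfix θ hU hV dJ0
  have hc1 := d4_stb_cls K φ hφ q hK hfix θ hU hV dJ1
  haveI : Finite ↥(fixField K φ) := inferInstance
  have h0y := R0.of_scalar θ hV hB hc0.1 hc0.2 1 (fun t => by rw [one_mul]; exact h0 t)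
  have h1y := R1.of_scalar θ hV hB hc1.1 hc1.2 1 (fun t => by rw [one_mul]; exact h1 t)
  simp only [inv_one, one_mul] at h0y h1y
  obtain ⟨g, hg⟩ := g
  have key : ∀ (x : GL chevD4.Idx K) (hx : x ∈ G1D4), θ ⟨x, hx⟩ = ⟨x, hx⟩ := by
    intro x hx
    unfold ChevalleyDatum.genSubgroup at hx
    induction hx using Subgroup.closure_induction with
    | mem x hx' =>
      obtain ⟨w, hw, hxw⟩ := hx'
      have hxe : x = wordGL chevD4 chevD4_mem K w := Units.ext (by rw [hxw, coe_wordGL])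
      apply Subtype.ext
      rcases d4_gen_cases K φ w hw with ⟨t, ht⟩ | ⟨t, ht⟩ | ⟨t, ht⟩ | ⟨t, ht⟩
      · have e : x = dPsi0 K φ (xS t) := hxe.trans ht
        subst e
        exact h0 t
      · have e : x = dPsi0 K φ (yS t) := hxe.trans ht
        subst e
        exact h0y t
      · have e : x = dPsi1 K φ (xS t) := hxe.trans ht
        subst e
        exact h1 t
      · have e : x = dPsi1 K φ (yS t) := hxe.trans ht
        subst e
        exact h1y t
    | one => exact map_one θ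
    | mul a b ha hb iha ihb =>
      have : (⟨a * b, Subgroup.mul_mem _ ha hb⟩ : ↥G1D4) = ⟨a, ha⟩ * ⟨b, hb⟩ := rfl
      rw [this, map_mul, iha, ihb]
    | inv a ha iha =>
      have : (⟨a⁻¹, Subgroup.inv_mem _ ha⟩ : ↥G1D4) = ⟨a, ha⟩⁻¹ := rfl
      rw [this, map_inv, iha]
  exact key g hg

end

end Cfsg.Agent.Lib.Lead.TwStein
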