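import Cfsg.Agent.Lib.Lead.TwSteinQ

/-! The triality twisted groups `³D₄(q)`: an automorphism stabilising `U` and `V` is the product of a field
automorphism and the conjugation by an element of `H ∩ ³D₄(q)` (lead). -/

set_option autoImplicit false
set_option maxRecDepth 100000

namespace Cfsg.Agent.Lib.Lead.TwStein

open Cfsg Cfsg.Lie Matrix Cfsg.Agent.Lib.Helper7 Cfsg.Agent.Lib.Helper3.BN
open Cfsg.Agent.Lib.Lead.Stein Cfsg.Agent.Lib.Helper11.SL2Hom Cfsg.Agent.Lib.Helper11.ChevSL2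

section
variable (K : Type*) [Field K] [Finite K] (φ : K ≃+* K)

/-- every pair of characters `(c₀, c₁) ∈ k^× × K^×` is realised by a torus element -/
theorem d4_torus_exists (hφ3 : ∀ a, φ (φ (φ a)) = a) (c0 c1 : K) (h0 : c0 ≠ 0) (h1 : c1 ≠ 0)
    (hc0 : φ c0 = c0) :
    ∃ mu lam : K, mu ≠ 0 ∧ lam ≠ 0 ∧ φ mu = mu ∧
      mu ^ 2 * (lam * (φ lam * φ (φ lam)))⁻¹ = c0 ∧ mu⁻¹ * lam ^ 2 = c1 := by
  set T : Set (K × K) := {p | p.1 ≠ 0 ∧ p.2 ≠ 0 ∧ φ p.1 = p.1} with hT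
  set f : K × K → K × K := fun p =>
    (p.1 ^ 2 * (p.2 * (φ p.2 * φ (φ p.2)))⁻¹, p.1⁻¹ * p.2 ^ 2) with hf
  have hfin : T.Finite := Set.toFinite T
  have hmaps : Set.MapsTo f T T := by
    rintro ⟨a, b⟩ ⟨ha, hb, hfa⟩
    simp only at ha hb hfa
    have hb1 : φ b ≠ 0 := (map_ne_zero φ).mpr hb
    have hb2 : φ (φ b) ≠ 0 := (map_ne_zero φ).mpr hb1
    refine ⟨?_, ?_, ?_⟩
    · exact mul_ne_zero (pow_ne_zero _ ha) (inv_ne_zero (mul_ne_zero hb (mul_ne_zero hb1 hb2)))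
    · exact mul_ne_zero (inv_ne_zero ha) (pow_ne_zero _ hb)
    · show φ (a ^ 2 * (b * (φ b * φ (φ b)))⁻¹) = a ^ 2 * (b * (φ b * φ (φ b)))⁻¹
      rw [map_mul, map_pow, map_inv₀, map_mul, map_mul, hfa, hφ3]
      congr 2
      ring
  have hinj : Set.InjOn f T := by
    rintro ⟨a, b⟩ ⟨ha, hb, hfa⟩ ⟨a', b'⟩ ⟨ha', hb', hfa'⟩ hff
    simp only at ha hb hfa ha' hb' hfa'
    simp only [hf, Prod.mk.injEq] at hff
    obtain ⟨e1, e2⟩ := hff
    have hb1 : φ b ≠ 0 := (map_ne_zero φ).mpr hb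
    have hb2 : φ (φ b) ≠ 0 := (map_ne_zero φ).mpr hb1
    have hb1' : φ b' ≠ 0 := (map_ne_zero φ).mpr hb'
    have hb2' : φ (φ b') ≠ 0 := (map_ne_zero φ).mpr hb1'
    obtain ⟨r1, r2⟩ := tD4_algebra K φ hφ3 (a * a'⁻¹) (b * b'⁻¹)
      (mul_ne_zero ha (inv_ne_zero ha')) (mul_ne_zero hb (inv_ne_zero hb'))
      (by rw [map_mul, map_inv₀, hfa, hfa'])
      (by
        field_simp at e2 ⊢
        linear_combination e2)
      (by
        simp only [map_mul, map_inv₀]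
        field_simp at e1 ⊢
        linear_combination e1)
    have ea : a = a' := by
      field_simp at r1
      exact r1
    have eb : b = b' := by
      field_simp at r2
      exact r2
    rw [ea, eb]
  have hbij := (Set.Finite.injOn_iff_bijOn_of_mapsTo hfin hmaps).mp hinj
  obtain ⟨⟨mu, lam⟩, ⟨hmu, hlam, hfmu⟩, hp⟩ := hbij.surjOn (show (c0, c1) ∈ T from ⟨h0, h1, hc0⟩)
  simp only [hf, Prod.mk.injEq] at hp
  exact ⟨mu, lam, hmu, hlam, hfmu, hp.1, hp.2⟩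

end

end Cfsg.Agent.Lib.Lead.TwStein
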