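import Cfsg.Agent.Lib.Lead.TwSteinR

/-! The triality twisted groups `³D₄(q)`: an automorphism stabilising `U` and `V` is the product of a field
automorphism and the conjugation by an element of `H ∩ ³D₄(q)` (lead). -/

set_option autoImplicit false
set_option maxRecDepth 100000

namespace Cfsg.Agent.Lib.Lead.TwStein

open Cfsg Cfsg.Lie Matrix Cfsg.Agent.Lib.Helper7 Cfsg.Agent.Lib.Helper3.BN
open Cfsg.Agent.Lib.Lead.Stein Cfsg.Agent.Lib.Helper11.SL2Hom Cfsg.Agent.Lib.Helper11.ChevSL2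

section
variable (K : Type*) [Field K] (φ : K ≃+* K)

local notation "G1D4" => chevD4.genSubgroup K (twWords K φ [d4p2, d4m2] []
  [(d4p1, d4p3, d4p4), (d4m1, d4m3, d4m4)])

/-- `h_a(s) x_a(t) h_a(s)⁻¹ = x_a(s² t)` -/
theorem dPsi0_hS_conj_xGL (s : ↥(fixField K φ)) (hs : s ≠ 0) (t : K) :
    dPsi0 K φ (hS s hs) * xGL chevD4 chevD4_mem K 14 t * (dPsi0 K φ (hS s hs))⁻¹ =
      xGL chevD4 chevD4_mem K 14 ((s : K) ^ 2 * t) := by
  have h := classHom_hS_conj_xGL chevD4 chevD4_mem K (twSimpIdx_D4.get dJ0)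
    (d4BN.facts _ (List.get_mem _ dJ0)) (sig0 K φ) s hs 14 t
  have e : twSimpIdx_D4.get dJ0 = [1] := by decide
  have e2 : ((twSimpIdx_D4.get dJ0).map fun i =>
      (sig0 K φ (chevD4.simple i)) s ^ chevD4.cartan i 14).prod =
      (sig0 K φ (chevD4.simple 1)) s ^ chevD4.cartan 1 14 := by
    rw [e]
    simp only [List.map_cons, List.map_nil, List.prod_cons, List.prod_nil, mul_one]
  rw [e2] at h
  have c1 : chevD4.cartan 1 14 = 2 := by decide +kernel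
  rw [c1] at h
  have e3 : (sig0 K φ (chevD4.simple 1)) s ^ (2 : ℤ) = (s : K) ^ 2 := zpow_ofNat _ 2
  rw [e3] at h
  exact h

/-- `h_b(λ) x_b(u) h_b(λ)⁻¹ = x_b(λ² u)` -/
theorem dPsi1_hS_conj_dPsi1 (lam : K) (hl : lam ≠ 0) (u : K) :
    dPsi1 K φ (hS lam hl) * dPsi1 K φ (xS u) * (dPsi1 K φ (hS lam hl))⁻¹ =
      dPsi1 K φ (xS (lam ^ 2 * u)) := by
  rw [← map_mul, hS_mul_xS, map_mul, mul_assoc, mul_inv_cancel, mul_one]

variable (α : K ≃+* K) (hα : ∀ a, α (φ a) = φ (α a))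

include hα in
/-- the field automorphism on `X_b` -/
theorem glMapEquiv_dPsi1_xS (u : K) :
    glMapEquiv chevD4.Idx α (dPsi1 K φ (xS u)) = dPsi1 K φ (xS (α u)) := by
  rw [dPsi1_xS, dPsi1_xS]
  unfold ordProd
  rw [glMapEquiv_wordGL chevD4 chevD4_mem K α]
  simp only [List.map_cons, List.map_nil, sig1_18, sig1_13, sig1_12, hα]

/-- the field automorphism on `X_a` -/
theorem glMapEquiv_dPsi0_xS (t t' : ↥(fixField K φ)) (ht : (t' : K) = α (t : K)) :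
    glMapEquiv chevD4.Idx α (dPsi0 K φ (xS t)) = dPsi0 K φ (xS t') := by
  rw [dPsi0_xS, dPsi0_xS, glMapEquiv_xGL chevD4 chevD4_mem K α, ht]

end

section
variable (K : Type*) [Field K] [Fintype K] (φ : K ≃+* K) (hφ : ∀ a, φ^[3] a = a)
variable (q : ℕ) (hK : Fintype.card K = q ^ 3) (hfix : Nat.card {a : K // φ a = a} = q)
variable (hcomm : ∀ (α : K ≃+* K) (a : K), α (φ a) = φ (α a))

local notation "G1D4" => chevD4.genSubgroup K (twWords K φ [d4p2, d4m2] []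
  [(d4p1, d4p3, d4p4), (d4m1, d4m3, d4m4)])

include hφ hK hfix in
/-- an automorphism stabilising `U` and `V` is a field automorphism followed by the conjugation by an
element of `G¹` -/
theorem d4_main (θ : ↥G1D4 ≃* ↥G1D4) (hU : Stb θ (chevD4.posUnipotent K))
    (hV : Stb θ (chevD4.negUnipotent K)) :
    ∃ (α : K ≃+* K) (h : ↥G1D4), ∀ g, θ g = h * twFieldAut chevD4 chevD4_mem K φ α (hcomm α) [d4p2, d4m2] []
      [(d4p1, d4p3, d4p4), (d4m1, d4m3, d4m4)] g * h⁻¹ := by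
  have hφ3 : ∀ a, φ (φ (φ a)) = a := fun a => hφ a
  obtain ⟨c0, α0, c1, α1, hc0, hc1, h0x, h1x, hlink⟩ := d4_params K φ hφ q hK hfix θ hU hV
  set Φ := twFieldAut chevD4 chevD4_mem K φ α1 (hcomm α1) [d4p2, d4m2] []
    [(d4p1, d4p3, d4p4), (d4m1, d4m3, d4m4)] with hΦ
  have hΦU : Stb Φ (chevD4.posUnipotent K) := twFieldAut_stb_pos chevD4 chevD4_mem K φ α1 (hcomm α1) _ _ _
  have hΦV : Stb Φ (chevD4.negUnipotent K) := twFieldAut_stb_neg chevD4 chevD4_mem K φ α1 (hcomm α1) _ _ _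
  -- `Φ⁻¹` on the rank one groups
  have hΦ1 : ∀ u : K, Φ.symm ⟨dPsi1 K φ (xS u), dPsi1_mem K φ hφ _⟩ =
      ⟨dPsi1 K φ (xS (α1.symm u)), dPsi1_mem K φ hφ _⟩ := by
    intro u
    rw [MulEquiv.symm_apply_eq]
    apply Subtype.ext
    rw [hΦ, coe_twFieldAut]
    show dPsi1 K φ (xS u) = glMapEquiv chevD4.Idx α1 (dPsi1 K φ (xS (α1.symm u)))
    rw [glMapEquiv_dPsi1_xS K φ α1 (hcomm α1), RingEquiv.apply_symm_apply]
  have hsymm_fix : ∀ t : ↥(fixField K φ), α1.symm (t : K) ∈ fixField K φ := by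
    intro t
    rw [mem_fixField]
    have := hcomm α1.symm (t : K)
    rw [(mem_fixField K φ _).mp t.2] at this
    exact this.symm
  have hΦ0 : ∀ t : ↥(fixField K φ), Φ.symm ⟨dPsi0 K φ (xS t), dPsi0_mem K φ hφ _⟩ =
      ⟨dPsi0 K φ (xS ⟨α1.symm (t : K), hsymm_fix t⟩), dPsi0_mem K φ hφ _⟩ := by
    intro t
    rw [MulEquiv.symm_apply_eq]
    apply Subtype.ext
    rw [hΦ, coe_twFieldAut]
    show dPsi0 K φ (xS t) = glMapEquiv chevD4.Idx α1 (dPsi0 K φ (xS ⟨α1.symm (t : K), hsymm_fix t⟩))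
    rw [glMapEquiv_dPsi0_xS K φ α1 ⟨α1.symm (t : K), hsymm_fix t⟩ t (by simp)]
  -- the automorphism `θ₂ = θ ∘ Φ⁻¹`
  set θ2 : ↥G1D4 ≃* ↥G1D4 := Φ.symm.trans θ with hθ2
  have hθ2U : Stb θ2 (chevD4.posUnipotent K) := hΦU.symm.trans hU
  have hθ2V : Stb θ2 (chevD4.negUnipotent K) := hΦV.symm.trans hV
  have h2x1 : ∀ u : K, ((θ2 ⟨dPsi1 K φ (xS u), dPsi1_mem K φ hφ _⟩ : ↥G1D4) : GL chevD4.Idx K) =
      dPsi1 K φ (xS (c1 * u)) := by
    intro u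
    rw [hθ2, MulEquiv.trans_apply, hΦ1, h1x, RingEquiv.apply_symm_apply]
  have h2x0 : ∀ t : ↥(fixField K φ),
      ((θ2 ⟨dPsi0 K φ (xS t), dPsi0_mem K φ hφ _⟩ : ↥G1D4) : GL chevD4.Idx K) =
      dPsi0 K φ (xS (c0 * t)) := by
    intro t
    rw [hθ2, MulEquiv.trans_apply, hΦ0, h0x]
    congr 3
    apply Subtype.ext
    rw [hlink]
    simp
  -- the torus element
  have hc0' : (c0 : K) ≠ 0 := fun h => hc0 (Subtype.ext h)
  obtain ⟨mu, lam, hmu, hlam, hfmu, e0, e1⟩ := d4_torus_exists K φ hφ3 (c0 : K) c1 hc0' hc1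
    ((mem_fixField K φ _).mp c0.2)
  set mu' : ↥(fixField K φ) := ⟨mu, (mem_fixField K φ _).mpr hfmu⟩ with hmu'
  have hmu'0 : mu' ≠ 0 := fun h => hmu (congrArg Subtype.val h)
  set h : ↥G1D4 := ⟨dPsi0 K φ (hS mu' hmu'0) * dPsi1 K φ (hS lam hlam),
    Subgroup.mul_mem _ (dPsi0_mem K φ hφ _) (dPsi1_mem K φ hφ _)⟩ with hh
  have hhH : (h : GL chevD4.Idx K) ∈ chevD4.diagonalSubgroup K := by
    apply Subgroup.mul_mem
    · exact classHom_hS_mem chevD4 chevD4_mem K _ (d4BN.facts _ (List.get_mem _ dJ0)) (sig0 K φ) mu' hmu'0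
    · exact classHom_hS_mem chevD4 chevD4_mem K _ (d4BN.facts _ (List.get_mem _ dJ1)) (sig1 K φ) lam hlam
  have hconj1 : ∀ u : K, (h : GL chevD4.Idx K) * dPsi1 K φ (xS u) * (h : GL chevD4.Idx K)⁻¹ =
      dPsi1 K φ (xS (c1 * u)) := by
    intro u
    have e : ∀ a b x : GL chevD4.Idx K, a * b * x * (a * b)⁻¹ = a * (b * x * b⁻¹) * a⁻¹ := by
      intro a b x; group
    show dPsi0 K φ (hS mu' hmu'0) * dPsi1 K φ (hS lam hlam) * dPsi1 K φ (xS u) *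
      (dPsi0 K φ (hS mu' hmu'0) * dPsi1 K φ (hS lam hlam))⁻¹ = _
    rw [e, dPsi1_hS_conj_dPsi1, dPsi0_hS_conj_dPsi1, ← e1]
    congr 2
    show mu⁻¹ * (lam ^ 2 * u) = mu⁻¹ * lam ^ 2 * u
    ring
  have hconj0 : ∀ t : ↥(fixField K φ), (h : GL chevD4.Idx K) * dPsi0 K φ (xS t) *
      (h : GL chevD4.Idx K)⁻¹ = dPsi0 K φ (xS (c0 * t)) := by
    intro t
    have e : ∀ a b x : GL chevD4.Idx K, a * b * x * (a * b)⁻¹ = a * (b * x * b⁻¹) * a⁻¹ := by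
      intro a b x; group
    show dPsi0 K φ (hS mu' hmu'0) * dPsi1 K φ (hS lam hlam) * dPsi0 K φ (xS t) *
      (dPsi0 K φ (hS mu' hmu'0) * dPsi1 K φ (hS lam hlam))⁻¹ = _
    rw [dPsi0_xS, e, dPsi1_hS_conj_xGL, dPsi0_hS_conj_xGL, dPsi0_xS]
    congr 1
    show mu ^ 2 * ((lam * (φ lam * φ (φ lam)))⁻¹ * (t : K)) = (c0 : K) * (t : K)
    rw [← e0]
    ring
  -- `θ₃ = conj h⁻¹ ∘ θ₂` fixes `X_a` and `X_b`
  set θ3 : ↥G1D4 ≃* ↥G1D4 := θ2.trans (MulAut.conj h⁻¹) with hθ3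
  have hhinvU : ((h⁻¹ : ↥G1D4) : GL chevD4.Idx K) ∈
      Subgroup.normalizer (chevD4.posUnipotent K : Set (GL chevD4.Idx K)) :=
    diagonalSubgroup_le_normalizer_posUnipotent chevD4 chevD4_mem K (Subgroup.inv_mem _ hhH)
  have hhinvV : ((h⁻¹ : ↥G1D4) : GL chevD4.Idx K) ∈
      Subgroup.normalizer (chevD4.negUnipotent K : Set (GL chevD4.Idx K)) :=
    diagonalSubgroup_le_normalizer_negUnipotent chevD4 chevD4_mem K (Subgroup.inv_mem _ hhH)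
  have hθ3U : Stb θ3 (chevD4.posUnipotent K) := hθ2U.trans (stb_conj _ _ hhinvU)
  have hθ3V : Stb θ3 (chevD4.negUnipotent K) := hθ2V.trans (stb_conj _ _ hhinvV)
  have h3x0 : ∀ t, ((θ3 ⟨dPsi0 K φ (xS t), dPsi0_mem K φ hφ _⟩ : ↥G1D4) : GL chevD4.Idx K) =
      dPsi0 K φ (xS t) := by
    intro t
    rw [hθ3, MulEquiv.trans_apply, MulAut.conj_apply]
    simp only [Subgroup.coe_mul, Subgroup.coe_inv, inv_inv]
    rw [h2x0, ← hconj0]
    group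
  have h3x1 : ∀ u, ((θ3 ⟨dPsi1 K φ (xS u), dPsi1_mem K φ hφ _⟩ : ↥G1D4) : GL chevD4.Idx K) =
      dPsi1 K φ (xS u) := by
    intro u
    rw [hθ3, MulEquiv.trans_apply, MulAut.conj_apply]
    simp only [Subgroup.coe_mul, Subgroup.coe_inv, inv_inv]
    rw [h2x1, ← hconj1]
    group
  have hrig := d4_rigid K φ hφ q hK hfix θ3 hθ3U hθ3V h3x0 h3x1
  refine ⟨α1, h, fun g => ?_⟩
  have := hrig (Φ g)
  rw [hθ3, hθ2, MulEquiv.trans_apply, MulEquiv.trans_apply, MulEquiv.symm_apply_apply,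
    MulAut.conj_apply] at this
  rw [← this]
  group

end

end Cfsg.Agent.Lib.Lead.TwStein
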