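import Cfsg.Agent.Lib.Lead.TwSteinT
import Cfsg.Agent.Lib.Lead.SteinJ

/-! The triality twisted groups `³D₄(q)`: the outer automorphism group has order `3 f` (lead). -/

set_option autoImplicit false
set_option maxRecDepth 100000

namespace Cfsg.Agent.Lib.Lead.TwStein

open Cfsg Cfsg.Lie Matrix Cfsg.Agent.Lib.Helper7 Cfsg.Agent.Lib.Helper3.BN
open Cfsg.Agent.Lib.Lead.Stein Cfsg.Agent.Lib.Helper11.SL2Hom Cfsg.Agent.Lib.Helper11.ChevSL2

theorem not_dvd_pow_sub_one (p q : ℕ) (hp : p.Prime) (hq : p ∣ q) (hq0 : 0 < q) (k : ℕ) (hk : 0 < k) :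
    ¬ p ∣ q ^ k - 1 := by
  intro h
  have h1 : p ∣ q ^ k := dvd_pow hq hk.ne'
  have hpos : 0 < q ^ k := pow_pos hq0 k
  have : p ∣ 1 := by
    have h2 : q ^ k = (q ^ k - 1) + 1 := by omega
    rw [h2] at h1
    exact (Nat.dvd_add_right h).mp h1
  exact hp.one_lt.ne' (Nat.dvd_one.mp this)

section
variable (K : Type*) [Field K] [Fintype K] (φ : K ≃+* K) (hφ : ∀ a, φ^[3] a = a)
variable (p f : ℕ) [Fact p.Prime] (hf : 1 ≤ f)
variable (hK : Fintype.card K = (p ^ f) ^ 3) (hfix : Nat.card {a : K // φ a = a} = p ^ f)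

local notation "G1D4" => chevD4.genSubgroup K (twWords K φ [d4p2, d4m2] []
  [(d4p1, d4p3, d4p4), (d4m1, d4m3, d4m4)])

include hφ hf hK hfix in
/-- `U ∩ ³D₄(q)` is a Sylow `p`-subgroup -/
theorem d4_sylow : ∃ P0 : Sylow p ↥G1D4,
    (P0 : Subgroup ↥G1D4) = (chevD4.posUnipotent K).subgroupOf G1D4 := by
  have hp : p.Prime := Fact.out
  set q := p ^ f with hq
  have hq0 : 0 < q := pow_pos hp.pos f
  have hpq : p ∣ q := dvd_pow_self p (by omega)
  have hcK : Nat.card K = q ^ 3 := by rw [Nat.card_eq_fintype_card, hK]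
  have hcU := card_posUnipotent_inf_twGroup chevD4 chevD4_mem _ _ _ _ _ _ _ _ _ _ _ _ _ _ twistTab_D4 K φ q
    hcK hfix hφ
  have hlen : twCls_D4.flatten.length = 12 := by decide
  rw [hlen] at hcU
  have hcG := card_twD4 K φ q hK hφ hfix
  have hcU' : Nat.card ↥((chevD4.posUnipotent K).subgroupOf G1D4) = q ^ 12 := by
    rw [← Subgroup.inf_subgroupOf_right, Nat.card_congr (Subgroup.subgroupOfEquivOfLe inf_le_right).toEquiv]
    exact hcU
  have hP : IsPGroup p ↥((chevD4.posUnipotent K).subgroupOf G1D4) := by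
    apply IsPGroup.of_card (n := f * 12)
    rw [hcU', hq, pow_mul]
  have hidx : ((chevD4.posUnipotent K).subgroupOf G1D4).index =
      (q ^ 2 - 1) * (q ^ 6 - 1) * (q ^ 8 + q ^ 4 + 1) := by
    have h1 := Subgroup.card_mul_index ((chevD4.posUnipotent K).subgroupOf G1D4)
    rw [hcU', hcG, mul_assoc, mul_assoc] at h1
    have := Nat.eq_of_mul_eq_mul_left (pow_pos hq0 12) h1
    rw [this, mul_assoc]
  have hnd : ¬ p ∣ ((chevD4.posUnipotent K).subgroupOf G1D4).index := by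
    rw [hidx]
    intro h
    rcases (Nat.Prime.dvd_mul hp).mp h with h | h
    · rcases (Nat.Prime.dvd_mul hp).mp h with h | h
      · exact not_dvd_pow_sub_one p q hp hpq hq0 2 (by norm_num) h
      · exact not_dvd_pow_sub_one p q hp hpq hq0 6 (by norm_num) h
    · have h1 : p ∣ q ^ 8 + q ^ 4 := dvd_add (dvd_pow hpq (by norm_num)) (dvd_pow hpq (by norm_num))
      have : p ∣ 1 := (Nat.dvd_add_right h1).mp h
      exact hp.one_lt.ne' (Nat.dvd_one.mp this)
  exact ⟨hP.toSylow hnd, IsPGroup.toSylow_coe hP hnd⟩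

end

section
variable (D : ChevalleyDatum) (hD : D ∈ [chevG2, chevB2, chevD4, chevF4, chevE6, chevE7, chevE8])
variable (pv pv' ρ ρ' : List ℕ) (ε : List ℤ) (w : List ℤ) (cls : List (List ℕ)) (m : ℕ)
variable (L1 : List ℕ) (L2 : List (ℕ × ℕ)) (L3 : List (ℕ × ℕ × ℕ)) (simpIdx simpCls : List (List ℕ))
variable (cert : List (List ℕ × ℕ))
variable (hT : TwistTab D pv pv' ρ ρ' ε w cls m L1 L2 L3 simpIdx simpCls cert)
variable (hT2 : TwistTab2 D L1 L2 L3 simpIdx simpCls)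
variable (K : Type*) [Field K] (φ : K ≃+* K) (hφ : ∀ a, φ^[m] a = a)
variable (Js : List (List ℕ)) (hJs : ∀ J ∈ Js, J ∈ simpIdx) (hL : LongFacts D Js.flatten)

include hD hT hT2 hφ hJs hL in
/-- an element of the twisted group whose conjugation stabilises `U` and `V` lies in `H` -/
theorem tw_mem_diagonal_of_stb_conj (z : ↥(D.genSubgroup K (twWords K φ L1 L2 L3)))
    (hU : Stb (MulAut.conj z) (D.posUnipotent K)) (hV : Stb (MulAut.conj z) (D.negUnipotent K)) :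
    (z : GL D.Idx K) ∈ D.diagonalSubgroup K := by
  have hG := graphFacts_of_graphOKB D pv pv' ρ ρ' ε hT.graph
  obtain ⟨hTw, hpos⟩ := twistFacts_of_twistOKB D ρ ρ' w cls hT.twist
  have hA := chainAdd_linF D hD w
  have hO : PosFacts D (linF D w) := ⟨hpos, hT.prim⟩
  have hF := twistGroupFacts_of_tab D hD pv pv' ρ ρ' ε w cls m L1 L2 L3 simpIdx simpCls cert hT K φ hφ
  have hB := twistBNFacts_of_tab2 D L1 L2 L3 simpIdx simpCls hT2
  have hsh : ∀ S ∈ cls, ClassShape (fun r => ρ'.getD r 0) (fun r => ε.getD r 0) m S := by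
    intro S hS
    exact classShape_of_classShapeB ρ' ε m S (List.all_eq_true.mp hT.shape S hS)
  have hle := genSubgroup_le_group' D hD K (twWords K φ L1 L2 L3)
  exact mem_diagonal_of_stb_conj D hD _ _ _ _ _ hG K φ (linF D w) hA hO cls hTw _ simpIdx simpCls hF m hsh hB
    (tw_inv_of_tab2 D L1 L2 L3 simpIdx simpCls hT2)
    (twGroup_le_closure D hD pv pv' ρ ρ' ε w cls m L1 L2 L3 simpIdx simpCls cert hT hT2 K φ hφ)
    cert hT.cert Js hJs hL hle z hU hV

end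

section
variable (K : Type*) [Field K] [Fintype K] (φ : K ≃+* K) (hφ : ∀ a, φ^[3] a = a)
variable (p f : ℕ) [Fact p.Prime] (hf : 1 ≤ f)
variable (hK : Fintype.card K = (p ^ f) ^ 3) (hfix : Nat.card {a : K // φ a = a} = p ^ f)
variable (hcomm : ∀ (α : K ≃+* K) (a : K), α (φ a) = φ (α a))

local notation "G1D4" => chevD4.genSubgroup K (twWords K φ [d4p2, d4m2] []
  [(d4p1, d4p3, d4p4), (d4m1, d4m3, d4m4)])

/-- the field automorphism of `³D₄(q)` induced by `α` -/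
noncomputable def d4Phi (α : K ≃+* K) : ↥G1D4 ≃* ↥G1D4 :=
  twFieldAut chevD4 chevD4_mem K φ α (hcomm α) [d4p2, d4m2] [] [(d4p1, d4p3, d4p4), (d4m1, d4m3, d4m4)]

include hφ hf hK hfix in
/-- every automorphism of `³D₄(q)` is the product of a field and an inner automorphism -/
theorem d4_aut (θ : ↥G1D4 ≃* ↥G1D4) :
    ∃ (z : ↥G1D4) (α : K ≃+* K), ∀ g, θ g = z * d4Phi K φ hcomm α g * z⁻¹ := by
  obtain ⟨x, hxU, hxV⟩ := tw_inner_stb chevD4 chevD4_mem _ _ _ _ _ _ _ _ _ _ _ _ _ _ twistTab_D4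
    twistTab2_D4 K φ hφ twLongJs_D4 twLongJs_D4_mem (longFacts_of_longB _ _ twLongB_D4) p
    (d4_sylow K φ hφ p f hf hK hfix) θ
  obtain ⟨α, h, hh⟩ := d4_main K φ hφ (p ^ f) hK hfix hcomm (θ.trans (MulAut.conj x)) hxU hxV
  refine ⟨x⁻¹ * h, α, fun g => ?_⟩
  have := hh g
  rw [MulEquiv.trans_apply, MulAut.conj_apply] at this
  unfold d4Phi
  have e : θ g = x⁻¹ * (x * θ g * x⁻¹) * x := by group
  rw [e, this]
  group

include hφ in
omit [Fintype K] in
/-- a field automorphism which is inner is trivial -/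
theorem d4_field_eq_of_inner (σ τ : K ≃+* K) (z : ↥G1D4)
    (hz : ∀ y, d4Phi K φ hcomm τ y = d4Phi K φ hcomm σ (z * y * z⁻¹)) : τ = σ := by
  have hψ : (d4Phi K φ hcomm τ).trans (d4Phi K φ hcomm σ).symm = MulAut.conj z := by
    ext y
    rw [MulEquiv.trans_apply, hz y, MulEquiv.symm_apply_apply, MulAut.conj_apply]
  have hU : Stb (MulAut.conj z) (chevD4.posUnipotent K) := by
    rw [← hψ]
    exact (twFieldAut_stb_pos chevD4 chevD4_mem K φ τ (hcomm τ) _ _ _).trans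
      (twFieldAut_stb_pos chevD4 chevD4_mem K φ σ (hcomm σ) _ _ _).symm
  have hV : Stb (MulAut.conj z) (chevD4.negUnipotent K) := by
    rw [← hψ]
    exact (twFieldAut_stb_neg chevD4 chevD4_mem K φ τ (hcomm τ) _ _ _).trans
      (twFieldAut_stb_neg chevD4 chevD4_mem K φ σ (hcomm σ) _ _ _).symm
  have hzH := tw_mem_diagonal_of_stb_conj chevD4 chevD4_mem _ _ _ _ _ _ _ _ _ _ _ _ _ _ twistTab_D4
    twistTab2_D4 K φ hφ twLongJs_D4 twLongJs_D4_mem (longFacts_of_longB _ _ twLongB_D4) z hU hV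
  obtain ⟨χ, hχ, hm⟩ := mem_diagonalSubgroup_char chevD4 chevD4_mem K _ hzH
  obtain ⟨hTw, hpos⟩ := twistFacts_of_twistOKB chevD4 grRho_D4_1 grRhoInv_D4_1 twW_D4 twCls_D4
    twistTab_D4.twist
  have hA := chainAdd_linF chevD4 chevD4_mem twW_D4
  have hO : PosFacts chevD4 (linF chevD4 twW_D4) := ⟨hpos, twistTab_D4.prim⟩
  have key : ∀ u : K, τ u = σ (χ 18) * σ u := by
    intro u
    have h1 := congrArg (fun g : ↥G1D4 => (g : GL chevD4.Idx K)) (hz ⟨dPsi1 K φ (xS u), dPsi1_mem K φ hφ _⟩)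
    beta_reduce at h1
    unfold d4Phi at h1
    rw [coe_twFieldAut, coe_twFieldAut] at h1
    simp only [Subgroup.coe_mul, Subgroup.coe_inv] at h1
    rw [glMapEquiv_dPsi1_xS K φ τ (hcomm τ), dPsi1_xS, dPsi1_xS,
      diagGL_conj_ordProd chevD4 chevD4_mem K _ χ hχ hm] at h1
    unfold ordProd at h1
    rw [glMapEquiv_wordGL chevD4 chevD4_mem K σ, List.map_map] at h1
    have h2 := ordProd_class_inj chevD4 chevD4_mem _ _ K (linF chevD4 twW_D4) hA hO twCls_D4 hTw [18, 13, 12]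
      (by decide) (fun r => sig1 K φ r (τ u)) (fun r => σ (χ r * sig1 K φ r u)) h1 18 (by simp)
    rw [sig1_18, sig1_18, map_mul] at h2
    exact h2
  have h1 := key 1
  rw [map_one, map_one, mul_one] at h1
  ext u
  rw [key u, ← h1, one_mul]

include hφ hf hK hfix hcomm in
/-- `|Out(³D₄(q))| = |Aut(K)|` -/
theorem d4_card_out : Nat.card (Cfsg.Out ↥G1D4) = Nat.card (K ≃+* K) := by
  let Φ : (K ≃+* K) → Cfsg.Out ↥G1D4 := fun σ =>
    (QuotientGroup.mk (d4Phi K φ hcomm σ : MulAut ↥G1D4) : Cfsg.Out ↥G1D4)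
  have hinj : Function.Injective Φ := by
    intro σ τ hστ
    have h1 : ((d4Phi K φ hcomm σ : MulAut ↥G1D4))⁻¹ * (d4Phi K φ hcomm τ : MulAut ↥G1D4) ∈
        Cfsg.Inn ↥G1D4 := QuotientGroup.eq.mp hστ
    obtain ⟨z, hz⟩ := h1
    have h2 : ∀ y, d4Phi K φ hcomm τ y = d4Phi K φ hcomm σ (z * y * z⁻¹) := by
      intro y
      have := congrArg (fun ψ : MulAut ↥G1D4 => ψ y) hz
      simp only [MulAut.conj_apply, MulAut.mul_apply, MulAut.inv_apply] at this
      rw [this, MulEquiv.apply_symm_apply]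
    exact (d4_field_eq_of_inner K φ hφ hcomm σ τ z h2).symm
  have hsurj : Function.Surjective Φ := by
    intro x
    obtain ⟨θ, rfl⟩ := QuotientGroup.mk_surjective x
    obtain ⟨z, σ, hzσ⟩ := d4_aut K φ hφ p f hf hK hfix hcomm θ
    refine ⟨σ, ?_⟩
    have h1 : (θ : MulAut ↥G1D4) = MulAut.conj z * (d4Phi K φ hcomm σ : MulAut ↥G1D4) := by
      ext y
      rw [hzσ y, MulAut.mul_apply, MulAut.conj_apply]
    show (QuotientGroup.mk (d4Phi K φ hcomm σ : MulAut ↥G1D4) : Cfsg.Out ↥G1D4) = QuotientGroup.mk θ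
    have h2 : (MulAut.conj z : MulAut ↥G1D4) ∈ Cfsg.Inn ↥G1D4 := ⟨z, rfl⟩
    rw [h1, QuotientGroup.mk_mul, (QuotientGroup.eq_one_iff (MulAut.conj z)).mpr h2, one_mul]
  exact (Nat.card_congr (Equiv.ofBijective Φ ⟨hinj, hsurj⟩)).symm

end

end Cfsg.Agent.Lib.Lead.TwStein
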