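import Mathlib
import Cfsg.Agent.Lib.Lead.CentralProdBlock8
import Cfsg.Agent.Lib.Lead.CharMore
import Cfsg.Agent.Lib.Lead.CharEquiv

/-!
lead: a `2`-block `b` of a finite group `X` whose defect group is generated by a central involution
`t`: `b` has two members, equal on `2`-regular elements; translation by `t`.
-/

set_option autoImplicit false

namespace Cfsg.Agent.CharLib

open Cfsg Cfsg.Agent.Lib.Helper24 Cfsg.Agent.Lib.Helper6 Cfsg.Agent.Lib.Helper25
  Cfsg.Agent.Lib.Helper23
open scoped ComplexConjugate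

universe u

section central

variable {X : Type u} [Group X]

theorem mem_zpowers_of_order_two {t : X} (ht2 : orderOf t = 2) (z : X) :
    z ∈ Subgroup.zpowers t ↔ z = 1 ∨ z = t := by
  constructor
  · rintro ⟨k, rfl⟩
    change t ^ k = 1 ∨ t ^ k = t
    rw [← zpow_mod_orderOf, ht2]
    rcases Int.emod_two_eq_zero_or_one k with h | h
    · left; rw [show k % ((2 : ℕ) : ℤ) = 0 from h, zpow_zero]
    · right; rw [show k % ((2 : ℕ) : ℤ) = 1 from h, zpow_one]
  · rintro (rfl | rfl)
    · exact Subgroup.one_mem _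
    · exact Subgroup.mem_zpowers _

theorem td_mul_self {t : X} (ht2 : orderOf t = 2) : t * t = 1 := by
  rw [← pow_two, ← ht2, pow_orderOf_eq_one]

theorem td_centralizer_top (t : X) (htc : ∀ c : X, c * t = t * c) :
    Subgroup.centralizer ((Subgroup.zpowers t : Subgroup X) : Set X) = ⊤ := by
  rw [eq_top_iff]
  intro c _
  rw [Subgroup.mem_centralizer_iff]
  rintro _ ⟨k, rfl⟩
  have h : Commute c t := htc c
  exact ((h.zpow_right k).eq).symm

theorem td_sup_top (t : X) (htc : ∀ c : X, c * t = t * c) :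
    Subgroup.zpowers t ⊔ Subgroup.centralizer ((Subgroup.zpowers t : Subgroup X) : Set X) = ⊤ := by
  rw [td_centralizer_top t htc]; simp

theorem td_isPGroup {t : X} (ht2 : orderOf t = 2) : IsPGroup 2 (Subgroup.zpowers t) := by
  apply IsPGroup.of_card (n := 1)
  rw [Nat.card_zpowers, ht2, pow_one]

end central

section blockb

variable {X : Type u} [Group X] [Fintype X] {M : Ideal AlgInt}

/-- Translation by a central involution multiplies an irreducible character by a sign. -/
theorem td_translate (t : X) (ht2 : orderOf t = 2) (htc : ∀ c : X, c * t = t * c)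
    (ψ : IrrCharacter X) :
    ∃ ε : ℤ, (ε = 1 ∨ ε = -1) ∧ ∀ c : X, (ψ : X → ℂ) (t * c) = (ε : ℂ) * (ψ : X → ℂ) c := by
  have hG := td_sup_top t htc
  have hcen : ∀ c : X, c ∈ Subgroup.centralizer ((Subgroup.zpowers t : Subgroup X) : Set X) := by
    intro c; rw [td_centralizer_top t htc]; exact Subgroup.mem_top c
  have hf : ∀ c : X, (ψ : X → ℂ) (t * c) * (ψ : X → ℂ) 1 = (ψ : X → ℂ) t * (ψ : X → ℂ) c :=
    fun c => cp_mul_formula (Subgroup.zpowers t) hG ψ (Subgroup.mem_zpowers t) (hcen c)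
  have h1 := hf t
  rw [td_mul_self ht2] at h1
  have hne := irr_apply_one_ne_zero ψ
  have h2 : ((ψ : X → ℂ) t - (ψ : X → ℂ) 1) * ((ψ : X → ℂ) t + (ψ : X → ℂ) 1) = 0 := by
    ring_nf
    rw [pow_two, pow_two, ← h1]; ring
  rcases mul_eq_zero.mp h2 with h3 | h3
  · refine ⟨1, Or.inl rfl, fun c => ?_⟩
    have h4 : (ψ : X → ℂ) t = (ψ : X → ℂ) 1 := sub_eq_zero.mp h3
    have h5 := hf c
    rw [h4, mul_comm] at h5
    rw [mul_left_cancel₀ hne h5]
    push_cast; ring
  · refine ⟨-1, Or.inr rfl, fun c => ?_⟩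
    have h4 : (ψ : X → ℂ) t = -(ψ : X → ℂ) 1 := eq_neg_of_add_eq_zero_left h3
    have h5 := hf c
    rw [h4, mul_comm] at h5
    have h6 : (ψ : X → ℂ) 1 * (ψ : X → ℂ) (t * c) = (ψ : X → ℂ) 1 * (-(ψ : X → ℂ) c) := by
      rw [h5]; ring
    rw [mul_left_cancel₀ hne h6]
    push_cast; ring

/-- The inner product of a translated function with an irreducible character. -/
theorem td_classInner_translate (t : X) (ht2 : orderOf t = 2) (F : X → ℂ) (ψ : IrrCharacter X)
    (ε : ℤ) (hε : ∀ c : X, (ψ : X → ℂ) (t * c) = (ε : ℂ) * (ψ : X → ℂ) c) :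
    classInner (fun c => F (t * c)) (ψ : X → ℂ) = (ε : ℂ) * classInner F (ψ : X → ℂ) := by
  unfold classInner
  have h1 : ∑ c : X, F (t * c) * conj ((ψ : X → ℂ) c) =
      ∑ c : X, F c * conj ((ψ : X → ℂ) (t * c)) := by
    rw [← Equiv.sum_comp (Equiv.mulLeft t) (fun c => F c * conj ((ψ : X → ℂ) (t * c)))]
    apply Finset.sum_congr rfl
    intro c _
    rw [Equiv.coe_mulLeft, ← mul_assoc, td_mul_self ht2, one_mul]
  rw [h1]
  have h2 : ∀ c : X, F c * conj ((ψ : X → ℂ) (t * c)) = (ε : ℂ) * (F c * conj ((ψ : X → ℂ) c)) := by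
    intro c
    rw [hε c, map_mul, map_intCast]; ring
  rw [Finset.sum_congr rfl (fun c _ => h2 c), ← Finset.mul_sum]
  ring

end blockb

end Cfsg.Agent.CharLib
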