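import Mathlib
import Cfsg.Agent.Lib.Lead.TwoDefect1

/-!
lead: a `2`-block `b` of a finite group `X` whose defect group is generated by a central involution
`t`: `b` has two members, equal on `2`-regular elements; the `b`-part of a translated character.
-/

set_option autoImplicit false

namespace Cfsg.Agent.CharLib

open Cfsg Cfsg.Agent.Lib.Helper24 Cfsg.Agent.Lib.Helper6 Cfsg.Agent.Lib.Helper25
  Cfsg.Agent.Lib.Helper23
open scoped ComplexConjugate

universe u

section blockb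

variable {X : Type u} [Group X] [Fintype X] {M : Ideal AlgInt}

theorem card_irr_of_order_two_zpowers {t : X} (ht2 : orderOf t = 2) :
    (∀ μ : IrrCharacter (Subgroup.zpowers t), (μ : Subgroup.zpowers t → ℂ) 1 = 1) ∧
    Nat.card (IrrCharacter (Subgroup.zpowers t)) = 2 := by
  classical
  have hcomm : ∀ a b : Subgroup.zpowers t, a * b = b * a := by
    rintro ⟨_, i, rfl⟩ ⟨_, j, rfl⟩
    apply Subtype.ext
    exact ((Commute.refl t).zpow_zpow i j).eq
  have hlin := (comm_iff_forall_irr_apply_one (G := Subgroup.zpowers t)).mp hcomm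
  refine ⟨hlin, ?_⟩
  letI := fintypeIrr (Subgroup.zpowers t)
  have h1 := finsum_irr_apply_one_sq (G := Subgroup.zpowers t)
  rw [finsum_eq_sum_of_fintype] at h1
  simp only [hlin, one_pow, Finset.sum_const, Finset.card_univ, nsmul_eq_mul, mul_one] at h1
  rw [Nat.card_zpowers, ht2] at h1
  rw [Nat.card_eq_fintype_card]
  exact_mod_cast h1

theorem td_block_struct (hM : IsPModular 2 M) (t : X) (ht2 : orderOf t = 2)
    (htc : ∀ c : X, c * t = t * c) (b : Set (IrrCharacter X)) (hb : IsPBlock M b)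
    (hbD : IsDefectGroup 2 M b (Subgroup.zpowers t)) (θ : IrrCharacter X) (hθ : θ ∈ b)
    (hθt : (θ : X → ℂ) t = (θ : X → ℂ) 1) :
    Nat.card b = 2 ∧ ∀ ψ ∈ b, (ψ : X → ℂ) 1 = (θ : X → ℂ) 1 ∧
      ∀ y : X, ¬ 2 ∣ orderOf y → (ψ : X → ℂ) y = (θ : X → ℂ) y := by
  classical
  have hDp := td_isPGroup ht2
  have hG := td_sup_top t htc
  have hθD : ∀ z ∈ Subgroup.zpowers t, (θ : X → ℂ) z = (θ : X → ℂ) 1 := by
    intro z hz
    rcases (mem_zpowers_of_order_two ht2 z).mp hz with rfl | rfl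
    · rfl
    · exact hθt
  obtain ⟨hlin, hcard⟩ := card_irr_of_order_two_zpowers ht2
  refine ⟨by rw [cp_card hM _ hDp hG b hb hbD, hcard], ?_⟩
  intro ψ hψ
  obtain ⟨μ, hμ⟩ := cp_clifford (Subgroup.zpowers t) hG ψ
  obtain ⟨h1, h2⟩ := cp_formula hM _ hDp hG b hb hbD θ ψ hθ hθD hψ μ hμ
  rw [hlin μ, one_mul] at h1
  refine ⟨h1, fun y hy => ?_⟩
  have := h2 1 y hy
  rw [hlin μ, one_mul] at this
  have h3 : ((1 : Subgroup.zpowers t) : X) * y = y := by
    rw [Subgroup.coe_one, one_mul]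
  rw [h3] at this
  exact this

/-- The `b`-part of a translated character on `2`-regular elements. -/
theorem td_blockPart (hM : IsPModular 2 M) (t : X) (ht2 : orderOf t = 2)
    (htc : ∀ c : X, c * t = t * c) (b : Set (IrrCharacter X)) (hb : IsPBlock M b)
    (hbD : IsDefectGroup 2 M b (Subgroup.zpowers t)) (θ : IrrCharacter X) (hθ : θ ∈ b)
    (hθt : (θ : X → ℂ) t = (θ : X → ℂ) 1) (F : X → ℂ) (hF : IsCharacter X F) :
    ∃ m : ℤ, ∀ y : X, ¬ 2 ∣ orderOf y →
      blockPart b (fun c => F (t * c)) y = (m : ℂ) * (θ : X → ℂ) y := by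
  classical
  letI := fintypeIrr X
  obtain ⟨-, hstruct⟩ := td_block_struct hM t ht2 htc b hb hbD θ hθ hθt
  choose ε hε1 hε using td_translate t ht2 htc
  have hn : ∀ ψ : IrrCharacter X, ∃ n : ℕ, classInner F (ψ : X → ℂ) = n :=
    fun ψ => IsCharacter.classInner_nat hF (IsIrrCharacter.isCharacter ψ.2)
  choose n hn using hn
  refine ⟨∑ ψ : IrrCharacter X, if ψ ∈ b then ε ψ * (n ψ : ℤ) else 0, ?_⟩
  intro y hy
  rw [blockPart_apply, finsum_mem_eq_sum_ite]
  push_cast
  rw [Finset.sum_mul]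
  apply Finset.sum_congr rfl
  intro ψ _
  by_cases hψ : ψ ∈ b
  · rw [if_pos hψ, if_pos hψ, td_classInner_translate t ht2 F ψ (ε ψ) (hε ψ), hn ψ,
      (hstruct ψ hψ).2 y hy]
  · rw [if_neg hψ, if_neg hψ, zero_mul]

end blockb

end Cfsg.Agent.CharLib
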