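import Mathlib
import Cfsg.Agent.Lib.Lead.TwoDefect2
import Cfsg.Agent.Lib.Lead.SecondMain10
import Cfsg.Agent.Lib.Helper6.InducedDefect
import Cfsg.Agent.Lib.Helper23.BrauerInduced

/-!
lead: `2`-blocks `B` of `G` with defect group generated by an involution `x`: blocks of `C_G(x)`
inducing `B`.
-/

set_option autoImplicit false

namespace Cfsg.Agent.CharLib

open Cfsg Cfsg.Agent.Lib.Helper24 Cfsg.Agent.Lib.Helper6 Cfsg.Agent.Lib.Helper25
  Cfsg.Agent.Lib.Helper23
open scoped ComplexConjugate

universe u

section grp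

variable {G : Type u} [Group G] [Finite G] {M : Ideal AlgInt}

theorem centralizer_eq_normalizer_of_order_two {x : G} (hx2 : orderOf x = 2) :
    Subgroup.centralizer ({x} : Set G) =
      Subgroup.normalizer ((Subgroup.zpowers x : Subgroup G) : Set G) := by
  apply le_antisymm
  · rw [← centralizer_zpowers_eq x]
    exact Subgroup.centralizer_le_normalizer ((Subgroup.zpowers x : Subgroup G) : Set G)
  · intro g hg
    rw [Subgroup.mem_normalizer_iff] at hg
    rw [Subgroup.mem_centralizer_singleton_iff]
    have h1 := (hg x).mp (Subgroup.mem_zpowers x)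
    rcases (mem_zpowers_of_order_two hx2 _).mp h1 with h2 | h2
    · exfalso
      have hx1 : x = 1 := by
        have : x = g⁻¹ * (g * x * g⁻¹) * g := by group
        rw [this, h2]; group
      rw [hx1, orderOf_one] at hx2
      omega
    · calc g * x = g * x * g⁻¹ * g := by group
        _ = x * g := by rw [h2]

theorem td_defect_b (hM : IsPModular 2 M) (x : G) (hx2 : orderOf x = 2) (C : Subgroup G)
    (hxC : x ∈ C) (hcomm : ∀ c : C, (c : G) * x = x * (c : G))
    (B : Set (IrrCharacter G)) (hBD : IsDefectGroup 2 M B (Subgroup.zpowers x))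
    (b : Set (IrrCharacter C)) (hind : IsInducedBlock M C b B) :
    IsDefectGroup 2 M b (Subgroup.zpowers (⟨x, hxC⟩ : C)) := by
  classical
  have hb := hind.1
  have hB := hind.2.1
  set t : C := ⟨x, hxC⟩ with ht
  have ht2 : orderOf t = 2 := by
    rw [← Subgroup.orderOf_coe]; exact hx2
  have htc : ∀ c : C, c * t = t * c := fun c => Subtype.ext (hcomm c)
  haveI hn : (Subgroup.zpowers t).Normal := by
    constructor
    rintro _ ⟨k, rfl⟩ g
    have h : Commute g t := htc g
    have h2 : g * t ^ k * g⁻¹ = t ^ k := by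
      rw [(h.zpow_right k).eq]; group
    change g * t ^ k * g⁻¹ ∈ _
    rw [h2]
    exact ⟨k, rfl⟩
  obtain ⟨Q, hQ⟩ := exists_isDefectGroup hM b hb
  have hle : Subgroup.zpowers t ≤ Q :=
    le_of_isDefectGroup_of_normal hM (Subgroup.zpowers t) (td_isPGroup ht2) hb hQ
  obtain ⟨E, hE, hQE⟩ := exists_defectGroup_ge_of_induced hM C b B hind Q hQ
  have cE := card_defectGroup_eq hM B hB E hE
  have cD := card_defectGroup_eq hM B hB (Subgroup.zpowers x) hBD
  rw [← cD, Nat.card_zpowers, hx2] at cE
  have h1 : Nat.card Q ≤ 2 := by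
    rw [← Subgroup.card_map_of_injective (Subgroup.subtype_injective C), ← cE]
    exact Subgroup.card_le_of_le hQE
  have h2 : Nat.card (Subgroup.zpowers t) = 2 := by rw [Nat.card_zpowers, ht2]
  have h3 : Subgroup.zpowers t = Q := Subgroup.eq_of_le_of_card_ge hle (by rw [h2]; exact h1)
  rw [h3]
  exact hQ

end grp

end Cfsg.Agent.CharLib
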