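import Mathlib
import Cfsg.Agent.Lib.Lead.TwoDefect3
import Cfsg.Agent.Lib.Lead.SecondMain5

/-!
lead: `2`-blocks `B` of `G` with defect group generated by an involution `x`: uniqueness of the
block of `C_G(x)` inducing `B`, values on the section of `x`.
-/

set_option autoImplicit false

namespace Cfsg.Agent.CharLib

open Cfsg Cfsg.Agent.Lib.Helper24 Cfsg.Agent.Lib.Helper6 Cfsg.Agent.Lib.Helper25
  Cfsg.Agent.Lib.Helper23
open scoped ComplexConjugate

universe u

section grp

variable {G : Type u} [Group G] [Finite G] {M : Ideal AlgInt}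

theorem block_unique_of_eq_normalizer {p : ℕ} [Fact p.Prime] (hM : IsPModular p M)
    (D : Subgroup G) (hD : IsPGroup p D) (C : Subgroup G)
    (hC : C = Subgroup.normalizer (D : Set G)) (B : Set (IrrCharacter G))
    (b₁ b₂ : Set (IrrCharacter C)) (h₁ : IsInducedBlock M C b₁ B) (h₂ : IsInducedBlock M C b₂ B)
    (hd₂ : IsDefectGroup p M b₂ (D.subgroupOf C)) : b₁ = b₂ := by
  subst hC
  exact block_normalizer_unique hM D hD B b₁ b₂ h₁ h₂ hd₂

theorem subgroupOf_zpowers_eq (x : G) (C : Subgroup G) (hxC : x ∈ C) :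
    (Subgroup.zpowers x).subgroupOf C = Subgroup.zpowers (⟨x, hxC⟩ : C) := by
  ext z
  rw [Subgroup.mem_subgroupOf, Subgroup.mem_zpowers_iff, Subgroup.mem_zpowers_iff]
  constructor
  · rintro ⟨k, hk⟩
    exact ⟨k, Subtype.ext (by rw [Subgroup.coe_zpow]; exact hk)⟩
  · rintro ⟨k, hk⟩
    refine ⟨k, ?_⟩
    have := congrArg Subtype.val hk
    rw [Subgroup.coe_zpow] at this
    exact this

theorem td_mem_C (x : G) (C : Subgroup G) (hC : C = Subgroup.centralizer ({x} : Set G)) : x ∈ C := by
  rw [hC, Subgroup.mem_centralizer_singleton_iff]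

theorem td_comm_C (x : G) (C : Subgroup G) (hC : C = Subgroup.centralizer ({x} : Set G)) (c : C) :
    (c : G) * x = x * (c : G) := by
  have hc : (c : G) ∈ Subgroup.centralizer ({x} : Set G) := hC ▸ c.2
  rw [Subgroup.mem_centralizer_singleton_iff] at hc
  exact hc

theorem td_unique_b (hM : IsPModular 2 M) (x : G) (hx2 : orderOf x = 2) (C : Subgroup G)
    (hC : C = Subgroup.centralizer ({x} : Set G))
    (B : Set (IrrCharacter G)) (hBD : IsDefectGroup 2 M B (Subgroup.zpowers x))
    (b b' : Set (IrrCharacter C)) (hind : IsInducedBlock M C b B)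
    (hind' : IsInducedBlock M C b' B) : b' = b := by
  have hC' : C = Subgroup.normalizer ((Subgroup.zpowers x : Subgroup G) : Set G) :=
    hC.trans (centralizer_eq_normalizer_of_order_two hx2)
  have hxC := td_mem_C x C hC
  have hd := td_defect_b hM x hx2 C hxC (td_comm_C x C hC) B hBD b hind
  rw [← subgroupOf_zpowers_eq x C hxC] at hd
  exact block_unique_of_eq_normalizer hM (Subgroup.zpowers x) (td_isPGroup hx2) C hC' B b' b
    hind' hind hd

theorem td_section_value (hM : IsPModular 2 M) (x : G) (hx2 : orderOf x = 2) (C : Subgroup G)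
    (hC : C = Subgroup.centralizer ({x} : Set G))
    (B : Set (IrrCharacter G)) (hB : IsPBlock M B)
    (hBD : IsDefectGroup 2 M B (Subgroup.zpowers x))
    (b : Set (IrrCharacter C)) (hind : IsInducedBlock M C b B)
    (χ : IrrCharacter G) (hχ : χ ∈ B) (y : C) (hy : ¬ 2 ∣ orderOf y) :
    (χ : G → ℂ) (x * (y : G)) = blockPart b (fun c : C => (χ : G → ℂ) (x * (c : G))) y := by
  classical
  have hprime : M.IsPrime := isPrime_of_isPModular hM
  let _ : Fintype G := Fintype.ofFinite G
  let _ : Fintype C := Fintype.ofFinite C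
  let _ : Fintype (IrrCharacter C) := Fintype.ofFinite _
  have hcomm := td_comm_C x C hC
  have hϑ : IsClassFunction C (fun c : C => (χ : G → ℂ) (x * (c : G))) := by
    intro c h
    have h1 : x * ((h * c * h⁻¹ : C) : G) = (h : G) * (x * (c : G)) * (h : G)⁻¹ := by
      rw [Subgroup.coe_mul, Subgroup.coe_mul, Subgroup.coe_inv]
      calc x * ((h : G) * (c : G) * (h : G)⁻¹) = (x * (h : G)) * (c : G) * (h : G)⁻¹ := by group
        _ = ((h : G) * x) * (c : G) * (h : G)⁻¹ := by rw [hcomm h]
        _ = (h : G) * (x * (c : G)) * (h : G)⁻¹ := by group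
    beta_reduce
    rw [h1]
    exact irr_conj χ _ _
  have h2 := apply_eq_sum_blockPart (M := M) hϑ y
  obtain ⟨ψ₀, hb⟩ := hind.1
  beta_reduce at h2
  rw [h2]
  apply Finset.sum_eq_single b
  · intro b' hb' hne
    obtain ⟨ψ', -, rfl⟩ := Finset.mem_image.mp hb'
    apply blockPart_eq_zero_of_not_induced_aux hM x ⟨1, by rw [hx2, pow_one]⟩ B hB χ hχ C hC _
      ⟨ψ', rfl⟩ _ y hy
    intro hind'
    exact hne (td_unique_b hM x hx2 C hC B hBD b _ hind hind')
  · intro hnot
    exfalso
    apply hnot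
    rw [hb]
    exact Finset.mem_image_of_mem _ (Finset.mem_univ ψ₀)

end grp

end Cfsg.Agent.CharLib
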