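import Mathlib
import Cfsg.Agent.Lib.Lead.TwoDefect4
import Cfsg.Agent.S4733
import Cfsg.Agent.S0914

/-!
lead: `2`-blocks `B` of `G` with defect group generated by an involution `x`: no member of `B`
vanishes on the whole section of `x`.
-/

set_option autoImplicit false

namespace Cfsg.Agent.CharLib

open Cfsg Cfsg.Agent.Lib.Helper24 Cfsg.Agent.Lib.Helper6 Cfsg.Agent.Lib.Helper25
  Cfsg.Agent.Lib.Helper23
open scoped ComplexConjugate

universe u

section grp

variable {G : Type u} [Group G] [Finite G] {M : Ideal AlgInt}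

theorem td_vanish_singular (hM : IsPModular 2 M) (x : G) (hx2 : orderOf x = 2) (C : Subgroup G)
    (hC : C = Subgroup.centralizer ({x} : Set G))
    (B : Set (IrrCharacter G)) (hB : IsPBlock M B)
    (hBD : IsDefectGroup 2 M B (Subgroup.zpowers x))
    (χ : IrrCharacter G) (hχ : χ ∈ B)
    (h0 : ∀ y : C, ¬ 2 ∣ orderOf y → (χ : G → ℂ) (x * (y : G)) = 0) :
    ∀ g : G, 2 ∣ orderOf g → (χ : G → ℂ) g = 0 := by
  classical
  have hprime : M.IsPrime := isPrime_of_isPModular hM
  intro g hg
  obtain ⟨-, -, u, -, hu, -⟩ := exists_ppart_data 2 g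
  have hBeq : B = blockOf M (χ : G → ℂ) :=
    isPBlock_eq_of_mem hB ⟨χ, rfl⟩ hχ (mem_blockOf_self χ)
  by_cases hE : ∃ E : Subgroup G, IsDefectGroup 2 M (blockOf M (χ : G → ℂ)) E ∧ u ∈ E
  · obtain ⟨E, hE, huE⟩ := hE
    rw [← hBeq] at hE
    obtain ⟨c, hc⟩ := isDefectGroup_conj_of_isDefectGroup hM hB hBD hE
    rw [hc, Subgroup.mem_map] at huE
    obtain ⟨z, hz, hzu⟩ := huE
    change c * z * c⁻¹ = u at hzu
    obtain ⟨v, huv, hcomm, -, hv⟩ := hu
    rcases (mem_zpowers_of_order_two hx2 z).mp hz with hz1 | hz1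
    · exfalso
      rw [hz1] at hzu
      have hu1 : u = 1 := by rw [← hzu]; group
      rw [hu1, one_mul] at huv
      rw [← huv] at hg
      exact hv hg
    · -- `u = c x c⁻¹`
      rw [hz1] at hzu
      set y : G := c⁻¹ * v * c with hy
      have hyx : y * x = x * y := by
        have h1 : u * v = v * u := hcomm.eq
        rw [← hzu] at h1
        rw [hy]
        calc c⁻¹ * v * c * x = c⁻¹ * (v * (c * x * c⁻¹)) * c := by group
          _ = c⁻¹ * ((c * x * c⁻¹) * v) * c := by rw [h1]
          _ = x * (c⁻¹ * v * c) := by group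
      have hyC : y ∈ C := by
        rw [hC, Subgroup.mem_centralizer_singleton_iff]; exact hyx
      have hyo : ¬ 2 ∣ orderOf (⟨y, hyC⟩ : C) := by
        rw [← Subgroup.orderOf_coe]
        change ¬ 2 ∣ orderOf (c⁻¹ * v * c)
        have : orderOf (c⁻¹ * v * c) = orderOf v := by
          have := orderOf_conj_eq' c⁻¹ v
          rwa [inv_inv] at this
        rw [this]; exact hv
      have h2 := h0 ⟨y, hyC⟩ hyo
      have h3 : g = c * (x * y) * c⁻¹ := by
        rw [← huv, ← hzu, hy]; group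
      rw [h3, irr_conj]
      exact h2
  · apply irr_eq_zero_of_ppart_not_mem_defectGroup hM χ g u hu
    intro E hE' huE
    exact hE ⟨E, hE', huE⟩

theorem td_not_vanish (hM : IsPModular 2 M) (x : G) (hx2 : orderOf x = 2) (C : Subgroup G)
    (hC : C = Subgroup.centralizer ({x} : Set G))
    (B : Set (IrrCharacter G)) (hB : IsPBlock M B)
    (hBD : IsDefectGroup 2 M B (Subgroup.zpowers x))
    (χ : IrrCharacter G) (hχ : χ ∈ B)
    (h0 : ∀ y : C, ¬ 2 ∣ orderOf y → (χ : G → ℂ) (x * (y : G)) = 0) : False := by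
  classical
  have hprime : M.IsPrime := isPrime_of_isPModular hM
  have hvan := td_vanish_singular hM x hx2 C hC B hB hBD χ hχ h0
  have hdvd := Cfsg.Agent.S4733.pow_dvd_degree_of_vanish 2 χ hvan
  have hBeq : B = blockOf M (χ : G → ℂ) :=
    isPBlock_eq_of_mem hB ⟨χ, rfl⟩ hχ (mem_blockOf_self χ)
  set a := (Nat.card G).factorization 2 with ha
  have hdeg0 : charDegree (χ : G → ℂ) ≠ 0 := (irr_charDegree_pos χ).ne'
  have hdc := irr_charDegree_dvd_card χ
  have hν : a ≤ (charDegree (χ : G → ℂ)).factorization 2 :=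
    (Nat.Prime.pow_dvd_iff_le_factorization Nat.prime_two hdeg0).mp hdvd
  have hnd : ¬ 2 ∣ Nat.card G / charDegree (χ : G → ℂ) := by
    intro hd
    have hq0 : Nat.card G / charDegree (χ : G → ℂ) ≠ 0 := by
      have := Nat.div_pos (Nat.le_of_dvd Nat.card_pos hdc) (irr_charDegree_pos χ)
      exact this.ne'
    have hpos := Nat.Prime.factorization_pos_of_dvd Nat.prime_two hq0 hd
    rw [Nat.factorization_div hdc] at hpos
    simp only [Finsupp.coe_tsub, Pi.sub_apply] at hpos
    omega
  have hsing : B = {χ} := by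
    rw [hBeq]
    exact (Cfsg.Agent.S0914.result 2 M hM χ).1 hnd
  have hcard := card_defectGroup_eq hM B hB (Subgroup.zpowers x) hBD
  rw [Nat.card_zpowers, hx2] at hcard
  have hdef : blockDefect 2 B = 0 := by
    unfold blockDefect
    rw [hsing, Set.image_singleton, csInf_singleton]
    omega
  rw [hdef, pow_zero] at hcard
  omega

end grp

end Cfsg.Agent.CharLib
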