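import Mathlib
import Cfsg.Agent.Lib.Lead.TwoDefect5
import Cfsg.Agent.Lib.Lead.SecondMain9
import Cfsg.Agent.S0907

/-!
lead: `2`-blocks `B` of `G` with defect group generated by an involution `x` (Brauer): final
assembly.
-/

set_option autoImplicit false

namespace Cfsg.Agent.CharLib

open Cfsg Cfsg.Agent.Lib.Helper24 Cfsg.Agent.Lib.Helper6 Cfsg.Agent.Lib.Helper25
  Cfsg.Agent.Lib.Helper23
open scoped ComplexConjugate

universe u

section grp

variable {G : Type u} [Group G] [Finite G] {M : Ideal AlgInt}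

theorem int_mul_self_ne_two (m : ℤ) : m * m ≠ 2 := by
  intro h
  have h1 : m ≤ 1 := by nlinarith
  have h2 : -1 ≤ m := by nlinarith
  interval_cases m <;> omega

/-- Values on the section of `x`: integers times `θ`. -/
theorem td_section_int (hM : IsPModular 2 M) (x : G) (hx2 : orderOf x = 2) (C : Subgroup G)
    (hC : C = Subgroup.centralizer ({x} : Set G))
    (B : Set (IrrCharacter G)) (hB : IsPBlock M B)
    (hBD : IsDefectGroup 2 M B (Subgroup.zpowers x))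
    (b : Set (IrrCharacter C)) (hb : IsInducedBlock M C b B)
    (θ : IrrCharacter C) (hθ : θ ∈ b)
    (hθx : ∀ z : C, (z : G) = x → (θ : C → ℂ) z = (θ : C → ℂ) 1) :
    ∃ m : IrrCharacter G → ℤ,
      (∀ χ ∈ B, ∀ y : C, ¬ 2 ∣ orderOf y →
        (χ : G → ℂ) (x * (y : G)) = (m χ : ℂ) * (θ : C → ℂ) y) ∧
      (∀ χ ∈ B, m χ ≠ 0) ∧
      (∑ᶠ χ ∈ B, m χ * m χ = 2) := by
  classical
  have hprime : M.IsPrime := isPrime_of_isPModular hM
  let _ : Fintype G := Fintype.ofFinite G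
  let _ : Fintype C := Fintype.ofFinite C
  let _ : Fintype (IrrCharacter C) := Fintype.ofFinite _
  let _ : Fintype (IrrCharacter G) := Fintype.ofFinite _
  have hxC := td_mem_C x C hC
  have hcomm := td_comm_C x C hC
  set t : C := ⟨x, hxC⟩ with ht
  have ht2 : orderOf t = 2 := by rw [← Subgroup.orderOf_coe]; exact hx2
  have htc : ∀ c : C, c * t = t * c := fun c => Subtype.ext (hcomm c)
  have hbD := td_defect_b hM x hx2 C hxC hcomm B hBD b hb
  have hθt : (θ : C → ℂ) t = (θ : C → ℂ) 1 := hθx t rfl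
  obtain ⟨hcardb, hstruct⟩ := td_block_struct hM t ht2 htc b hb.1 hbD θ hθ hθt
  have h1reg : ¬ 2 ∣ orderOf (1 : C) := by rw [orderOf_one]; exact Nat.prime_two.not_dvd_one
  -- Step 1
  have hm : ∀ χ : IrrCharacter G, ∃ m : ℤ, χ ∈ B → ∀ y : C, ¬ 2 ∣ orderOf y →
      (χ : G → ℂ) (x * (y : G)) = (m : ℂ) * (θ : C → ℂ) y := by
    intro χ
    by_cases hχ : χ ∈ B
    · have hF : IsCharacter C (fun c : C => (χ : G → ℂ) c) :=
        IsCharacter.restrict (IsIrrCharacter.isCharacter χ.2) C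
      obtain ⟨m, hm⟩ := td_blockPart hM t ht2 htc b hb.1 hbD θ hθ hθt _ hF
      refine ⟨m, fun _ y hy => ?_⟩
      rw [td_section_value hM x hx2 C hC B hB hBD b hb χ hχ y hy]
      exact hm y hy
    · exact ⟨0, fun h => absurd h hχ⟩
  choose m hm using hm
  refine ⟨m, hm, ?_, ?_⟩
  · intro χ hχ h0
    apply td_not_vanish hM x hx2 C hC B hB hBD χ hχ
    intro y hy
    rw [hm χ hχ y hy, h0, Int.cast_zero, zero_mul]
  · have hθ1ne := irr_apply_one_ne_zero θ
    have hsec : ∀ χ ∈ B, blockPart b (fun c : C => (χ : G → ℂ) (x * (c : G))) 1 =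
        (m χ : ℂ) * (θ : C → ℂ) 1 := by
      intro χ hχ
      rw [← td_section_value hM x hx2 C hC B hB hBD b hb χ hχ 1 h1reg]
      exact hm χ hχ 1 h1reg
    obtain ⟨ψ₀, hbeq⟩ := hb.1
    have hS := sum_block_section hM x ⟨1, by rw [hx2, pow_one]⟩ C hC B hB ψ₀ (hbeq ▸ hb)
      1 h1reg 1 h1reg
    rw [← hbeq] at hS
    have hLHS : ∑ᶠ χ ∈ B, blockPart b (fun c : C => (χ : G → ℂ) (x * (c : G))) 1 *
        conj (blockPart b (fun c : C => (χ : G → ℂ) (x * (c : G))) 1) =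
        ∑ᶠ χ ∈ B, (m χ : ℂ) * (θ : C → ℂ) 1 * conj ((m χ : ℂ) * (θ : C → ℂ) 1) :=
      finsum_mem_congr rfl (fun χ hχ => by rw [hsec χ hχ])
    have hRHS : ∑ᶠ ψ ∈ b, (ψ : C → ℂ) 1 * conj ((ψ : C → ℂ) 1) =
        ∑ᶠ ψ ∈ b, (θ : C → ℂ) 1 * conj ((θ : C → ℂ) 1) :=
      finsum_mem_congr rfl (fun ψ hψ => by rw [(hstruct ψ hψ).1])
    rw [hLHS, hRHS] at hS
    rw [finsum_mem_eq_sum_ite, finsum_mem_eq_sum_ite] at hS
    rw [finsum_mem_eq_sum_ite]
    have hL : ∑ χ : IrrCharacter G, (if χ ∈ B then (m χ : ℂ) * (θ : C → ℂ) 1 *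
        conj ((m χ : ℂ) * (θ : C → ℂ) 1) else 0) =
        ((θ : C → ℂ) 1 * conj ((θ : C → ℂ) 1)) *
          ((∑ χ : IrrCharacter G, (if χ ∈ B then m χ * m χ else 0) : ℤ) : ℂ) := by
      rw [Int.cast_sum, Finset.mul_sum]
      apply Finset.sum_congr rfl
      intro χ _
      by_cases hχ : χ ∈ B
      · rw [if_pos hχ, if_pos hχ, map_mul, map_intCast]
        push_cast; ring
      · rw [if_neg hχ, if_neg hχ, Int.cast_zero, mul_zero]
    have hR : ∑ ψ : IrrCharacter C, (if ψ ∈ b then (θ : C → ℂ) 1 * conj ((θ : C → ℂ) 1) else 0) =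
        ((θ : C → ℂ) 1 * conj ((θ : C → ℂ) 1)) * 2 := by
      rw [← Finset.sum_filter, Finset.sum_const]
      rw [Nat.card_eq_fintype_card, Fintype.card_subtype] at hcardb
      rw [hcardb]
      simp only [nsmul_eq_mul]
      push_cast; ring
    rw [hL, hR] at hS
    have hne : (θ : C → ℂ) 1 * conj ((θ : C → ℂ) 1) ≠ 0 :=
      mul_ne_zero hθ1ne ((map_ne_zero (starRingEnd ℂ)).mpr hθ1ne)
    have h2 := mul_left_cancel₀ hne hS
    exact_mod_cast h2

end grp

end Cfsg.Agent.CharLib
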