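import Mathlib
import Cfsg.Agent.Lib.Lead.TwoDefect6

/-!
lead: `2`-blocks `B` of `G` with defect group generated by an involution `x` (Brauer): the main
theorem.
-/

set_option autoImplicit false

namespace Cfsg.Agent.CharLib

open Cfsg Cfsg.Agent.Lib.Helper24 Cfsg.Agent.Lib.Helper6 Cfsg.Agent.Lib.Helper25
  Cfsg.Agent.Lib.Helper23
open scoped ComplexConjugate

universe u

section grp

variable {G : Type u} [Group G] [Finite G] {M : Ideal AlgInt}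

theorem td_main (hM : IsPModular 2 M) (x : G) (hx2 : orderOf x = 2) (C : Subgroup G)
    (hC : C = Subgroup.centralizer ({x} : Set G))
    (B : Set (IrrCharacter G)) (hB : IsPBlock M B)
    (hBD : IsDefectGroup 2 M B (Subgroup.zpowers x))
    (b : Set (IrrCharacter C)) (hb : IsInducedBlock M C b B)
    (θ : IrrCharacter C) (hθ : θ ∈ b)
    (hθx : ∀ z : C, (z : G) = x → (θ : C → ℂ) z = (θ : C → ℂ) 1) :
    Nat.card B = 2 ∧
    (∀ χ ∈ B, ∀ ψ ∈ B, ∀ g : G, ¬ 2 ∣ orderOf g → (χ : G → ℂ) g = (ψ : G → ℂ) g) ∧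
    ∃ χ₁ ∈ B, ∃ χ₂ ∈ B, χ₁ ≠ χ₂ ∧ ∃ ε₁ ε₂ : ℤ, (ε₁ = 1 ∨ ε₁ = -1) ∧ (ε₂ = 1 ∨ ε₂ = -1) ∧
      ε₁ * ε₂ = -1 ∧ ∀ y : C, ¬ 2 ∣ orderOf y →
        (χ₁ : G → ℂ) (x * (y : G)) = (ε₁ : ℂ) * (θ : C → ℂ) y ∧
        (χ₂ : G → ℂ) (x * (y : G)) = (ε₂ : ℂ) * (θ : C → ℂ) y := by
  classical
  obtain ⟨m, hm, hm0, hsum⟩ := td_section_int hM x hx2 C hC B hB hBD b hb θ hθ hθx
  let _ : Fintype G := Fintype.ofFinite G
  let _ : Fintype C := Fintype.ofFinite C
  let _ : Fintype (IrrCharacter G) := Fintype.ofFinite _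
  have h1reg : ¬ 2 ∣ orderOf (1 : C) := by rw [orderOf_one]; exact Nat.prime_two.not_dvd_one
  set Bf := Finset.univ.filter (fun χ : IrrCharacter G => χ ∈ B) with hBf
  have hmemBf : ∀ χ, χ ∈ Bf ↔ χ ∈ B := by
    intro χ; rw [hBf, Finset.mem_filter]; simp
  have hsum' : ∑ χ ∈ Bf, m χ * m χ = 2 := by
    rw [finsum_mem_eq_sum_ite, ← Finset.sum_filter] at hsum
    exact hsum
  have hge : ∀ χ ∈ Bf, 1 ≤ m χ * m χ := by
    intro χ hχ
    have h0 := hm0 χ ((hmemBf χ).mp hχ)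
    have h1 : 0 < m χ * m χ := mul_self_pos.mpr h0
    omega
  have hcard_le : Bf.card ≤ 2 := by
    have h := Finset.card_nsmul_le_sum Bf (fun χ => m χ * m χ) 1 hge
    rw [hsum'] at h
    simp only [nsmul_eq_mul, mul_one] at h
    exact_mod_cast h
  have hcard : Bf.card = 2 := by
    rcases Nat.lt_or_ge Bf.card 2 with h | h
    · exfalso
      have h01 : Bf.card = 0 ∨ Bf.card = 1 := by omega
      rcases h01 with hc | hc
      · rw [Finset.card_eq_zero] at hc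
        rw [hc, Finset.sum_empty] at hsum'
        omega
      · obtain ⟨χ, hχ⟩ := Finset.card_eq_one.mp hc
        rw [hχ, Finset.sum_singleton] at hsum'
        exact int_mul_self_ne_two _ hsum'
    · omega
  obtain ⟨χ₁, χ₂, hne, hBf2⟩ := Finset.card_eq_two.mp hcard
  have hχ₁ : χ₁ ∈ B := (hmemBf χ₁).mp (by rw [hBf2]; simp)
  have hχ₂ : χ₂ ∈ B := (hmemBf χ₂).mp (by rw [hBf2]; simp)
  have hmem2 : ∀ χ ∈ B, χ = χ₁ ∨ χ = χ₂ := by
    intro χ hχ
    have := (hmemBf χ).mpr hχ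
    rw [hBf2] at this
    simpa using this
  have hg1 := hge χ₁ ((hmemBf χ₁).mpr hχ₁)
  have hg2 := hge χ₂ ((hmemBf χ₂).mpr hχ₂)
  rw [hBf2, Finset.sum_pair hne] at hsum'
  have hm1 : m χ₁ * m χ₁ = 1 := by omega
  have hm2 : m χ₂ * m χ₂ = 1 := by omega
  have hε1 := mul_self_eq_one_iff.mp hm1
  have hε2 := mul_self_eq_one_iff.mp hm2
  have hx1 : ∀ χ ∈ B, (χ : G → ℂ) x = (m χ : ℂ) * (θ : C → ℂ) 1 := by
    intro χ hχ
    have := hm χ hχ 1 h1reg
    rwa [Subgroup.coe_one, mul_one] at this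
  have hθ1 := irr_apply_one θ
  have hdpos := irr_charDegree_pos θ
  have horth : ∀ g : G, ¬ 2 ∣ orderOf g →
      (χ₁ : G → ℂ) g * (m χ₁ : ℂ) + (χ₂ : G → ℂ) g * (m χ₂ : ℂ) = 0 := by
    intro g hg
    have h := Cfsg.Agent.S0907.result 2 M hM B hB g x hg (by rw [hx2])
    rw [finsum_mem_eq_sum_ite, ← Finset.sum_filter, ← hBf, hBf2, Finset.sum_pair hne] at h
    rw [hx1 χ₁ hχ₁, hx1 χ₂ hχ₂, map_mul, map_mul, map_intCast, map_intCast, hθ1,
      Complex.conj_natCast] at h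
    have hd : ((charDegree (θ : C → ℂ) : ℕ) : ℂ) ≠ 0 := by exact_mod_cast hdpos.ne'
    have h2 : ((χ₁ : G → ℂ) g * (m χ₁ : ℂ) + (χ₂ : G → ℂ) g * (m χ₂ : ℂ)) *
        ((charDegree (θ : C → ℂ) : ℕ) : ℂ) = 0 := by
      rw [← h]; ring
    exact (mul_eq_zero.mp h2).resolve_right hd
  have h1regG : ¬ 2 ∣ orderOf (1 : G) := by rw [orderOf_one]; exact Nat.prime_two.not_dvd_one
  have hprod : m χ₁ * m χ₂ = -1 := by
    have h := horth 1 h1regG
    rw [irr_apply_one χ₁, irr_apply_one χ₂] at h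
    have p1 := irr_charDegree_pos χ₁
    have p2 := irr_charDegree_pos χ₂
    rcases hε1 with e1 | e1 <;> rcases hε2 with e2 | e2
    · exfalso
      rw [e1, e2] at h
      have h' : ((charDegree (χ₁ : G → ℂ) + charDegree (χ₂ : G → ℂ) : ℕ) : ℂ) = 0 := by
        push_cast; push_cast at h; rw [← h]; ring
      have : charDegree (χ₁ : G → ℂ) + charDegree (χ₂ : G → ℂ) = 0 := by exact_mod_cast h'
      omega
    · rw [e1, e2]; norm_num
    · rw [e1, e2]; norm_num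
    · exfalso
      rw [e1, e2] at h
      have h' : ((charDegree (χ₁ : G → ℂ) + charDegree (χ₂ : G → ℂ) : ℕ) : ℂ) = 0 := by
        push_cast; push_cast at h
        have : ((charDegree (χ₁ : G → ℂ) : ℂ) + (charDegree (χ₂ : G → ℂ) : ℂ)) =
            -((charDegree (χ₁ : G → ℂ) : ℂ) * -1 + (charDegree (χ₂ : G → ℂ) : ℂ) * -1) := by ring
        rw [this, h, neg_zero]
      have : charDegree (χ₁ : G → ℂ) + charDegree (χ₂ : G → ℂ) = 0 := by exact_mod_cast h'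
      omega
  have hm21 : m χ₂ = -m χ₁ := by
    have : m χ₁ * (m χ₂ + m χ₁) = 0 := by rw [mul_add, hprod, hm1]; norm_num
    rcases mul_eq_zero.mp this with h | h
    · exact absurd h (hm0 χ₁ hχ₁)
    · omega
  have hagree : ∀ g : G, ¬ 2 ∣ orderOf g → (χ₁ : G → ℂ) g = (χ₂ : G → ℂ) g := by
    intro g hg
    have h := horth g hg
    rw [hm21] at h
    have hne1 : (m χ₁ : ℂ) ≠ 0 := by exact_mod_cast hm0 χ₁ hχ₁
    have h2 : ((χ₁ : G → ℂ) g - (χ₂ : G → ℂ) g) * (m χ₁ : ℂ) = 0 := by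
      rw [← h]; push_cast; ring
    exact sub_eq_zero.mp ((mul_eq_zero.mp h2).resolve_right hne1)
  refine ⟨?_, ?_, χ₁, hχ₁, χ₂, hχ₂, hne, m χ₁, m χ₂, hε1, hε2, hprod, ?_⟩
  · rw [Nat.card_eq_fintype_card, Fintype.card_subtype]
    exact hcard
  · intro χ hχ ψ hψ g hg
    rcases hmem2 χ hχ with rfl | rfl <;> rcases hmem2 ψ hψ with rfl | rfl
    · rfl
    · exact hagree g hg
    · exact (hagree g hg).symm
    · rfl
  · intro y hy
    exact ⟨hm χ₁ hχ₁ y hy, hm χ₂ hχ₂ y hy⟩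

end grp

end Cfsg.Agent.CharLib
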